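import Mathlib
import Cfsg.Prelude.Def_OddOrderLocal

/-!
# π-numbers, π-cores and the predicates `IsPiHall`, `IsPiHallOf`, `IsComplIn`
-/

set_option autoImplicit false

namespace CfsgLib.OddOrder

open Subgroup

variable {G : Type*} [Group G]

/-- Every prime divisor of `n` lies in `π`. -/
def PiNat (π : Set ℕ) (n : ℕ) : Prop := ∀ p : ℕ, p.Prime → p ∣ n → p ∈ π

theorem piNat_one (π : Set ℕ) : PiNat π 1 := fun p hp h =>
  absurd (Nat.dvd_one.mp h) hp.ne_one

theorem PiNat.dvd {π : Set ℕ} {m n : ℕ} (h : PiNat π n) (hd : m ∣ n) : PiNat π m :=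
  fun p hp hpm => h p hp (hpm.trans hd)

theorem PiNat.mul {π : Set ℕ} {m n : ℕ} (hm : PiNat π m) (hn : PiNat π n) : PiNat π (m * n) :=
  fun p hp h => (hp.dvd_mul.mp h).elim (hm p hp) (hn p hp)

theorem PiNat.mono {π π' : Set ℕ} {n : ℕ} (h : PiNat π n) (hs : π ⊆ π') : PiNat π' n :=
  fun p hp hd => hs (h p hp hd)

theorem PiNat.coprime {π : Set ℕ} {m n : ℕ} (hm : PiNat π m)
    (hn : ∀ p : ℕ, p.Prime → p ∈ π → ¬ p ∣ n) : m.Coprime n := by
  refine Nat.coprime_of_dvd (fun p hp h1 h2 => hn p hp (hm p hp h1) h2)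

theorem card_sup_of_normal (H K : Subgroup G) [K.Normal] :
    Nat.card ↥(H ⊔ K) = K.relIndex H * Nat.card K := by
  rw [← relIndex_bot_left (H := H ⊔ K), ← relIndex_bot_left (H := K),
    ← Subgroup.relIndex_mul_relIndex (⊥ : Subgroup G) K (H ⊔ K) bot_le le_sup_right,
    relIndex_sup_right, mul_comm]

theorem card_sup_dvd_of_normal (H K : Subgroup G) [K.Normal] :
    Nat.card ↥(H ⊔ K) ∣ Nat.card H * Nat.card K := by
  rw [card_sup_of_normal]
  exact Nat.mul_dvd_mul_right (Subgroup.relIndex_dvd_card K H) _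

theorem card_mul_relIndex_of_le {H K : Subgroup G} (h : H ≤ K) :
    Nat.card H * H.relIndex K = Nat.card K := by
  rw [← relIndex_bot_left (H := H), ← relIndex_bot_left (H := K)]
  exact Subgroup.relIndex_mul_relIndex ⊥ H K bot_le h

/-- The join of a family of normal π-subgroups is a π-subgroup. -/
theorem piNat_card_sSup [Finite G] (π : Set ℕ) (S : Set (Subgroup G))
    (hS : ∀ N ∈ S, N.Normal ∧ PiNat π (Nat.card N)) : PiNat π (Nat.card ↥(sSup S)) := by
  classical
  obtain ⟨T, hT, hTS⟩ : ∃ T : Finset (Subgroup G), (↑T : Set (Subgroup G)) = S ∧ T.sup id = sSup S := by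
    refine ⟨(Set.toFinite S).toFinset, Set.Finite.coe_toFinset _, ?_⟩
    rw [Finset.sup_id_eq_sSup, Set.Finite.coe_toFinset]
  rw [← hTS]
  have key : ∀ T' : Finset (Subgroup G), (∀ N ∈ T', N.Normal ∧ PiNat π (Nat.card N)) →
      (T'.sup id).Normal ∧ PiNat π (Nat.card ↥(T'.sup id)) := by
    intro T' hT'
    induction T' using Finset.induction with
    | empty =>
      rw [Finset.sup_empty]
      refine ⟨inferInstance, ?_⟩
      rw [Subgroup.card_bot]
      exact piNat_one π
    | @insert a s has ih =>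
      rw [Finset.sup_insert]
      obtain ⟨hn, hc⟩ := ih (fun N hN => hT' N (Finset.mem_insert_of_mem hN))
      obtain ⟨han, hac⟩ := hT' a (Finset.mem_insert_self a s)
      have h1 : (id a).Normal := han
      exact ⟨inferInstance, (hac.mul hc).dvd (card_sup_dvd_of_normal (id a) (s.sup id))⟩
  exact (key T (fun N hN => hS N (hT ▸ hN))).2

theorem piNat_card_piCore [Finite G] (π : Set ℕ) : PiNat π (Nat.card (Cfsg.piCore π G)) :=
  piNat_card_sSup π _ (fun _ hN => hN)

theorem le_piCore {π : Set ℕ} {N : Subgroup G} (hN : N.Normal) (h : PiNat π (Nat.card N)) :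
    N ≤ Cfsg.piCore π G :=
  le_sSup ⟨hN, h⟩

theorem piCore_mono {π π' : Set ℕ} (h : π ⊆ π') : Cfsg.piCore π G ≤ Cfsg.piCore π' G :=
  sSup_le_sSup (fun _ hN => ⟨hN.1, fun p hp hd => h (hN.2 p hp hd)⟩)

theorem piCore_map_mulEquiv {H : Type*} [Group H] [Finite G] [Finite H] (π : Set ℕ) (e : G ≃* H) :
    (Cfsg.piCore π G).map e.toMonoidHom = Cfsg.piCore π H := by
  apply le_antisymm
  · refine le_piCore ((inferInstance : (Cfsg.piCore π G).Normal).map _ e.surjective) ?_
    rw [Subgroup.card_map_of_injective e.injective]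
    exact piNat_card_piCore π
  · intro x hx
    refine ⟨e.symm x, ?_, by simp⟩
    have h : (Cfsg.piCore π H).map e.symm.toMonoidHom ≤ Cfsg.piCore π G := by
      refine le_piCore ((inferInstance : (Cfsg.piCore π H).Normal).map _ e.symm.surjective) ?_
      rw [Subgroup.card_map_of_injective e.symm.injective]
      exact piNat_card_piCore π
    exact h ⟨x, hx, rfl⟩

instance piCore_characteristic [Finite G] (π : Set ℕ) : (Cfsg.piCore π G).Characteristic :=
  Subgroup.characteristic_iff_map_eq.mpr (fun φ => piCore_map_mulEquiv π φ)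

/-! ### `piCoreOf` -/

theorem piCoreOf_le (π : Set ℕ) (X : Subgroup G) : Cfsg.piCoreOf π X ≤ X :=
  Subgroup.map_subtype_le _

theorem piCoreOf_normal (π : Set ℕ) (X : Subgroup G) :
    X ≤ Subgroup.normalizer (Cfsg.piCoreOf π X : Set G) := by
  have h := Subgroup.le_normalizer_map (H := Cfsg.piCore π X) X.subtype
  rw [(Subgroup.normalizer_eq_top_iff).mpr (inferInstance : (Cfsg.piCore π X).Normal)] at h
  simpa [← MonoidHom.range_eq_map, Cfsg.piCoreOf] using h

theorem piNat_card_piCoreOf [Finite G] (π : Set ℕ) (X : Subgroup G) :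
    PiNat π (Nat.card (Cfsg.piCoreOf π X)) := by
  rw [Cfsg.piCoreOf, Subgroup.card_map_of_injective X.subtype_injective]
  exact piNat_card_piCore π

theorem le_piCoreOf {π : Set ℕ} {X N : Subgroup G} (hNX : N ≤ X)
    (hn : X ≤ Subgroup.normalizer (N : Set G)) (h : PiNat π (Nat.card N)) :
    N ≤ Cfsg.piCoreOf π X := by
  have hN : (N.subgroupOf X).Normal := (Subgroup.normal_subgroupOf_iff_le_normalizer hNX).mpr hn
  have hc : PiNat π (Nat.card (N.subgroupOf X)) := by
    rwa [Nat.card_congr (Subgroup.subgroupOfEquivOfLe hNX).toEquiv]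
  have := Subgroup.map_mono (f := X.subtype) (le_piCore hN hc)
  rwa [Subgroup.map_subgroupOf_eq_of_le hNX] at this

theorem piCoreOf_inf_le [Finite G] {π : Set ℕ} {X Y : Subgroup G} (hY : Y ≤ X) :
    Cfsg.piCoreOf π X ⊓ Y ≤ Cfsg.piCoreOf π Y := by
  refine le_piCoreOf inf_le_right ?_ ((piNat_card_piCoreOf π X).dvd (Subgroup.card_dvd_of_le inf_le_left))
  exact le_trans (le_inf (hY.trans (piCoreOf_normal π X)) Subgroup.le_normalizer)
    (Subgroup.inf_normalizer_le_normalizer_inf)

theorem piCoreOf_map [Finite G] {H : Type*} [Group H] [Finite H] (π : Set ℕ) (f : G →* H)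
    (hf : Function.Injective f) (X : Subgroup G) :
    (Cfsg.piCoreOf π X).map f = Cfsg.piCoreOf π (X.map f) := by
  have he := piCore_map_mulEquiv π (X.equivMapOfInjective f hf)
  unfold Cfsg.piCoreOf
  rw [← he, Subgroup.map_map, Subgroup.map_map]
  rfl

theorem sigmaCore_eq (M : Subgroup G) : Cfsg.sigmaCore M = Cfsg.piCoreOf (Cfsg.sigma M) M := rfl

theorem alphaCore_eq (M : Subgroup G) : Cfsg.alphaCore M = Cfsg.piCoreOf (Cfsg.alpha M) M := rfl

/-! ### Hall subgroups -/

theorem piNat_of_isPiHallOf {π : Set ℕ} {H M : Subgroup G} (h : Cfsg.IsPiHallOf π H M) :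
    PiNat π (Nat.card H) := h.2.1

/-- A normal π-subgroup of `M` is contained in every Hall π-subgroup of `M`. -/
theorem le_of_isPiHallOf [Finite G] {π : Set ℕ} {H M N : Subgroup G} (h : Cfsg.IsPiHallOf π H M)
    (hNM : N ≤ M) (hn : M ≤ Subgroup.normalizer (N : Set G)) (hN : PiNat π (Nat.card N)) : N ≤ H := by
  have : (N.subgroupOf M).Normal := (Subgroup.normal_subgroupOf_iff_le_normalizer hNM).mpr hn
  suffices N.subgroupOf M ≤ H.subgroupOf M by
    have h2 := Subgroup.map_mono (f := M.subtype) this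
    rwa [Subgroup.map_subgroupOf_eq_of_le hNM, Subgroup.map_subgroupOf_eq_of_le h.1] at h2
  set A := H.subgroupOf M with hA
  set B := N.subgroupOf M with hB
  have hcA : Nat.card A = Nat.card H := Nat.card_congr (Subgroup.subgroupOfEquivOfLe h.1).toEquiv
  have hcB : Nat.card B = Nat.card N := Nat.card_congr (Subgroup.subgroupOfEquivOfLe hNM).toEquiv
  have h1 : Nat.card ↥(A ⊔ B) = B.relIndex A * Nat.card B := card_sup_of_normal A B
  have h2 : Nat.card A * A.relIndex (A ⊔ B) = Nat.card ↥(A ⊔ B) :=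
    card_mul_relIndex_of_le le_sup_left
  have h3 : A.relIndex (A ⊔ B) ∣ A.index := Subgroup.relIndex_dvd_index_of_le le_sup_left
  have h4 : PiNat π (A.relIndex (A ⊔ B)) := by
    refine ((hcA ▸ h.2.1 : PiNat π (Nat.card A)).mul (hcB ▸ hN : PiNat π (Nat.card B))).dvd ?_
    refine Dvd.dvd.trans ?_ (card_sup_dvd_of_normal A B)
    exact Dvd.intro_left _ h2
  have h5 : A.relIndex (A ⊔ B) = 1 := by
    by_contra hne
    obtain ⟨p, hp, hpd⟩ := Nat.exists_prime_and_dvd hne
    exact h.2.2 p hp (h4 p hp hpd) (hpd.trans h3)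
  exact le_sup_right.trans (Subgroup.relIndex_eq_one.mp h5)

/-- A normal Hall π-subgroup of `M` is the π-core of `M`. -/
theorem eq_piCoreOf_of_isPiHallOf [Finite G] {π : Set ℕ} {H M : Subgroup G}
    (h : Cfsg.IsPiHallOf π H M) (hn : M ≤ Subgroup.normalizer (H : Set G)) :
    H = Cfsg.piCoreOf π M :=
  le_antisymm (le_piCoreOf h.1 hn h.2.1)
    (le_of_isPiHallOf h (piCoreOf_le π M) (piCoreOf_normal π M) (piNat_card_piCoreOf π M))

/-! ### Complements inside a subgroup -/

theorem IsComplIn.isComplement' {A B M : Subgroup G} (h : Cfsg.IsComplIn A B M) :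
    Subgroup.IsComplement' (A.subgroupOf M) (B.subgroupOf M) := by
  refine Subgroup.isComplement'_of_disjoint_and_mul_eq_univ ?_ ?_
  · rw [disjoint_iff]
    ext x
    simp only [Subgroup.mem_inf, Subgroup.mem_subgroupOf, Subgroup.mem_bot]
    refine ⟨fun hx => ?_, fun hx => by simp [hx]⟩
    have h2 : (x : G) ∈ A ⊓ B := hx
    rw [h.2.2.1] at h2
    exact Subtype.ext h2
  · refine Set.eq_univ_of_forall (fun x => ?_)
    obtain ⟨a, ha, b, hb, hab⟩ := h.2.2.2 x x.2
    exact Set.mem_mul.mpr ⟨⟨a, h.1 ha⟩, ha, ⟨b, h.2.1 hb⟩, hb, Subtype.ext hab.symm⟩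

theorem IsComplIn.relIndex_left {A B M : Subgroup G} (h : Cfsg.IsComplIn A B M) :
    A.relIndex M = Nat.card B := by
  rw [Subgroup.relIndex, ← Nat.card_congr (Subgroup.subgroupOfEquivOfLe h.2.1).toEquiv]
  exact Subgroup.IsComplement'.index_eq_card (IsComplIn.isComplement' h).symm

theorem le_normalizer_derived (M : Subgroup G) :
    M ≤ Subgroup.normalizer ((⁅M, M⁆ : Subgroup G) : Set G) := by
  have h := Subgroup.le_normalizer_map (H := commutator M) M.subtype
  rw [(Subgroup.normalizer_eq_top_iff).mpr (inferInstance : (commutator M).Normal),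
    M.map_subtype_commutator] at h
  simpa [← MonoidHom.range_eq_map] using h

end CfsgLib.OddOrder
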