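import Mathlib
import Cfsg.Prelude.Def_OddOrderLocal

/-!
# `PRankLE`, `RankLE`, `IsElementaryAbelian`: elementary API
-/

set_option autoImplicit false

namespace CfsgLib.OddOrder

open Subgroup

variable {G : Type*} [Group G] {H : Type*} [Group H] {p : ℕ}

theorem isPGroup_of_elemAb {A : Subgroup G} (h : Cfsg.IsElementaryAbelian p A) : IsPGroup p A :=
  fun a => ⟨1, by rw [pow_one]; exact Subtype.ext (h.2 a a.2)⟩

theorem mul_comm_of_mem {B : Subgroup G} (h : IsMulCommutative B) {a b : G} (ha : a ∈ B)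
    (hb : b ∈ B) : a * b = b * a :=
  congrArg Subtype.val (mul_comm' (⟨a, ha⟩ : B) ⟨b, hb⟩)

theorem elemAb_mono {A B : Subgroup G} (h : Cfsg.IsElementaryAbelian p B) (hAB : A ≤ B) :
    Cfsg.IsElementaryAbelian p A := by
  have := h.1
  refine ⟨⟨⟨fun a b => Subtype.ext ?_⟩⟩, fun a ha => h.2 a (hAB ha)⟩
  exact mul_comm_of_mem h.1 (hAB a.2) (hAB b.2)

theorem elemAb_map {A : Subgroup G} (h : Cfsg.IsElementaryAbelian p A) (f : G →* H) :
    Cfsg.IsElementaryAbelian p (A.map f) := by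
  have := h.1
  refine ⟨⟨⟨?_⟩⟩, ?_⟩
  · rintro ⟨_, a, ha, rfl⟩ ⟨_, b, hb, rfl⟩
    refine Subtype.ext ?_
    change f a * f b = f b * f a
    rw [← map_mul, ← map_mul]
    exact congrArg f (congrArg Subtype.val (mul_comm' (⟨a, ha⟩ : A) ⟨b, hb⟩))
  · rintro _ ⟨a, ha, rfl⟩
    rw [← map_pow, h.2 a ha, map_one]

theorem elemAb_comap {A : Subgroup H} (h : Cfsg.IsElementaryAbelian p A) (f : G →* H)
    (hf : Function.Injective f) : Cfsg.IsElementaryAbelian p (A.comap f) := by
  have := h.1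
  refine ⟨⟨⟨fun a b => Subtype.ext (hf ?_)⟩⟩, fun a ha => hf ?_⟩
  · change f (a * b) = f (b * a)
    rw [map_mul, map_mul]
    exact congrArg Subtype.val (mul_comm' (⟨f a, a.2⟩ : A) ⟨f b, b.2⟩)
  · rw [map_pow, map_one]
    exact h.2 (f a) ha

theorem elemAb_card [Finite G] [Fact p.Prime] {A : Subgroup G} (h : Cfsg.IsElementaryAbelian p A) :
    ∃ n : ℕ, Nat.card A = p ^ n :=
  (isPGroup_of_elemAb h).exists_card_eq

theorem elemAb_commute {A : Subgroup G} (h : Cfsg.IsElementaryAbelian p A) {a b : G} (ha : a ∈ A)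
    (hb : b ∈ A) : a * b = b * a := by
  have := h.1
  exact congrArg Subtype.val (mul_comm' (⟨a, ha⟩ : A) ⟨b, hb⟩)

theorem elemAb_zpowers {x : G} (hx : x ^ p = 1) :
    Cfsg.IsElementaryAbelian p (Subgroup.zpowers x) := by
  refine ⟨inferInstance, ?_⟩
  rintro _ ⟨k, rfl⟩
  change (x ^ k) ^ p = 1
  rw [← zpow_natCast, ← zpow_mul, mul_comm, zpow_mul, zpow_natCast, hx, one_zpow]

/-- The subgroup generated by an elementary abelian subgroup and a centralizing element of order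
dividing `p` is elementary abelian. -/
theorem elemAb_sup_zpowers {A : Subgroup G} (h : Cfsg.IsElementaryAbelian p A) {x : G}
    (hx : x ^ p = 1) (hc : x ∈ Subgroup.centralizer (A : Set G)) :
    Cfsg.IsElementaryAbelian p (A ⊔ Subgroup.zpowers x) := by
  have hcomm : ∀ a ∈ A, ∀ z ∈ Subgroup.zpowers x, a * z = z * a := by
    intro a ha z hz
    have hz' : z ∈ Subgroup.centralizer (A : Set G) :=
      Subgroup.zpowers_le.mpr hc hz
    exact Subgroup.mem_centralizer_iff.mp hz' a ha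
  have hle : Subgroup.zpowers x ≤ Subgroup.normalizer (A : Set G) :=
    le_trans (Subgroup.zpowers_le.mpr hc) (Subgroup.centralizer_le_normalizer (A : Set G))
  have hmem : ∀ y ∈ A ⊔ Subgroup.zpowers x, ∃ a ∈ A, ∃ z ∈ Subgroup.zpowers x, y = a * z := by
    intro y hy
    have hy' : y ∈ ((A ⊔ Subgroup.zpowers x : Subgroup G) : Set G) := hy
    rw [Subgroup.coe_mul_of_right_le_normalizer_left A _ hle] at hy'
    obtain ⟨a, ha, z, hz, rfl⟩ := Set.mem_mul.mp hy'
    exact ⟨a, ha, z, hz, rfl⟩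
  refine ⟨⟨⟨?_⟩⟩, ?_⟩
  · rintro ⟨y, hy⟩ ⟨w, hw⟩
    obtain ⟨a, ha, z, hz, rfl⟩ := hmem y hy
    obtain ⟨b, hb, t, ht, rfl⟩ := hmem w hw
    refine Subtype.ext ?_
    change a * z * (b * t) = b * t * (a * z)
    have hzt : z * t = t * z := elemAb_commute (elemAb_zpowers hx) hz ht
    calc a * z * (b * t) = a * (z * b) * t := by group
      _ = a * (b * z) * t := by rw [hcomm b hb z hz]
      _ = (a * b) * (z * t) := by group
      _ = (b * a) * (t * z) := by rw [hzt, elemAb_commute h ha hb]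
      _ = b * (a * t) * z := by group
      _ = b * (t * a) * z := by rw [hcomm a ha t ht]
      _ = b * t * (a * z) := by group
  · intro y hy
    obtain ⟨a, ha, z, hz, rfl⟩ := hmem y hy
    have hcz : Commute a z := hcomm a ha z hz
    rw [hcz.mul_pow, h.2 a ha, (elemAb_zpowers hx).2 z hz, one_mul]

/-! ### `PRankLE` -/

theorem pRankLE_iff {k : ℕ} :
    Cfsg.PRankLE p k G ↔ ∀ A : Subgroup G, Cfsg.IsElementaryAbelian p A → Nat.card A ≤ p ^ k :=
  ⟨fun h A hA => h A hA.1 hA.2, fun h A h1 h2 => h A ⟨h1, h2⟩⟩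

theorem PRankLE.of_injective {k : ℕ} (f : G →* H) (hf : Function.Injective f)
    (h : Cfsg.PRankLE p k H) : Cfsg.PRankLE p k G := by
  intro A hA hAp
  rw [← Subgroup.card_map_of_injective hf]
  exact pRankLE_iff.mp h _ (elemAb_map ⟨hA, hAp⟩ f)

theorem PRankLE.of_le {k : ℕ} {A B : Subgroup G} (hAB : A ≤ B) (h : Cfsg.PRankLE p k B) :
    Cfsg.PRankLE p k A :=
  PRankLE.of_injective (Subgroup.inclusion hAB) (Subgroup.inclusion_injective hAB) h

theorem PRankLE.subgroup {k : ℕ} (A : Subgroup G) (h : Cfsg.PRankLE p k G) : Cfsg.PRankLE p k A :=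
  PRankLE.of_injective A.subtype A.subtype_injective h

theorem PRankLE.congr {k : ℕ} (e : G ≃* H) : Cfsg.PRankLE p k G ↔ Cfsg.PRankLE p k H :=
  ⟨PRankLE.of_injective e.symm.toMonoidHom e.symm.injective,
    PRankLE.of_injective e.toMonoidHom e.injective⟩

theorem PRankLE.mono_k {k l : ℕ} (hp : p.Prime) (hkl : k ≤ l) (h : Cfsg.PRankLE p k G) :
    Cfsg.PRankLE p l G :=
  fun A hA hAp => (h A hA hAp).trans (Nat.pow_le_pow_right hp.pos hkl)

theorem pRankLE_of_not_dvd [Finite G] [Fact p.Prime] (k : ℕ) (h : ¬ p ∣ Nat.card G) :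
    Cfsg.PRankLE p k G := by
  rw [pRankLE_iff]
  intro A hA
  obtain ⟨n, hn⟩ := elemAb_card hA
  rcases Nat.eq_zero_or_pos n with h0 | h0
  · rw [hn, h0, pow_zero]
    exact Nat.one_le_pow _ _ (Fact.out : p.Prime).pos
  · exact absurd ((dvd_pow_self p h0.ne').trans (hn ▸ Subgroup.card_subgroup_dvd_card A)) h

/-- If the `p`-rank exceeds `k` there is an elementary abelian subgroup of order exactly `p ^ (k+1)`. -/
theorem exists_elemAb_of_not_pRankLE [Finite G] [Fact p.Prime] {k : ℕ}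
    (h : ¬ Cfsg.PRankLE p k G) :
    ∃ E : Subgroup G, Cfsg.IsElementaryAbelian p E ∧ Nat.card E = p ^ (k + 1) := by
  rw [pRankLE_iff] at h
  push Not at h
  obtain ⟨A, hA, hcard⟩ := h
  obtain ⟨n, hn⟩ := elemAb_card hA
  have hkn : k + 1 ≤ n := by
    rw [hn] at hcard
    exact (Nat.pow_lt_pow_iff_right (Fact.out : p.Prime).one_lt).mp hcard
  obtain ⟨K, hK⟩ := Sylow.exists_subgroup_card_pow_prime p
    (show p ^ (k + 1) ∣ Nat.card A from hn ▸ pow_dvd_pow p hkn)
  refine ⟨K.map A.subtype, elemAb_mono hA (Subgroup.map_subtype_le K), ?_⟩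
  rw [Subgroup.card_map_of_injective A.subtype_injective, hK]

theorem not_pRankLE_of_elemAb [Fact p.Prime] {k : ℕ} {E : Subgroup G}
    (hE : Cfsg.IsElementaryAbelian p E) (hc : Nat.card E = p ^ (k + 1)) :
    ¬ Cfsg.PRankLE p k G := by
  intro h
  have := pRankLE_iff.mp h E hE
  rw [hc] at this
  exact absurd this (not_le.mpr (Nat.pow_lt_pow_right (Fact.out : p.Prime).one_lt (Nat.lt_succ_self k)))

/-- `p`-rank of a subgroup, seen in the ambient group. -/
theorem not_pRankLE_subgroup_iff [Finite G] [Fact p.Prime] {k : ℕ} {A : Subgroup G} :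
    ¬ Cfsg.PRankLE p k A ↔
      ∃ E : Subgroup G, E ≤ A ∧ Cfsg.IsElementaryAbelian p E ∧ Nat.card E = p ^ (k + 1) := by
  constructor
  · intro h
    obtain ⟨E, hE, hc⟩ := exists_elemAb_of_not_pRankLE h
    exact ⟨E.map A.subtype, Subgroup.map_subtype_le E, elemAb_map hE _,
      by rw [Subgroup.card_map_of_injective A.subtype_injective, hc]⟩
  · rintro ⟨E, hEA, hE, hc⟩
    refine not_pRankLE_of_elemAb (E := E.subgroupOf A) (elemAb_comap hE A.subtype A.subtype_injective) ?_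
    rw [Nat.card_congr (Subgroup.subgroupOfEquivOfLe hEA).toEquiv, hc]

theorem not_rankLE_subgroup_iff [Finite G] {k : ℕ} {A : Subgroup G} :
    ¬ Cfsg.RankLE k A ↔ ∃ (p : ℕ) (E : Subgroup G), p.Prime ∧ E ≤ A ∧
      Cfsg.IsElementaryAbelian p E ∧ Nat.card E = p ^ (k + 1) := by
  constructor
  · intro h
    simp only [Cfsg.RankLE, not_forall] at h
    obtain ⟨p, hp, h⟩ := h
    have := Fact.mk hp
    obtain ⟨E, h1, h2, h3⟩ := not_pRankLE_subgroup_iff.mp h
    exact ⟨p, E, hp, h1, h2, h3⟩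
  · rintro ⟨p, E, hp, h1, h2, h3⟩ h
    have := Fact.mk hp
    exact not_pRankLE_subgroup_iff.mpr ⟨E, h1, h2, h3⟩ (h p hp)

theorem RankLE.of_injective {k : ℕ} (f : G →* H) (hf : Function.Injective f)
    (h : Cfsg.RankLE k H) : Cfsg.RankLE k G :=
  fun q hq => PRankLE.of_injective f hf (h q hq)

theorem RankLE.of_le {k : ℕ} {A B : Subgroup G} (hAB : A ≤ B) (h : Cfsg.RankLE k B) :
    Cfsg.RankLE k A :=
  RankLE.of_injective (Subgroup.inclusion hAB) (Subgroup.inclusion_injective hAB) h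

/-- A noncyclic elementary abelian `p`-group has order at least `p ^ 2`. -/
theorem elemAb_not_isCyclic_iff [Finite G] [Fact p.Prime] {A : Subgroup G}
    (hA : Cfsg.IsElementaryAbelian p A) : ¬ IsCyclic A ↔ p ^ 2 ≤ Nat.card A := by
  obtain ⟨n, hn⟩ := elemAb_card hA
  constructor
  · intro h
    rw [hn]
    refine Nat.pow_le_pow_right (Fact.out : p.Prime).pos ?_
    by_contra h2
    interval_cases n
    · exact h (by have := Subgroup.card_eq_one.mp (hn.trans (pow_zero p)); subst this; infer_instance)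
    · exact h (isCyclic_of_prime_card (hn.trans (pow_one p)))
  · intro h hc
    have hexp : Monoid.exponent A ∣ p :=
      Monoid.exponent_dvd_iff_forall_pow_eq_one.mpr (fun a => Subtype.ext (hA.2 a a.2))
    rw [IsCyclic.exponent_eq_card] at hexp
    have h3 := (Nat.le_of_dvd (Fact.out : p.Prime).pos hexp).trans_lt
      (lt_self_pow₀ (Fact.out : p.Prime).one_lt one_lt_two)
    omega

end CfsgLib.OddOrder
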