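import Mathlib
import Cfsg.Prelude.Def_OddOrderLocal
import Cfsg.Agent.Lib.Solvable.Fitting
import Cfsg.Agent.Lib.OddOrder.Rank
import Cfsg.Agent.Lib.OddOrder.PiCore

/-!
# `O_r` and the Fitting subgroup of a subgroup, seen in the ambient group
-/

set_option autoImplicit false

namespace CfsgLib.OddOrder

open Subgroup

variable {G : Type*} [Group G]

/-- `O_r(M)` as a subgroup of the ambient group. -/
def opCore (r : ℕ) (M : Subgroup G) : Subgroup G := (Cfsg.pCore r M).map M.subtype

theorem map_subtype_normalized {M : Subgroup G} (N : Subgroup M) [N.Normal] :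
    M ≤ Subgroup.normalizer ((N.map M.subtype : Subgroup G) : Set G) := by
  have h := Subgroup.le_normalizer_map (H := N) M.subtype
  rw [Subgroup.normalizer_eq_top_iff.mpr inferInstance, ← MonoidHom.range_eq_map,
    Subgroup.range_subtype] at h
  exact h

theorem conj_mem_of_le_normalizer {M N : Subgroup G} (h : M ≤ Subgroup.normalizer (N : Set G))
    {m x : G} (hm : m ∈ M) (hx : x ∈ N) : m * x * m⁻¹ ∈ N :=
  (Subgroup.mem_normalizer_iff.mp (h hm) x).mp hx

theorem opCore_le (r : ℕ) (M : Subgroup G) : opCore r M ≤ M := Subgroup.map_subtype_le _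

theorem opCore_normal (r : ℕ) (M : Subgroup G) :
    M ≤ Subgroup.normalizer (opCore r M : Set G) :=
  map_subtype_normalized _

variable [Finite G]

theorem opCore_isPGroup (r : ℕ) (M : Subgroup G) : IsPGroup r (opCore r M) :=
  (Fitting.pCore_isPGroup r).map _

omit [Finite G] in
theorem le_opCore {r : ℕ} {M N : Subgroup G} (hNM : N ≤ M)
    (hn : M ≤ Subgroup.normalizer (N : Set G)) (hp : IsPGroup r N) : N ≤ opCore r M := by
  have h1 : (N.subgroupOf M).Normal := (Subgroup.normal_subgroupOf_iff_le_normalizer hNM).mpr hn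
  have h2 := Subgroup.map_mono (f := M.subtype)
    (Fitting.le_pCore h1 (hp.comap_of_injective M.subtype M.subtype_injective))
  rwa [Subgroup.map_subgroupOf_eq_of_le hNM] at h2

theorem opCore_le_fittingOf {r : ℕ} (hr : r.Prime) (M : Subgroup G) :
    opCore r M ≤ Cfsg.fittingOf M :=
  Subgroup.map_mono (Fitting.pCore_le_fitting hr)

omit [Finite G] in
theorem fittingOf_le (M : Subgroup G) : Cfsg.fittingOf M ≤ M := Subgroup.map_subtype_le _

omit [Finite G] in
theorem fittingOf_normal (M : Subgroup G) :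
    M ≤ Subgroup.normalizer (Cfsg.fittingOf M : Set G) :=
  have : (Cfsg.fittingSubgroup M).Normal := Fitting.fitting_normal
  map_subtype_normalized _

theorem fittingOf_isNilpotent (M : Subgroup G) : Group.IsNilpotent (Cfsg.fittingOf M) :=
  Fitting.isNilpotent_map Fitting.fitting_isNilpotent M.subtype

omit [Finite G] in
theorem le_fittingOf {M N : Subgroup G} (hNM : N ≤ M)
    (hn : M ≤ Subgroup.normalizer (N : Set G)) (hnil : Group.IsNilpotent N) :
    N ≤ Cfsg.fittingOf M := by
  have h1 : (N.subgroupOf M).Normal := (Subgroup.normal_subgroupOf_iff_le_normalizer hNM).mpr hn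
  have h2 : Group.IsNilpotent (N.subgroupOf M) :=
    Group.nilpotent_of_mulEquiv (_h := hnil) (Subgroup.subgroupOfEquivOfLe hNM).symm
  have h3 := Subgroup.map_mono (f := M.subtype) (Fitting.le_fitting h1 h2)
  rwa [Subgroup.map_subgroupOf_eq_of_le hNM] at h3

/-- Elements of prime power order of `F(M)` lie in the corresponding core. -/
theorem le_opCore_of_le_fittingOf {r : ℕ} [Fact r.Prime] {M N : Subgroup G}
    (hN : N ≤ Cfsg.fittingOf M) (hp : IsPGroup r N) : N ≤ opCore r M := by
  set F := Cfsg.fittingSubgroup M with hF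
  have hNM : N ≤ M := hN.trans (fittingOf_le M)
  have hle : N.subgroupOf M ≤ F := by
    intro x hx
    obtain ⟨y, hy, hye⟩ := hN hx
    have : y = x := Subtype.ext hye
    exact this ▸ hy
  obtain ⟨P, hP⟩ := ((hp.comap_of_injective M.subtype M.subtype_injective).comap_of_injective
    F.subtype F.subtype_injective).exists_le_sylow
  intro x hx
  refine ⟨⟨x, hNM hx⟩, ?_, rfl⟩
  rw [← Fitting.sylow_fitting_eq_pCore P]
  exact ⟨⟨⟨x, hNM hx⟩, hle hx⟩, hP hx, rfl⟩

theorem opCore_ne_bot_of_dvd {r : ℕ} (hr : r.Prime) {M : Subgroup G}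
    (h : r ∣ Nat.card (Cfsg.fittingOf M)) : opCore r M ≠ ⊥ := by
  have := Fact.mk hr
  intro hb
  obtain ⟨x, hx⟩ := exists_prime_orderOf_dvd_card' (G := Cfsg.fittingOf M) r h
  have h2 : Subgroup.zpowers (x : G) ≤ opCore r M := by
    refine le_opCore_of_le_fittingOf (Subgroup.zpowers_le.mpr x.2) (IsPGroup.of_card (n := 1) ?_)
    rw [Nat.card_zpowers, Subgroup.orderOf_coe, hx, pow_one]
  have h3 : (x : G) = 1 := Subgroup.mem_bot.mp (hb ▸ h2 (Subgroup.mem_zpowers _))
  exact hr.ne_one (hx.symm.trans (orderOf_eq_one_iff.mpr (Subtype.ext h3)))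

theorem dvd_of_opCore_ne_bot {r : ℕ} (hr : r.Prime) {M : Subgroup G}
    (h : opCore r M ≠ ⊥) : r ∣ Nat.card (Cfsg.fittingOf M) := by
  have := Fact.mk hr
  obtain ⟨n, hn⟩ := (opCore_isPGroup r M).exists_card_eq
  have hn0 : n ≠ 0 := fun h0 => h (Subgroup.card_eq_one.mp (by rw [hn, h0, pow_zero]))
  exact ((dvd_pow_self r hn0).trans (hn ▸ Subgroup.card_dvd_of_le (opCore_le_fittingOf hr M)))

theorem fittingOf_le_of_forall {M Z : Subgroup G}
    (h : ∀ r : ℕ, r.Prime → opCore r M ≤ Z) : Cfsg.fittingOf M ≤ Z := by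
  rw [Cfsg.fittingOf, Fitting.fitting_eq_iSup_pCore, Subgroup.map_iSup]
  exact iSup_le (fun r => h r (Nat.prime_of_mem_primeFactors r.2))

theorem centralizer_fittingOf_le {M : Subgroup G} (hs : Group.IsSolvable M) :
    M ⊓ Subgroup.centralizer (Cfsg.fittingOf M : Set G) ≤ Cfsg.fittingOf M := by
  rintro x ⟨hxM, hxc⟩
  refine ⟨⟨x, hxM⟩, Fitting.centralizer_fitting_le ?_, rfl⟩
  rw [Subgroup.mem_centralizer_iff]
  intro y hy
  exact Subtype.ext (Subgroup.mem_centralizer_iff.mp hxc y ⟨y, hy, rfl⟩)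

omit [Finite G] in
theorem isPGroup_inter_eq_one {r s : ℕ} [Fact r.Prime] [Fact s.Prime] (hrs : r ≠ s)
    {A B : Subgroup G} (hA : IsPGroup r A) (hB : IsPGroup s B) {x : G} (h1 : x ∈ A)
    (h2 : x ∈ B) : x = 1 := by
  obtain ⟨a, ha⟩ := hA ⟨x, h1⟩
  obtain ⟨b, hb⟩ := hB ⟨x, h2⟩
  exact orderOf_eq_one_iff.mp (Nat.eq_one_of_dvd_coprimes
    (((Nat.coprime_primes Fact.out Fact.out).mpr hrs).pow a b)
    (orderOf_dvd_of_pow_eq_one (congrArg Subtype.val ha))
    (orderOf_dvd_of_pow_eq_one (congrArg Subtype.val hb)))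

omit [Finite G] in
/-- Mutually normalizing subgroups with trivial intersection commute. -/
theorem commute_of_normalizes {A B : Subgroup G} (hAB : A ≤ Subgroup.normalizer (B : Set G))
    (hBA : B ≤ Subgroup.normalizer (A : Set G)) (h : ∀ x ∈ A, x ∈ B → x = 1) :
    A ≤ Subgroup.centralizer (B : Set G) := by
  intro a ha
  rw [Subgroup.mem_centralizer_iff]
  intro b hb
  have h1 : b * a * b⁻¹ * a⁻¹ ∈ A := mul_mem (conj_mem_of_le_normalizer hBA hb ha) (inv_mem ha)
  have h2 : b * a * b⁻¹ * a⁻¹ ∈ B := by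
    have := mul_mem hb (conj_mem_of_le_normalizer hAB ha (B.inv_mem hb))
    simpa [mul_assoc] using this
  calc b * a = (b * a * b⁻¹ * a⁻¹) * a * b := by group
    _ = a * b := by rw [h _ h1 h2, one_mul]

theorem opCore_commute {r s : ℕ} (hr : r.Prime) (hs : s.Prime) (hrs : r ≠ s) (M : Subgroup G) :
    opCore r M ≤ Subgroup.centralizer (opCore s M : Set G) := by
  have := Fact.mk hr
  have := Fact.mk hs
  exact commute_of_normalizes ((opCore_le r M).trans (opCore_normal s M))
    ((opCore_le s M).trans (opCore_normal r M))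
    (fun x hx hy => isPGroup_inter_eq_one hrs (opCore_isPGroup r M) (opCore_isPGroup s M) hx hy)

end CfsgLib.OddOrder
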