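import Mathlib
import Cfsg.Prelude.Def_OddOrderLocal
import Cfsg.Agent.Lib.OddOrder.PiCore

/-!
# Basic facts about a minimal simple group of odd order and about `sigma`
-/

set_option autoImplicit false

namespace CfsgLib.OddOrder

open Subgroup

variable {G : Type*} [Group G]

theorem minSimple_isSimple (hG : Cfsg.IsMinSimpleOddOrder G) : IsSimpleGroup G := hG.2.1

theorem minSimple_not_comm (hG : Cfsg.IsMinSimpleOddOrder G) : ¬ IsMulCommutative G := hG.2.2.1

theorem minSimple_solvable (hG : Cfsg.IsMinSimpleOddOrder G) {H : Subgroup G} (hH : H ≠ ⊤) :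
    Group.IsSolvable H :=
  hG.2.2.2 H hH

theorem minSimple_odd (hG : Cfsg.IsMinSimpleOddOrder G) (H : Subgroup G) :
    Odd (Nat.card H) :=
  Odd.of_dvd_nat hG.1 (Subgroup.card_subgroup_dvd_card H)

theorem minSimple_prime_ne_two (hG : Cfsg.IsMinSimpleOddOrder G) {p : ℕ} {H : Subgroup G}
    (h : p ∣ Nat.card H) : p ≠ 2 := by
  rintro rfl
  have h1 := minSimple_odd hG H
  rw [Nat.odd_iff] at h1
  omega

theorem minSimple_prime_ne_two' (hG : Cfsg.IsMinSimpleOddOrder G) {p : ℕ}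
    (h : p ∣ Nat.card G) : p ≠ 2 := by
  rintro rfl
  have h1 := hG.1
  rw [Nat.odd_iff] at h1
  omega

theorem minSimple_eq_bot_or_top (hG : Cfsg.IsMinSimpleOddOrder G) {N : Subgroup G}
    (hN : N.Normal) : N = ⊥ ∨ N = ⊤ :=
  (minSimple_isSimple hG).eq_bot_or_eq_top_of_normal N hN

theorem minSimple_normalizer_ne_top (hG : Cfsg.IsMinSimpleOddOrder G) {H : Subgroup G}
    (h1 : H ≠ ⊥) (h2 : H ≠ ⊤) : Subgroup.normalizer (H : Set G) ≠ ⊤ := fun h =>
  (minSimple_eq_bot_or_top hG (Subgroup.normalizer_eq_top_iff.mp h)).elim h1 h2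

theorem minSimple_center_eq_bot (hG : Cfsg.IsMinSimpleOddOrder G) : Subgroup.center G = ⊥ := by
  refine (minSimple_eq_bot_or_top hG inferInstance).resolve_right (fun h => ?_)
  refine minSimple_not_comm hG ⟨⟨fun a b => ?_⟩⟩
  have ha : a ∈ Subgroup.center G := h ▸ Subgroup.mem_top a
  exact (Subgroup.mem_center_iff.mp ha b).symm

theorem minSimple_not_solvable (hG : Cfsg.IsMinSimpleOddOrder G) : ¬ Group.IsSolvable G := by
  intro h
  have := minSimple_isSimple hG
  exact minSimple_not_comm hG ⟨⟨IsSimpleGroup.comm_iff_isSolvable.mpr h⟩⟩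

theorem minSimple_not_isPGroup [Finite G] (hG : Cfsg.IsMinSimpleOddOrder G) {p : ℕ}
    [Fact p.Prime] : ¬ IsPGroup p G := by
  intro h
  have := h.isNilpotent
  exact minSimple_not_solvable hG inferInstance

theorem minSimple_ne_top_of_solvable (hG : Cfsg.IsMinSimpleOddOrder G) {H : Subgroup G}
    (hH : Group.IsSolvable H) : H ≠ ⊤ := by
  rintro rfl
  exact minSimple_not_solvable hG
    (Group.isSolvable_of_surjective (G := (⊤ : Subgroup G)) (f := (Subgroup.topEquiv (G := G)).toMonoidHom)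
      Subgroup.topEquiv.surjective)

theorem minSimple_pgroup_ne_top [Finite G] (hG : Cfsg.IsMinSimpleOddOrder G) {p : ℕ}
    [Fact p.Prime] {H : Subgroup G} (h : IsPGroup p H) : H ≠ ⊤ := by
  rintro rfl
  exact minSimple_not_isPGroup hG (h.of_equiv Subgroup.topEquiv)

theorem minSimple_centralizer_ne_top (hG : Cfsg.IsMinSimpleOddOrder G) {S : Set G}
    (hS : ∃ x ∈ S, x ≠ 1) : Subgroup.centralizer S ≠ ⊤ := by
  intro h
  obtain ⟨x, hx, hx1⟩ := hS
  have h2 : x ∈ Subgroup.center G := by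
    rw [Subgroup.mem_center_iff]
    intro g
    have hg : g ∈ Subgroup.centralizer S := h ▸ Subgroup.mem_top g
    exact (Subgroup.mem_centralizer_iff.mp hg x hx).symm
  rw [minSimple_center_eq_bot hG] at h2
  exact hx1 h2

theorem minSimple_centralizer_singleton_ne_top (hG : Cfsg.IsMinSimpleOddOrder G) {x : G}
    (hx : x ≠ 1) : Subgroup.centralizer ({x} : Set G) ≠ ⊤ :=
  minSimple_centralizer_ne_top hG ⟨x, rfl, hx⟩

theorem minSimple_centralizer_subgroup_ne_top (hG : Cfsg.IsMinSimpleOddOrder G) {H : Subgroup G}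
    (hH : H ≠ ⊥) : Subgroup.centralizer (H : Set G) ≠ ⊤ := by
  obtain ⟨x, hx, hx1⟩ := (Subgroup.bot_or_exists_ne_one H).resolve_left hH
  exact minSimple_centralizer_ne_top hG ⟨x, hx, hx1⟩

theorem exists_isCoatom_ge [Finite G] {H : Subgroup G} (hH : H ≠ ⊤) :
    ∃ M : Subgroup G, IsCoatom M ∧ H ≤ M :=
  (eq_top_or_exists_le_coatom H).resolve_left hH

theorem isCoatom_ne_bot [Finite G] (hG : Cfsg.IsMinSimpleOddOrder G) {M : Subgroup G}
    (hM : IsCoatom M) : M ≠ ⊥ := by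
  rintro rfl
  obtain ⟨q, hq, hqd⟩ := Nat.exists_prime_and_dvd (n := Nat.card G) (by
    intro h
    have := (Nat.card_eq_one_iff_unique.mp h).1
    exact minSimple_not_comm hG ⟨⟨fun a b => Subsingleton.elim _ _⟩⟩)
  have := Fact.mk hq
  obtain ⟨x, hx⟩ := exists_prime_orderOf_dvd_card' q hqd
  have h1 : Subgroup.zpowers x ≠ ⊥ := by
    rw [Ne, Subgroup.zpowers_eq_bot]
    rintro rfl
    exact hq.ne_one (hx.symm.trans orderOf_one)
  have h2 : Subgroup.zpowers x = ⊤ := hM.2 _ (bot_lt_iff_ne_bot.mpr h1)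
  refine minSimple_not_comm hG ⟨⟨fun a b => ?_⟩⟩
  have ha : a ∈ Subgroup.zpowers x := h2 ▸ Subgroup.mem_top a
  have hb : b ∈ Subgroup.zpowers x := h2 ▸ Subgroup.mem_top b
  obtain ⟨i, rfl⟩ := ha
  obtain ⟨j, rfl⟩ := hb
  exact ((Commute.refl x).zpow_zpow i j).eq

/-- A maximal subgroup is the normalizer of each of its nontrivial normal subgroups. -/
theorem normalizer_eq_of_isCoatom (hG : Cfsg.IsMinSimpleOddOrder G) {M N : Subgroup G}
    (hM : IsCoatom M) (hNM : N ≤ M) (hN : N ≠ ⊥) (hn : M ≤ Subgroup.normalizer (N : Set G)) :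
    Subgroup.normalizer (N : Set G) = M := by
  rcases hn.eq_or_lt with h | h
  · exact h.symm
  · exact absurd (hM.2 _ h) (minSimple_normalizer_ne_top hG hN (fun ht => hM.1 (top_le_iff.mp (ht ▸ hNM))))

theorem isCoatom_map_conj {M : Subgroup G} (hM : IsCoatom M) (g : G) :
    IsCoatom (M.map (MulAut.conj g).toMonoidHom) :=
  (OrderIso.isCoatom_iff (MulEquiv.mapSubgroup (MulAut.conj g)) M).mpr hM

theorem normalizer_self_eq_of_isCoatom [Finite G] (hG : Cfsg.IsMinSimpleOddOrder G)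
    {M : Subgroup G} (hM : IsCoatom M) : Subgroup.normalizer (M : Set G) = M :=
  normalizer_eq_of_isCoatom hG hM le_rfl (isCoatom_ne_bot hG hM) Subgroup.le_normalizer

/-! ### `sigma` -/

/-- If the normalizer of a Sylow `p`-subgroup `P` of `G` lies in `M` then `p ∈ σ(M)`. -/
theorem mem_sigma_of_sylow_normalizer_le [Finite G] {p : ℕ} [Fact p.Prime]
    (hp : p ∣ Nat.card G) (P : Sylow p G) {M : Subgroup G}
    (h : Subgroup.normalizer ((P : Subgroup G) : Set G) ≤ M) : p ∈ Cfsg.sigma M := by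
  have hPM : (P : Subgroup G) ≤ M := Subgroup.le_normalizer.trans h
  refine ⟨Fact.out, (P.dvd_card_of_dvd_card hp).trans (Subgroup.card_dvd_of_le hPM), P.subtype hPM, ?_⟩
  rw [Sylow.coe_subtype, Subgroup.map_subgroupOf_eq_of_le hPM]
  exact h

theorem exists_isCoatom_mem_sigma [Finite G] (hG : Cfsg.IsMinSimpleOddOrder G) {p : ℕ}
    (hp : p.Prime) (hd : p ∣ Nat.card G) :
    ∃ M : Subgroup G, IsCoatom M ∧ p ∈ Cfsg.sigma M := by
  have := Fact.mk hp
  obtain ⟨P⟩ : Nonempty (Sylow p G) := inferInstance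
  obtain ⟨M, hM, hle⟩ := exists_isCoatom_ge (minSimple_normalizer_ne_top hG
    (P.ne_bot_of_dvd_card hd) (minSimple_pgroup_ne_top hG P.isPGroup'))
  exact ⟨M, hM, mem_sigma_of_sylow_normalizer_le hd P hle⟩

/-- For `p ∈ σ(M)`, a Sylow `p`-subgroup of `M` witnessing it is a Sylow `p`-subgroup of `G`. -/
theorem sigma_sylow_spec [Finite G] {p : ℕ} {M : Subgroup G} (h : p ∈ Cfsg.sigma M) :
    ∃ P : Subgroup G, P ≤ M ∧ IsPGroup p P ∧ ¬ p ∣ P.index ∧
      Subgroup.normalizer (P : Set G) ≤ M := by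
  obtain ⟨hp, -, P, hN⟩ := h
  have := Fact.mk hp
  set P₀ := (P : Subgroup M).map M.subtype with hP₀
  have hle : P₀ ≤ M := Subgroup.map_subtype_le _
  have hpg : IsPGroup p P₀ := P.isPGroup'.map _
  obtain ⟨Q, hQ⟩ := hpg.exists_le_sylow
  refine ⟨P₀, hle, hpg, ?_, hN⟩
  suffices P₀ = (Q : Subgroup G) by rw [this]; exact Q.not_dvd_index
  by_contra hne
  have hlt : P₀ < (Q : Subgroup G) := lt_of_le_of_ne hQ hne
  have hnil : Group.IsNilpotent (Q : Subgroup G) := Q.isPGroup'.isNilpotent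
  have hlt2 : P₀.subgroupOf (Q : Subgroup G) < ⊤ := by
    refine lt_top_iff_ne_top.mpr (fun h => hne (le_antisymm hQ ?_))
    exact Subgroup.subgroupOf_eq_top.mp h
  obtain ⟨x, hx, hxn⟩ := SetLike.exists_of_lt (Group.normalizerCondition_of_isNilpotent _ hlt2)
  have hxG : (x : G) ∈ Subgroup.normalizer (P₀ : Set G) := by
    rw [← Subgroup.subgroupOf_normalizer_eq hQ] at hx
    exact Subgroup.mem_subgroupOf.mp hx
  have hxM : (x : G) ∈ M := hN hxG
  have hmax : ((Q : Subgroup G) ⊓ M).subgroupOf M = (P : Subgroup M) := by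
    refine P.is_maximal' ?_ ?_
    · exact (Q.isPGroup'.to_le inf_le_left).comap_of_injective M.subtype M.subtype_injective
    · intro y hy
      exact ⟨hQ ⟨y, hy, rfl⟩, y.2⟩
  have hxP : (⟨x, hxM⟩ : M) ∈ (P : Subgroup M) := by
    rw [← hmax]
    exact ⟨x.2, hxM⟩
  exact hxn ⟨⟨x, hxM⟩, hxP, rfl⟩

end CfsgLib.OddOrder
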