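import Mathlib
import Cfsg.Prelude.Def_OddOrderLocal
import Cfsg.Agent.Lib.OddOrder.PiCore
import Cfsg.Agent.Lib.OddOrder.Rank
import Cfsg.Agent.Lib.OddOrder.MinSimple

/-!
# The transitivity theorem (maximal `A`-invariant `q`-subgroups under the transitivity hypothesis)
-/

set_option autoImplicit false

namespace CfsgLib.OddOrder.Transitivity

open Subgroup CfsgLib.OddOrder

variable {G : Type*} [Group G]

/-- Conjugate of a subgroup. -/
abbrev cj (g : G) (H : Subgroup G) : Subgroup G := H.map (MulAut.conj g).toMonoidHom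

theorem cj_mul (a b : G) (H : Subgroup G) : cj a (cj b H) = cj (a * b) H := by
  simp only [cj, Subgroup.map_map]
  congr 1
  ext x
  simp [mul_assoc]

theorem cj_one (H : Subgroup G) : cj (1 : G) H = H := by
  ext x
  simp only [cj, Subgroup.mem_map]
  exact ⟨fun ⟨y, hy, h⟩ => by simp at h; exact h ▸ hy, fun h => ⟨x, h, by simp⟩⟩

theorem mem_cj {g : G} {H : Subgroup G} {x : G} : x ∈ cj g H ↔ g⁻¹ * x * g ∈ H := by
  constructor
  · rintro ⟨y, hy, rfl⟩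
    simpa [mul_assoc] using hy
  · intro h
    exact ⟨_, h, by simp [mul_assoc]⟩

theorem cj_mono {g : G} {H K : Subgroup G} (h : H ≤ K) : cj g H ≤ cj g K := Subgroup.map_mono h

theorem cj_inj {g : G} {H K : Subgroup G} (h : cj g H = cj g K) : H = K :=
  Subgroup.map_injective (MulAut.conj g).injective h

theorem card_cj (g : G) (H : Subgroup G) : Nat.card (cj g H) = Nat.card H :=
  Subgroup.card_map_of_injective (MulAut.conj g).injective

theorem cj_eq_of_mem_normalizer {g : G} {H : Subgroup G}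
    (hg : g ∈ Subgroup.normalizer (H : Set G)) : cj g H = H := by
  ext x
  rw [mem_cj]
  exact (Subgroup.mem_normalizer_iff''.mp hg x).symm

theorem mem_normalizer_of_cj_eq {g : G} {H : Subgroup G} (h : cj g H = H) :
    g ∈ Subgroup.normalizer (H : Set G) := by
  rw [Subgroup.mem_normalizer_iff'']
  intro x
  conv_lhs => rw [← h]
  exact mem_cj

/-! ### The family `invSubgroups ⊤ A {q}` -/

theorem mem_inv_iff [Finite G] {q : ℕ} [Fact q.Prime] {A Y : Subgroup G} :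
    Y ∈ Cfsg.invSubgroups ⊤ A {q} ↔ IsPGroup q Y ∧ A ≤ Subgroup.normalizer (Y : Set G) := by
  constructor
  · rintro ⟨-, h, hA⟩
    refine ⟨?_, hA⟩
    exact IsPGroup.of_card (Nat.eq_prime_pow_of_unique_prime_dvd Nat.card_pos.ne'
      (fun {d} hd hdd => h d hd hdd))
  · rintro ⟨h, hA⟩
    refine ⟨le_top, fun d hd hdd => ?_, hA⟩
    obtain ⟨n, hn⟩ := h.exists_card_eq
    exact (Nat.prime_dvd_prime_iff_eq hd Fact.out).mp (hd.dvd_of_dvd_pow (hn ▸ hdd))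

theorem exists_max_ge [Finite G] {q : ℕ} {A Y : Subgroup G} (hY : Y ∈ Cfsg.invSubgroups ⊤ A {q}) :
    ∃ Q ∈ Cfsg.maxInvSubgroups ⊤ A {q}, Y ≤ Q := by
  obtain ⟨Q, ⟨hQ, hYQ⟩, hmax⟩ := Set.Finite.exists_maximalFor id
    {Q : Subgroup G | Q ∈ Cfsg.invSubgroups ⊤ A {q} ∧ Y ≤ Q} (Set.toFinite _) ⟨Y, hY, le_rfl⟩
  exact ⟨Q, ⟨hQ, fun R hR hQR => le_antisymm (hmax ⟨hR, hYQ.trans hQR⟩ hQR) hQR⟩, hYQ⟩

theorem inv_cj {q : ℕ} {A Y : Subgroup G} {k : G} (hk : k ∈ Subgroup.normalizer (A : Set G))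
    (hY : Y ∈ Cfsg.invSubgroups ⊤ A {q}) : cj k Y ∈ Cfsg.invSubgroups ⊤ A {q} := by
  obtain ⟨-, h, hA⟩ := hY
  refine ⟨le_top, ?_, ?_⟩
  · rw [card_cj]
    exact h
  · intro a ha
    have ha' : k⁻¹ * a * k ∈ A := (Subgroup.mem_normalizer_iff''.mp hk a).mp ha
    refine mem_normalizer_of_cj_eq ?_
    rw [cj_mul, show a * k = k * (k⁻¹ * a * k) by group, ← cj_mul,
      cj_eq_of_mem_normalizer (hA ha')]

theorem max_cj {q : ℕ} {A Q : Subgroup G} {k : G} (hk : k ∈ Subgroup.normalizer (A : Set G))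
    (hQ : Q ∈ Cfsg.maxInvSubgroups ⊤ A {q}) : cj k Q ∈ Cfsg.maxInvSubgroups ⊤ A {q} := by
  refine ⟨inv_cj hk hQ.1, fun R hR hle => ?_⟩
  have h := hQ.2 _ (inv_cj ((Subgroup.normalizer (A : Set G)).inv_mem hk) hR) (by
    have := cj_mono (g := k⁻¹) hle
    rwa [cj_mul, inv_mul_cancel, cj_one] at this)
  conv_rhs => rw [← h]
  rw [cj_mul, mul_inv_cancel, cj_one]

/-! ### The core `O_{π(A)'}(C_G(A))` -/

/-- `O_{π(A)'}(X)`. -/
abbrev primeCore (A X : Subgroup G) : Subgroup G :=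
  Cfsg.piCoreOf (Cfsg.primesNotDvd (Nat.card A)) X

theorem coprime_of_piNat {n m : ℕ} (h : PiNat (Cfsg.primesNotDvd n) m) : n.Coprime m :=
  (PiNat.coprime h (fun _ _ hp => hp.2)).symm

theorem coprime_primeCore [Finite G] (A X : Subgroup G) :
    (Nat.card A).Coprime (Nat.card (primeCore A X)) :=
  coprime_of_piNat (piNat_card_piCoreOf _ X)

/-- Under the hypothesis every `A`-invariant `π(A)'`-subgroup of a proper overgroup of `A` lies in
its core. -/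
theorem inv_le_core {A X Y : Subgroup G} (hA : Cfsg.TransitivityHypothesis A) (hX : X ≠ ⊤)
    (hAX : A ≤ X) (hYX : Y ≤ X) (hn : A ≤ Subgroup.normalizer (Y : Set G))
    (hY : PiNat (Cfsg.primesNotDvd (Nat.card A)) (Nat.card Y)) : Y ≤ primeCore A X := by
  have h : sSup (Cfsg.invSubgroups X A (Cfsg.primesNotDvd (Nat.card A))) = primeCore A X :=
    hA.2.2 X hX hAX
  have hmem : Y ∈ Cfsg.invSubgroups X A (Cfsg.primesNotDvd (Nat.card A)) := ⟨hYX, hY, hn⟩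
  exact le_trans (le_sSup hmem) h.le

theorem le_normalizer_core {A X : Subgroup G} (hAX : A ≤ X) :
    A ≤ Subgroup.normalizer (primeCore A X : Set G) :=
  hAX.trans (piCoreOf_normal _ X)

theorem centralizer_le_normalizer' (A : Subgroup G) :
    Subgroup.centralizer (A : Set G) ≤ Subgroup.normalizer (A : Set G) :=
  Subgroup.centralizer_le_normalizer (A : Set G)

theorem normalizer_centralizer_le (A : Subgroup G) :
    Subgroup.normalizer (A : Set G) ≤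
      Subgroup.normalizer ((Subgroup.centralizer (A : Set G)) : Set G) := by
  intro g hg
  rw [Subgroup.mem_normalizer_iff'']
  intro x
  simp only [Subgroup.mem_centralizer_iff, SetLike.mem_coe]
  constructor
  · intro h a ha
    have h2 := h (g * a * g⁻¹) ((Subgroup.mem_normalizer_iff.mp hg a).mp ha)
    calc a * (g⁻¹ * x * g) = g⁻¹ * ((g * a * g⁻¹) * x) * g := by group
      _ = g⁻¹ * (x * (g * a * g⁻¹)) * g := by rw [h2]
      _ = g⁻¹ * x * g * a := by group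
  · intro h a ha
    have h2 := h (g⁻¹ * a * g) ((Subgroup.mem_normalizer_iff''.mp hg a).mp ha)
    calc a * x = g * ((g⁻¹ * a * g) * (g⁻¹ * x * g)) * g⁻¹ := by group
      _ = g * ((g⁻¹ * x * g) * (g⁻¹ * a * g)) * g⁻¹ := by rw [h2]
      _ = x * a := by group

theorem normalizer_le_normalizer_piCoreOf [Finite G] (π : Set ℕ) (X : Subgroup G) :
    Subgroup.normalizer (X : Set G) ≤ Subgroup.normalizer (Cfsg.piCoreOf π X : Set G) := by
  intro g hg
  refine mem_normalizer_of_cj_eq ?_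
  have h := piCoreOf_map (H := G) π (MulAut.conj g).toMonoidHom (MulAut.conj g).injective X
  exact h.trans (congrArg (Cfsg.piCoreOf π) (cj_eq_of_mem_normalizer hg))

/-- A `π(A)'`-subgroup of `C_G(A)` lies in `O_{π(A)'}(C_G(A))`. -/
theorem le_core_centralizer [Finite G] (hG : Cfsg.IsMinSimpleOddOrder G) {A Y : Subgroup G}
    (hA : Cfsg.TransitivityHypothesis A) (hYC : Y ≤ Subgroup.centralizer (A : Set G))
    (hY : PiNat (Cfsg.primesNotDvd (Nat.card A)) (Nat.card Y)) :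
    Y ≤ primeCore A (Subgroup.centralizer (A : Set G)) := by
  have hC := centralizer_le_normalizer' A
  have hn : A ≤ Subgroup.normalizer (Y : Set G) := by
    refine le_trans ?_ (Subgroup.centralizer_le_normalizer (Y : Set G))
    exact Subgroup.le_centralizer_iff.mp hYC
  have h1 : Y ≤ primeCore A (Subgroup.normalizer (A : Set G)) :=
    inv_le_core hA (minSimple_normalizer_ne_top hG hA.1 hA.2.1) Subgroup.le_normalizer
      (hYC.trans hC) hn hY
  exact (le_inf h1 hYC).trans (piCoreOf_inf_le hC)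

/-- The coprime-action fact used below: `A`-invariant `q`-subgroups of a solvable subgroup `L` of
order prime to `#A` are brought together by an element of `L` centralizing `A`. -/
def InvSylowConj (G : Type*) [Group G] : Prop :=
  ∀ (A L : Subgroup G) (q : ℕ), q.Prime → A ≤ Subgroup.normalizer (L : Set G) →
    (Nat.card A).Coprime (Nat.card L) → Group.IsSolvable L →
    ∀ Y₁ Y₂ : Subgroup G, Y₁ ≤ L → IsPGroup q Y₁ → A ≤ Subgroup.normalizer (Y₁ : Set G) →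
      Y₂ ≤ L → IsPGroup q Y₂ → A ≤ Subgroup.normalizer (Y₂ : Set G) →
      ∃ k ∈ L ⊓ Subgroup.centralizer (A : Set G), ∃ S : Subgroup G, S ≤ L ∧ IsPGroup q S ∧
        A ≤ Subgroup.normalizer (S : Set G) ∧ cj k Y₁ ≤ S ∧ Y₂ ≤ S

variable [Finite G]

theorem piNat_primesNotDvd_of_isPGroup {q n : ℕ} (hq : q.Prime) (hqA : ¬ q ∣ n) {Y : Subgroup G}
    (hY : IsPGroup q Y) : PiNat (Cfsg.primesNotDvd n) (Nat.card Y) := by
  have := Fact.mk hq
  intro d hd hdd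
  obtain ⟨m, hm⟩ := hY.exists_card_eq
  obtain rfl := (Nat.prime_dvd_prime_iff_eq hd hq).mp (hd.dvd_of_dvd_pow (hm ▸ hdd))
  exact ⟨hd, hqA⟩

/-- One step: inside a proper overgroup `H` of `A` two invariant `q`-subgroups are brought
together by an element of `O_{π(A)'}(C_G(A))`. -/
theorem merge (hG : Cfsg.IsMinSimpleOddOrder G) (hS : InvSylowConj G) {A H : Subgroup G}
    (hA : Cfsg.TransitivityHypothesis A) (hH : H ≠ ⊤) (hAH : A ≤ H) {q : ℕ} [Fact q.Prime]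
    (hqA : ¬ q ∣ Nat.card A) {Q₁ Q₂ : Subgroup G} (h₁ : Q₁ ∈ Cfsg.maxInvSubgroups ⊤ A {q})
    (h₂ : Q₂ ∈ Cfsg.maxInvSubgroups ⊤ A {q}) :
    ∃ k ∈ primeCore A (Subgroup.centralizer (A : Set G)), ∃ Q₃ ∈ Cfsg.maxInvSubgroups ⊤ A {q},
      cj k (H ⊓ Q₁) ≤ Q₃ ∧ H ⊓ Q₂ ≤ Q₃ := by
  have hinv : ∀ Q ∈ Cfsg.maxInvSubgroups ⊤ A {q},
      IsPGroup q ↥(H ⊓ Q) ∧ A ≤ Subgroup.normalizer ((H ⊓ Q : Subgroup G) : Set G) ∧
        H ⊓ Q ≤ primeCore A H := by
    intro Q hQ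
    obtain ⟨hp, hn⟩ := mem_inv_iff.mp hQ.1
    have h1 : A ≤ Subgroup.normalizer ((H ⊓ Q : Subgroup G) : Set G) :=
      le_trans (le_inf (hAH.trans Subgroup.le_normalizer) hn) Subgroup.inf_normalizer_le_normalizer_inf
    exact ⟨hp.to_le inf_le_right, h1, inv_le_core hA hH hAH inf_le_left h1
      (piNat_primesNotDvd_of_isPGroup Fact.out hqA (hp.to_le inf_le_right))⟩
  obtain ⟨hp₁, hn₁, hl₁⟩ := hinv Q₁ h₁
  obtain ⟨hp₂, hn₂, hl₂⟩ := hinv Q₂ h₂
  obtain ⟨k, hk, S, -, hSp, hSn, hS1, hS2⟩ := hS A (primeCore A H) q Fact.out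
    (le_normalizer_core hAH) (coprime_primeCore A H)
    (minSimple_solvable hG (fun h => hH (top_le_iff.mp (h ▸ piCoreOf_le _ H))))
    _ _ hl₁ hp₁ hn₁ hl₂ hp₂ hn₂
  have hk' : Subgroup.zpowers k ≤ primeCore A (Subgroup.centralizer (A : Set G)) :=
    le_core_centralizer hG hA (Subgroup.zpowers_le.mpr hk.2)
      ((piNat_card_piCoreOf _ H).dvd (Subgroup.card_dvd_of_le (Subgroup.zpowers_le.mpr hk.1)))
  obtain ⟨Q₃, hQ₃, hSQ⟩ := exists_max_ge (mem_inv_iff.mpr ⟨hSp, hSn⟩)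
  exact ⟨k, hk' (Subgroup.mem_zpowers k), Q₃, hQ₃, hS1.trans hSQ, hS2.trans hSQ⟩

theorem normalizer_grows {q : ℕ} [Fact q.Prime] {D Q : Subgroup G} (hQ : IsPGroup q Q)
    (hDQ : D < Q) : Nat.card D < Nat.card ↥(Subgroup.normalizer (D : Set G) ⊓ Q) := by
  have hnil : Group.IsNilpotent Q := hQ.isNilpotent
  have hlt : D.subgroupOf Q < ⊤ := lt_top_iff_ne_top.mpr (fun h =>
    hDQ.not_ge (Subgroup.subgroupOf_eq_top.mp h))
  obtain ⟨x, hx, hxn⟩ := SetLike.exists_of_lt (Group.normalizerCondition_of_isNilpotent _ hlt)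
  rw [← Subgroup.subgroupOf_normalizer_eq hDQ.le, Subgroup.mem_subgroupOf] at hx
  have hlt2 : D < Subgroup.normalizer (D : Set G) ⊓ Q := by
    refine lt_of_le_of_ne (le_inf Subgroup.le_normalizer hDQ.le) (fun h => hxn ?_)
    have : (x : G) ∈ Subgroup.normalizer (D : Set G) ⊓ Q := ⟨hx, x.2⟩
    rw [← h] at this
    exact this
  exact lt_of_le_of_ne (Subgroup.card_le_of_le hlt2.le)
    (fun h => hlt2.ne (Subgroup.eq_of_le_of_card_ge hlt2.le h.ge))

/-- Maximal invariant `q`-subgroups meeting nontrivially are conjugate. -/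
theorem conj_of_inf_ne_bot (hG : Cfsg.IsMinSimpleOddOrder G) (hS : InvSylowConj G) {A : Subgroup G}
    (hA : Cfsg.TransitivityHypothesis A) {q : ℕ} [Fact q.Prime] (hqA : ¬ q ∣ Nat.card A)
    {Q R : Subgroup G} (hQ : Q ∈ Cfsg.maxInvSubgroups ⊤ A {q})
    (hR : R ∈ Cfsg.maxInvSubgroups ⊤ A {q}) (hne : Q ⊓ R ≠ ⊥) :
    ∃ k ∈ primeCore A (Subgroup.centralizer (A : Set G)), R = cj k Q := by
  induction' hd : Nat.card G - Nat.card ↥(Q ⊓ R) using Nat.strong_induction_on with n ih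
    generalizing Q R
  by_cases hQR : Q = R
  · exact ⟨1, Subgroup.one_mem _, by rw [cj_one, hQR]⟩
  have hDQ : Q ⊓ R < Q := lt_of_le_of_ne inf_le_left (fun h => hQR ((hQ.2 R hR.1 (h ▸ inf_le_right)).symm))
  have hDR : Q ⊓ R < R := lt_of_le_of_ne inf_le_right (fun h => hQR (hR.2 Q hQ.1 (h ▸ inf_le_left)))
  obtain ⟨hQp, hQn⟩ := mem_inv_iff.mp hQ.1
  obtain ⟨hRp, hRn⟩ := mem_inv_iff.mp hR.1
  set N := Subgroup.normalizer ((Q ⊓ R : Subgroup G) : Set G) with hN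
  have hNtop : N ≠ ⊤ := minSimple_normalizer_ne_top hG hne
    (minSimple_pgroup_ne_top hG (hQp.to_le inf_le_left))
  have hAN : A ≤ N := le_trans (le_inf hQn hRn) Subgroup.inf_normalizer_le_normalizer_inf
  have g1 := normalizer_grows hQp hDQ
  have g2 := normalizer_grows hRp hDR
  obtain ⟨k, hk, Q₃, hQ₃, h1, h2⟩ := merge hG hS hA hNtop hAN hqA hQ hR
  have hkN : k ∈ Subgroup.normalizer (A : Set G) :=
    centralizer_le_normalizer' A (piCoreOf_le _ _ hk)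
  have c1 : Nat.card ↥(Q ⊓ R) < Nat.card ↥(cj k Q ⊓ Q₃) := by
    refine g1.trans_le ?_
    rw [← card_cj k]
    exact Subgroup.card_le_of_le (le_inf (cj_mono inf_le_right) h1)
  have c2 : Nat.card ↥(Q ⊓ R) < Nat.card ↥(Q₃ ⊓ R) :=
    g2.trans_le (Subgroup.card_le_of_le (le_inf h2 inf_le_right))
  have hb : ∀ X : Subgroup G, Nat.card ↥(Q ⊓ R) < Nat.card X → X ≠ ⊥ ∧
      Nat.card G - Nat.card X < n := by
    intro X hX
    refine ⟨fun h => ?_, ?_⟩
    · rw [h, Subgroup.card_bot] at hX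
      have := Nat.card_pos (α := ↥(Q ⊓ R))
      omega
    · have := Subgroup.card_le_card_group X
      omega
  obtain ⟨k1, hk1, e1⟩ := ih _ (hb _ c1).2 (max_cj hkN hQ) hQ₃ (hb _ c1).1 rfl
  obtain ⟨k2, hk2, e2⟩ := ih _ (hb _ c2).2 hQ₃ hR (hb _ c2).1 rfl
  refine ⟨k2 * (k1 * k), mul_mem hk2 (mul_mem hk1 hk), ?_⟩
  rw [e2, e1, cj_mul, cj_mul, mul_assoc]

/-- **BG 7.2** (S1392). -/
theorem conj_of_common_overgroup (hG : Cfsg.IsMinSimpleOddOrder G) (hS : InvSylowConj G)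
    {A : Subgroup G} (hA : Cfsg.TransitivityHypothesis A) {q : ℕ} [Fact q.Prime]
    (hqA : ¬ q ∣ Nat.card A) {Q₁ Q₂ : Subgroup G} (h₁ : Q₁ ∈ Cfsg.maxInvSubgroups ⊤ A {q})
    (h₂ : Q₂ ∈ Cfsg.maxInvSubgroups ⊤ A {q}) {H : Subgroup G} (hH : H ≠ ⊤) (hAH : A ≤ H)
    (hH₁ : H ⊓ Q₁ ≠ ⊥) (hH₂ : H ⊓ Q₂ ≠ ⊥) :
    ∃ k ∈ primeCore A (Subgroup.centralizer (A : Set G)), Q₂ = cj k Q₁ := by
  obtain ⟨k, hk, Q₃, hQ₃, h1, h2⟩ := merge hG hS hA hH hAH hqA h₁ h₂
  have hkN : k ∈ Subgroup.normalizer (A : Set G) :=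
    centralizer_le_normalizer' A (piCoreOf_le _ _ hk)
  have n1 : cj k Q₁ ⊓ Q₃ ≠ ⊥ := by
    intro h
    have h' : cj k (H ⊓ Q₁) = ⊥ := eq_bot_iff.mpr (h ▸ le_inf (cj_mono inf_le_right) h1)
    exact hH₁ ((Subgroup.map_eq_bot_iff_of_injective _ (MulAut.conj k).injective).mp h')
  have n2 : Q₃ ⊓ Q₂ ≠ ⊥ := fun h => hH₂ (eq_bot_iff.mpr (h ▸ le_inf h2 inf_le_right))
  obtain ⟨k1, hk1, e1⟩ := conj_of_inf_ne_bot hG hS hA hqA (max_cj hkN h₁) hQ₃ n1
  obtain ⟨k2, hk2, e2⟩ := conj_of_inf_ne_bot hG hS hA hqA hQ₃ h₂ n2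
  refine ⟨k2 * (k1 * k), mul_mem hk2 (mul_mem hk1 hk), ?_⟩
  rw [e2, e1, cj_mul, cj_mul, mul_assoc]

end CfsgLib.OddOrder.Transitivity
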