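import Mathlib
import Cfsg.Agent.Lib.OddOrder.Transitivity
import Cfsg.Agent.Lib.Coprime.SchurZassenhaus

/-!
# Glauberman's fixed-point lemma for conjugation on subgroups, and invariant Sylow subgroups
-/

set_option autoImplicit false

namespace CfsgLib.OddOrder.Transitivity

open Subgroup CfsgLib.OddOrder
open scoped Pointwise

variable {G : Type*} [Group G] [Finite G]

omit [Finite G] in
theorem inf_eq_bot_of_coprime' {K P : Subgroup G} (hcop : (Nat.card P).Coprime (Nat.card K)) :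
    K ⊓ P = ⊥ := by
  rw [inf_comm]
  exact (Subgroup.disjoint_of_coprime_natCard hcop).eq_bot

omit [Finite G] in
theorem exists_mem_mul {K P : Subgroup G} (hn : P ≤ Subgroup.normalizer (K : Set G)) {x : G}
    (hx : x ∈ K ⊔ P) : ∃ k ∈ K, ∃ q ∈ P, x = k * q := by
  have hx' : x ∈ ((K ⊔ P : Subgroup G) : Set G) := hx
  rw [Subgroup.coe_mul_of_right_le_normalizer_left K P hn] at hx'
  obtain ⟨k, hk, q, hq, rfl⟩ := hx'
  exact ⟨k, hk, q, hq, rfl⟩

theorem relIndex_sup_eq_card {K P : Subgroup G} (hn : P ≤ Subgroup.normalizer (K : Set G))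
    (hcop : (Nat.card P).Coprime (Nat.card K)) : K.relIndex (K ⊔ P) = Nat.card P :=
  IsComplIn.relIndex_left
    ⟨le_sup_left, le_sup_right, inf_eq_bot_of_coprime' hcop, fun _ hm => exists_mem_mul hn hm⟩

theorem normal_pgroup_le_sylow {H : Type*} [Group H] [Finite H] {q : ℕ} [Fact q.Prime]
    {M : Subgroup H} [M.Normal] (hM : IsPGroup q M) (S : Sylow q H) : M ≤ (S : Subgroup H) := by
  obtain ⟨T, hT⟩ := hM.exists_le_sylow
  obtain ⟨g, hg⟩ := MulAction.exists_smul_eq H T S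
  intro x hx
  rw [← hg]
  have h1 : g⁻¹ * x * g ∈ M := by
    simpa using (inferInstance : M.Normal).conj_mem x hx g⁻¹
  exact CfsgLib.Coprime.mem_conj_smul.mpr (hT h1)

theorem conj_in_product {K P P₁ : Subgroup G} (hn : P ≤ Subgroup.normalizer (K : Set G))
    (hcop : (Nat.card P).Coprime (Nat.card K)) (hs : Group.IsSolvable K) (hle : P₁ ≤ K ⊔ P)
    (hcard : Nat.card P₁ = Nat.card P) : ∃ m ∈ K, cj m P₁ = P := by
  have hKn : (K.subgroupOf (K ⊔ P)).Normal :=
    (Subgroup.normal_subgroupOf_iff_le_normalizer le_sup_left).mpr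
      (sup_le Subgroup.le_normalizer hn)
  have hidx : (K.subgroupOf (K ⊔ P)).index = Nat.card P := relIndex_sup_eq_card hn hcop
  have hcK : Nat.card (K.subgroupOf (K ⊔ P)) = Nat.card K :=
    Nat.card_congr (Subgroup.subgroupOfEquivOfLe le_sup_left).toEquiv
  have hs' : Group.IsSolvable (K.subgroupOf (K ⊔ P)) :=
    Group.isSolvable_of_surjective (G := K)
      (f := (Subgroup.subgroupOfEquivOfLe (le_sup_left : K ≤ K ⊔ P)).symm.toMonoidHom)
      (MulEquiv.surjective _)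
  obtain ⟨x, hx, hxe⟩ := CfsgLib.Coprime.conj_complement_of_card (K.subgroupOf (K ⊔ P))
    (by rw [hcK, hidx]; exact hcop.symm) (Or.inl hs') (P₁.subgroupOf (K ⊔ P)) (P.subgroupOf (K ⊔ P))
    (by rw [hidx, Nat.card_congr (Subgroup.subgroupOfEquivOfLe hle).toEquiv, hcard])
    (by rw [hidx, Nat.card_congr (Subgroup.subgroupOfEquivOfLe (le_sup_right : P ≤ K ⊔ P)).toEquiv])
  refine ⟨(x : G), hx, ?_⟩
  ext y
  rw [mem_cj]
  constructor
  · intro hy
    have hyX : y ∈ K ⊔ P := by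
      have h1 := mul_mem (mul_mem x.2 (hle hy)) (inv_mem x.2)
      simpa [mul_assoc] using h1
    have h2 : (⟨y, hyX⟩ : ↥(K ⊔ P)) ∈ MulAut.conj x • P₁.subgroupOf (K ⊔ P) := by
      rw [CfsgLib.Coprime.mem_conj_smul]
      exact hy
    rw [hxe] at h2
    exact h2
  · intro hy
    have h2 : (⟨y, le_sup_right (a := K) hy⟩ : ↥(K ⊔ P)) ∈ P.subgroupOf (K ⊔ P) := hy
    rw [← hxe, CfsgLib.Coprime.mem_conj_smul] at h2
    exact h2

theorem mem_centralizer_of_mem_normalizer {K P : Subgroup G}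
    (hn : P ≤ Subgroup.normalizer (K : Set G)) (hcop : (Nat.card P).Coprime (Nat.card K)) {g : G}
    (hgK : g ∈ K) (hg : g ∈ Subgroup.normalizer (P : Set G)) :
    g ∈ Subgroup.centralizer (P : Set G) := by
  rw [Subgroup.mem_centralizer_iff]
  intro p hp
  have h1 : g * p * g⁻¹ * p⁻¹ ∈ P := mul_mem ((Subgroup.mem_normalizer_iff.mp hg p).mp hp) (inv_mem hp)
  have h2 : g * p * g⁻¹ * p⁻¹ ∈ K := by
    have h3 := mul_mem hgK ((Subgroup.mem_normalizer_iff.mp (hn hp) g⁻¹).mp (inv_mem hgK))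
    simpa [mul_assoc] using h3
  have h4 : g * p * g⁻¹ * p⁻¹ ∈ K ⊓ P := ⟨h2, h1⟩
  rw [inf_eq_bot_of_coprime' hcop, Subgroup.mem_bot] at h4
  calc p * g = (g * p * g⁻¹ * p⁻¹)⁻¹ * g * p := by group
    _ = g * p := by rw [h4, inv_one, one_mul]

/-- Glauberman's lemma, existence part. -/
theorem exists_fixed {K P : Subgroup G} (hn : P ≤ Subgroup.normalizer (K : Set G))
    (hcop : (Nat.card P).Coprime (Nat.card K)) (hs : Group.IsSolvable K) {S : Set (Subgroup G)}
    (hK : ∀ k ∈ K, ∀ Q ∈ S, cj k Q ∈ S) (hP : ∀ q ∈ P, ∀ Q ∈ S, cj q Q ∈ S)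
    (htr : ∀ Q₁ ∈ S, ∀ Q₂ ∈ S, ∃ k ∈ K, Q₂ = cj k Q₁) (hne : S.Nonempty) :
    ∃ Q ∈ S, P ≤ Subgroup.normalizer (Q : Set G) := by
  obtain ⟨Q, hQ⟩ := hne
  set Y := Subgroup.normalizer (Q : Set G) ⊓ (K ⊔ P) with hY
  have hKY : Y ≤ Subgroup.normalizer (K : Set G) :=
    inf_le_right.trans (sup_le Subgroup.le_normalizer hn)
  have hsup : Y ⊔ K = K ⊔ P := by
    refine le_antisymm (sup_le inf_le_right le_sup_left) (sup_le le_sup_right ?_)
    intro q hq
    obtain ⟨k, hk, hkq⟩ := htr Q hQ _ (hP q hq Q hQ)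
    have h1 : k⁻¹ * q ∈ Y := by
      refine ⟨mem_normalizer_of_cj_eq ?_, mul_mem (Subgroup.inv_mem _ (le_sup_left (b := P) hk)) (le_sup_right (a := K) hq)⟩
      rw [← cj_mul, hkq, cj_mul, inv_mul_cancel, cj_one]
    have h2 : q = k * (k⁻¹ * q) := by group
    rw [h2]
    exact mul_mem (le_sup_right (a := Y) hk) (le_sup_left (b := K) h1)
  have hKYn : (K.subgroupOf Y).Normal := by
    refine ⟨fun n hn' g => ?_⟩
    rw [Subgroup.mem_subgroupOf] at hn' ⊢
    exact (Subgroup.mem_normalizer_iff.mp (hKY g.2) _).mp hn'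
  have hidx : (K.subgroupOf Y).index = Nat.card P := by
    change K.relIndex Y = Nat.card P
    rw [← relIndex_sup_eq_card hn hcop, ← hsup]
    have hKZ : (K.subgroupOf (Y ⊔ K)).Normal :=
      (Subgroup.normal_subgroupOf_iff_le_normalizer le_sup_right).mpr (sup_le hKY Subgroup.le_normalizer)
    have key := Subgroup.relIndex_sup_right (Y.subgroupOf (Y ⊔ K)) (K.subgroupOf (Y ⊔ K))
    rw [← Subgroup.subgroupOf_sup le_sup_left le_sup_right, Subgroup.subgroupOf_self,
      Subgroup.relIndex_top_right, Subgroup.relIndex_subgroupOf le_sup_left] at key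
    exact key.symm
  have hdvd : Nat.card (K.subgroupOf Y) ∣ Nat.card K :=
    Subgroup.card_comap_dvd_of_injective K Y.subtype Y.subtype_injective
  obtain ⟨C, hC⟩ := Subgroup.exists_right_complement'_of_coprime (N := K.subgroupOf Y)
    (by rw [hidx]; exact (hcop.coprime_dvd_right hdvd).symm)
  have hCcard : Nat.card (C.map Y.subtype) = Nat.card P := by
    rw [Subgroup.card_map_of_injective Y.subtype_injective, ← hC.symm.index_eq_card, hidx]
  obtain ⟨m, hm, hmP⟩ := conj_in_product hn hcop hs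
    ((Subgroup.map_subtype_le C).trans inf_le_right) hCcard
  refine ⟨cj m Q, hK m hm Q hQ, fun q hq => mem_normalizer_of_cj_eq ?_⟩
  rw [← hmP, mem_cj] at hq
  have h3 : cj (m⁻¹ * q * m) Q = Q := cj_eq_of_mem_normalizer (Subgroup.map_subtype_le C hq).1
  conv_rhs => rw [← h3, cj_mul]
  rw [cj_mul]
  congr 1
  group

/-- Glauberman's lemma, conjugacy part. -/
theorem fixed_conj {K P : Subgroup G} (hn : P ≤ Subgroup.normalizer (K : Set G))
    (hcop : (Nat.card P).Coprime (Nat.card K)) (hs : Group.IsSolvable K) {Q₁ Q₂ : Subgroup G}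
    (h₁ : P ≤ Subgroup.normalizer (Q₁ : Set G)) (h₂ : P ≤ Subgroup.normalizer (Q₂ : Set G))
    {k : G} (hk : k ∈ K) (he : Q₂ = cj k Q₁) :
    ∃ c ∈ K ⊓ Subgroup.centralizer (P : Set G), Q₂ = cj c Q₁ := by
  set K₀ := K ⊓ Subgroup.normalizer (Q₁ : Set G) with hK₀
  have hn₀ : P ≤ Subgroup.normalizer (K₀ : Set G) :=
    le_trans (le_inf hn (h₁.trans Subgroup.le_normalizer)) Subgroup.inf_normalizer_le_normalizer_inf
  have hcop₀ : (Nat.card P).Coprime (Nat.card K₀) :=
    hcop.coprime_dvd_right (Subgroup.card_dvd_of_le inf_le_left)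
  have hs₀ : Group.IsSolvable K₀ :=
    Group.isSolvable_of_isSolvable_injective (Subgroup.inclusion_injective (inf_le_left : K₀ ≤ K))
  have hle : cj k⁻¹ P ≤ K₀ ⊔ P := by
    intro y hy
    have hyN : y ∈ Subgroup.normalizer (Q₁ : Set G) := by
      rw [mem_cj, inv_inv] at hy
      refine mem_normalizer_of_cj_eq ?_
      have h3 := cj_eq_of_mem_normalizer (h₂ hy)
      rw [he, cj_mul] at h3
      have h4 := congrArg (cj k⁻¹) h3
      rw [cj_mul, cj_mul, inv_mul_cancel, cj_one] at h4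
      calc cj y Q₁ = cj (k⁻¹ * (k * y * k⁻¹ * k)) Q₁ := by congr 1; group
        _ = Q₁ := h4
    have hyX : y ∈ K ⊔ P := by
      rw [mem_cj, inv_inv] at hy
      have h5 := mul_mem (mul_mem (inv_mem (le_sup_left (b := P) hk)) (le_sup_right (a := K) hy))
        (le_sup_left (b := P) hk)
      simpa [mul_assoc] using h5
    obtain ⟨a, ha, q, hq, rfl⟩ := exists_mem_mul hn hyX
    exact mul_mem (le_sup_left (b := P) ⟨ha, (Subgroup.mul_mem_cancel_right _ (h₁ hq)).mp hyN⟩)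
      (le_sup_right (a := K₀) hq)
  obtain ⟨m, hm, hmP⟩ := conj_in_product hn₀ hcop₀ hs₀ hle (card_cj _ _)
  refine ⟨k * m⁻¹, ⟨mul_mem hk (K.inv_mem hm.1), ?_⟩, ?_⟩
  · refine mem_centralizer_of_mem_normalizer hn hcop (mul_mem hk (K.inv_mem hm.1)) (mem_normalizer_of_cj_eq ?_)
    conv_lhs => rw [← hmP]
    rw [cj_mul, cj_mul, show k * m⁻¹ * m * k⁻¹ = 1 by group, cj_one]
  · rw [he, ← cj_mul, cj_eq_of_mem_normalizer (Subgroup.inv_mem _ hm.2)]

/-- An invariant Sylow subgroup exists, and any two are conjugate under `C_L(A)`. -/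
theorem exists_invariant_sylow {A L : Subgroup G} {q : ℕ} [Fact q.Prime]
    (hn : A ≤ Subgroup.normalizer (L : Set G)) (hcop : (Nat.card A).Coprime (Nat.card L))
    (hs : Group.IsSolvable L) :
    ∃ S : Sylow q L, A ≤ Subgroup.normalizer (((S : Subgroup L).map L.subtype : Subgroup G) : Set G) ∧
      ∀ S' : Sylow q L, A ≤ Subgroup.normalizer (((S' : Subgroup L).map L.subtype : Subgroup G) : Set G) →
        ∃ c ∈ L ⊓ Subgroup.centralizer (A : Set G),
          (S : Subgroup L).map L.subtype = cj c ((S' : Subgroup L).map L.subtype) := by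
  let F : Set (Subgroup G) := {Q | ∃ S : Sylow q L, Q = (S : Subgroup L).map L.subtype}
  have hinv : ∀ g ∈ Subgroup.normalizer (L : Set G), ∀ Q ∈ F, cj g Q ∈ F := by
    rintro g hg _ ⟨S, rfl⟩
    have hle : cj g ((S : Subgroup L).map L.subtype) ≤ L :=
      (cj_mono (Subgroup.map_subtype_le _)).trans (cj_eq_of_mem_normalizer hg).le
    have hcard : Nat.card ((cj g ((S : Subgroup L).map L.subtype)).subgroupOf L) =
        q ^ (Nat.card L).factorization q := by
      rw [Nat.card_congr (Subgroup.subgroupOfEquivOfLe hle).toEquiv, card_cj,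
        Subgroup.card_map_of_injective L.subtype_injective, S.card_eq_multiplicity]
    exact ⟨Sylow.ofCard _ hcard, by rw [Sylow.coe_ofCard, Subgroup.map_subgroupOf_eq_of_le hle]⟩
  have htr : ∀ Q₁ ∈ F, ∀ Q₂ ∈ F, ∃ k ∈ L, Q₂ = cj k Q₁ := by
    rintro _ ⟨S₁, rfl⟩ _ ⟨S₂, rfl⟩
    obtain ⟨g, hg⟩ := MulAction.exists_smul_eq L S₁ S₂
    refine ⟨g, g.2, ?_⟩
    rw [← hg]
    ext y
    rw [mem_cj]
    constructor
    · rintro ⟨z, hz, rfl⟩
      exact ⟨g⁻¹ * z * g, CfsgLib.Coprime.mem_conj_smul.mp hz, by simp⟩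
    · rintro ⟨z, hz, hze⟩
      refine ⟨g * z * g⁻¹, CfsgLib.Coprime.mem_conj_smul.mpr ?_, ?_⟩
      · rw [show g⁻¹ * (g * z * g⁻¹) * g = z by group]
        exact hz
      · simp only [Subgroup.coe_subtype, Subgroup.coe_mul, Subgroup.coe_inv] at hze ⊢
        rw [hze]; group
  obtain ⟨S₀⟩ : Nonempty (Sylow q L) := inferInstance
  obtain ⟨_, ⟨S, rfl⟩, hS⟩ := exists_fixed hn hcop hs
    (fun k hk => hinv k (Subgroup.le_normalizer hk)) (fun a ha => hinv a (hn ha)) htr ⟨_, ⟨S₀, rfl⟩⟩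
  refine ⟨S, hS, fun S' hS' => ?_⟩
  obtain ⟨k, hk, he⟩ := htr _ ⟨S', rfl⟩ _ ⟨S, rfl⟩
  exact fixed_conj hn hcop hs hS' hS hk he

/-- Every invariant `q`-subgroup lies in an invariant Sylow subgroup. -/
theorem invariant_sylow_ge {A L : Subgroup G} {q : ℕ} [Fact q.Prime]
    (hAL : A ≤ Subgroup.normalizer (L : Set G)) (hcop : (Nat.card A).Coprime (Nat.card L))
    (hs : Group.IsSolvable L) {Y : Subgroup G} (hYL : Y ≤ L) (hYp : IsPGroup q Y)
    (hYn : A ≤ Subgroup.normalizer (Y : Set G)) :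
    ∃ S : Sylow q L, A ≤ Subgroup.normalizer (((S : Subgroup L).map L.subtype : Subgroup G) : Set G) ∧
      Y ≤ (S : Subgroup L).map L.subtype := by
  obtain ⟨M, ⟨hML, hMp, hMn, hYM⟩, hmax⟩ := Set.Finite.exists_maximalFor id
    {M : Subgroup G | M ≤ L ∧ IsPGroup q M ∧ A ≤ Subgroup.normalizer (M : Set G) ∧ Y ≤ M}
    (Set.toFinite _) ⟨Y, hYL, hYp, hYn, le_rfl⟩
  set N := Subgroup.normalizer (M : Set G) ⊓ L with hN
  have hMN : M ≤ N := le_inf Subgroup.le_normalizer hML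
  have hNn : A ≤ Subgroup.normalizer (N : Set G) :=
    le_trans (le_inf (hMn.trans Subgroup.le_normalizer) hAL) Subgroup.inf_normalizer_le_normalizer_inf
  obtain ⟨S, hS, -⟩ := exists_invariant_sylow (q := q) hNn (hcop.coprime_dvd_right (Subgroup.card_dvd_of_le inf_le_right))
    (Group.isSolvable_of_isSolvable_injective (Subgroup.inclusion_injective (inf_le_right : N ≤ L)))
  have : (M.subgroupOf N).Normal :=
    (Subgroup.normal_subgroupOf_iff_le_normalizer hMN).mpr inf_le_left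
  have hMS : M.subgroupOf N ≤ (S : Subgroup N) :=
    normal_pgroup_le_sylow (M := M.subgroupOf N) (hMp.comap_of_injective N.subtype N.subtype_injective) S
  have hMS' : M ≤ (S : Subgroup N).map N.subtype := by
    have h6 := Subgroup.map_mono (f := N.subtype) hMS
    rwa [Subgroup.map_subgroupOf_eq_of_le hMN] at h6
  have heq : (S : Subgroup N).map N.subtype = M :=
    le_antisymm (hmax (j := (S : Subgroup N).map N.subtype)
      ⟨(Subgroup.map_subtype_le _).trans inf_le_right, S.isPGroup'.map _, hS, hYM.trans hMS'⟩ hMS') hMS'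
  obtain ⟨T, hT⟩ := (hMp.comap_of_injective L.subtype L.subtype_injective).exists_le_sylow
  set T' := (T : Subgroup L).map L.subtype with hT'
  have hMT : M ≤ T' := by
    have h6 := Subgroup.map_mono (f := L.subtype) hT
    exact le_trans (le_of_eq (Subgroup.map_subgroupOf_eq_of_le hML).symm) h6
  have hMT' : M = T' := by
    by_contra hne
    have hgrow := normalizer_grows (G := G) (T.isPGroup'.map L.subtype) (lt_of_le_of_ne hMT hne)
    set R := Subgroup.normalizer (M : Set G) ⊓ T' with hR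
    have hRN : R ≤ N := inf_le_inf le_rfl (Subgroup.map_subtype_le _)
    obtain ⟨T₂, hT₂⟩ := (((T.isPGroup'.map L.subtype).to_le (inf_le_right : R ≤ T')).comap_of_injective
      N.subtype N.subtype_injective).exists_le_sylow
    have h7 : Nat.card R ≤ Nat.card M := by
      rw [← Nat.card_congr (Subgroup.subgroupOfEquivOfLe hRN).toEquiv, ← heq,
        Subgroup.card_map_of_injective N.subtype_injective, S.card_eq_multiplicity,
        ← T₂.card_eq_multiplicity]
      exact Subgroup.card_le_of_le hT₂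
    omega
  refine ⟨T, ?_, ?_⟩
  · rw [← hT', ← hMT']; exact hMn
  · rw [← hT', ← hMT']; exact hYM

theorem invSylowConj : InvSylowConj G := by
  intro A L q hq hAL hcop hs Y₁ Y₂ hY₁ hY₁p hY₁n hY₂ hY₂p hY₂n
  have := Fact.mk hq
  obtain ⟨S₁, hS₁n, hS₁⟩ := invariant_sylow_ge hAL hcop hs hY₁ hY₁p hY₁n
  obtain ⟨S₂, hS₂n, hS₂⟩ := invariant_sylow_ge hAL hcop hs hY₂ hY₂p hY₂n
  obtain ⟨S, -, hS⟩ := exists_invariant_sylow (q := q) hAL hcop hs
  obtain ⟨c₁, hc₁, e₁⟩ := hS S₁ hS₁n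
  obtain ⟨c₂, hc₂, e₂⟩ := hS S₂ hS₂n
  refine ⟨c₂⁻¹ * c₁, mul_mem (inv_mem hc₂) hc₁, (S₂ : Subgroup L).map L.subtype,
    Subgroup.map_subtype_le _, S₂.isPGroup'.map _, hS₂n, ?_, hS₂⟩
  refine (cj_mono hS₁).trans (le_of_eq ?_)
  rw [← cj_mul, ← e₁, e₂, cj_mul, inv_mul_cancel, cj_one]

end CfsgLib.OddOrder.Transitivity
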