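import Mathlib
import Cfsg.Prelude.Def_OddOrderLocal
import Cfsg.Agent.Lib.OddOrder.PiCore
import Cfsg.Agent.Lib.OddOrder.Rank

/-!
# Fixed points of noncyclic elementary abelian groups acting coprimely
-/

set_option autoImplicit false

namespace CfsgLib.OddOrder

open Subgroup

variable {G : Type*} [Group G]

theorem pow_zmod_add {p : ℕ} [Fact p.Prime] {x : G} (hx : x ^ p = 1) (a b : ZMod p) :
    x ^ (a + b).val = x ^ a.val * x ^ b.val := by
  rw [← pow_add, ZMod.val_add]
  exact (pow_eq_pow_mod _ hx).symm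

theorem pow_zmod_mul {p : ℕ} [Fact p.Prime] {x : G} (hx : x ^ p = 1) (a b : ZMod p) :
    x ^ (a * b).val = (x ^ b.val) ^ a.val := by
  rw [← pow_mul, ZMod.val_mul, mul_comm b.val]
  exact (pow_eq_pow_mod _ hx).symm

/-- A product over `ZMod p × ZMod p` of lines through the origin. -/
theorem pow_eq_one_of_line_prods {p : ℕ} [Fact p.Prime] {M : Type*} [CommGroup M]
    (f : ZMod p → ZMod p → M) (hline : ∀ j, ∏ i, f i (i * j) = 1) (h0 : ∏ j, f 0 j = 1)
    (hall : ∏ i, ∏ j, f i j = 1) : f 0 0 ^ p = 1 := by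
  classical
  have h1 : ∏ i, ∏ j, f i (i * j) = 1 := by
    rw [Finset.prod_comm]
    exact Finset.prod_eq_one (fun j _ => hline j)
  have h2 : ∀ i : ZMod p, i ≠ 0 → ∏ j, f i (i * j) = ∏ j, f i j := fun i hi =>
    Fintype.prod_equiv (Equiv.mulLeft₀ i hi) _ _ (fun j => rfl)
  rw [Fintype.prod_eq_mul_prod_compl (0 : ZMod p)] at h1 hall
  rw [h0, one_mul] at hall
  have h3 : ∏ i ∈ ({0} : Finset (ZMod p))ᶜ, ∏ j, f i (i * j) = 1 := by
    rw [← hall]
    exact Finset.prod_congr rfl (fun i hi => h2 i (by simpa using hi))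
  rw [h3, mul_one] at h1
  simpa using h1

/-- If `E` is elementary abelian of order `p ^ 2` normalizing a nontrivial `q`-group `Q`, `q ≠ p`,
then some non-identity element of `E` centralizes a non-identity element of `Q`. -/
theorem exists_fixed_of_card_sq [Finite G] {p q : ℕ} [Fact p.Prime] [Fact q.Prime] (hqp : q ≠ p)
    {E Q : Subgroup G} (hE : Cfsg.IsElementaryAbelian p E) (hcard : Nat.card E = p ^ 2)
    (hn : E ≤ Subgroup.normalizer (Q : Set G)) (hQ : IsPGroup q Q) (hne : Q ≠ ⊥) :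
    ∃ g ∈ E, g ≠ 1 ∧ Q ⊓ Subgroup.centralizer ({g} : Set G) ≠ ⊥ := by
  classical
  by_contra hcon
  push Not at hcon
  have hp : p.Prime := Fact.out
  obtain ⟨a, ha, ha1⟩ : ∃ a ∈ E, a ≠ 1 := by
    refine (Subgroup.bot_or_exists_ne_one E).resolve_left (fun h => ?_)
    rw [h, Subgroup.card_bot] at hcard
    exact absurd hcard (ne_of_lt (Nat.one_lt_pow two_ne_zero hp.one_lt))
  have hap : orderOf a = p := orderOf_eq_prime (hE.2 a ha) ha1
  obtain ⟨b, hb, hba⟩ : ∃ b ∈ E, b ∉ Subgroup.zpowers a := by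
    refine SetLike.not_le_iff_exists.mp (fun h => ?_)
    have h2 := Subgroup.card_le_of_le h
    rw [hcard, Nat.card_zpowers, hap] at h2
    exact absurd h2 (not_le.mpr (lt_self_pow₀ hp.one_lt one_lt_two))
  have hb1 : b ≠ 1 := fun h => hba (h ▸ Subgroup.one_mem _)
  have hab : ∀ i j : ZMod p, a ^ i.val * b ^ j.val = 1 → j = 0 := by
    intro i j h
    by_contra hj
    refine hba ?_
    have h2 : b ^ j.val ∈ Subgroup.zpowers a := by
      rw [← inv_eq_of_mul_eq_one_right h]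
      exact Subgroup.inv_mem _ (Subgroup.npow_mem_zpowers a _)
    have h3 : b = (b ^ j.val) ^ (j⁻¹).val := by
      rw [← pow_zmod_mul (hE.2 b hb), inv_mul_cancel₀ hj, ZMod.val_one, pow_one]
    rw [h3]
    exact Subgroup.pow_mem _ h2 _
  have hcomm : ∀ x ∈ E, ∀ y ∈ E, x * y = y * x := fun x hx y hy => elemAb_commute hE hx hy
  set Z := (Subgroup.center Q).map Q.subtype with hZ
  have hZQ : Z ≤ Q := Subgroup.map_subtype_le _
  have hZc : ∀ x ∈ Z, ∀ y ∈ Q, x * y = y * x := by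
    rintro _ ⟨x, hx, rfl⟩ y hy
    exact congrArg Subtype.val (Subgroup.mem_center_iff.mp hx ⟨y, hy⟩).symm
  have hconjZ : ∀ g ∈ E, ∀ x ∈ Z, g * x * g⁻¹ ∈ Z := by
    intro g hg x hx
    have hgx : g * x * g⁻¹ ∈ Q := (Subgroup.mem_normalizer_iff.mp (hn hg) x).mp (hZQ hx)
    refine ⟨⟨_, hgx⟩, ?_, rfl⟩
    simp only [SetLike.mem_coe, Subgroup.mem_center_iff]
    intro y
    refine Subtype.ext ?_
    change (y : G) * (g * x * g⁻¹) = g * x * g⁻¹ * (y : G)
    have hy : g⁻¹ * (y : G) * g ∈ Q := (Subgroup.mem_normalizer_iff''.mp (hn hg) _).mp y.2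
    calc (y : G) * (g * x * g⁻¹) = g * ((g⁻¹ * (y : G) * g) * x) * g⁻¹ := by group
      _ = g * (x * (g⁻¹ * (y : G) * g)) * g⁻¹ := by rw [hZc x hx _ hy]
      _ = g * x * g⁻¹ * (y : G) := by group
  let _ : CommGroup Z :=
    { (inferInstance : Group Z) with
      mul_comm := fun x y => Subtype.ext (hZc x x.2 y (hZQ y.2)) }
  obtain ⟨v, hv⟩ : ∃ v : Z, v ≠ 1 := by
    have := hQ.isNilpotent
    have : Nontrivial Q := Q.nontrivial_iff_ne_bot.mpr hne
    obtain ⟨x, hx, hx1⟩ := (Subgroup.bot_or_exists_ne_one (Subgroup.center Q)).resolve_left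
      (Group.IsNilpotent.center_ne_bot Q)
    exact ⟨⟨x, x, hx, rfl⟩, fun h => hx1 (Subtype.ext (by simpa using congrArg Subtype.val h))⟩
  let φ : E → Z →* Z := fun g =>
    { toFun := fun x => ⟨(g : G) * x * (g : G)⁻¹, hconjZ g g.2 x x.2⟩
      map_one' := Subtype.ext (by simp)
      map_mul' := fun x y => Subtype.ext (by simp) }
  have hfix : ∀ (g : E) (w : Z), (g : G) ≠ 1 → φ g w = w → w = 1 := by
    intro g w hg hw
    have hw' : (g : G) * w * (g : G)⁻¹ = w := congrArg Subtype.val hw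
    have hmem : (w : G) ∈ Q ⊓ Subgroup.centralizer ({(g : G)} : Set G) := by
      refine ⟨hZQ w.2, Subgroup.mem_centralizer_singleton_iff.mpr ?_⟩
      calc (w : G) * g = (g : G) * w * (g : G)⁻¹ * g := by rw [hw']
        _ = g * w := by group
    rw [hcon g g.2 hg] at hmem
    exact Subtype.ext hmem
  let e : ZMod p → ZMod p → E := fun i j =>
    ⟨a ^ i.val * b ^ j.val, mul_mem (pow_mem ha _) (pow_mem hb _)⟩
  have he : ∀ i j k l, ∀ w : Z, φ (e i j) (φ (e k l) w) = φ (e (i + k) (j + l)) w := by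
    intro i j k l w
    have h4 : a ^ i.val * b ^ j.val * (a ^ k.val * b ^ l.val) =
        a ^ (i + k).val * b ^ (j + l).val := by
      rw [pow_zmod_add (hE.2 a ha), pow_zmod_add (hE.2 b hb)]
      rw [mul_assoc, ← mul_assoc (b ^ j.val), hcomm _ (pow_mem hb _) _ (pow_mem ha _)]
      simp only [mul_assoc]
    refine Subtype.ext ?_
    change a ^ i.val * b ^ j.val * (a ^ k.val * b ^ l.val * w * (a ^ k.val * b ^ l.val)⁻¹) *
      (a ^ i.val * b ^ j.val)⁻¹ = a ^ (i + k).val * b ^ (j + l).val * w *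
      (a ^ (i + k).val * b ^ (j + l).val)⁻¹
    rw [← h4]
    group
  let f : ZMod p → ZMod p → Z := fun i j => φ (e i j) v
  have hline : ∀ j, ∏ i, f i (i * j) = 1 := by
    intro j
    refine hfix (e 1 j) _ (fun h => ?_) ?_
    · have h' : a ^ (1 : ZMod p).val * b ^ j.val = 1 := h
      have hj := hab _ _ h'
      rw [hj, ZMod.val_zero, pow_zero, mul_one, ZMod.val_one, pow_one] at h'
      exact ha1 h'
    · rw [map_prod]
      refine Fintype.prod_equiv (Equiv.addLeft 1) _ _ (fun i => ?_)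
      change φ (e 1 j) (φ (e i (i * j)) v) = φ (e (1 + i) ((1 + i) * j)) v
      rw [he, add_mul, one_mul]
  have h0 : ∏ j, f 0 j = 1 := by
    refine hfix (e 0 1) _ (fun h => ?_) ?_
    · exact one_ne_zero (hab 0 1 h)
    · rw [map_prod]
      refine Fintype.prod_equiv (Equiv.addLeft 1) _ _ (fun j => ?_)
      change φ (e 0 1) (φ (e 0 j) v) = φ (e 0 (1 + j)) v
      rw [he, add_zero]
  have hall : ∏ i, ∏ j, f i j = 1 := by
    refine hfix (e 0 1) _ (fun h => ?_) ?_
    · exact one_ne_zero (hab 0 1 h)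
    · rw [map_prod]
      refine Finset.prod_congr rfl (fun i _ => ?_)
      rw [map_prod]
      refine Fintype.prod_equiv (Equiv.addLeft 1) _ _ (fun j => ?_)
      change φ (e 0 1) (φ (e i j) v) = φ (e i (1 + j)) v
      rw [he, zero_add]
  have hf0 : f 0 0 = v := Subtype.ext (by simp [f, φ, e])
  have hvp : v ^ p = 1 := hf0 ▸ pow_eq_one_of_line_prods f hline h0 hall
  refine hv ?_
  have hZq : IsPGroup q Z := hQ.to_le hZQ
  obtain ⟨n, hn'⟩ := hZq v
  exact orderOf_eq_one_iff.mp (Nat.eq_one_of_dvd_coprimes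
    (Nat.Coprime.pow_left n ((Nat.coprime_primes Fact.out hp).mpr hqp))
    (orderOf_dvd_of_pow_eq_one hn') (orderOf_dvd_of_pow_eq_one hvp))

theorem card_sup_zpowers_of_not_mem [Finite G] {p : ℕ} [Fact p.Prime] {E A : Subgroup G}
    (hE : Cfsg.IsElementaryAbelian p E) (hA : A ≤ E) {x : G} (hx : x ∈ E) (hxA : x ∉ A) :
    Nat.card ↥(A ⊔ Subgroup.zpowers x) = Nat.card A * p := by
  have hx1 : x ≠ 1 := fun h => hxA (h ▸ Subgroup.one_mem _)
  have ho : orderOf x = p := orderOf_eq_prime (hE.2 x hx) hx1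
  have hn : ((Subgroup.zpowers x).subgroupOf E).Normal := by
    have := hE.1
    exact Subgroup.normal_of_isMulCommutative _
  have hle : Subgroup.zpowers x ≤ E := Subgroup.zpowers_le.mpr hx
  have h1 := card_sup_of_normal (A.subgroupOf E) ((Subgroup.zpowers x).subgroupOf E)
  rw [← Subgroup.subgroupOf_sup hA hle, Nat.card_congr (Subgroup.subgroupOfEquivOfLe hle).toEquiv,
    Nat.card_congr (Subgroup.subgroupOfEquivOfLe (sup_le hA hle)).toEquiv, Nat.card_zpowers, ho] at h1
  rw [h1]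
  congr 1
  have h2 : (Subgroup.zpowers x).subgroupOf E ⊓ A.subgroupOf E = ⊥ := by
    rw [Subgroup.subgroupOf, Subgroup.subgroupOf, ← Subgroup.comap_inf]
    have h3 : Subgroup.zpowers x ⊓ A = ⊥ := by
      have hd := Subgroup.card_dvd_of_le (inf_le_left : Subgroup.zpowers x ⊓ A ≤ Subgroup.zpowers x)
      rw [Nat.card_zpowers, ho] at hd
      rcases (Nat.dvd_prime Fact.out).mp hd with h | h
      · exact Subgroup.card_eq_one.mp h
      · refine absurd ?_ hxA
        have h4 : Subgroup.zpowers x ⊓ A = Subgroup.zpowers x :=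
          Subgroup.eq_of_le_of_card_ge inf_le_left (by rw [Nat.card_zpowers, ho, h])
        exact (h4.ge (Subgroup.mem_zpowers x)).2
    rw [h3, MonoidHom.comap_bot, Subgroup.ker_subtype]
  rw [← Subgroup.inf_relIndex_right, h2, Subgroup.relIndex_bot_left,
    Nat.card_congr (Subgroup.subgroupOfEquivOfLe hA).toEquiv]

/-- An elementary abelian group of order `p ^ 3` normalizing a nontrivial `q`-group has a subgroup
of order `p ^ 2` centralizing a non-identity element of it. -/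
theorem exists_sq_fixed_of_card_cube [Finite G] {p q : ℕ} [Fact p.Prime] [Fact q.Prime]
    (hqp : q ≠ p) {E Q : Subgroup G} (hE : Cfsg.IsElementaryAbelian p E)
    (hcard : Nat.card E = p ^ 3) (hn : E ≤ Subgroup.normalizer (Q : Set G)) (hQ : IsPGroup q Q)
    (hne : Q ≠ ⊥) :
    ∃ B : Subgroup G, B ≤ E ∧ Nat.card B = p ^ 2 ∧ Q ⊓ Subgroup.centralizer (B : Set G) ≠ ⊥ := by
  have hp : p.Prime := Fact.out
  obtain ⟨E₂, hE₂, hc₂⟩ : ∃ E₂ : Subgroup G, E₂ ≤ E ∧ Nat.card E₂ = p ^ 2 := by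
    obtain ⟨K, hK⟩ := Sylow.exists_subgroup_card_pow_prime p
      (show p ^ 2 ∣ Nat.card E from hcard ▸ pow_dvd_pow p (by norm_num))
    exact ⟨K.map E.subtype, Subgroup.map_subtype_le K,
      by rw [Subgroup.card_map_of_injective E.subtype_injective, hK]⟩
  obtain ⟨g, hg, hg1, hfix⟩ := exists_fixed_of_card_sq hqp (elemAb_mono hE hE₂) hc₂
    (hE₂.trans hn) hQ hne
  have hgE : g ∈ E := hE₂ hg
  have hgle : Subgroup.zpowers g ≤ E := Subgroup.zpowers_le.mpr hgE
  have hgc : Nat.card (Subgroup.zpowers g) = p := by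
    rw [Nat.card_zpowers]
    exact orderOf_eq_prime (hE.2 g hgE) hg1
  have hnot : ∀ {A : Subgroup G}, Nat.card A < p ^ 3 → ∃ x ∈ E, x ∉ A := by
    intro A hA
    refine SetLike.not_le_iff_exists.mp (fun h => ?_)
    have := Subgroup.card_le_of_le h
    omega
  obtain ⟨d, hd, hdg⟩ := hnot (A := Subgroup.zpowers g)
    (by rw [hgc]; exact lt_self_pow₀ hp.one_lt (by norm_num))
  have hF := card_sup_zpowers_of_not_mem hE hgle hd hdg
  rw [hgc, ← pow_two] at hF
  obtain ⟨e, he, heF⟩ := hnot (A := Subgroup.zpowers g ⊔ Subgroup.zpowers d)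
    (by rw [hF]; exact Nat.pow_lt_pow_right hp.one_lt (by norm_num))
  have hdle : Subgroup.zpowers d ≤ E := Subgroup.zpowers_le.mpr hd
  have hed : e ∉ Subgroup.zpowers d := fun h => heF (le_sup_right (a := Subgroup.zpowers g) h)
  have hd1 : d ≠ 1 := fun h => hdg (h ▸ Subgroup.one_mem _)
  have hE' := card_sup_zpowers_of_not_mem hE hdle he hed
  rw [Nat.card_zpowers, orderOf_eq_prime (hE.2 d hd) hd1, ← pow_two] at hE'
  set E' := Subgroup.zpowers d ⊔ Subgroup.zpowers e with hE'def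
  have hE'le : E' ≤ E := sup_le hdle (Subgroup.zpowers_le.mpr he)
  have hgE' : g ∉ E' := by
    intro h
    have h2 : Subgroup.zpowers g ⊔ Subgroup.zpowers d = E' :=
      Subgroup.eq_of_le_of_card_ge (sup_le (Subgroup.zpowers_le.mpr h) le_sup_left) (by rw [hE', hF])
    exact heF (h2 ▸ (le_sup_right (a := Subgroup.zpowers d) (Subgroup.mem_zpowers e)))
  set Q₁ := Q ⊓ Subgroup.centralizer ({g} : Set G) with hQ₁
  have hE'n : E' ≤ Subgroup.normalizer (Q₁ : Set G) := by
    refine le_trans (le_inf (hE'le.trans hn) ?_) Subgroup.inf_normalizer_le_normalizer_inf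
    refine le_trans (fun x hx => ?_) Subgroup.le_normalizer
    exact Subgroup.mem_centralizer_singleton_iff.mpr (elemAb_commute hE (hE'le hx) hgE)
  obtain ⟨h, hh, hh1, hfix2⟩ := exists_fixed_of_card_sq hqp (elemAb_mono hE hE'le) hE' hE'n
    (hQ.to_le inf_le_left) hfix
  have hhg : h ∉ Subgroup.zpowers g := by
    intro h'
    apply hgE'
    have h5 : Subgroup.zpowers h = Subgroup.zpowers g := by
      refine Subgroup.eq_of_le_of_card_ge (Subgroup.zpowers_le.mpr h') ?_
      rw [hgc, Nat.card_zpowers, orderOf_eq_prime (hE.2 h (hE'le hh)) hh1]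
    have h6 : Subgroup.zpowers h ≤ E' := Subgroup.zpowers_le.mpr hh
    exact h6 (h5 ▸ Subgroup.mem_zpowers g)
  refine ⟨Subgroup.zpowers g ⊔ Subgroup.zpowers h, sup_le hgle (Subgroup.zpowers_le.mpr (hE'le hh)), ?_, ?_⟩
  · rw [card_sup_zpowers_of_not_mem hE hgle (hE'le hh) hhg, hgc, pow_two]
  · refine fun hb => hfix2 (eq_bot_iff.mpr ?_)
    rw [← hb]
    refine fun y hy => ⟨hy.1.1, ?_⟩
    have hyh := Subgroup.mem_centralizer_singleton_iff.mp hy.2
    have hyg := Subgroup.mem_centralizer_singleton_iff.mp hy.1.2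
    refine Subgroup.le_centralizer_iff.mp (sup_le ?_ ?_) (Subgroup.mem_zpowers y)
    · rw [Subgroup.zpowers_le, Subgroup.mem_centralizer_iff]
      rintro _ ⟨k, rfl⟩
      exact (Commute.zpow_left (hyg : Commute y g) k).eq
    · rw [Subgroup.zpowers_le, Subgroup.mem_centralizer_iff]
      rintro _ ⟨k, rfl⟩
      exact (Commute.zpow_left (hyh : Commute y h) k).eq

end CfsgLib.OddOrder
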