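import Mathlib
import Cfsg.Agent.Lib.OddOrder.Rank
import Cfsg.Agent.Lib.OddOrder.MinSimple
import Cfsg.Agent.Lib.OddOrder.Transitivity
import Cfsg.Agent.Lib.OddOrder.CoprimeGlauberman
import Cfsg.Agent.Lib.OddOrder.NoncyclicAction
import Cfsg.Agent.Lib.OddOrder41.FixOmega
import Cfsg.Agent.Lib.OddOrder41.NormalElementary
import Cfsg.Agent.Lib.PCore.Basic
import Cfsg.Agent.Lib.PCore.PSolvable
import Cfsg.Agent.Lib.Coprime.Commutator
import Cfsg.Agent.Lib.Tech46.CoprimeGen
import Cfsg.Agent.Lib.PGroup.Frattini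

/-!
# BG 7.6: criteria for the transitivity hypothesis

`QuadStable` is the `p`-stability of solvable groups of odd order in the form used here; it is a
parameter of the main results.
-/

set_option autoImplicit false

namespace CfsgLib.OddOrder.Criteria

open Subgroup CfsgLib.OddOrder
open scoped commutatorElement

universe u

/-- `p`-stability of solvable groups of odd order, for normal `p`-subgroups. -/
def QuadStable (p : ℕ) : Prop :=
  ∀ (H : Type u) [Group H] [Finite H] [Group.IsSolvable H], Odd (Nat.card H) →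
    ∀ (D A : Subgroup H) [D.Normal], IsPGroup p D → IsPGroup p A → ⁅⁅D, A⁆, A⁆ = ⊥ →
      A.map (QuotientGroup.mk' (Subgroup.centralizer (D : Set H))) ≤
        Cfsg.pCore p (H ⧸ Subgroup.centralizer (D : Set H))

variable {H : Type u} [Group H] [Finite H] {p : ℕ} [Fact p.Prime]

omit [Finite H] [Fact p.Prime] in
theorem coprime_map {H' : Type*} [Group H'] (f : H →* H') {Y : Subgroup H}
    (hY : (Nat.card Y).Coprime p) : (Nat.card (Y.map f)).Coprime p :=
  hY.coprime_dvd_left (Subgroup.card_map_dvd Y f)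

omit [Finite H] [Fact p.Prime] in
theorem eq_one_of_pgroup_of_coprime {P Y : Subgroup H} (hP : IsPGroup p P)
    (hY : (Nat.card Y).Coprime p) {x : H} (h1 : x ∈ P) (h2 : x ∈ Y) : x = 1 := by
  obtain ⟨n, hn⟩ := hP ⟨x, h1⟩
  have h3 : orderOf x ∣ p ^ n := orderOf_dvd_of_pow_eq_one (congrArg Subtype.val hn)
  exact orderOf_eq_one_iff.mp
    (Nat.eq_one_of_dvd_coprimes (hY.pow_right n).symm h3 (Subgroup.orderOf_dvd_natCard Y h2))

omit [Finite H] in
theorem card_coprime_card {P Y : Subgroup H} (hP : IsPGroup p P) (hY : (Nat.card Y).Coprime p)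
    [Finite P] : (Nat.card Y).Coprime (Nat.card P) := by
  obtain ⟨n, hn⟩ := hP.exists_card_eq
  rw [hn]
  exact hY.pow_right n

/-- The core computation: `A`-invariant `p'`-subgroups are trivial when `O_{p'}(H) = 1`. -/
theorem inv_eq_bot_of_scn (hst : QuadStable.{u} p) [Group.IsSolvable H] (hodd : Odd (Nat.card H))
    (h0 : Cfsg.pPrimeCore p H = ⊥) (T : Sylow p H) {A W Y : Subgroup H} (hAW : A ≤ W)
    (hWT : W ≤ (T : Subgroup H)) (hWn : (T : Subgroup H) ≤ Subgroup.normalizer (W : Set H))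
    (hAn : W ≤ Subgroup.normalizer (A : Set H))
    (hCA : (T : Subgroup H) ⊓ Subgroup.centralizer (A : Set H) ≤ A)
    (hY : (Nat.card Y).Coprime p) (hYn : A ≤ Subgroup.normalizer (Y : Set H)) : Y = ⊥ := by
  set R := Cfsg.pCore p H with hR
  have hRT : R ≤ (T : Subgroup H) := PCore.pCore_le_sylow T
  have hRp : IsPGroup p R := PCore.pCore_isPGroup
  have hRn : R.Normal := inferInstance
  have hCR : Subgroup.centralizer (R : Set H) ≤ R :=
    PCore.centralizer_pCore_le PCore.isPSolvable_of_isSolvable h0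
  have hAT : A ≤ (T : Subgroup H) := hAW.trans hWT
  have hRA : ∀ a ∈ R ⊓ A, ∀ y ∈ Y, a * y = y * a := by
    intro a ha y hy
    have h1 : a * y * a⁻¹ * y⁻¹ ∈ Y :=
      mul_mem ((Subgroup.mem_normalizer_iff.mp (hYn ha.2) y).mp hy) (Y.inv_mem hy)
    have h2 : a * y * a⁻¹ * y⁻¹ ∈ R := by
      have h3 := mul_mem ha.1 (hRn.conj_mem _ (R.inv_mem ha.1) y)
      simpa [mul_assoc] using h3
    have h4 := eq_one_of_pgroup_of_coprime hRp hY h2 h1
    calc a * y = (a * y * a⁻¹ * y⁻¹) * y * a := by group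
      _ = y * a := by rw [h4, one_mul]
  have hcRW : ∀ r ∈ R, ∀ a ∈ A, ⁅r, a⁆ ∈ R ⊓ W := by
    intro r hr a ha
    rw [commutatorElement_def]
    refine ⟨?_, ?_⟩
    · have h3 := mul_mem hr (hRn.conj_mem _ (R.inv_mem hr) a)
      simpa [mul_assoc] using h3
    · exact mul_mem ((Subgroup.mem_normalizer_iff.mp (hWn (hRT hr)) a).mp (hAW ha))
        (W.inv_mem (hAW ha))
  have hcRA : ∀ r ∈ R ⊓ W, ∀ a ∈ A, ⁅r, a⁆ ∈ R ⊓ A := by
    intro r hr a ha
    refine ⟨(hcRW r hr.1 a ha).1, ?_⟩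
    rw [commutatorElement_def]
    exact mul_mem ((Subgroup.mem_normalizer_iff.mp (hAn hr.2) a).mp ha) (A.inv_mem ha)
  -- stage 1 : `Y` centralizes `A`
  have hstage : Y ≤ Subgroup.centralizer (A : Set H) := by
    intro y hy
    rw [Subgroup.mem_centralizer_iff]
    intro a ha
    have hc : ⁅a, y⁆ ∈ Y := by
      rw [commutatorElement_def]
      exact mul_mem ((Subgroup.mem_normalizer_iff.mp (hYn ha) y).mp hy) (Y.inv_mem hy)
    suffices h : ⁅a, y⁆ ∈ Subgroup.centralizer (R : Set H) by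
      have h4 := eq_one_of_pgroup_of_coprime hRp hY (hCR h) hc
      exact commutatorElement_eq_one_iff_mul_comm.mp h4
    set Φ : Subgroup H := (frattini R).map R.subtype with hΦ
    have hΦn : Φ.Normal := inferInstance
    set f := QuotientGroup.mk' Φ with hf
    set Rb := R.map f with hRb
    set Yb := Y.map f with hYb
    set Ab := A.map f with hAb
    have hRbn : Rb.Normal := hRn.map f (QuotientGroup.mk'_surjective Φ)
    have hRbc : IsMulCommutative Rb := by
      refine ⟨⟨?_⟩⟩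
      rintro ⟨_, r, hr, rfl⟩ ⟨_, r', hr', rfl⟩
      refine Subtype.ext ?_
      change f r * f r' = f r' * f r
      rw [← commutatorElement_eq_one_iff_mul_comm, ← map_commutatorElement]
      refine (QuotientGroup.eq_one_iff _).mpr ?_
      exact ⟨⁅(⟨r, hr⟩ : R), ⟨r', hr'⟩⁆, PGroup.commutator_le_frattini hRp
        (Subgroup.commutator_mem_commutator (Subgroup.mem_top _) (Subgroup.mem_top _)), rfl⟩
    have hYR : Yb ≤ Subgroup.normalizer (Rb : Set (H ⧸ Φ)) := by
      rw [Subgroup.normalizer_eq_top_iff.mpr hRbn]; exact le_top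
    have hcopb : (Nat.card Yb).Coprime (Nat.card Rb) :=
      card_coprime_card (hRp.map f) (coprime_map f hY)
    have hsolb : Group.IsSolvable Yb ∨ Group.IsSolvable Rb := Or.inr inferInstance
    set D := ⁅Rb, Yb⁆ with hD
    set N := Subgroup.normalizer (D : Set (H ⧸ Φ)) with hN
    have hDR : D ≤ Rb := Coprime.commutator_le_of_normalizes hYR
    have hYN : Yb ≤ N := Coprime.le_normalizer_commutator_right Rb Yb
    have hAN : Ab ≤ N := by
      rintro _ ⟨a', ha', rfl⟩
      refine Transitivity.mem_normalizer_of_cj_eq ?_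
      rw [hD, Transitivity.cj, Subgroup.map_commutator]
      have hnR : Rb.map (MulAut.conj (f a')).toMonoidHom = Rb :=
        Transitivity.cj_eq_of_mem_normalizer (by rw [Subgroup.normalizer_eq_top_iff.mpr hRbn]; trivial)
      have hnY : Yb.map (MulAut.conj (f a')).toMonoidHom = Yb :=
        Transitivity.cj_eq_of_mem_normalizer (Subgroup.le_normalizer_map f ⟨a', hYn ha', rfl⟩)
      rw [hnR, hnY]
    have hDA : ⁅D, Ab⁆ ≤ D ⊓ (R ⊓ W).map f := by
      rw [Subgroup.commutator_le]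
      rintro d hd _ ⟨a', ha', rfl⟩
      refine ⟨?_, ?_⟩
      · rw [commutatorElement_def, mul_assoc d, mul_assoc d]
        exact mul_mem hd ((Subgroup.mem_normalizer_iff.mp (hAN ⟨a', ha', rfl⟩) d⁻¹).mp (D.inv_mem hd))
      · obtain ⟨r, hr, rfl⟩ := hDR hd
        rw [← map_commutatorElement]
        exact ⟨_, hcRW r hr a' ha', rfl⟩
    have hquad : ⁅⁅D, Ab⁆, Ab⁆ = ⊥ := by
      rw [eq_bot_iff, Subgroup.commutator_le]
      rintro d hd _ ⟨a', ha', rfl⟩
      obtain ⟨hd1, r, hr, rfl⟩ := hDA hd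
      have h2 : ⁅f r, f a'⁆ ∈ D := by
        rw [commutatorElement_def, mul_assoc (f r), mul_assoc (f r)]
        exact mul_mem hd1
          ((Subgroup.mem_normalizer_iff.mp (hAN ⟨a', ha', rfl⟩) (f r)⁻¹).mp (D.inv_mem hd1))
      have h3 : ⁅f r, f a'⁆ ∈ Subgroup.centralizer (Yb : Set (H ⧸ Φ)) := by
        rw [← map_commutatorElement, Subgroup.mem_centralizer_iff]
        rintro _ ⟨z, hz, rfl⟩
        rw [← map_mul, ← map_mul, hRA _ (hcRA r hr a' ha') z hz]
      have h4 : ⁅f r, f a'⁆ ∈ ⁅Rb, Yb⁆ ⊓ Subgroup.centralizer (Yb : Set (H ⧸ Φ)) := ⟨h2, h3⟩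
      rwa [Coprime.commutator_inf_centralizer_eq_bot Yb Rb hYR hcopb] at h4
    -- apply stability inside `N`
    have hDN : D ≤ N := Subgroup.le_normalizer
    have : (D.subgroupOf N).Normal := Subgroup.normal_subgroupOf_of_le_normalizer le_rfl
    have hoddN : Odd (Nat.card N) :=
      Odd.of_dvd_nat hodd ((Subgroup.card_subgroup_dvd_card N).trans (Subgroup.card_quotient_dvd_card Φ))
    have hDp : IsPGroup p (D.subgroupOf N) :=
      ((hRp.map f).to_le hDR).comap_of_injective N.subtype N.subtype_injective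
    have hAp : IsPGroup p (Ab.subgroupOf N) :=
      ((T.isPGroup'.to_le hAT).map f).comap_of_injective N.subtype N.subtype_injective
    have hq' : ⁅⁅D.subgroupOf N, Ab.subgroupOf N⁆, Ab.subgroupOf N⁆ = ⊥ := by
      apply Subgroup.map_injective N.subtype_injective
      rw [Subgroup.map_commutator, Subgroup.map_commutator, Subgroup.map_subgroupOf_eq_of_le hDN,
        Subgroup.map_subgroupOf_eq_of_le hAN, hquad, Subgroup.map_bot]
    have hst' := hst N hoddN (D.subgroupOf N) (Ab.subgroupOf N) hDp hAp hq'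
    set C' := Subgroup.centralizer ((D.subgroupOf N : Subgroup N) : Set N) with hC'
    let a₁ : N := ⟨f a, hAN ⟨a, ha, rfl⟩⟩
    let y₁ : N := ⟨f y, hYN ⟨y, hy, rfl⟩⟩
    have hcN : ⁅a₁, y₁⁆ ∈ Yb.subgroupOf N := by
      change ⁅f a, f y⁆ ∈ Yb
      rw [← map_commutatorElement]
      exact ⟨_, hc, rfl⟩
    have hcC : ⁅a₁, y₁⁆ ∈ C' := by
      rw [← QuotientGroup.eq_one_iff]
      refine eq_one_of_pgroup_of_coprime (Y := (Yb.subgroupOf N).map (QuotientGroup.mk' C'))
        (PCore.pCore_isPGroup (p := p) (G := N ⧸ C')) ?_ ?_ ⟨_, hcN, rfl⟩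
      · refine coprime_map _ ?_
        exact (coprime_map f hY).coprime_dvd_left
          (Subgroup.card_comap_dvd_of_injective Yb N.subtype N.subtype_injective)
      · have h5 : QuotientGroup.mk' C' a₁ ∈ Cfsg.pCore p (N ⧸ C') :=
          hst' ⟨a₁, ⟨a, ha, rfl⟩, rfl⟩
        have hn5 : (Cfsg.pCore p (N ⧸ C')).Normal := inferInstance
        have h6 := mul_mem h5 (hn5.conj_mem _ (inv_mem h5) (QuotientGroup.mk' C' y₁))
        change QuotientGroup.mk' C' ⁅a₁, y₁⁆ ∈ _
        rw [map_commutatorElement, commutatorElement_def]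
        simpa [mul_assoc] using h6
    have hcR : Rb ≤ Subgroup.centralizer ({f ⁅a, y⁆} : Set (H ⧸ Φ)) := by
      rw [← Coprime.commutator_sup_centralizer Yb Rb hYR hcopb hsolb]
      refine sup_le (fun d hd => Subgroup.mem_centralizer_singleton_iff.mpr ?_)
        (inf_le_right.trans (Subgroup.centralizer_le (Set.singleton_subset_iff.mpr ⟨_, hc, rfl⟩)))
      have h7 : f ⁅a, y⁆ = ((⁅a₁, y₁⁆ : N) : H ⧸ Φ) := map_commutatorElement f a y
      rw [h7]
      exact congrArg Subtype.val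
        (Subgroup.mem_centralizer_iff.mp hcC (⟨d, hDN hd⟩ : N) hd)
    have hfin : Subgroup.zpowers ⁅a, y⁆ ≤ Subgroup.centralizer (R : Set H) := by
      refine Coprime.le_centralizer_of_trivial_on_frattini _ R
        (by rw [Subgroup.normalizer_eq_top_iff.mpr hRn]; exact le_top) ?_ ?_
      · obtain ⟨n, hn⟩ := (hRp.to_subgroup (frattini R)).exists_card_eq
        rw [hn]
        exact (hY.coprime_dvd_left (Subgroup.card_dvd_of_le (Subgroup.zpowers_le.mpr hc))).pow_right n
      · rintro _ ⟨i, rfl⟩ k hk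
        refine (QuotientGroup.eq_one_iff _).mp ?_
        change f (⁅a, y⁆ ^ i * k * (⁅a, y⁆ ^ i)⁻¹ * k⁻¹) = 1
        have h8 : Commute (f k) (f ⁅a, y⁆) :=
          Subgroup.mem_centralizer_singleton_iff.mp (hcR ⟨k, hk, rfl⟩)
        rw [map_mul, map_mul, map_mul, map_inv, map_inv, map_zpow, ← (h8.zpow_right i).eq]
        group
    exact hfin (Subgroup.mem_zpowers _)
  -- stage 2
  have hYR : Y ≤ Subgroup.centralizer (R : Set H) := by
    refine Coprime.pq_lemma p A Y (T.isPGroup'.to_le hAT) hY (Subgroup.le_centralizer_iff.mp hstage)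
      R hRp ?_ ?_ ?_
    · rw [Subgroup.normalizer_eq_top_iff.mpr hRn]; exact le_top
    · rw [Subgroup.normalizer_eq_top_iff.mpr hRn]; exact le_top
    · intro r hr
      rw [Subgroup.mem_centralizer_iff]
      exact fun y hy => (hRA r ⟨hr.1, hCA ⟨hRT hr.1, hr.2⟩⟩ y hy).symm
  rw [eq_bot_iff]
  exact fun y hy => eq_one_of_pgroup_of_coprime hRp hY (hCR (hYR hy)) hy

omit [Finite H] [Fact p.Prime] in
/-- The quotient map by a normal `p'`-subgroup is injective on `p`-subgroups. -/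
theorem eq_of_map_eq {T K : Subgroup H} [K.Normal] (hT : IsPGroup p T)
    (hK : (Nat.card K).Coprime p) {s t : H} (hs : s ∈ T) (ht : t ∈ T)
    (h : QuotientGroup.mk' K s = QuotientGroup.mk' K t) : s = t := by
  have h1 : s⁻¹ * t ∈ K := QuotientGroup.eq.mp h
  exact inv_mul_eq_one.mp (eq_one_of_pgroup_of_coprime hT hK (mul_mem (inv_mem hs) ht) h1)

omit [Finite H] [Fact p.Prime] in
theorem le_core_of_map_eq_bot {Y : Subgroup H}
    (h : Y.map (QuotientGroup.mk' (Cfsg.pPrimeCore p H)) = ⊥) : Y ≤ Cfsg.pPrimeCore p H := by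
  rw [Subgroup.map_eq_bot_iff, QuotientGroup.ker_mk'] at h
  exact h

theorem inv_le_core_of_scn (hst : QuadStable.{u} p) [Group.IsSolvable H] (hodd : Odd (Nat.card H))
    (T : Sylow p H) {A W Y : Subgroup H} (hAW : A ≤ W)
    (hWT : W ≤ (T : Subgroup H)) (hWn : (T : Subgroup H) ≤ Subgroup.normalizer (W : Set H))
    (hAn : W ≤ Subgroup.normalizer (A : Set H))
    (hCA : (T : Subgroup H) ⊓ Subgroup.centralizer (A : Set H) ≤ A)
    (hY : (Nat.card Y).Coprime p) (hYn : A ≤ Subgroup.normalizer (Y : Set H)) :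
    Y ≤ Cfsg.pPrimeCore p H := by
  set K := Cfsg.pPrimeCore p H with hK
  set f := QuotientGroup.mk' K with hf
  have hsurj : Function.Surjective f := QuotientGroup.mk'_surjective K
  let Tb := T.mapSurjective hsurj
  have hTb : (Tb : Subgroup (H ⧸ K)) = (T : Subgroup H).map f := rfl
  have hodd' : Odd (Nat.card (H ⧸ K)) := Odd.of_dvd_nat hodd (Subgroup.card_quotient_dvd_card K)
  refine le_core_of_map_eq_bot (inv_eq_bot_of_scn hst hodd' PCore.pPrimeCore_quotient_pPrimeCore Tb
    (Subgroup.map_mono hAW) (hTb ▸ Subgroup.map_mono hWT) ?_ ?_ ?_ (coprime_map f hY) ?_)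
  · rw [hTb]
    exact (Subgroup.map_mono hWn).trans (Subgroup.le_normalizer_map f)
  · exact (Subgroup.map_mono hAn).trans (Subgroup.le_normalizer_map f)
  · rw [hTb]
    rintro _ ⟨⟨t, ht, rfl⟩, htc⟩
    refine ⟨t, hCA ⟨ht, Subgroup.mem_centralizer_iff.mpr (fun a ha => ?_)⟩, rfl⟩
    have hTm : ∀ b ∈ A, b ∈ (T : Subgroup H) := fun b hb => hWT (hAW hb)
    refine eq_of_map_eq (K := K) T.isPGroup' PCore.pPrimeCore_coprime (mul_mem (hTm a ha) ht)
      (mul_mem ht (hTm a ha)) ?_
    rw [map_mul, map_mul]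
    exact Subgroup.mem_centralizer_iff.mp htc _ ⟨a, ha, rfl⟩
  · exact (Subgroup.map_mono hYn).trans (Subgroup.le_normalizer_map f)

/-- `p`-local balance in solvable groups. -/
theorem le_core_of_centralizer [Group.IsSolvable H] {e : H} (he : IsPGroup p (Subgroup.zpowers e))
    {Z : Subgroup H} (hZe : Z ≤ Subgroup.centralizer ({e} : Set H))
    (hn : Subgroup.centralizer ({e} : Set H) ≤ Subgroup.normalizer (Z : Set H))
    (hZ : (Nat.card Z).Coprime p) : Z ≤ Cfsg.pPrimeCore p H := by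
  set K := Cfsg.pPrimeCore p H with hK
  set f := QuotientGroup.mk' K with hf
  have hsurj : Function.Surjective f := QuotientGroup.mk'_surjective K
  obtain ⟨T, hT⟩ := he.exists_le_sylow
  let Tb := T.mapSurjective hsurj
  set R := Cfsg.pCore p (H ⧸ K) with hR
  have hRn : R.Normal := inferInstance
  have hRp : IsPGroup p R := PCore.pCore_isPGroup
  have hCR : Subgroup.centralizer (R : Set (H ⧸ K)) ≤ R :=
    PCore.centralizer_pCore_le PCore.isPSolvable_of_isSolvable PCore.pPrimeCore_quotient_pPrimeCore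
  have hcomm : ∀ z ∈ Z, z * e = e * z := fun z hz => Subgroup.mem_centralizer_singleton_iff.mp (hZe hz)
  have hZb : Z.map f ≤ Subgroup.centralizer (R : Set (H ⧸ K)) := by
    refine Coprime.pq_lemma p ((Subgroup.zpowers e).map f) (Z.map f) (he.map f) (coprime_map f hZ)
      ?_ R hRp ?_ ?_ ?_
    · rintro _ ⟨x, hx, rfl⟩
      rw [Subgroup.mem_centralizer_iff]
      rintro _ ⟨z, hz, rfl⟩
      obtain ⟨i, rfl⟩ := hx
      rw [← map_mul, ← map_mul]
      exact congrArg f ((Commute.zpow_right (hcomm z hz) i).eq)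
    · rw [Subgroup.normalizer_eq_top_iff.mpr hRn]; exact le_top
    · rw [Subgroup.normalizer_eq_top_iff.mpr hRn]; exact le_top
    · rintro r ⟨hr, hrc⟩
      obtain ⟨t, ht, rfl⟩ : r ∈ (T : Subgroup H).map f := PCore.pCore_le_sylow Tb hr
      have hte : t * e = e * t := by
        refine eq_of_map_eq (K := K) T.isPGroup' PCore.pPrimeCore_coprime
          (mul_mem ht (hT (Subgroup.mem_zpowers e))) (mul_mem (hT (Subgroup.mem_zpowers e)) ht) ?_
        rw [map_mul, map_mul]
        exact (Subgroup.mem_centralizer_iff.mp hrc _ ⟨e, Subgroup.mem_zpowers e, rfl⟩).symm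
      have htn := hn (Subgroup.mem_centralizer_singleton_iff.mpr hte)
      rw [Subgroup.mem_centralizer_iff]
      rintro _ ⟨z, hz, rfl⟩
      have h1 : f (z * t * z⁻¹ * t⁻¹) ∈ R := by
        simp only [map_mul, map_inv]
        exact mul_mem (hRn.conj_mem _ hr (f z)) (inv_mem hr)
      have h2 : f (z * t * z⁻¹ * t⁻¹) ∈ Z.map f := by
        refine ⟨_, ?_, rfl⟩
        rw [show z * t * z⁻¹ * t⁻¹ = z * (t * z⁻¹ * t⁻¹) by group]
        exact mul_mem hz ((Subgroup.mem_normalizer_iff.mp htn _).mp (inv_mem hz))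
      have h3 := eq_one_of_pgroup_of_coprime hRp (coprime_map f hZ) h1 h2
      calc f z * f t = f (z * t * z⁻¹ * t⁻¹) * (f t * f z) := by
            simp only [map_mul, map_inv]; group
        _ = f t * f z := by rw [h3, one_mul]
  refine le_core_of_map_eq_bot (eq_bot_iff.mpr ?_)
  exact fun x hx => eq_one_of_pgroup_of_coprime hRp (coprime_map f hZ) (hCR (hZb hx)) hx

theorem pLengthOne_index (hpl : Cfsg.PLengthLE p 1 H) :
    ¬ p ∣ (Cfsg.pCore p (H ⧸ Cfsg.pPrimeCore p H)).index := by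
  have aux : ∀ (U : Subgroup H) [U.Normal], U = Cfsg.pPrimeCore p H →
      (Cfsg.pCore p (H ⧸ U)).index = (Cfsg.pCore p (H ⧸ Cfsg.pPrimeCore p H)).index := by
    intro U _ hU
    subst hU
    rfl
  rw [← aux (Cfsg.upperPSeries p H 1).1 PCore.upperPSeries_one]
  intro hd
  have h2 : (Cfsg.upperPSeries p H 2).1.index = (Cfsg.pCore p (H ⧸ (Cfsg.upperPSeries p H 1).1)).index := by
    rw [PCore.upperPSeries_succ_of_odd (by decide : ¬ Even 1)]
    exact Subgroup.index_comap_of_surjective _ (QuotientGroup.mk'_surjective _)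
  have h3 : (Cfsg.upperPSeries p H 3).1 = ⊤ := hpl
  rw [PCore.upperPSeries_succ_of_even (by decide : Even 2)] at h3
  have h4 : Cfsg.pPrimeCore p (H ⧸ (Cfsg.upperPSeries p H 2).1) = ⊤ :=
    Subgroup.comap_injective (QuotientGroup.mk'_surjective _) (h3.trans (Subgroup.comap_top _).symm)
  have h5 := PCore.pPrimeCore_coprime (p := p) (G := H ⧸ (Cfsg.upperPSeries p H 2).1)
  rw [h4, Subgroup.card_top, ← Subgroup.index_eq_card, h2] at h5
  exact (Fact.out : p.Prime).ne_one (Nat.eq_one_of_dvd_coprimes h5 hd dvd_rfl)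

/-- Case of `p`-length one with `A = Ω₁(C(A))`. -/
theorem inv_le_core_of_plength_one [Group.IsSolvable H] (hp : p ≠ 2) (hpl : Cfsg.PLengthLE p 1 H)
    {A Y : Subgroup H} (hAp : IsPGroup p A) (hA : IsMulCommutative A)
    (hΩ : ∀ x ∈ Subgroup.centralizer (A : Set H), x ^ p = 1 → x ∈ A) (hAe : ∀ a ∈ A, a ^ p = 1)
    (hY : (Nat.card Y).Coprime p) (hYn : A ≤ Subgroup.normalizer (Y : Set H)) :
    Y ≤ Cfsg.pPrimeCore p H := by
  set K := Cfsg.pPrimeCore p H with hK
  set f := QuotientGroup.mk' K with hf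
  have hsurj : Function.Surjective f := QuotientGroup.mk'_surjective K
  obtain ⟨T, hT⟩ := hAp.exists_le_sylow
  let Tb := T.mapSurjective hsurj
  set R := Cfsg.pCore p (H ⧸ K) with hR
  have hRn : R.Normal := inferInstance
  have hRp : IsPGroup p R := PCore.pCore_isPGroup
  have hCR : Subgroup.centralizer (R : Set (H ⧸ K)) ≤ R :=
    PCore.centralizer_pCore_le PCore.isPSolvable_of_isSolvable PCore.pPrimeCore_quotient_pPrimeCore
  have hidx : ¬ p ∣ R.index := pLengthOne_index hpl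
  have hRTb : (Tb : Subgroup (H ⧸ K)) = R :=
    (Subgroup.eq_of_le_of_card_ge (PCore.pCore_le_sylow Tb) (by
      rw [Tb.card_eq_multiplicity]
      obtain ⟨n, hn⟩ := hRp.exists_card_eq
      have h1 := Subgroup.card_mul_index R
      rw [hn] at h1 ⊢
      refine Nat.pow_le_pow_right (Fact.out : p.Prime).pos (le_of_eq ?_)
      rw [← h1, Nat.factorization_mul (pow_ne_zero _ (Fact.out : p.Prime).ne_zero)
        Subgroup.index_ne_zero_of_finite, Finsupp.add_apply,
        Nat.factorization_eq_zero_of_not_dvd hidx, Nat.Prime.factorization_pow Fact.out,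
        Finsupp.single_eq_same, add_zero])).symm
  have hAR : A.map f ≤ R := (Subgroup.map_mono hT).trans hRTb.le
  have hcomm : Y.map f ≤ Subgroup.centralizer (A.map f : Set (H ⧸ K)) := by
    rintro _ ⟨y, hy, rfl⟩
    rw [Subgroup.mem_centralizer_iff]
    rintro _ ⟨a, ha, rfl⟩
    have h1 : f (a * y * a⁻¹ * y⁻¹) ∈ R := by
      have h := mul_mem (hAR ⟨a, ha, rfl⟩) (hRn.conj_mem _ (inv_mem (hAR ⟨a, ha, rfl⟩)) (f y))
      simp only [map_mul, map_inv]
      simpa [mul_assoc] using h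
    have h2 : f (a * y * a⁻¹ * y⁻¹) ∈ Y.map f :=
      ⟨_, mul_mem ((Subgroup.mem_normalizer_iff.mp (hYn ha) y).mp hy) (inv_mem hy), rfl⟩
    have h3 := eq_one_of_pgroup_of_coprime hRp (coprime_map f hY) h1 h2
    calc f a * f y = f (a * y * a⁻¹ * y⁻¹) * (f y * f a) := by simp only [map_mul, map_inv]; group
      _ = f y * f a := by rw [h3, one_mul]
  have hfix : Y.map f ≤ Subgroup.centralizer (R : Set (H ⧸ K)) := by
    refine OddOrder41.le_centralizer_of_fixes_order_p p hp R (A.map f) (Y.map f) hRp hAR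
      (elemAb_map ⟨hA, hAe⟩ f) (by rw [Subgroup.normalizer_eq_top_iff.mpr hRn]; exact le_top)
      (coprime_map f hY) ?_
    rintro x ⟨hxR, hxc⟩ hxo
    obtain ⟨t, ht, rfl⟩ : x ∈ (T : Subgroup H).map f := hRTb.ge hxR
    have htA : t ∈ A := by
      refine hΩ t (Subgroup.mem_centralizer_iff.mpr (fun a ha => ?_)) ?_
      · refine eq_of_map_eq (K := K) T.isPGroup' PCore.pPrimeCore_coprime (mul_mem (hT ha) ht)
          (mul_mem ht (hT ha)) ?_
        rw [map_mul, map_mul]
        exact Subgroup.mem_centralizer_iff.mp hxc _ ⟨a, ha, rfl⟩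
      · refine eq_of_map_eq (K := K) T.isPGroup' PCore.pPrimeCore_coprime (pow_mem ht p) (one_mem _) ?_
        rw [map_pow, map_one]
        exact orderOf_dvd_iff_pow_eq_one.mp hxo.dvd
    exact hcomm.trans (Subgroup.centralizer_le (Set.singleton_subset_iff.mpr ⟨t, htA, rfl⟩))
  refine le_core_of_map_eq_bot (eq_bot_iff.mpr ?_)
  exact fun x hx => eq_one_of_pgroup_of_coprime hRp (coprime_map f hY) (hCR (hfix hx)) hx
/-! ### The criteria -/

variable {G : Type u} [Group G] [Finite G]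

omit [Finite G] in
theorem piNat_primesNotDvd_iff {A : Subgroup G} {n : ℕ} (hA : ∃ k, 0 < k ∧ Nat.card A = p ^ k) : PiNat (Cfsg.primesNotDvd (Nat.card A)) n ↔ n.Coprime p := by
  obtain ⟨k, hk, hc⟩ := hA
  constructor
  · intro h
    refine Nat.coprime_comm.mp ((Nat.Prime.coprime_iff_not_dvd Fact.out).mpr (fun hd => ?_))
    exact (h p Fact.out hd).2 (hc ▸ dvd_pow_self p hk.ne')
  · intro h q hq hqn
    refine ⟨hq, fun hqA => ?_⟩
    rw [hc] at hqA
    obtain rfl := (Nat.prime_dvd_prime_iff_eq hq Fact.out).mp (hq.dvd_of_dvd_pow hqA)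
    exact hq.ne_one (Nat.eq_one_of_dvd_coprimes h hqn dvd_rfl)

/-- It suffices that invariant `p'`-subgroups of every proper overgroup lie in its `p'`-core. -/
theorem hypothesis_of_forall {A : Subgroup G} (hAp : IsPGroup p A) (hA1 : A ≠ ⊥) (hA2 : A ≠ ⊤)
    (h : ∀ X : Subgroup G, X ≠ ⊤ → A ≤ X → ∀ Y : Subgroup G, Y ≤ X →
      A ≤ Subgroup.normalizer (Y : Set G) → (Nat.card Y).Coprime p →
      Y.subgroupOf X ≤ Cfsg.pPrimeCore p X) : Cfsg.TransitivityHypothesis A := by
  have hk : ∃ k, 0 < k ∧ Nat.card A = p ^ k := by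
    obtain ⟨k, hk⟩ := hAp.exists_card_eq
    refine ⟨k, Nat.pos_of_ne_zero (fun h0 => hA1 ?_), hk⟩
    rw [h0, pow_zero] at hk
    exact Subgroup.card_eq_one.mp hk
  refine ⟨hA1, hA2, fun X hX hAX => le_antisymm (sSup_le ?_) (le_sSup ?_)⟩
  · rintro Y ⟨hYX, hYπ, hYn⟩
    have h1 := h X hX hAX Y hYX hYn
      ((piNat_primesNotDvd_iff hk).mp hYπ)
    have h2 : Cfsg.pPrimeCore p X ≤ Cfsg.piCore (Cfsg.primesNotDvd (Nat.card A)) X :=
      le_piCore inferInstance
        ((piNat_primesNotDvd_iff hk).mpr PCore.pPrimeCore_coprime)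
    have h3 := Subgroup.map_mono (f := X.subtype) (h1.trans h2)
    rwa [Subgroup.map_subgroupOf_eq_of_le hYX] at h3
  · exact ⟨piCoreOf_le _ _, piNat_card_piCoreOf _ _, hAX.trans (piCoreOf_normal _ _)⟩

/-- BG 7.6 (1). -/
theorem hypothesis_of_omega (hG : Cfsg.IsMinSimpleOddOrder G) (hp : p ∣ Nat.card G)
    {A : Subgroup G} (hAp : IsPGroup p A) (hAc : IsMulCommutative A)
    (hΩ : ∀ x ∈ Subgroup.centralizer (A : Set G), x ^ p = 1 ↔ x ∈ A)
    (hpl : ∀ X : Subgroup G, X ≠ ⊤ → Cfsg.PLengthLE p 1 X) : Cfsg.TransitivityHypothesis A := by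
  have hAe : ∀ a ∈ A, a ^ p = 1 := fun a ha =>
    (hΩ a (Subgroup.mem_centralizer_iff.mpr (fun b hb => mul_comm_of_mem hAc hb ha))).mpr ha
  refine hypothesis_of_forall hAp ?_ (minSimple_pgroup_ne_top hG hAp) ?_
  · intro h
    obtain ⟨x, hx⟩ := exists_prime_orderOf_dvd_card' (G := G) p hp
    have hxA : x ∈ A := (hΩ x (Subgroup.mem_centralizer_iff.mpr (fun b hb => by
      rw [h, SetLike.mem_coe, Subgroup.mem_bot] at hb
      subst hb; simp))).mp (hx ▸ pow_orderOf_eq_one x)
    rw [h, Subgroup.mem_bot] at hxA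
    exact (Fact.out : p.Prime).ne_one (hx.symm.trans (orderOf_eq_one_iff.mpr hxA))
  intro X hX hAX Y hYX hYn hYc
  have := minSimple_solvable hG hX
  refine inv_le_core_of_plength_one (minSimple_prime_ne_two' hG hp) (hpl X hX)
    (A := A.subgroupOf X) (hAp.comap_of_injective X.subtype X.subtype_injective)
    (elemAb_comap ⟨hAc, hAe⟩ X.subtype X.subtype_injective).1 ?_ ?_ ?_ ?_
  · intro x hx hxp
    refine Subgroup.mem_subgroupOf.mpr ((hΩ x (Subgroup.mem_centralizer_iff.mpr
      (fun a ha => ?_))).mp (congrArg Subtype.val hxp))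
    exact congrArg Subtype.val (Subgroup.mem_centralizer_iff.mp hx ⟨a, hAX ha⟩ ha)
  · exact fun a ha => Subtype.ext (hAe _ ha)
  · exact hYc.coprime_dvd_left (Subgroup.card_comap_dvd_of_injective Y X.subtype X.subtype_injective)
  · intro a ha
    rw [← Subgroup.subgroupOf_normalizer_eq hYX]
    exact hYn ha

theorem exists_normal_sq {P : Subgroup G} (hPp : IsPGroup p P) {A : Subgroup G} (hAP : A ≤ P)
    (hPA : P ≤ Subgroup.normalizer (A : Set G)) (hAc : IsMulCommutative A)
    (hr : ¬ Cfsg.PRankLE p 1 A) :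
    ∃ E : Subgroup P, E.Normal ∧ Cfsg.IsElementaryAbelian p E ∧ Nat.card E = p ^ 2 ∧
      E ≤ A.subgroupOf P := by
  have := hPp.isNilpotent
  let W : Subgroup P :=
    { carrier := {x | (x : G) ∈ A ∧ (x : G) ^ p = 1}
      one_mem' := ⟨A.one_mem, one_pow p⟩
      mul_mem' := fun {x y} hx hy => ⟨A.mul_mem hx.1 hy.1, by
        rw [Subgroup.coe_mul, (show Commute (x : G) y from mul_comm_of_mem hAc hx.1 hy.1).mul_pow,
          hx.2, hy.2, one_mul]⟩
      inv_mem' := fun {x} hx => ⟨A.inv_mem hx.1, by rw [Subgroup.coe_inv, inv_pow, hx.2, inv_one]⟩ }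
  have hWe : Cfsg.IsElementaryAbelian p W :=
    ⟨⟨⟨fun x y => Subtype.ext (Subtype.ext (mul_comm_of_mem hAc x.2.1 y.2.1))⟩⟩,
      fun x hx => Subtype.ext hx.2⟩
  have hWn : W.Normal := ⟨fun x hx g => ⟨(Subgroup.mem_normalizer_iff.mp (hPA g.2) _).mp hx.1, by
    rw [Subgroup.coe_mul, Subgroup.coe_mul, Subgroup.coe_inv]
    rw [show ((g : G) * x * (g : G)⁻¹) ^ p = g * (x : G) ^ p * (g : G)⁻¹ from conj_pow, hx.2]
    simp⟩⟩
  obtain ⟨E₀, hE₀A, hE₀e, hE₀c⟩ := not_pRankLE_subgroup_iff.mp hr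
  have hle : E₀.subgroupOf P ≤ W := fun x hx => ⟨hE₀A hx, hE₀e.2 _ hx⟩
  have hc₀ : Nat.card (E₀.subgroupOf P) = p ^ 2 := by
    rw [Nat.card_congr (Subgroup.subgroupOfEquivOfLe (hE₀A.trans hAP)).toEquiv, hE₀c]
  have hp1 : 1 < p := (Fact.out : p.Prime).one_lt
  have hWbot : W ≠ ⊥ := fun h => by
    have h2 := Subgroup.card_le_of_le hle
    rw [h, hc₀, Subgroup.card_bot] at h2
    exact absurd h2 (not_le.mpr (Nat.one_lt_pow two_ne_zero hp1))
  obtain ⟨z, hz, hz1, hzc⟩ : ∃ z ∈ W, z ≠ 1 ∧ ∀ g : P, g * z = z * g := by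
    obtain ⟨y, hy, hy1, hyc⟩ := OddOrder41.exists_central_step W ⊥ (fun h => hWbot (le_bot_iff.mp h))
    refine ⟨y, hy, fun h => hy1 (h ▸ Subgroup.one_mem _), fun g => ?_⟩
    exact (commutatorElement_eq_one_iff_mul_comm.mp (Subgroup.mem_bot.mp (hyc g))).symm
  have hzp : z ^ p = 1 := hWe.2 z hz
  have hcz : Nat.card (Subgroup.zpowers z) = p := by
    rw [Nat.card_zpowers]; exact orderOf_eq_prime hzp hz1
  obtain ⟨y, hy, hyz, hyc⟩ := OddOrder41.exists_central_step W (Subgroup.zpowers z) (fun h => by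
    have h2 := Subgroup.card_le_of_le (hle.trans h)
    rw [hc₀, hcz] at h2
    exact absurd h2 (not_le.mpr (lt_self_pow₀ hp1 one_lt_two)))
  have hEW : Subgroup.zpowers z ⊔ Subgroup.zpowers y ≤ W :=
    sup_le (Subgroup.zpowers_le.mpr hz) (Subgroup.zpowers_le.mpr hy)
  refine ⟨Subgroup.zpowers z ⊔ Subgroup.zpowers y, ?_, elemAb_mono hWe hEW,
    by rw [card_sup_zpowers_of_not_mem hWe (Subgroup.zpowers_le.mpr hz) hy hyz, hcz, pow_two],
    fun x hx => (hEW hx).1⟩
  set E := Subgroup.zpowers z ⊔ Subgroup.zpowers y with hE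
  refine ⟨fun x hx g => ?_⟩
  suffices h : E ≤ E.comap (MulAut.conj g).toMonoidHom from h hx
  refine sup_le (Subgroup.zpowers_le.mpr ?_) (Subgroup.zpowers_le.mpr ?_)
  · change g * z * g⁻¹ ∈ E
    rw [hzc g, mul_inv_cancel_right]
    exact le_sup_left (b := Subgroup.zpowers y) (Subgroup.mem_zpowers z)
  · change g * y * g⁻¹ ∈ E
    have h2 : g * y * g⁻¹ = ⁅y, g⁆⁻¹ * y := by rw [commutatorElement_def]; group
    rw [h2]
    exact mul_mem (inv_mem (le_sup_left (b := Subgroup.zpowers y) (hyc g)))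
      (le_sup_right (a := Subgroup.zpowers z) (Subgroup.mem_zpowers y))

/-- BG 7.6 (2). -/
theorem hypothesis_of_scn (hst : QuadStable.{u} p) (hG : Cfsg.IsMinSimpleOddOrder G)
    (P : Sylow p G) {A : Subgroup G} (hAc : IsMulCommutative A)
    (hscn : Cfsg.IsSCN (P : Subgroup G) A) (hr : ¬ Cfsg.PRankLE p 1 A) :
    Cfsg.TransitivityHypothesis A := by
  obtain ⟨hAP, hPA, hCA⟩ := hscn
  have hAp : IsPGroup p A := P.isPGroup'.to_le hAP
  have hp1 : 1 < p := (Fact.out : p.Prime).one_lt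
  obtain ⟨E', hE'n, hE'e, hE'c, hE'A⟩ := exists_normal_sq P.isPGroup' hAP hPA hAc hr
  have hidx := OddOrder41.index_centralizer_dvd_of_card_sq P.isPGroup' E' hE'e hE'c
  set E := E'.map (P : Subgroup G).subtype with hE
  have hEe : Cfsg.IsElementaryAbelian p E := elemAb_map hE'e _
  have hEc : Nat.card E = p ^ 2 := by
    rw [hE, Subgroup.card_map_of_injective (Subgroup.subtype_injective _), hE'c]
  have hEA : E ≤ A := by
    rintro _ ⟨x, hx, rfl⟩
    exact hE'A hx
  have hA1 : A ≠ ⊥ := fun h => by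
    have h2 := Subgroup.card_le_of_le hEA
    rw [h, hEc, Subgroup.card_bot] at h2
    exact absurd h2 (not_le.mpr (Nat.one_lt_pow two_ne_zero hp1))
  refine hypothesis_of_forall hAp hA1 (minSimple_pgroup_ne_top hG hAp) ?_
  intro X hX hAX Y hYX hYn hYc
  -- generators of `E`
  obtain ⟨s, hs, hs1⟩ : ∃ s ∈ E, s ≠ 1 := by
    refine (Subgroup.bot_or_exists_ne_one E).resolve_left (fun h => ?_)
    rw [h, Subgroup.card_bot] at hEc
    exact absurd hEc (ne_of_lt (Nat.one_lt_pow two_ne_zero hp1))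
  obtain ⟨t, ht, hts⟩ : ∃ t ∈ E, t ∉ Subgroup.zpowers s := by
    refine SetLike.not_le_iff_exists.mp (fun h => ?_)
    have h2 := Subgroup.card_le_of_le h
    rw [hEc, Nat.card_zpowers, orderOf_eq_prime (hEe.2 s hs) hs1] at h2
    exact absurd h2 (not_le.mpr (lt_self_pow₀ hp1 one_lt_two))
  have hgen := Tech46.le_of_centralizers_le (p := p) s t (hEe.2 s hs) (hEe.2 t ht)
    (elemAb_commute hEe hs ht) Y ((Cfsg.pPrimeCore p X).map X.subtype)
    (fun h => (Fact.out : p.Prime).ne_one (Nat.eq_one_of_dvd_coprimes hYc h dvd_rfl))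
    (hYn (hEA hs)) (hYn (hEA ht)) ?_
  · intro y hy
    obtain ⟨z, hz, hze⟩ := hgen hy
    have hzy : z = y := Subtype.ext hze
    exact hzy ▸ hz
  intro i j hij
  set e := s ^ i * t ^ j with he
  have heE : e ∈ E := mul_mem (pow_mem hs i) (pow_mem ht j)
  have he1 : e ≠ 1 := by
    intro h
    rw [he] at h
    rcases hij with ⟨-, rfl⟩ | ⟨rfl, rfl⟩
    · apply hts
      rw [pow_one] at h
      rw [← inv_eq_of_mul_eq_one_right h]
      exact Subgroup.inv_mem _ (Subgroup.npow_mem_zpowers s i)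
    · exact hs1 (by simpa using h)
  set Ce := Subgroup.centralizer ({e} : Set G) with hCe
  have hCetop : Ce ≠ ⊤ := minSimple_centralizer_singleton_ne_top hG he1
  have hACe : A ≤ Ce := fun a ha =>
    Subgroup.mem_centralizer_singleton_iff.mpr (mul_comm_of_mem hAc ha (hEA heE))
  set W := (P : Subgroup G) ⊓ Ce with hW
  have hAW : A ≤ W := le_inf hAP hACe
  have hWp : IsPGroup p W := P.isPGroup'.to_le inf_le_left
  obtain ⟨T, hT⟩ := (hWp.comap_of_injective Ce.subtype Ce.subtype_injective).exists_le_sylow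
  set T' := (T : Subgroup Ce).map Ce.subtype with hT'
  have hT'p : IsPGroup p T' := T.isPGroup'.map _
  have hWT : W ≤ T' := by
    have h2 := Subgroup.map_mono (f := Ce.subtype) hT
    exact le_trans (le_of_eq (Subgroup.map_subgroupOf_eq_of_le inf_le_right).symm) h2
  -- `#T'` divides `#W * p`
  have hT'dvd : Nat.card T' ∣ Nat.card W * p := by
    have h1 : Nat.card T' ∣ Nat.card (P : Subgroup G) := by
      obtain ⟨Q, hQ⟩ := hT'p.exists_le_sylow
      rw [P.card_eq_multiplicity, ← Q.card_eq_multiplicity]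
      exact Subgroup.card_dvd_of_le hQ
    refine h1.trans ?_
    set C' := Subgroup.centralizer (E' : Set (P : Subgroup G)) with hC'
    rw [← Subgroup.card_mul_index C']
    refine mul_dvd_mul ?_ hidx
    rw [← Subgroup.card_map_of_injective (f := (P : Subgroup G).subtype) (Subgroup.subtype_injective _)]
    refine Subgroup.card_dvd_of_le ?_
    rintro _ ⟨c, hc, rfl⟩
    refine ⟨c.2, Subgroup.mem_centralizer_singleton_iff.mpr ?_⟩
    obtain ⟨e', he', hee⟩ := heE
    rw [← hee]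
    exact (congrArg Subtype.val (Subgroup.mem_centralizer_iff.mp hc e' he')).symm
  have hTW : T' ≤ Subgroup.normalizer (W : Set G) := by
    rcases eq_or_lt_of_le hWT with h | h
    · rw [← h]; exact Subgroup.le_normalizer
    · have hg := Transitivity.normalizer_grows hT'p h
      set NT := Subgroup.normalizer (W : Set G) ⊓ T' with hNT
      have h1 : Nat.card W ∣ Nat.card NT := Subgroup.card_dvd_of_le (le_inf Subgroup.le_normalizer h.le)
      have h2 : Nat.card NT ∣ Nat.card T' := Subgroup.card_dvd_of_le inf_le_right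
      have h3 : Nat.card T' = Nat.card NT := by
        obtain ⟨k, hk⟩ := h1
        have hk1 : k ≠ 1 := fun hk1 => by rw [hk, hk1, mul_one] at hg; exact lt_irrefl _ hg
        have h4 : k ∣ p := Nat.dvd_of_mul_dvd_mul_left Nat.card_pos (hk ▸ h2.trans hT'dvd)
        have hkp : k = p := ((Nat.dvd_prime Fact.out).mp h4).resolve_left hk1
        exact Nat.dvd_antisymm (by rw [hk, hkp]; exact hT'dvd) h2
      have h4 : NT = T' := Subgroup.eq_of_le_of_card_ge inf_le_right h3.le
      rw [← h4]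
      exact inf_le_left
  have hCAT : T' ⊓ Subgroup.centralizer (A : Set G) ≤ A := by
    set N := Subgroup.normalizer (A : Set G) with hN
    set Q := T' ⊓ Subgroup.centralizer (A : Set G) with hQdef
    have hQN : Q ≤ N := inf_le_right.trans (Subgroup.centralizer_le_normalizer (A : Set G))
    obtain ⟨S, hS⟩ := ((hT'p.to_le (inf_le_left : Q ≤ T')).comap_of_injective N.subtype
      N.subtype_injective).exists_le_sylow
    obtain ⟨g, hg⟩ := MulAction.exists_smul_eq N S (P.subtype hPA)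
    intro x hx
    have hconjP : (g : G) * x * (g : G)⁻¹ ∈ (P : Subgroup G) := by
      have h1 : g * ⟨x, hQN hx⟩ * g⁻¹ ∈ ((g • S : Sylow p N) : Subgroup N) :=
        Coprime.mem_conj_smul.mpr (by simpa [mul_assoc] using hS (show (⟨x, hQN hx⟩ : N) ∈ Q.subgroupOf N from hx))
      rw [hg] at h1
      exact h1
    have hconjC : (g : G) * x * (g : G)⁻¹ ∈ Subgroup.centralizer (A : Set G) :=
      (Subgroup.mem_normalizer_iff.mp (Transitivity.normalizer_centralizer_le A g.2) x).mp hx.2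
    have h2 : (g : G) * x * (g : G)⁻¹ ∈ A := hCA ▸ ⟨hconjP, hconjC⟩
    exact (Subgroup.mem_normalizer_iff.mp g.2 x).mpr h2
  set Z := Y ⊓ Ce with hZdef
  have hZc : (Nat.card Z).Coprime p := hYc.coprime_dvd_left (Subgroup.card_dvd_of_le inf_le_left)
  have hZn : A ≤ Subgroup.normalizer (Z : Set G) :=
    le_trans (le_inf hYn (hACe.trans Subgroup.le_normalizer)) Subgroup.inf_normalizer_le_normalizer_inf
  have := minSimple_solvable hG hCetop
  have hstep : Z.subgroupOf Ce ≤ Cfsg.pPrimeCore p Ce := by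
    refine inv_le_core_of_scn hst (minSimple_odd hG Ce) T (A := A.subgroupOf Ce) (W := W.subgroupOf Ce)
      (fun x hx => hAW hx) hT ?_ ?_ ?_ ?_ ?_
    · intro x hx
      rw [← Subgroup.subgroupOf_normalizer_eq (inf_le_right : W ≤ Ce)]
      exact hTW ⟨x, hx, rfl⟩
    · intro x hx
      rw [← Subgroup.subgroupOf_normalizer_eq hACe]
      exact hPA hx.1
    · rintro x ⟨hxT, hxA⟩
      refine hCAT ⟨⟨x, hxT, rfl⟩, Subgroup.mem_centralizer_iff.mpr (fun a ha => ?_)⟩
      exact congrArg Subtype.val (Subgroup.mem_centralizer_iff.mp hxA ⟨a, hACe ha⟩ ha)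
    · exact hZc.coprime_dvd_left (Subgroup.card_comap_dvd_of_injective Z Ce.subtype Ce.subtype_injective)
    · intro x hx
      rw [← Subgroup.subgroupOf_normalizer_eq (inf_le_right : Z ≤ Ce)]
      exact hZn hx
  set O := (Cfsg.pPrimeCore p Ce).map Ce.subtype with hO
  have hZO : Z ≤ O := by
    have h2 := Subgroup.map_mono (f := Ce.subtype) hstep
    rwa [Subgroup.map_subgroupOf_eq_of_le (inf_le_right : Z ≤ Ce)] at h2
  have hOn : Ce ≤ Subgroup.normalizer (O : Set G) := by
    have h2 := Subgroup.le_normalizer_map (H := Cfsg.pPrimeCore p Ce) Ce.subtype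
    rw [Subgroup.normalizer_eq_top_iff.mpr inferInstance] at h2
    rw [← MonoidHom.range_eq_map, Subgroup.range_subtype] at h2
    exact h2
  have := minSimple_solvable hG hX
  let eX : X := ⟨e, hAX (hEA heE)⟩
  have hbal : (O ⊓ X).subgroupOf X ≤ Cfsg.pPrimeCore p X := by
    refine le_core_of_centralizer (e := eX) ?_ ?_ ?_ ?_
    · refine IsPGroup.of_card (n := 1) ?_
      rw [Nat.card_zpowers, pow_one, ← Subgroup.orderOf_coe]
      exact orderOf_eq_prime (hEe.2 e heE) he1
    · intro x hx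
      refine Subgroup.mem_centralizer_singleton_iff.mpr (Subtype.ext ?_)
      exact Subgroup.mem_centralizer_singleton_iff.mp (Subgroup.map_subtype_le _ hx.1)
    · intro x hx
      have hxC : (x : G) ∈ Ce :=
        Subgroup.mem_centralizer_singleton_iff.mpr
          (congrArg Subtype.val (Subgroup.mem_centralizer_singleton_iff.mp hx))
      rw [← Subgroup.subgroupOf_normalizer_eq (inf_le_right : O ⊓ X ≤ X)]
      exact Subgroup.inf_normalizer_le_normalizer_inf ⟨hOn hxC, Subgroup.le_normalizer x.2⟩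
    · refine Nat.Coprime.coprime_dvd_left ?_ (PCore.pPrimeCore_coprime (p := p) (G := Ce))
      rw [Nat.card_congr (Subgroup.subgroupOfEquivOfLe (inf_le_right : O ⊓ X ≤ X)).toEquiv,
        ← Subgroup.card_map_of_injective Ce.subtype_injective]
      exact Subgroup.card_dvd_of_le inf_le_left
  intro x hx
  exact ⟨⟨x, hYX hx.1⟩, hbal ⟨hZO hx, hYX hx.1⟩, rfl⟩

end CfsgLib.OddOrder.Criteria
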