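import Cfsg.Agent.Lib.OddOrder.Quadratic
import Cfsg.Agent.Lib.OddOrder.TransitivityCriteria

/-!
`p`-stability of solvable groups of odd order, in the form `Criteria.QuadStable`.
-/

set_option autoImplicit false

namespace CfsgLib.OddOrder.Criteria

open Subgroup
open scoped commutatorElement

universe u

/-- Solvable groups of odd order are `p`-stable. -/
theorem quadStable (p : ℕ) [Fact p.Prime] : QuadStable.{u} p := by
  intro H _ _ _ hodd D A hDn hD hA hquad
  rintro _ ⟨a, ha, rfl⟩
  obtain ⟨m, hm⟩ := hA ⟨a, ha⟩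
  rcases eq_or_ne p 2 with rfl | hp2
  · have h1 : a = 1 := by
      refine orderOf_eq_one_iff.mp (Nat.eq_one_of_dvd_coprimes
        ((Nat.coprime_two_right.mpr hodd).pow_right m) (orderOf_dvd_natCard a)
        (orderOf_dvd_of_pow_eq_one ?_))
      simpa using congrArg Subtype.val hm
    rw [h1, map_one]; exact one_mem _
  refine Quadratic.mem_pCore_of_conj_quotient (m := m) ?_ fun y => ?_
  · rw [← map_pow]
    have : a ^ p ^ m = 1 := by simpa using congrArg Subtype.val hm
    rw [this, map_one]
  · obtain ⟨y, rfl⟩ := QuotientGroup.mk'_surjective _ y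
    have hN : ∀ z : H, z ∈ Subgroup.normalizer (D : Set H) := fun z => by
      rw [Subgroup.normalizer_eq_top_iff.mpr hDn]; trivial
    obtain ⟨n, hn⟩ := Quadratic.exists_pow_mem_centralizer hodd hp2 D hD (a := a) (b := y * a * y⁻¹)
      (hN _) (hN _) (Quadratic.quad_of_commutator hquad ha)
      (Quadratic.quad_conj (hN y) (Quadratic.quad_of_commutator hquad ha))
    refine ⟨n, ?_⟩
    simp only [← map_inv, ← map_mul, ← map_pow]
    exact (QuotientGroup.eq_one_iff _).mpr hn

end CfsgLib.OddOrder.Criteria
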