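import Mathlib
import Cfsg.Agent.Lib.OddOrder.FittingOf
import Cfsg.Agent.Lib.OddOrder.Transitivity
import Cfsg.Agent.Lib.OddOrder.QuadStableProof
import Cfsg.Agent.Lib.PLocal.PStableQuot
import Cfsg.Agent.Lib.PCore.Basic
import Cfsg.Agent.Lib.PCore.PSolvable
import Cfsg.Agent.Lib.Coprime.Commutator

/-!
# Sylow subgroups, `O_{p'}` and the `ZJ` factorization for proper subgroups
-/

set_option autoImplicit false

namespace CfsgLib.OddOrder

open Subgroup Transitivity
open scoped commutatorElement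

universe u

variable {G : Type u} [Group G]

/-- `R` is a Sylow `p`-subgroup of `M`. -/
def SylowOf (p : ℕ) (R M : Subgroup G) : Prop :=
  R ≤ M ∧ IsPGroup p R ∧ ∀ Q : Subgroup G, Q ≤ M → IsPGroup p Q → R ≤ Q → Q = R

theorem SylowOf.mono {p : ℕ} {R X M : Subgroup G} (h : SylowOf p R M) (hXM : X ≤ M) (hRX : R ≤ X) :
    SylowOf p R X :=
  ⟨hRX, h.2.1, fun Q hQ => h.2.2 Q (hQ.trans hXM)⟩

theorem SylowOf.toSylow {p : ℕ} {R M : Subgroup G} (h : SylowOf p R M) :
    ∃ T : Sylow p M, (T : Subgroup M).map M.subtype = R := by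
  refine ⟨⟨R.subgroupOf M, h.2.1.comap_of_injective M.subtype M.subtype_injective,
    fun {Q} hQ hle => ?_⟩, Subgroup.map_subgroupOf_eq_of_le h.1⟩
  have h2 : Q.map M.subtype = R := h.2.2 _ (Subgroup.map_subtype_le Q) (hQ.map _) (by
    rw [← Subgroup.map_subgroupOf_eq_of_le h.1]; exact Subgroup.map_mono hle)
  rw [← h2]
  exact (Subgroup.comap_map_eq_self_of_injective M.subtype_injective Q).symm

theorem sylowOf_map {p : ℕ} {M : Subgroup G} (T : Sylow p M) :
    SylowOf p ((T : Subgroup M).map M.subtype) M := by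
  refine ⟨Subgroup.map_subtype_le _, T.isPGroup'.map _, fun Q hQM hQ hle => ?_⟩
  have h2 : Q.subgroupOf M = (T : Subgroup M) :=
    T.is_maximal' (hQ.comap_of_injective M.subtype M.subtype_injective)
      (fun x hx => hle ⟨x, hx, rfl⟩)
  rw [← h2, Subgroup.map_subgroupOf_eq_of_le hQM]

variable [Finite G] {p : ℕ} [hp : Fact p.Prime]

theorem SylowOf.card_dvd {R M Q : Subgroup G} (h : SylowOf p R M) (hQ : Q ≤ M)
    (hQp : IsPGroup p Q) : Nat.card Q ∣ Nat.card R := by
  obtain ⟨T, rfl⟩ := h.toSylow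
  obtain ⟨S, hS⟩ := (hQp.comap_of_injective M.subtype M.subtype_injective).exists_le_sylow
  rw [Subgroup.card_map_of_injective M.subtype_injective, T.card_eq_multiplicity,
    ← S.card_eq_multiplicity, ← Nat.card_congr (Subgroup.subgroupOfEquivOfLe hQ).toEquiv]
  exact Subgroup.card_dvd_of_le hS

omit [Finite G] hp in
theorem exists_sylowOf_ge {M Q : Subgroup G} (hQ : Q ≤ M) (hQp : IsPGroup p Q) :
    ∃ R : Subgroup G, SylowOf p R M ∧ Q ≤ R := by
  obtain ⟨S, hS⟩ := (hQp.comap_of_injective M.subtype M.subtype_injective).exists_le_sylow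
  exact ⟨_, sylowOf_map S, fun x hx => ⟨⟨x, hQ hx⟩, hS hx, rfl⟩⟩

/-- A Sylow subgroup of `M` whose normalizer lies in `M` is a Sylow subgroup of `G`. -/
theorem SylowOf.exists_sylow {R M : Subgroup G} (h : SylowOf p R M)
    (hN : Subgroup.normalizer (R : Set G) ≤ M) : ∃ P : Sylow p G, (P : Subgroup G) = R := by
  obtain ⟨P, hP⟩ := h.2.1.exists_le_sylow
  refine ⟨P, ?_⟩
  by_contra hne
  have hlt : R < (P : Subgroup G) := lt_of_le_of_ne hP (Ne.symm hne)
  have hgrow := normalizer_grows P.isPGroup' hlt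
  have h2 := h.2.2 (Subgroup.normalizer (R : Set G) ⊓ (P : Subgroup G)) (inf_le_left.trans hN)
    (P.isPGroup'.to_le inf_le_right) (le_inf Subgroup.le_normalizer hP)
  rw [h2] at hgrow
  exact lt_irrefl _ hgrow

omit [Finite G] hp in
theorem sylowOf_of_sylow (P : Sylow p G) {X : Subgroup G} (h : (P : Subgroup G) ≤ X) :
    SylowOf p (P : Subgroup G) X :=
  ⟨h, P.isPGroup', fun _ _ hQp hle => P.is_maximal' hQp hle⟩

/-- `O_{p'}(X)` inside the ambient group. -/
def oPrime (p : ℕ) (X : Subgroup G) : Subgroup G := (Cfsg.pPrimeCore p X).map X.subtype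

omit [Finite G] hp in
theorem oPrime_le (X : Subgroup G) : oPrime p X ≤ X := Subgroup.map_subtype_le _

omit [Finite G] hp in
theorem oPrime_normal (X : Subgroup G) : X ≤ Subgroup.normalizer (oPrime p X : Set G) :=
  map_subtype_normalized _

omit hp in
theorem oPrime_coprime (X : Subgroup G) : (Nat.card (oPrime p X)).Coprime p := by
  rw [oPrime, Subgroup.card_map_of_injective X.subtype_injective]
  exact PCore.pPrimeCore_coprime

omit [Finite G] hp in
theorem le_oPrime {X N : Subgroup G} (hNX : N ≤ X) (hn : X ≤ Subgroup.normalizer (N : Set G))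
    (hc : (Nat.card N).Coprime p) : N ≤ oPrime p X := by
  have h1 : (N.subgroupOf X).Normal := (Subgroup.normal_subgroupOf_iff_le_normalizer hNX).mpr hn
  have h2 := Subgroup.map_mono (f := X.subtype) (PCore.le_pPrimeCore h1
    (p := p) (by rw [Nat.card_congr (Subgroup.subgroupOfEquivOfLe hNX).toEquiv]; exact hc))
  rwa [Subgroup.map_subgroupOf_eq_of_le hNX] at h2

/-- In a solvable group, a `p'`-subgroup normalized by a Sylow `p`-subgroup lies in `O_{p'}`. -/
theorem le_pPrimeCore_of_sylow_normalizes {H : Type*} [Group H] [Finite H] [Group.IsSolvable H]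
    (T : Sylow p H) {Y : Subgroup H} (hY : (Nat.card Y).Coprime p)
    (hn : (T : Subgroup H) ≤ Subgroup.normalizer (Y : Set H)) : Y ≤ Cfsg.pPrimeCore p H := by
  set f := QuotientGroup.mk' (Cfsg.pPrimeCore p H) with hf
  have hsurj : Function.Surjective f := QuotientGroup.mk'_surjective _
  let Tb := T.mapSurjective hsurj
  set R := Cfsg.pCore p (H ⧸ Cfsg.pPrimeCore p H) with hR
  have hRp : IsPGroup p R := PCore.pCore_isPGroup
  have hRY : R ≤ Subgroup.normalizer ((Y.map f : Subgroup _) : Set _) :=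
    (PCore.pCore_le_sylow Tb).trans ((Subgroup.map_mono hn).trans (Subgroup.le_normalizer_map f))
  have hYR : Y.map f ≤ Subgroup.normalizer (R : Set _) := by
    rw [Subgroup.normalizer_eq_top_iff.mpr inferInstance]; exact le_top
  have hc : Y.map f ≤ Subgroup.centralizer (R : Set _) :=
    commute_of_normalizes hYR hRY (fun x h1 h2 =>
      Criteria.eq_one_of_pgroup_of_coprime hRp (Criteria.coprime_map f hY) h2 h1)
  refine Criteria.le_core_of_map_eq_bot (eq_bot_iff.mpr fun x hx => ?_)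
  exact Criteria.eq_one_of_pgroup_of_coprime hRp (Criteria.coprime_map f hY)
    (PCore.centralizer_pCore_le PCore.isPSolvable_of_isSolvable PCore.pPrimeCore_quotient_pPrimeCore
      (hc hx)) hx

theorem le_oPrime_of_sylowOf_normalizes {X R Y : Subgroup G} [Group.IsSolvable X]
    (hR : SylowOf p R X) (hYX : Y ≤ X) (hY : (Nat.card Y).Coprime p)
    (hn : R ≤ Subgroup.normalizer (Y : Set G)) : Y ≤ oPrime p X := by
  obtain ⟨T, rfl⟩ := hR.toSylow
  have h := le_pPrimeCore_of_sylow_normalizes T (Y := Y.subgroupOf X)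
    (by rw [Nat.card_congr (Subgroup.subgroupOfEquivOfLe hYX).toEquiv]; exact hY) (by
      intro t ht
      rw [← Subgroup.subgroupOf_normalizer_eq hYX]
      exact hn ⟨t, ht, rfl⟩)
  have h2 := Subgroup.map_mono (f := X.subtype) h
  rwa [Subgroup.map_subgroupOf_eq_of_le hYX] at h2

/-- `IsPStableOn` for solvable groups of odd order. -/
theorem isPStableOn_of_odd {H : Type u} [Group H] [Finite H] [Group.IsSolvable H]
    (hodd : Odd (Nat.card H)) (V : Subgroup H) [V.Normal] (hV : IsPGroup p V) :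
    Cfsg.IsPStableOn p V := by
  refine PLocal.isPStableOn_of_pElements hV fun a ⟨k, hk⟩ ha => ?_
  rw [PLocal.mem_stabD_iff]
  exact Criteria.quadStable p H hodd V (Subgroup.zpowers a) hV
    (IsPGroup.of_card (n := k) (by rw [Nat.card_zpowers, hk])) ha ⟨a, Subgroup.mem_zpowers a, rfl⟩

theorem zj_normal_of_odd {H : Type u} [Group H] [Finite H] [Group.IsSolvable H]
    (hodd : Odd (Nat.card H)) (hp2 : p ≠ 2) (h0 : Cfsg.pPrimeCore p H = ⊥) (S : Sylow p H) :
    (PLocal.zj 0 (S : Subgroup H)).Normal :=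
  PLocal.zj_normal hp2 (Or.inl rfl)
    (PCore.centralizer_pCore_le PCore.isPSolvable_of_isSolvable h0)
    (fun V _ hV => isPStableOn_of_odd hodd V hV) S

/-- Glauberman's factorization `X = O_{p'}(X) N_X(Z(J(R)))`. -/
theorem le_sup_normalizer_zj {X R : Subgroup G} [Group.IsSolvable X] (hodd : Odd (Nat.card X))
    (hp2 : p ≠ 2) (hR : SylowOf p R X) :
    X ≤ oPrime p X ⊔ (X ⊓ Subgroup.normalizer (PLocal.zj 0 R : Set G)) := by
  obtain ⟨T, rfl⟩ := hR.toSylow
  have hodd' : Odd (Nat.card (X ⧸ Cfsg.pPrimeCore p X)) :=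
    Odd.of_dvd_nat hodd (Subgroup.card_quotient_dvd_card _)
  have h := zj_normal_of_odd hodd' hp2 PCore.pPrimeCore_quotient_pPrimeCore
    (T.mapSurjective (QuotientGroup.mk'_surjective (Cfsg.pPrimeCore p X)))
  rw [Sylow.coe_mapSurjective] at h
  have h2 := PLocal.sup_normalizer_zj_eq_top (e := 0) PCore.pPrimeCore_coprime T h
  rw [PLocal.zj_map X.subtype_injective]
  intro x hx
  have h3 : x ∈ (Cfsg.pPrimeCore p X ⊔
      Subgroup.normalizer (PLocal.zj 0 (T : Subgroup X) : Set X)).map X.subtype :=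
    ⟨⟨x, hx⟩, by rw [h2]; trivial, rfl⟩
  rw [Subgroup.map_sup] at h3
  exact sup_le_sup_left (le_inf (Subgroup.map_subtype_le _) (Subgroup.le_normalizer_map X.subtype))
    (oPrime p X) h3

/-- `R ∩ O_{p',p}(X)` and the Frattini factorization. -/
theorem exists_frattini_core {X R : Subgroup G} (hR : SylowOf p R X) :
    ∃ R₁ : Subgroup G, R₁ ≤ R ∧
      X ≤ oPrime p X ⊔ (X ⊓ Subgroup.normalizer (R₁ : Set G)) ∧
      ∀ x : X, (x : G) ∈ R → x ∈ Cfsg.pPrimePCore p X → (x : G) ∈ R₁ := by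
  obtain ⟨T, rfl⟩ := hR.toSylow
  set P := (T : Subgroup X) ⊓ Cfsg.pPrimePCore p X with hP
  refine ⟨P.map X.subtype, Subgroup.map_mono inf_le_left, ?_, ?_⟩
  · intro x hx
    obtain ⟨n, hn, hnx⟩ := PLocal.exists_mul_mem_normalizer (N := Cfsg.pPrimeCore p X) (P := P)
      (x := (⟨x, hx⟩ : X)) PCore.pPrimeCore_coprime (T.isPGroup'.to_le inf_le_left) (fun y hy => by
        rw [hP, PLocal.map_sylow_inf_pPrimePCore T, map_mul, map_mul, map_inv]
        refine (inferInstance : (Cfsg.pCore p (X ⧸ Cfsg.pPrimeCore p X)).Normal).conj_mem _ ?_ _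
        rw [← PLocal.map_sylow_inf_pPrimePCore T]
        exact ⟨y, hy, rfl⟩)
    have h1 : x = ((n⁻¹ : X) : G) * ((n * ⟨x, hx⟩ : X) : G) := by simp
    rw [h1]
    exact Subgroup.mul_mem_sup ⟨n⁻¹, inv_mem hn, rfl⟩
      ⟨(n * ⟨x, hx⟩ : X).2, Subgroup.le_normalizer_map X.subtype ⟨_, hnx, rfl⟩⟩
  · intro x hxR hxP
    obtain ⟨t, ht, hte⟩ := hxR
    exact ⟨x, ⟨Subtype.coe_injective hte ▸ ht, hxP⟩, rfl⟩

theorem zj_ne_bot {R : Subgroup G} (hR : IsPGroup p R) (hne : R ≠ ⊥) :
    PLocal.zj 0 R ≠ ⊥ := by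
  rw [PLocal.zj_zero]
  exact PLocal.centerJ_zero_ne_bot hR hne

end CfsgLib.OddOrder
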