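import Cfsg.Prelude.Def_OddOrderLocal
import Mathlib.GroupTheory.Nilpotent
import Mathlib.GroupTheory.PGroup
import Mathlib.GroupTheory.QuotientGroup.Basic
import Mathlib.Order.OrderIsoNat

/-! The Puig series: monotonicity, stabilisation, and self-centralising terms in `p`-groups. -/

set_option autoImplicit false

namespace CfsgLib.OddOrder.PuigSeries

open Cfsg Subgroup
open scoped commutatorElement

variable {G : Type*} [Group G]

theorem le_step {X A : Subgroup G} (hA : IsMulCommutative A)
    (hX : X ≤ normalizer (A : Set G)) : A ≤ puigStep X :=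
  le_sSup ⟨hA, hX⟩

theorem step_anti {X Y : Subgroup G} (h : X ≤ Y) : puigStep Y ≤ puigStep X :=
  sSup_le_sSup fun _ hA => ⟨hA.1, h.trans hA.2⟩

theorem step_bot : puigStep (⊥ : Subgroup G) = ⊤ := by
  refine eq_top_iff.mpr fun g _ => ?_
  exact le_step (A := zpowers g) inferInstance bot_le (mem_zpowers g)

variable (G)

theorem puigSeq_one : puigSeq G 1 = ⊤ := step_bot

theorem even_le_succ : ∀ n : ℕ, puigSeq G (2 * n) ≤ puigSeq G (2 * n + 2)
  | 0 => bot_le
  | n + 1 => step_anti (step_anti (even_le_succ n))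

theorem odd_succ_le (n : ℕ) : puigSeq G (2 * n + 3) ≤ puigSeq G (2 * n + 1) :=
  step_anti (even_le_succ G n)

theorem even_mono : Monotone fun n => puigSeq G (2 * n) :=
  monotone_nat_of_le_succ (even_le_succ G)

theorem odd_anti : Antitone fun n => puigSeq G (2 * n + 1) :=
  antitone_nat_of_succ_le (odd_succ_le G)

theorem even_le_odd_same : ∀ n : ℕ, puigSeq G (2 * n) ≤ puigSeq G (2 * n + 1)
  | 0 => bot_le
  | n + 1 => by
    have h1 : puigSeq G (2 * n + 2) ≤ puigSeq G (2 * n + 1) := step_anti (even_le_odd_same n)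
    exact step_anti h1

theorem even_le_odd (n m : ℕ) : puigSeq G (2 * n) ≤ puigSeq G (2 * m + 1) :=
  ((even_mono G (le_max_left n m)).trans (even_le_odd_same G _)).trans (odd_anti G (le_max_right n m))

theorem lower_le_upper : puigLower G ≤ puigSubgroup G :=
  iSup_le fun n => le_iInf fun m => even_le_odd G n m

variable [Finite G]

theorem stable : ∃ k : ℕ, ∀ n : ℕ, k ≤ n →
    puigSeq G (2 * n) = puigLower G ∧ puigSeq G (2 * n + 1) = puigSubgroup G := by
  obtain ⟨a, ha⟩ := WellFoundedGT.monotone_chain_condition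
    (⟨fun n => puigSeq G (2 * n), even_mono G⟩ : ℕ →o Subgroup G)
  refine ⟨a, fun n hn => ?_⟩
  have he : ∀ j, puigSeq G (2 * j) ≤ puigSeq G (2 * a) := fun j =>
    (even_mono G (le_max_left j a)).trans (ha _ (le_max_right j a)).ge
  have he' : puigSeq G (2 * n) = puigSeq G (2 * a) := (ha n hn).symm
  refine ⟨le_antisymm (le_iSup (fun j => puigSeq G (2 * j)) n) (iSup_le fun j => (he j).trans he'.ge), ?_⟩
  have e : puigSeq G (2 * n + 1) = puigSeq G (2 * a + 1) := congrArg puigStep he'
  refine le_antisymm (le_iInf fun j => ?_) (iInf_le (fun j => puigSeq G (2 * j + 1)) n)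
  rw [e]
  refine le_trans ?_ (odd_anti G (le_max_left j a))
  exact (congrArg puigStep (ha _ (le_max_right j a))).le

theorem step_lower : puigStep (puigLower G) = puigSubgroup G := by
  obtain ⟨k, hk⟩ := stable G
  rw [← (hk k le_rfl).1, ← (hk k le_rfl).2]
  rfl

theorem step_upper : puigStep (puigSubgroup G) = puigLower G := by
  obtain ⟨k, hk⟩ := stable G
  rw [← (hk k le_rfl).2, ← (hk (k + 1) (by omega)).1]
  rfl

variable {G}
variable {p : ℕ} [Fact p.Prime]

omit [Finite G] in
/-- A non-trivial normal subgroup of a nilpotent group meets the centre. -/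
theorem inf_center_ne_bot [Group.IsNilpotent G] (C : Subgroup G) [C.Normal] (hC : C ≠ ⊥) :
    center G ⊓ C ≠ ⊥ := by
  classical
  obtain ⟨m, hm⟩ := Subgroup.nilpotent_iff_lowerCentralSeries.mp (inferInstance : Group.IsNilpotent G)
  have hex : ∃ n, C ⊓ (⊤ : Subgroup G).lowerCentralSeries n = ⊥ := ⟨m, by rw [hm, inf_bot_eq]⟩
  set n := Nat.find hex with hn
  have h0 : n ≠ 0 := by
    intro h
    have := Nat.find_spec hex
    rw [← hn, h, Subgroup.lowerCentralSeries_zero, inf_top_eq] at this
    exact hC this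
  obtain ⟨k, hk⟩ := Nat.exists_eq_succ_of_ne_zero h0
  have hne : C ⊓ (⊤ : Subgroup G).lowerCentralSeries k ≠ ⊥ := Nat.find_min hex (by omega)
  refine ne_bot_of_le_ne_bot hne (le_inf ?_ inf_le_left)
  intro x hx
  refine mem_center_iff.mpr fun g => ?_
  have hxn : ⁅x, g⁆ ∈ C ⊓ (⊤ : Subgroup G).lowerCentralSeries n := by
    refine ⟨?_, ?_⟩
    · rw [commutatorElement_def, mul_assoc, mul_assoc]
      exact C.mul_mem hx.1 (by
        simpa [mul_assoc] using (inferInstance : C.Normal).conj_mem _ (C.inv_mem hx.1) g)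
    · rw [hk]
      exact commutator_mem_commutator hx.2 (mem_top g)
  rw [hn, Nat.find_spec hex, Subgroup.mem_bot] at hxn
  exact (commutatorElement_eq_one_iff_mul_comm.mp hxn).symm

/-- A finite `p`-group has an abelian normal subgroup containing its centralizer. -/
theorem exists_abelian_normal_centralizer_le (hG : IsPGroup p G) :
    ∃ A : Subgroup G, A.Normal ∧ IsMulCommutative A ∧ centralizer (A : Set G) ≤ A := by
  obtain ⟨A, hA⟩ := (Set.toFinite {A : Subgroup G | A.Normal ∧ IsMulCommutative A}).exists_maximal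
    ⟨⊥, inferInstance, inferInstance⟩
  obtain ⟨hn, hc⟩ := hA.prop
  refine ⟨A, hn, hc, ?_⟩
  by_contra hle
  have : Group.IsNilpotent (G ⧸ A) := (hG.to_quotient A).isNilpotent
  set C := (centralizer (A : Set G)).map (QuotientGroup.mk' A) with hC
  have hCn : C.Normal := Subgroup.Normal.map inferInstance _ (QuotientGroup.mk'_surjective A)
  have hC1 : C ≠ ⊥ := by
    rw [hC, Ne, Subgroup.map_eq_bot_iff, QuotientGroup.ker_mk']
    exact hle
  haveI : Nontrivial C := Subgroup.nontrivial_iff_ne_bot C |>.mpr hC1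
  -- a non-trivial central element of `G ⧸ A` inside the image of the centralizer
  have hfix : ∃ z ∈ C, z ≠ 1 ∧ z ∈ center (G ⧸ A) := by
    have hne := inf_center_ne_bot (G := G ⧸ A) C hC1
    obtain ⟨⟨z, hz1, hz2⟩, hz⟩ : ∃ z : ↥(center (G ⧸ A) ⊓ C), z ≠ 1 := by
      haveI := (Subgroup.nontrivial_iff_ne_bot _).mpr hne
      exact exists_ne 1
    exact ⟨z, hz2, fun h => hz (Subtype.ext h), hz1⟩
  obtain ⟨z, ⟨x, hx, rfl⟩, hz1, hzc⟩ := hfix
  set B := A ⊔ zpowers x with hB
  have hBc : IsMulCommutative B := by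
    rw [hB, ← Subgroup.closure_eq A, Subgroup.zpowers_eq_closure, ← Subgroup.closure_union]
    refine Subgroup.isMulCommutative_closure ?_
    rintro a (ha | rfl) b (hb | rfl)
    · exact congrArg Subtype.val (hc.is_comm.comm (⟨a, ha⟩ : A) ⟨b, hb⟩)
    · exact mem_centralizer_iff.mp hx a ha
    · exact (mem_centralizer_iff.mp hx b hb).symm
    · rfl
  have hBm : B = (zpowers (QuotientGroup.mk' A x)).comap (QuotientGroup.mk' A) := by
    rw [← MonoidHom.map_zpowers, Subgroup.comap_map_eq, QuotientGroup.ker_mk', sup_comm, hB]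
  have hBn : B.Normal := by
    have : (zpowers (QuotientGroup.mk' A x)).Normal := ⟨fun n hn' g => by
      have : n ∈ center (G ⧸ A) := (zpowers_le.mpr hzc) hn'
      rwa [(mem_center_iff.mp this g), mul_inv_cancel_right]⟩
    rw [hBm]
    infer_instance
  have := hA.le_of_ge ⟨hBn, hBc⟩ le_sup_left
  exact hz1 ((QuotientGroup.eq_one_iff x).mpr (this (mem_sup_right (mem_zpowers x))))

theorem centralizer_step_le (hG : IsPGroup p G) (X : Subgroup G) :
    centralizer ((puigStep X : Subgroup G) : Set G) ≤ puigStep X := by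
  obtain ⟨A, hn, hc, hle⟩ := exists_abelian_normal_centralizer_le hG
  have hA : A ≤ puigStep X := le_step hc (le_top.trans (normalizer_eq_top_iff.mpr hn).ge)
  exact ((centralizer_le hA).trans hle).trans hA

theorem centralizer_le' (hG : IsPGroup p G) {i : ℕ} (hi : 0 < i) :
    centralizer ((puigSeq G i : Subgroup G) : Set G) ≤ puigSeq G i := by
  obtain ⟨j, rfl⟩ := Nat.exists_eq_succ_of_ne_zero hi.ne'
  exact centralizer_step_le hG _

theorem centralizer_lower_le (hG : IsPGroup p G) :
    centralizer ((puigLower G : Subgroup G) : Set G) ≤ puigLower G := by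
  rw [← step_upper G]
  exact centralizer_step_le hG _

theorem centralizer_upper_le (hG : IsPGroup p G) :
    centralizer ((puigSubgroup G : Subgroup G) : Set G) ≤ puigSubgroup G := by
  rw [← step_lower G]
  exact centralizer_step_le hG _

theorem lower_ne_bot [Nontrivial G] (hG : IsPGroup p G) : puigLower G ≠ ⊥ := by
  intro h
  have := centralizer_lower_le hG
  rw [h] at this
  have htop : (⊤ : Subgroup G) ≤ ⊥ := by
    refine le_trans (fun g _ => mem_centralizer_iff.mpr fun x hx => ?_) this
    simp [Subgroup.mem_bot.mp hx]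
  exact top_ne_bot (le_bot_iff.mp htop)

theorem upper_ne_bot [Nontrivial G] (hG : IsPGroup p G) : puigSubgroup G ≠ ⊥ :=
  ne_bot_of_le_ne_bot (lower_ne_bot hG) (lower_le_upper G)

end CfsgLib.OddOrder.PuigSeries
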