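import Cfsg.Agent.Lib.Characters.Clifford
import Cfsg.Agent.Lib.Characters.LinearTwist
import Cfsg.Agent.Lib.Characters.Ramified
import Cfsg.Agent.S0867

/-!
Induction from the inertia group (Clifford correspondence, the other direction), and the decomposition of an
invariant irreducible character induced to a group with abelian quotient.
-/

set_option autoImplicit false

noncomputable section

namespace CfsgLib.OddOrder.CliffordInd

open Cfsg CfsgLib.Characters
open scoped ComplexConjugate commutatorElement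

universe u

variable {G : Type u} [Group G] [Fintype G]

/-- Transport an inner product along an isomorphism. -/
theorem classInner_equiv {A B : Type u} [Group A] [Group B] [Fintype A] [Fintype B] (e : A ≃* B)
    (f g : B → ℂ) : classInner (fun a => f (e a)) (fun a => g (e a)) = classInner f g := by
  unfold Cfsg.classInner
  rw [Nat.card_congr e.toEquiv]
  congr 1
  exact Fintype.sum_equiv e.toEquiv _ _ fun x => rfl

/-- Induced characters from the inertia group are irreducible and distinct. -/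
theorem indFun_of_inertia {H : Subgroup G} [Fintype H] (hN : H.Normal) {θ : H → ℂ}
    (hθ : IsIrrCharacter H θ) (T : Subgroup G) [Fintype T] (hT : T = CfsgLib.Clifford.inertia hN θ)
    (hHT : H ≤ T) {ψ : T → ℂ} (hψ : IsIrrCharacter T ψ)
    (hcon : classInner (fun n : H => ψ (Subgroup.inclusion hHT n)) θ ≠ 0) :
    IsIrrCharacter G (indFun T ψ) ∧
      ∀ ψ' : T → ℂ, IsIrrCharacter T ψ' →
        classInner (fun n : H => ψ' (Subgroup.inclusion hHT n)) θ ≠ 0 →
        indFun T ψ = indFun T ψ' → ψ = ψ' := by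
  classical
  let ι : H →* T := Subgroup.inclusion hHT
  -- a constituent of the induced character and its correspondent
  have key : ∀ {φ : T → ℂ}, IsIrrCharacter T φ → classInner (fun n : H => φ (ι n)) θ ≠ 0 →
      ∀ {χ : G → ℂ}, IsIrrCharacter G χ → classInner (indFun T φ) χ ≠ 0 →
        indFun T φ = χ ∧ ∀ {φ' : T → ℂ}, IsIrrCharacter T φ' →
          classInner (fun n : H => φ' (ι n)) θ ≠ 0 → indFun T φ' = χ → φ' = φ := by
    intro φ hφ hφθ χ hχ hne
    have hχc := isCharacter_of_irr hχ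
    have hχcl := isClassFunction_of_isCharacter hχc
    have hresT : IsCharacter T (fun t : T => χ t) := CfsgLib.Clifford.isCharacter_subtype hχc T
    obtain ⟨m, hm, hsum⟩ := CfsgLib.Clifford.exists_mult hresT
    have hk : ∀ ξ : IrrCharacter T, ∃ k : ℕ, classInner (fun n : H => (ξ : T → ℂ) (ι n)) θ = (k : ℂ) :=
      fun ξ => classInner_char_nat (CfsgLib.Clifford.isCharacter_pullback (irr_isCharacter ξ) ι)
        (isCharacter_of_irr hθ)
    choose k hk using hk
    have hexp : classInner (fun n : H => χ n) θ = ((∑ ξ : IrrCharacter T, m ξ * k ξ : ℕ) : ℂ) := by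
      have : (fun n : H => χ n) = ∑ ξ : IrrCharacter T, (m ξ : ℂ) • fun n : H => (ξ : T → ℂ) (ι n) := by
        funext n
        have := congrFun hsum (ι n)
        simp only [Finset.sum_apply, Pi.smul_apply, smul_eq_mul] at this ⊢
        exact this
      rw [this, classInner_sum_left, Nat.cast_sum]
      exact Finset.sum_congr rfl fun ξ _ => by rw [classInner_smul_left, hk, Nat.cast_mul]
    have hmof : ∀ {ξ : T → ℂ} (hξ : IsIrrCharacter T ξ), classInner (indFun T ξ) χ ≠ 0 → m ⟨ξ, hξ⟩ ≠ 0 := by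
      intro ξ hξ hne' h0
      apply hne'
      rw [CfsgLib.Induction.classInner_indFun T ξ hχcl, classInner_conj_symm]
      have := hm ⟨ξ, hξ⟩
      rw [h0, Nat.cast_zero] at this
      show conj (classInner (fun t : T => χ t) ξ) = 0
      rw [show classInner (fun t : T => χ t) ξ = 0 from this, map_zero]
    have hkne : ∀ {ξ : T → ℂ} (hξ : IsIrrCharacter T ξ),
        classInner (fun n : H => ξ (ι n)) θ ≠ 0 → k ⟨ξ, hξ⟩ ≠ 0 := fun hξ h h0 =>
      h ((hk ⟨_, hξ⟩).trans (by rw [h0, Nat.cast_zero]))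
    have hχθ : classInner (fun n : H => χ n) θ ≠ 0 := by
      rw [hexp, Nat.cast_ne_zero]
      exact fun h => mul_ne_zero (hmof hφ hne) (hkne hφ hφθ) (Finset.sum_eq_zero_iff.mp h _ (Finset.mem_univ _))
    obtain ⟨ψ₀, hψ₀, hind₀, he₀⟩ := CfsgLib.Clifford.correspondence hN hθ T hT hHT hχ hχθ
    have huniq : ∀ {ξ : T → ℂ}, IsIrrCharacter T ξ → classInner (fun n : H => ξ (ι n)) θ ≠ 0 →
        classInner (indFun T ξ) χ ≠ 0 → ξ = ψ₀ := by
      intro ξ hξ hξθ hξne
      by_contra hne'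
      have hk0 : k ⟨ψ₀, hψ₀⟩ = ∑ η : IrrCharacter T, m η * k η := by
        have h := (hk ⟨ψ₀, hψ₀⟩).symm.trans (he₀.trans hexp)
        exact_mod_cast h
      have hm0 : m ⟨ψ₀, hψ₀⟩ ≠ 0 := hmof hψ₀ (by rw [hind₀, classInner_irr_self hχ]; exact one_ne_zero)
      have hpair : m ⟨ψ₀, hψ₀⟩ * k ⟨ψ₀, hψ₀⟩ + m ⟨ξ, hξ⟩ * k ⟨ξ, hξ⟩ ≤ ∑ η : IrrCharacter T, m η * k η := by
        rw [← Finset.sum_pair (f := fun η => m η * k η) (fun e => hne' (congrArg Subtype.val e).symm)]
        exact Finset.sum_le_sum_of_subset (Finset.subset_univ _)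
      have h1 : k ⟨ψ₀, hψ₀⟩ ≤ m ⟨ψ₀, hψ₀⟩ * k ⟨ψ₀, hψ₀⟩ := Nat.le_mul_of_pos_left _ (Nat.pos_of_ne_zero hm0)
      have h2 : 0 < m ⟨ξ, hξ⟩ * k ⟨ξ, hξ⟩ :=
        Nat.pos_of_ne_zero (mul_ne_zero (hmof hξ hξne) (hkne hξ hξθ))
      omega
    have hφeq := huniq hφ hφθ hne
    refine ⟨by rw [hφeq, hind₀], fun {φ'} hφ' hφ'θ e => ?_⟩
    rw [hφeq]
    exact huniq hφ' hφ'θ (by rw [e, classInner_irr_self hχ]; exact one_ne_zero)
  have hc := CfsgLib.Induction.isCharacter_indFun T (isCharacter_of_irr hψ)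
  have h0 : indFun T ψ ≠ 0 := by
    intro h
    have h1 := congrFun h 1
    obtain ⟨d, hd, he⟩ := irr_exists_degree hψ
    rw [CfsgLib.Induction.indFun_one_apply, he, Pi.zero_apply] at h1
    have h2 : T.index * d = 0 := by exact_mod_cast h1
    exact mul_ne_zero Subgroup.index_ne_zero_of_finite hd.ne' h2
  obtain ⟨⟨χ, hχ⟩, hχne⟩ := CfsgLib.Clifford.exists_constituent hc h0
  obtain ⟨heq, huniq⟩ := key hψ hcon hχ hχne
  refine ⟨heq ▸ hχ, fun ψ' hψ' hψ'θ e => (huniq hψ' hψ'θ (e ▸ heq)).symm⟩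

/-- An invariant irreducible character of a normal subgroup with abelian quotient, induced up. -/
theorem indFun_invariant_abelian (N : Subgroup G) [hN : N.Normal] [Fintype N] {θ : N → ℂ}
    (hθ : IsIrrCharacter N θ)
    (hinv : ∀ (g : G) (n : N), θ ⟨g * n * g⁻¹, hN.conj_mem (n : G) n.2 g⟩ = θ n)
    (hab : ∀ x y : G, x * y * x⁻¹ * y⁻¹ ∈ N) :
    ∃ (k : ℕ) (C : Finset (G → ℂ)), 0 < k ∧ (∀ χ ∈ C, IsIrrCharacter G χ) ∧
      k ^ 2 * C.card = N.index ∧ indFun N θ = (k : ℂ) • ∑ χ ∈ C, χ ∧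
      (∀ χ ∈ C, classInner (fun n : N => χ n) θ ≠ 0 ∧ χ 1 = (k : ℂ) * θ 1) ∧
      ((Nat.card N).Coprime N.index → k = 1) := by
  classical
  have hθc := isCharacter_of_irr hθ
  have hind := CfsgLib.Induction.isCharacter_indFun N hθc
  obtain ⟨M, hM, hMsum⟩ := CfsgLib.Clifford.exists_mult hind
  have hMres : ∀ ξ : IrrCharacter G, classInner (fun n : N => (ξ : G → ℂ) n) θ = (M ξ : ℂ) := by
    intro ξ
    rw [classInner_conj_symm, ← CfsgLib.Induction.classInner_indFun N θ (irr_isClassFunction ξ), hM, map_natCast]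
  have hres : ∀ ξ : IrrCharacter G, M ξ ≠ 0 → (fun n : N => (ξ : G → ℂ) n) = (M ξ : ℂ) • θ := fun ξ h => by
    rw [← hMres ξ]
    exact CfsgLib.Ramified.res_eq_smul_of_invariant N ξ.2 hθ hinv (by rw [hMres]; exact_mod_cast h)
  haveI : Fintype (G ⧸ N) := Fintype.ofFinite _
  have hcomm : IsMulCommutative (G ⧸ N) := by
    refine ⟨⟨fun a b => ?_⟩⟩
    obtain ⟨x, rfl⟩ := QuotientGroup.mk'_surjective N a
    obtain ⟨y, rfl⟩ := QuotientGroup.mk'_surjective N b
    refine commutatorElement_eq_one_iff_mul_comm.mp ?_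
    rw [← map_commutatorElement]
    exact (QuotientGroup.eq_one_iff _).mpr (by rw [commutatorElement_def]; exact hab x y)
  have hlin : ∀ ξ : IrrCharacter (G ⧸ N), ∃ f : G →* ℂˣ, ∀ g, (ξ : (G ⧸ N) → ℂ) (QuotientGroup.mk g) = (f g : ℂ) := by
    intro ξ
    obtain ⟨_, n, ρ, hρ, rfl⟩ := ξ
    haveI := hρ
    haveI := CfsgLib.CharScalar.nontrivial_of_irreducible ρ
    have hsc : ∀ a, ∃ c : ℂ, ρ a = c • 1 := fun a => CfsgLib.CharScalar.center_scalar ρ
      (Subgroup.mem_center_iff.mpr fun b => hcomm.is_comm.comm b a)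
    have hn1 : n = 1 := by
      obtain ⟨v, hv⟩ := exists_ne (0 : Fin n → ℂ)
      rcases CfsgLib.CharScalar.eq_bot_or_eq_top ρ (Submodule.span ℂ {v}) (fun a w hw => by
        obtain ⟨c, hc⟩ := hsc a
        rw [hc]
        exact Submodule.smul_mem _ c hw) with h | h
      · exact absurd (Submodule.span_singleton_eq_bot.mp h) hv
      · have h2 := finrank_span_singleton (K := ℂ) hv
        rw [h, finrank_top, Module.finrank_fin_fun] at h2
        exact h2
    have h1 : ρ.character 1 = 1 := by rw [Representation.char_one, Module.finrank_fin_fun, hn1, Nat.cast_one]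
    obtain ⟨f, hf⟩ := CfsgLib.LinearExt.exists_unitsHom ⟨n, ρ, rfl⟩ h1
    exact ⟨f.comp (QuotientGroup.mk' N), fun g => congrFun hf _⟩
  choose f hf using hlin
  -- the induced trivial character is the sum of the linear characters of the quotient
  have hone : ∀ g, indFun N (fun _ => (1 : ℂ)) g = ∑ ξ : IrrCharacter (G ⧸ N), (f ξ g : ℂ) := by
    intro g
    have h := CfsgLib.Characters.sum_degree_mul_irr (G := G ⧸ N) (QuotientGroup.mk g)
    have hdeg : ∀ ξ : IrrCharacter (G ⧸ N), (ξ : (G ⧸ N) → ℂ) 1 = 1 := fun ξ => by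
      have := hf ξ 1
      simpa using this
    simp only [hdeg, one_mul, hf] at h
    rw [h]
    by_cases hg : g ∈ N
    · rw [if_pos ((QuotientGroup.eq_one_iff g).mpr hg), CfsgLib.Induction.indFun_normal_apply N _ ⟨g, hg⟩,
        ← Subgroup.index_eq_card, Finset.sum_const, Finset.card_univ, nsmul_eq_mul, mul_one,
        ← Nat.card_eq_fintype_card, ← Subgroup.index_mul_card N, Nat.cast_mul, mul_comm (N.index : ℂ),
        inv_mul_cancel_left₀ (Nat.cast_ne_zero.mpr Nat.card_pos.ne')]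
    · rw [if_neg (fun e => hg ((QuotientGroup.eq_one_iff g).mp e)), CfsgLib.Induction.indFun_normal_eq_zero N hg]
  obtain ⟨ξ₀, hξ₀⟩ : ∃ ξ : IrrCharacter G, M ξ ≠ 0 := by
    by_contra! h
    have h1 := congrFun hMsum 1
    obtain ⟨d, hd, he⟩ := irr_exists_degree hθ
    simp only [h, Nat.cast_zero, zero_smul, Finset.sum_const_zero, CfsgLib.Induction.indFun_one_apply, he,
      Pi.zero_apply] at h1
    have h2 : N.index * d = 0 := by exact_mod_cast h1
    exact mul_ne_zero Subgroup.index_ne_zero_of_finite hd.ne' h2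
  set k := M ξ₀
  -- every constituent is a linear twist of `ξ₀`
  have hprod : ∀ g, (k : ℂ) * indFun N θ g = ∑ ξ : IrrCharacter (G ⧸ N), (f ξ g : ℂ) * (ξ₀ : G → ℂ) g := by
    intro g
    rw [← Finset.sum_mul, ← hone, ← Pi.mul_apply, CfsgLib.Induction.indFun_mul N (irr_isClassFunction ξ₀)]
    have e : (fun n : N => (1 : ℂ) * (ξ₀ : G → ℂ) n) = (k : ℂ) • θ := by
      rw [← hres ξ₀ hξ₀]; simp
    rw [e, CfsgLib.Induction.indFun_smul, Pi.smul_apply, smul_eq_mul]
  let tw : IrrCharacter (G ⧸ N) → IrrCharacter G := fun ξ =>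
    ⟨fun g => (ξ₀ : G → ℂ) g * (f ξ g : ℂ), CfsgLib.LinearTwist.isIrr_mul_hom ξ₀.2 (f ξ)⟩
  have hconst : ∀ η : IrrCharacter G, M η ≠ 0 → M η = k := by
    intro η hη
    obtain ⟨ξ, hξ⟩ : ∃ ξ, tw ξ = η := by
      by_contra! hne
      have h : classInner ((k : ℂ) • indFun N θ) (η : G → ℂ) = 0 := by
        have e : (k : ℂ) • indFun N θ = ∑ ξ : IrrCharacter (G ⧸ N), (tw ξ : G → ℂ) := by
          funext g
          rw [Pi.smul_apply, smul_eq_mul, hprod, Finset.sum_apply]
          exact Finset.sum_congr rfl fun ξ _ => mul_comm _ _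
        rw [e, classInner_sum_left]
        exact Finset.sum_eq_zero fun ξ _ =>
          classInner_irr_ne (tw ξ).2 η.2 (fun e => hne ξ (Subtype.ext e))
      rw [classInner_smul_left, hM] at h
      exact mul_ne_zero (Nat.cast_ne_zero.mpr hξ₀) (Nat.cast_ne_zero.mpr hη) h
    have e1 : classInner (fun n : N => (η : G → ℂ) n) θ = (k : ℂ) := by
      rw [← hξ, ← hMres ξ₀]
      congr 1
      funext n
      have h1 : (f ξ n : ℂ) = 1 := by
        rw [← hf, (QuotientGroup.eq_one_iff (n : G)).mpr n.2]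
        have := hf ξ 1
        simpa using this
      show (ξ₀ : G → ℂ) n * (f ξ n : ℂ) = _
      rw [h1, mul_one]
    rw [hMres] at e1
    exact_mod_cast e1
  set C₀ := Finset.univ.filter fun η : IrrCharacter G => M η ≠ 0 with hC₀
  refine ⟨k, C₀.map ⟨Subtype.val, Subtype.val_injective⟩, Nat.pos_of_ne_zero hξ₀, ?_, ?_, ?_, ?_, ?_⟩
  · intro χ hχ
    obtain ⟨η, -, rfl⟩ := Finset.mem_map.mp hχ
    exact η.2
  · rw [Finset.card_map]
    have h1 : classInner (indFun N θ) (indFun N θ) = (N.index : ℂ) := by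
      rw [CfsgLib.Clifford.classInner_indFun_indFun hN (isClassFunction_of_isCharacter hθc)]
      have : ∀ x : G, classInner θ (CfsgLib.Clifford.conjChar hN θ x) = 1 := fun x => by
        rw [show CfsgLib.Clifford.conjChar hN θ x = θ from funext (hinv x), classInner_irr_self hθ]
      simp only [this, Finset.sum_const, Finset.card_univ, nsmul_eq_mul, mul_one]
      rw [← Nat.card_eq_fintype_card, ← Subgroup.index_mul_card N, Nat.cast_mul, mul_comm (N.index : ℂ),
        inv_mul_cancel_left₀ (Nat.cast_ne_zero.mpr Nat.card_pos.ne')]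
    rw [classInner_eq_sum_mul (φ := indFun N θ) (isClassFunction_of_isCharacter hind)] at h1
    have h2 : ∑ η : IrrCharacter G, M η * M η = N.index := by
      simp only [hM, map_natCast] at h1
      exact_mod_cast h1
    rw [← h2, ← Finset.sum_filter_ne_zero, Finset.sum_congr rfl (fun η hη => ?_), Finset.sum_const,
      smul_eq_mul, pow_two, mul_comm (k * k)]
    · congr 1
      congr 1
      ext η
      simp [hC₀]
    · have : M η ≠ 0 := fun h => (Finset.mem_filter.mp hη).2 (by rw [h, mul_zero])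
      rw [hconst η this]
  · rw [Finset.sum_map, Finset.smul_sum]
    conv_lhs => rw [hMsum]
    rw [← Finset.sum_filter_of_ne (p := fun η : IrrCharacter G => M η ≠ 0)
      (fun η _ h hM0 => h (by rw [hM0, Nat.cast_zero, zero_smul]))]
    exact Finset.sum_congr rfl fun η hη => by rw [hconst η (Finset.mem_filter.mp hη).2]; rfl
  · intro χ hχ
    obtain ⟨η, hη, rfl⟩ := Finset.mem_map.mp hχ
    have hη0 := (Finset.mem_filter.mp hη).2
    refine ⟨?_, ?_⟩
    · show classInner (fun n : N => (η : G → ℂ) n) θ ≠ 0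
      rw [hMres]; exact_mod_cast hη0
    · have := congrFun (hres η hη0) 1
      rw [hconst η hη0] at this
      simpa using this
  · intro hcop
    obtain ⟨d, hd, hdeq⟩ := irr_exists_degree hθ
    have hdN : d ∣ Nat.card N := by
      obtain ⟨n, ρ, hρ, rfl⟩ := hθ
      haveI := hρ
      have := CfsgLib.CharScalar.finrank_dvd_card ρ
      rw [Representation.char_one] at hdeq
      rwa [show Module.finrank ℂ (Fin n → ℂ) = d by exact_mod_cast hdeq] at this
    have hod : Cfsg.detOrder θ ∣ Nat.card N := by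
      obtain ⟨hdc, hd1⟩ := CfsgLib.CharExtension.isCharacter_detChar N hθ
      obtain ⟨l, hl⟩ := CfsgLib.LinearExt.exists_unitsHom hdc hd1
      unfold Cfsg.detOrder
      rw [hl, CfsgLib.LinearExt.orderOf_coeUnitsFun]
      refine orderOf_dvd_of_pow_eq_one (MonoidHom.ext fun x => ?_)
      rw [MonoidHom.pow_apply, ← map_pow, pow_card_eq_one', map_one, MonoidHom.one_apply]
    obtain ⟨η, ⟨hη, hηres, -⟩, -⟩ := Cfsg.Agent.S0867.result N θ hθ hinv d hdeq
      (Nat.Coprime.mul_right ((hcop.symm).coprime_dvd_right hod) ((hcop.symm).coprime_dvd_right hdN))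
    have h1 : classInner (fun n : N => η n) θ = 1 := by
      rw [show (fun n : N => η n) = θ from funext hηres, classInner_irr_self hθ]
    have h2 := hMres ⟨η, hη⟩
    rw [h1] at h2
    have h3 : M ⟨η, hη⟩ = 1 := by exact_mod_cast h2.symm
    rw [← h3]
    exact (hconst ⟨η, hη⟩ (by rw [h3]; exact one_ne_zero)).symm

/-- The combined statement for `θ` with inertia group `T` with abelian quotient. -/
theorem indFun_abelian_inertia (H T : Subgroup G) [Fintype H] [hN : H.Normal] {θ : H → ℂ}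
    (hθ : IsIrrCharacter H θ)
    (hT : ∀ g : G, g ∈ T ↔ ∀ h : H, θ ⟨g * h * g⁻¹, hN.conj_mem h h.2 g⟩ = θ h)
    (hab : ∀ x ∈ T, ∀ y ∈ T, x * y * x⁻¹ * y⁻¹ ∈ H) :
    ∃ (k : ℕ) (C : Finset (G → ℂ)), 0 < k ∧ (∀ χ ∈ C, IsIrrCharacter G χ) ∧
      k ^ 2 * C.card = H.relIndex T ∧ indFun H θ = (k : ℂ) • ∑ χ ∈ C, χ ∧
      (∀ χ ∈ C, χ 1 = (T.index : ℂ) * k * θ 1) ∧ ((Nat.card H).Coprime (H.relIndex T) → k = 1) := by
  classical
  have hT' : T = CfsgLib.Clifford.inertia hN θ :=
    SetLike.ext fun g => (hT g).trans CfsgLib.Clifford.mem_inertia.symm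
  have hHT : H ≤ T := hT' ▸ CfsgLib.Clifford.le_inertia hN
    (isClassFunction_of_isCharacter (isCharacter_of_irr hθ))
  haveI : Fintype T := Fintype.ofFinite _
  haveI hN' : (H.subgroupOf T).Normal := hN.subgroupOf T
  haveI : Fintype (H.subgroupOf T) := Fintype.ofFinite _
  let eH : H.subgroupOf T ≃* H := Subgroup.subgroupOfEquivOfLe hHT
  obtain ⟨k, C, hk, hCirr, hcard, hsum, hC, hk1⟩ := indFun_invariant_abelian (H.subgroupOf T)
    (θ := fun x => θ (eH x)) (CfsgLib.Clifford.isIrrCharacter_pullback hθ eH.toMonoidHom eH.surjective)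
    (fun g n => (hT g).mp g.2 (eH n))
    (fun x y => by
      rw [Subgroup.mem_subgroupOf]
      exact hab x x.2 y y.2)
  have hcon : ∀ ψ ∈ C, classInner (fun n : H => ψ (Subgroup.inclusion hHT n)) θ ≠ 0 := by
    intro ψ hψ h
    refine (hC ψ hψ).1 ?_
    have := classInner_equiv eH (fun n : H => ψ (Subgroup.inclusion hHT n)) θ
    rw [h] at this
    exact this
  have hinj : Set.InjOn (indFun T) (C : Set (T → ℂ)) := fun a ha b hb e =>
    (indFun_of_inertia hN hθ T hT' hHT (hCirr a ha) (hcon a ha)).2 b (hCirr b hb) (hcon b hb) e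
  refine ⟨k, C.image (indFun T), hk, ?_, ?_, ?_, ?_, ?_⟩
  · intro χ hχ
    obtain ⟨ψ, hψ, rfl⟩ := Finset.mem_image.mp hχ
    exact (indFun_of_inertia hN hθ T hT' hHT (hCirr ψ hψ) (hcon ψ hψ)).1
  · rw [Finset.card_image_of_injOn hinj]
    exact hcard
  · rw [← CfsgLib.Induction.indFun_trans hHT θ]
    refine (congrArg (indFun T) hsum).trans ?_
    rw [CfsgLib.Induction.indFun_smul, CfsgLib.Induction.indFun_sum, Finset.sum_image hinj]
  · intro χ hχ
    obtain ⟨ψ, hψ, rfl⟩ := Finset.mem_image.mp hχ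
    rw [CfsgLib.Induction.indFun_one_apply, (hC ψ hψ).2, show θ (eH 1) = θ 1 by rw [map_one], mul_assoc]
  · intro h
    refine hk1 ?_
    rw [Nat.card_congr eH.toEquiv]
    exact h

end CfsgLib.OddOrder.CliffordInd
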