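import Cfsg.Agent.Lib.OddOrder.QuadraticPair
import Cfsg.Agent.Lib.PGroup.Frattini
import Cfsg.Agent.Lib.Coprime.Commutator
import Cfsg.Agent.Lib.PCore.PSolvable
import Cfsg.Agent.Lib.Blocks.DualHallHigman
import Mathlib.Algebra.Module.ZMod

/-!
`p`-stability of solvable groups of odd order.

* `exists_pow_mem_centralizer`: if `a, b` normalise the `p`-group `P` and act quadratically, some
  `p`-power power of `a⁻¹ * b` centralises `P`;
* `mem_pCore_of_conj_quotient`: in a solvable group, a `p`-element `a` with all `a⁻¹ * (y a y⁻¹)`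
  `p`-elements lies in `O_p`;
* `quadratic_map_le_pCore`: quadratically acting `p`-subgroups map into `O_p (N(P)/C(P))`;
* `quadratic_le_pPrimePCore`: a `p`-subgroup acting quadratically on `O_{p',p}/O_{p'}` lies in `O_{p',p}`.
-/

set_option autoImplicit false

namespace CfsgLib.OddOrder.Quadratic

open scoped commutatorElement

variable {G : Type*} [Group G]

/-- `a` acts quadratically on `P` by conjugation. -/
def Quad (P : Subgroup G) (a : G) : Prop := ∀ x ∈ P, Commute a ⁅a, x⁆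

theorem quad_conj {P : Subgroup G} {a y : G} (hy : y ∈ Subgroup.normalizer (P : Set G))
    (ha : Quad P a) : Quad P (y * a * y⁻¹) := by
  intro x hx
  have hx' : y⁻¹ * x * y ∈ P := (Subgroup.mem_normalizer_iff''.mp hy x).mp hx
  have e : ⁅y * a * y⁻¹, x⁆ = y * ⁅a, y⁻¹ * x * y⁆ * y⁻¹ := by
    simp only [commutatorElement_def]; group
  rw [e]
  exact (ha _ hx').map (MulAut.conj y).toMonoidHom

theorem quad_of_commutator {P A : Subgroup G} (h : ⁅⁅P, A⁆, A⁆ = ⊥) {a : G} (ha : a ∈ A) :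
    Quad P a := by
  intro x hx
  have h1 : ⁅⁅x, a⁆, a⁆ ∈ (⊥ : Subgroup G) := h ▸
    Subgroup.commutator_mem_commutator (Subgroup.commutator_mem_commutator hx ha) ha
  have h2 : Commute ⁅x, a⁆ a := commutatorElement_eq_one_iff_commute.mp (Subgroup.mem_bot.mp h1)
  have h3 : ⁅a, x⁆ = ⁅x, a⁆⁻¹ := (commutatorElement_inv x a).symm
  rw [h3]
  exact h2.symm.inv_right

variable [Finite G] {p : ℕ} [hp : Fact p.Prime]

theorem exists_split : ∃ e r : ℕ, Nat.card G = p ^ e * r ∧ r.Coprime p :=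
  let ⟨e, r, hr, h⟩ := Nat.exists_eq_pow_mul_and_not_dvd (Nat.card_pos (α := G)).ne' p hp.out.ne_one
  ⟨e, r, h, ((hp.out.coprime_iff_not_dvd).mpr hr).symm⟩

/-- If `a, b` act quadratically on the `p`-group `P`, then `a⁻¹ * b` acts as a `p`-element. -/
theorem exists_pow_mem_centralizer [Group.IsSolvable G] (hodd : Odd (Nat.card G)) (hp2 : p ≠ 2)
    (P : Subgroup G) (hP : IsPGroup p P) {a b : G} (ha : a ∈ Subgroup.normalizer (P : Set G))
    (hb : b ∈ Subgroup.normalizer (P : Set G)) (hqa : Quad P a) (hqb : Quad P b) :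
    ∃ n : ℕ, (a⁻¹ * b) ^ (p ^ n) ∈ Subgroup.centralizer (P : Set G) := by
  classical
  set N := Subgroup.normalizer (P : Set G)
  set Φ := frattini P
  haveI hΦn : Φ.Normal := inferInstance
  have hcomm : ∀ x y : P ⧸ Φ, x * y = y * x := by
    intro x y
    obtain ⟨x, rfl⟩ := QuotientGroup.mk_surjective x
    obtain ⟨y, rfl⟩ := QuotientGroup.mk_surjective y
    show QuotientGroup.mk' Φ x * QuotientGroup.mk' Φ y = QuotientGroup.mk' Φ y * QuotientGroup.mk' Φ x
    refine commutatorElement_eq_one_iff_mul_comm.mp ?_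
    rw [← map_commutatorElement]
    exact (QuotientGroup.eq_one_iff _).mpr (CfsgLib.PGroup.commutator_le_frattini hP
      (Subgroup.commutator_mem_commutator (Subgroup.mem_top _) (Subgroup.mem_top _)))
  letI : CommGroup (P ⧸ Φ) := { (inferInstance : Group (P ⧸ Φ)) with mul_comm := hcomm }
  have hpow : ∀ v : Additive (P ⧸ Φ), p • v = 0 := by
    intro v
    obtain ⟨x, hx⟩ := QuotientGroup.mk_surjective (Additive.toMul v)
    apply Additive.toMul.injective
    rw [toMul_nsmul, ← hx, ← QuotientGroup.mk_pow, toMul_zero]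
    exact (QuotientGroup.eq_one_iff _).mpr (CfsgLib.PGroup.pow_mem_frattini hP x)
  letI : Module (ZMod p) (Additive (P ⧸ Φ)) := AddCommGroup.zmodModule (n := p) hpow
  haveI : Finite (Additive (P ⧸ Φ)) := (inferInstance : Finite (P ⧸ Φ))
  haveI : Module.Finite (ZMod p) (Additive (P ⧸ Φ)) := Module.Finite.of_finite
  have hmap : ∀ n : N, Φ ≤ Φ.comap (P.normalizerMonoidHom n).toMonoidHom := fun n =>
    le_of_eq (Subgroup.characteristic_iff_comap_eq.mp inferInstance (P.normalizerMonoidHom n)).symm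
  obtain ⟨act, hact⟩ : ∃ act : N → Module.End (ZMod p) (Additive (P ⧸ Φ)), ∀ (n : N) (x : P),
      act n (Additive.ofMul (QuotientGroup.mk x : P ⧸ Φ))
        = Additive.ofMul (QuotientGroup.mk (P.normalizerMonoidHom n x) : P ⧸ Φ) :=
    ⟨fun n => (MonoidHom.toAdditive
      (QuotientGroup.map Φ Φ (P.normalizerMonoidHom n).toMonoidHom (hmap n))).toZModLinearMap p,
      fun n x => rfl⟩
  have hext : ∀ f g : Module.End (ZMod p) (Additive (P ⧸ Φ)),
      (∀ x : P, f (Additive.ofMul (QuotientGroup.mk x)) = g (Additive.ofMul (QuotientGroup.mk x))) → f = g := by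
    intro f g h
    refine LinearMap.ext fun v => ?_
    obtain ⟨x, hx⟩ := QuotientGroup.mk_surjective (Additive.toMul v)
    have := h x
    rwa [hx] at this
  let ρ : N →* Module.End (ZMod p) (Additive (P ⧸ Φ)) :=
    { toFun := act
      map_one' := hext _ _ fun x => by rw [hact, map_one]; rfl
      map_mul' := fun m n => hext _ _ fun x => by
        rw [Module.End.mul_apply, hact, hact, hact, map_mul]; rfl }
  have hquad : ∀ c : N, Quad P c → (ρ c - 1) * (ρ c - 1) = 0 := by
    intro c hc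
    refine hext _ _ fun x => ?_
    set y : P := P.normalizerMonoidHom c x * x⁻¹ with hy
    have hycoe : (y : G) = ⁅(c : G), (x : G)⁆ := by
      rw [hy, commutatorElement_def]; rfl
    have h1 : (ρ c - 1) (Additive.ofMul (QuotientGroup.mk x)) = Additive.ofMul (QuotientGroup.mk y) := by
      rw [LinearMap.sub_apply, Module.End.one_apply]
      show act c _ - _ = _
      rw [hact, hy, QuotientGroup.mk_mul, QuotientGroup.mk_inv, ofMul_mul, ofMul_inv, sub_eq_add_neg]
    have h2 : P.normalizerMonoidHom c y = y := by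
      apply Subtype.ext
      show (c : G) * (y : G) * (c : G)⁻¹ = y
      rw [hycoe, (hc x x.2).eq, mul_inv_cancel_right]
    rw [Module.End.mul_apply, h1, LinearMap.sub_apply, Module.End.one_apply]
    show act c _ - _ = _
    rw [hact, h2, sub_self]
    rfl
  haveI : Group.IsSolvable N := inferInstance
  have h2' : (2 : ZMod p) ≠ 0 := Ring.two_ne_zero (by rw [ZMod.ringChar_zmod_n]; exact hp2)
  obtain ⟨k, hk⟩ := CfsgLib.OddOrder.QuadraticPair.isNilpotent_quotient
    (hodd.of_dvd_nat (Subgroup.card_subgroup_dvd_card N)) h2' ρ (hquad ⟨a, ha⟩ hqa) (hquad ⟨b, hb⟩ hqb)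
  set z : N := (⟨a, ha⟩ : N)⁻¹ * ⟨b, hb⟩
  have hzp : ρ (z ^ (p ^ k)) = 1 := by
    rcases subsingleton_or_nontrivial (Additive (P ⧸ Φ)) with hs | hs
    · exact LinearMap.ext fun v => Subsingleton.elim _ _
    haveI : CharP (Module.End (ZMod p) (Additive (P ⧸ Φ))) p :=
      charP_of_injective_algebraMap (algebraMap (ZMod p) _).injective p
    have h0 : (ρ z - 1) ^ (p ^ k) = 0 :=
      pow_eq_zero_of_le (Nat.lt_pow_self hp.out.one_lt).le hk
    rw [sub_pow_char_pow_of_commute _ _ (Commute.one_right _), one_pow, sub_eq_zero] at h0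
    rwa [map_pow]
  obtain ⟨e, r, hGr, hrp⟩ := exists_split (G := G) (p := p)
  refine ⟨k + e, ?_⟩
  have hw : ((z ^ (p ^ k)) ^ (p ^ e) : N) ∈ ρ.toHomUnits.ker := by
    rw [MonoidHom.mem_ker, ← Units.val_inj, Units.val_one, MonoidHom.coe_toHomUnits, map_pow, hzp, one_pow]
  set w : G := (((z ^ (p ^ k)) ^ (p ^ e) : N) : G) with hwdef
  have hwN : w ∈ N := SetLike.coe_mem _
  have hwe : w = (a⁻¹ * b) ^ (p ^ (k + e)) := by
    rw [hwdef, pow_add, pow_mul]; rfl
  rw [← hwe]
  refine CfsgLib.Coprime.le_centralizer_of_trivial_on_frattini (Subgroup.zpowers w) P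
    (Subgroup.zpowers_le.mpr hwN) ?_ ?_ (Subgroup.mem_zpowers w)
  · have hr : Nat.card (Subgroup.zpowers w) ∣ r := by
      rw [Nat.card_zpowers, orderOf_dvd_iff_pow_eq_one, hwdef, Subgroup.coe_pow, ← pow_mul, ← hGr,
        pow_card_eq_one']
    obtain ⟨j, hj⟩ := (hP.to_subgroup Φ).exists_card_eq
    rw [hj]
    exact (hrp.coprime_dvd_left hr).pow_right j
  · intro c hc x hx
    obtain ⟨i, rfl⟩ := Subgroup.mem_zpowers_iff.mp hc
    have hci : ρ (((z ^ (p ^ k)) ^ (p ^ e)) ^ i) = 1 := by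
      have := Subgroup.zpow_mem _ hw i
      rw [MonoidHom.mem_ker, ← Units.val_inj, Units.val_one, MonoidHom.coe_toHomUnits] at this
      exact this
    have := congrArg (fun f : Module.End (ZMod p) (Additive (P ⧸ Φ)) =>
      Additive.toMul (f (Additive.ofMul (QuotientGroup.mk (⟨x, hx⟩ : P))))) hci
    simp only [Module.End.one_apply, toMul_ofMul] at this
    set c' : N := ((z ^ (p ^ k)) ^ (p ^ e)) ^ i
    have h3 : (QuotientGroup.mk (P.normalizerMonoidHom c' ⟨x, hx⟩) : P ⧸ Φ)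
        = QuotientGroup.mk (⟨x, hx⟩ : P) := by
      rw [show ρ c' = act c' from rfl, hact, toMul_ofMul] at this
      exact this
    have h4 : (P.normalizerMonoidHom c' ⟨x, hx⟩) * (⟨x, hx⟩ : P)⁻¹ ∈ Φ := by
      rw [← QuotientGroup.eq_one_iff, QuotientGroup.mk_mul, QuotientGroup.mk_inv, h3, mul_inv_cancel]
    refine ⟨_, h4, ?_⟩
    rfl

/-- In a solvable group, a `p`-element `a` such that every `a⁻¹ * (y * a * y⁻¹)` is a `p`-element lies in `O_p`. -/
theorem mem_pCore_of_conj_quotient [Group.IsSolvable G] {a : G} {m : ℕ} (ham : a ^ (p ^ m) = 1)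
    (hconj : ∀ y : G, ∃ n : ℕ, (a⁻¹ * (y * a * y⁻¹)) ^ (p ^ n) = 1) : a ∈ Cfsg.pCore p G := by
  set q := QuotientGroup.mk' (Cfsg.pCore p G) with hq
  have hM : Cfsg.pCore p (G ⧸ Cfsg.pCore p G) = ⊥ := CfsgLib.PCore.pCore_quotient_pCore
  have hsol : Group.IsSolvable (G ⧸ Cfsg.pCore p G) := inferInstance
  have hC := CfsgLib.DualHallHigman.centralizer_pPrimeCore_le
    (CfsgLib.PCore.isPSolvable_of_isSolvable (p := p) (G := G ⧸ Cfsg.pCore p G)) hM
  have hcent : q a ∈ Cfsg.pPrimeCore p (G ⧸ Cfsg.pCore p G) := by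
    refine hC (Subgroup.mem_centralizer_iff.mpr fun y hy => ?_)
    obtain ⟨y₀, rfl⟩ := QuotientGroup.mk'_surjective (Cfsg.pCore p G) y
    obtain ⟨n, hn⟩ := hconj y₀
    set z := (q a)⁻¹ * (q y₀ * q a * (q y₀)⁻¹) with hz
    have hzp : z ^ (p ^ n) = 1 := by
      have := congrArg q hn
      simpa [hz] using this
    have hzM : z ∈ Cfsg.pPrimeCore p (G ⧸ Cfsg.pCore p G) := by
      have hnM : (Cfsg.pPrimeCore p (G ⧸ Cfsg.pCore p G)).Normal := inferInstance
      have e : z = ((q a)⁻¹ * q y₀ * q a) * (q y₀)⁻¹ := by rw [hz]; group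
      rw [e]
      exact Subgroup.mul_mem _ (by have := hnM.conj_mem _ hy (q a)⁻¹; rw [inv_inv] at this; exact this) (Subgroup.inv_mem _ hy)
    have h1 : z = 1 := by
      refine orderOf_eq_one_iff.mp (Nat.eq_one_of_dvd_coprimes
        ((CfsgLib.PCore.pPrimeCore_coprime (p := p) (G := G ⧸ Cfsg.pCore p G)).pow_right n) ?_ ?_)
      · exact Subgroup.orderOf_dvd_natCard _ hzM
      · exact orderOf_dvd_of_pow_eq_one hzp
    rw [hz, inv_mul_eq_one] at h1
    exact eq_mul_inv_iff_mul_eq.mp h1 |>.symm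
  have h1 : q a = 1 := by
    refine orderOf_eq_one_iff.mp (Nat.eq_one_of_dvd_coprimes
      ((CfsgLib.PCore.pPrimeCore_coprime (p := p) (G := G ⧸ Cfsg.pCore p G)).pow_right m) ?_ ?_)
    · exact Subgroup.orderOf_dvd_natCard _ hcent
    · exact orderOf_dvd_of_pow_eq_one (by rw [← map_pow, ham, map_one])
  exact (QuotientGroup.eq_one_iff a).mp h1

/-- A quadratically acting `p`-subgroup maps into `O_p (N_G(P) / C_G(P))`. -/
theorem quadratic_map_le_pCore [Group.IsSolvable G] (hodd : Odd (Nat.card G)) (hp2 : p ≠ 2)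
    (P A : Subgroup G) (hP : IsPGroup p P) (hA : IsPGroup p A)
    (hAN : A ≤ Subgroup.normalizer (P : Set G)) (hquad : ∀ a ∈ A, Quad P a) :
    (A.subgroupOf (Subgroup.normalizer (P : Set G))).map
        (QuotientGroup.mk' ((Subgroup.centralizer (P : Set G)).subgroupOf (Subgroup.normalizer (P : Set G))))
      ≤ Cfsg.pCore p _ := by
  rintro _ ⟨⟨a, haN⟩, ha, rfl⟩
  have ha' : a ∈ A := ha
  obtain ⟨m, hm⟩ := hA ⟨a, ha'⟩
  refine mem_pCore_of_conj_quotient (m := m) ?_ fun y => ?_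
  · rw [← map_pow]
    have : (⟨a, haN⟩ : Subgroup.normalizer (P : Set G)) ^ p ^ m = 1 :=
      Subtype.ext (by simpa using congrArg Subtype.val hm)
    rw [this, map_one]
  · obtain ⟨⟨y, hy⟩, rfl⟩ := QuotientGroup.mk'_surjective _ y
    obtain ⟨n, hn⟩ := exists_pow_mem_centralizer hodd hp2 P hP haN
      (Subgroup.mul_mem _ (Subgroup.mul_mem _ hy haN) (Subgroup.inv_mem _ hy))
      (hquad a ha') (quad_conj hy (hquad a ha'))
    refine ⟨n, ?_⟩
    simp only [← map_inv, ← map_mul, ← map_pow]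
    exact (QuotientGroup.eq_one_iff _).mpr hn

/-- Version for a normal `p`-subgroup `P`. -/
theorem quadratic_map_le_pCore_of_normal [Group.IsSolvable G] (hodd : Odd (Nat.card G)) (hp2 : p ≠ 2)
    (P A : Subgroup G) [hPn : P.Normal] (hP : IsPGroup p P) (hA : IsPGroup p A)
    (hquad : ⁅⁅P, A⁆, A⁆ = ⊥) :
    A.map (QuotientGroup.mk' (Subgroup.centralizer (P : Set G)))
      ≤ Cfsg.pCore p (G ⧸ Subgroup.centralizer (P : Set G)) := by
  rintro _ ⟨a, ha, rfl⟩
  have haN : ∀ g : G, g ∈ Subgroup.normalizer (P : Set G) := fun g => by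
    rw [Subgroup.normalizer_eq_top_iff.mpr hPn]; trivial
  obtain ⟨m, hm⟩ := hA ⟨a, ha⟩
  refine mem_pCore_of_conj_quotient (m := m) ?_ fun y => ?_
  · rw [← map_pow, show a ^ p ^ m = 1 by simpa using congrArg Subtype.val hm, map_one]
  · obtain ⟨y, rfl⟩ := QuotientGroup.mk'_surjective _ y
    obtain ⟨n, hn⟩ := exists_pow_mem_centralizer hodd hp2 P hP (haN a) (haN (y * a * y⁻¹))
      (quad_of_commutator hquad ha) (quad_conj (haN y) (quad_of_commutator hquad ha))
    refine ⟨n, ?_⟩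
    simp only [← map_inv, ← map_mul, ← map_pow]
    exact (QuotientGroup.eq_one_iff _).mpr hn

/-- With `O_{p'} = 1`, a `p`-subgroup acting quadratically on `O_p` lies in `O_p`. -/
theorem quadratic_le_pCore [Group.IsSolvable G] (hodd : Odd (Nat.card G)) (hp2 : p ≠ 2)
    (hO : Cfsg.pPrimeCore p G = ⊥) (A : Subgroup G) (hA : IsPGroup p A)
    (hquad : ∀ a ∈ A, Quad (Cfsg.pCore p G) a) : A ≤ Cfsg.pCore p G := by
  set V := Cfsg.pCore p G with hV
  have hVp : IsPGroup p V := CfsgLib.PCore.pCore_isPGroup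
  have hC : Subgroup.centralizer (V : Set G) ≤ V :=
    CfsgLib.PCore.centralizer_pCore_le (CfsgLib.PCore.isPSolvable_of_isSolvable (p := p) (G := G)) hO
  haveI hVn : V.Normal := inferInstance
  set N := Subgroup.normalizer (V : Set G) with hN
  have hNtop : N = ⊤ := Subgroup.normalizer_eq_top_iff.mpr hVn
  set K := (Subgroup.centralizer (V : Set G)).subgroupOf N
  have hKp : IsPGroup p K := (hVp.to_le hC).comap_subtype
  have h := quadratic_map_le_pCore hodd hp2 V A hVp hA (le_top.trans hNtop.ge) hquad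
  intro a ha
  have haN : a ∈ N := by rw [hNtop]; trivial
  have h' : (⟨a, haN⟩ : N) ∈ (Cfsg.pCore p (N ⧸ K)).comap (QuotientGroup.mk' K) :=
    h ⟨⟨a, haN⟩, ha, rfl⟩
  rw [CfsgLib.PCore.comap_pCore_quotient hKp] at h'
  have h3 : (Cfsg.pCore p N).map N.subtype ≤ V := by
    refine CfsgLib.PCore.le_pCore ?_ (CfsgLib.PCore.pCore_isPGroup.map _)
    exact Subgroup.Normal.map inferInstance _ (fun x => ⟨⟨x, hNtop ▸ Subgroup.mem_top x⟩, rfl⟩)
  exact h3 ⟨_, h', rfl⟩

/-- A `p`-subgroup acting quadratically on `O_{p',p}` modulo `O_{p'}` lies in `O_{p',p}`; in particular an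
abelian normal subgroup of a Sylow `p`-subgroup does. -/
theorem abelian_normal_sylow_le_pPrimePCore [Group.IsSolvable G] (hodd : Odd (Nat.card G))
    (S : Sylow p G) (A : Subgroup G) (hAS : A ≤ (S : Subgroup G)) (hAc : IsMulCommutative A)
    (hAn : (S : Subgroup G) ≤ Subgroup.normalizer (A : Set G)) : A ≤ Cfsg.pPrimePCore p G := by
  rcases eq_or_ne p 2 with rfl | hp2
  · intro a ha
    have h1 : a = 1 := by
      obtain ⟨k, hk⟩ := S.isPGroup' ⟨a, hAS ha⟩
      refine orderOf_eq_one_iff.mp (Nat.eq_one_of_dvd_coprimes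
        ((Nat.coprime_two_right.mpr hodd).pow_right k) (orderOf_dvd_natCard a)
        (orderOf_dvd_of_pow_eq_one ?_))
      simpa using congrArg Subtype.val hk
    rw [h1]; exact one_mem _
  set q := QuotientGroup.mk' (Cfsg.pPrimeCore p G)
  have hq : Function.Surjective q := QuotientGroup.mk'_surjective _
  have hodd' : Odd (Nat.card (G ⧸ Cfsg.pPrimeCore p G)) := hodd.of_dvd_nat (Subgroup.card_quotient_dvd_card _)
  have hO : Cfsg.pPrimeCore p (G ⧸ Cfsg.pPrimeCore p G) = ⊥ := CfsgLib.PCore.pPrimeCore_quotient_pPrimeCore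
  have hA : IsPGroup p (A.map q) := (S.isPGroup'.to_le hAS).map q
  have hV : Cfsg.pCore p (G ⧸ Cfsg.pPrimeCore p G) ≤ Subgroup.normalizer ((A.map q : Subgroup _) : Set _) :=
    (CfsgLib.PCore.pCore_le_sylow (S.mapSurjective hq)).trans
      ((Subgroup.map_mono hAn).trans (Subgroup.le_normalizer_map q))
  have key := quadratic_le_pCore hodd' hp2 hO (A.map q) hA (by
    intro a ha x hx
    have hmem : ⁅a, x⁆ ∈ A.map q := by
      rw [commutatorElement_def, mul_assoc, mul_assoc]
      refine Subgroup.mul_mem _ ha ?_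
      rw [← mul_assoc]
      exact (Subgroup.mem_normalizer_iff.mp (hV hx) a⁻¹).mp (Subgroup.inv_mem _ ha)
    haveI : IsMulCommutative (A.map q) := Subgroup.map_isMulCommutative A q
    exact congrArg Subtype.val ((inferInstance : IsMulCommutative (A.map q)).is_comm.comm
      ⟨a, ha⟩ ⟨⁅a, x⁆, hmem⟩))
  exact fun a ha => key ⟨a, ha, rfl⟩

end CfsgLib.OddOrder.Quadratic
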