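import Mathlib
import Cfsg.Agent.Lib.HallHigman.PLength
import Cfsg.Agent.Lib.OddOrder.TransitivityCriteria

/-!
# Criteria for `p`-length one, and its inheritance
-/

set_option autoImplicit false
set_option linter.style.haveILetI false

namespace CfsgLib.OddOrder.PLengthOne

open Subgroup

variable {p : ℕ} [hp : Fact p.Prime] {G : Type*} [Group G] [Finite G]

theorem of_series {K N : Subgroup G} [K.Normal] [N.Normal] (hK : (Nat.card K).Coprime p)
    (hKN : ∃ m, K.relIndex N = p ^ m) (hN : ¬ p ∣ N.index) : Cfsg.PLengthLE p 1 G := by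
  let L : ℕ → Subgroup G := fun n => if n = 0 then ⊥ else if n = 1 then K else if n = 2 then N else ⊤
  have hL : ∀ n, (L n).Normal := fun n => by
    simp only [L]
    split_ifs <;> infer_instance
  have key := HallHigman.le_upper_of_series (p := p) (G := G) 0 (by decide) L hL
    (by simp [L]) ?_ ?_ 3
  · have h3 : L 3 = ⊤ := by simp [L]
    rw [h3] at key
    exact top_le_iff.mp key
  · intro n hn
    match n, hn with
    | 0, _ => simpa [L, Subgroup.relIndex_bot_left] using hK
    | 1, h => exact absurd h (by decide)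
    | 2, _ => simpa [L, Subgroup.relIndex_top_right] using (hp.out.coprime_iff_not_dvd.mpr hN).symm
    | n + 3, _ => simp [L]
  · intro n hn
    match n, hn with
    | 0, h => exact absurd (by decide) h
    | 1, _ => simpa [L] using hKN
    | 2, h => exact absurd (by decide) h
    | n + 3, _ => exact ⟨0, by simp [L]⟩

theorem relIndex_pPrimeCore_pPrimePCore :
    ∃ m, (Cfsg.pPrimeCore p G).relIndex (Cfsg.pPrimePCore p G) = p ^ m := by
  rw [← PCore.card_map_mk', Cfsg.pPrimePCore,
    Subgroup.map_comap_eq_self_of_surjective (QuotientGroup.mk'_surjective _)]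
  exact IsPGroup.iff_card.1 PCore.pCore_isPGroup

omit hp in
theorem pPrimePCore_eq : (Cfsg.upperPSeries p G 2).1 = Cfsg.pPrimePCore p G := by
  have aux : ∀ (U : Subgroup G) [U.Normal], U = Cfsg.pPrimeCore p G →
      (Cfsg.pCore p (G ⧸ U)).comap (QuotientGroup.mk' U) = Cfsg.pPrimePCore p G := by
    intro U _ hU
    subst hU
    rfl
  rw [PCore.upperPSeries_succ_of_odd (by decide : ¬ Even 1)]
  exact aux _ PCore.upperPSeries_one

theorem pPrimePCore_characteristic : (Cfsg.pPrimePCore p G).Characteristic := by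
  rw [← pPrimePCore_eq, Subgroup.characteristic_iff_map_eq]
  exact fun φ => PCore.map_upperPSeries_equiv φ 2

theorem of_index (h : ¬ p ∣ (Cfsg.pPrimePCore p G).index) : Cfsg.PLengthLE p 1 G :=
  have : (Cfsg.pPrimePCore p G).Normal := by rw [Cfsg.pPrimePCore]; infer_instance
  of_series PCore.pPrimeCore_coprime relIndex_pPrimeCore_pPrimePCore h

theorem index_eq (h : Cfsg.PLengthLE p 1 G) : ¬ p ∣ (Cfsg.pPrimePCore p G).index := by
  rw [Cfsg.pPrimePCore, Subgroup.index_comap_of_surjective _ (QuotientGroup.mk'_surjective _)]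
  exact Criteria.pLengthOne_index h

theorem subgroup (U : Subgroup G) (h : Cfsg.PLengthLE p 1 G) : Cfsg.PLengthLE p 1 U := by
  have : (Cfsg.pPrimePCore p G).Normal := by rw [Cfsg.pPrimePCore]; infer_instance
  refine of_series (K := (Cfsg.pPrimeCore p G).subgroupOf U)
    (N := (Cfsg.pPrimePCore p G).subgroupOf U) ?_ ?_ ?_
  · exact Nat.Coprime.coprime_dvd_left (Subgroup.card_comap_dvd_of_injective _ U.subtype U.subtype_injective)
      PCore.pPrimeCore_coprime
  · obtain ⟨m, hm⟩ := relIndex_pPrimeCore_pPrimePCore (p := p) (G := G)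
    have hd : ((Cfsg.pPrimeCore p G).subgroupOf U).relIndex ((Cfsg.pPrimePCore p G).subgroupOf U) ∣ p ^ m := by
      rw [← hm, Subgroup.subgroupOf, Subgroup.subgroupOf, Subgroup.relIndex_comap, Subgroup.map_comap_eq]
      have hle : U.subtype.range ⊓ Cfsg.pPrimePCore p G ≤ Cfsg.pPrimePCore p G := inf_le_right
      rw [← Subgroup.relIndex_subgroupOf hle]
      exact Subgroup.relIndex_dvd_index_of_normal ((Cfsg.pPrimeCore p G).subgroupOf _) _
    obtain ⟨i, -, hi⟩ := (Nat.dvd_prime_pow hp.out).1 hd
    exact ⟨i, hi⟩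
  · exact fun hd => index_eq h (hd.trans (Subgroup.relIndex_dvd_index_of_normal _ _))

theorem of_le {U V : Subgroup G} (hUV : U ≤ V) (h : Cfsg.PLengthLE p 1 V) : Cfsg.PLengthLE p 1 U :=
  HallHigman.pLengthLE_of_equiv (Subgroup.subgroupOfEquivOfLe hUV) (subgroup (U.subgroupOf V) h)

/-- A `p'`-extension above. -/
theorem of_normal_subgroup (U : Subgroup G) [U.Normal] (hi : ¬ p ∣ U.index) (h : Cfsg.PLengthLE p 1 U) :
    Cfsg.PLengthLE p 1 G := by
  have : (Cfsg.pPrimeCore p U).Characteristic := inferInstance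
  have := pPrimePCore_characteristic (p := p) (G := U)
  refine of_series (K := (Cfsg.pPrimeCore p U).map U.subtype) (N := (Cfsg.pPrimePCore p U).map U.subtype) ?_ ?_ ?_
  · rw [Subgroup.card_map_of_injective U.subtype_injective]
    exact PCore.pPrimeCore_coprime
  · rw [Subgroup.relIndex_map_map, Subgroup.ker_subtype, sup_bot_eq, sup_bot_eq]
    exact relIndex_pPrimeCore_pPrimePCore
  · rw [Subgroup.index_map_subtype]
    exact fun hd => (hp.out.dvd_mul.mp hd).elim (index_eq h) hi

end CfsgLib.OddOrder.PLengthOne
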