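import Cfsg.Agent.Lib.Characters.Galois
import Cfsg.Agent.Lib.Characters.Scalar

/-!
Small character lemmas: `Re χ(g) ≤ χ(1)` with equality only on the kernel, the kernel acts trivially,
a central element multiplies an irreducible character by a root of unity, irreducibility under surjective
pullback.
-/

set_option autoImplicit false

noncomputable section

namespace CfsgLib.OddOrder.CharTools

open Cfsg

universe u v

variable {G : Type u} [Group G] [Finite G]

/-- `(χ g).re ≤ (χ 1).re`, and equality forces `χ` to be constant on the powers of `g`. -/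
theorem re_le {χ : G → ℂ} (hχ : IsCharacter G χ) (g : G) :
    (χ g).re ≤ (χ 1).re ∧ ((χ g).re = (χ 1).re → ∀ k : ℕ, χ (g ^ k) = χ 1) := by
  obtain ⟨N, z, hz, hd⟩ := CfsgLib.CharGalois.exists_root_decomp hχ g
  have h0 : χ 1 = (N : ℂ) := by simpa using hd 0
  have h1 : χ g = ∑ i, z i := by simpa using hd 1
  have hnorm : ∀ i, ‖z i‖ = 1 := fun i => Complex.norm_eq_one_of_pow_eq_one (hz i) Nat.card_pos.ne'
  have hle : ∀ i, (z i).re ≤ 1 := fun i => (Complex.re_le_norm (z i)).trans (hnorm i).le
  refine ⟨?_, fun he k => ?_⟩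
  · rw [h0, h1, Complex.re_sum, Complex.natCast_re]
    calc ∑ i, (z i).re ≤ ∑ _i : Fin N, (1 : ℝ) := Finset.sum_le_sum fun i _ => hle i
      _ = N := by simp
  · have hall : ∀ i, (z i).re = 1 := by
      by_contra! hne
      obtain ⟨i, hi⟩ := hne
      have hlt : ∑ i, (z i).re < ∑ _i : Fin N, (1 : ℝ) :=
        Finset.sum_lt_sum (fun i _ => hle i) ⟨i, Finset.mem_univ _, lt_of_le_of_ne (hle i) hi⟩
      rw [h0, h1, Complex.re_sum, Complex.natCast_re] at he
      simp [he] at hlt
    have hone : ∀ i, z i = 1 := by
      intro i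
      have h2 : (z i).re * (z i).re + (z i).im * (z i).im = 1 := by
        have := Complex.normSq_eq_norm_sq (z i)
        rw [Complex.normSq_apply, hnorm i] at this
        simpa using this
      rw [hall i] at h2
      refine Complex.ext (by simp [hall i]) ?_
      have : (z i).im * (z i).im = 0 := by linarith
      simpa using this
    rw [hd k, h0]
    simp [hone]

/-- An element at which a character takes its degree acts as the identity. -/
theorem rho_eq_one {V : Type v} [AddCommGroup V] [Module ℂ V] [FiniteDimensional ℂ V]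
    (ρ : Representation ℂ G V) {g : G} (h : ∀ k : ℕ, ρ.character (g ^ k) = ρ.character 1) : ρ g = 1 := by
  set H := Subgroup.zpowers g
  haveI : Fintype H := Fintype.ofFinite H
  haveI : Invertible (Fintype.card H : ℂ) := invertibleOfNonzero (Nat.cast_ne_zero.mpr Fintype.card_ne_zero)
  haveI : Invertible (Nat.card H : ℂ) := invertibleOfNonzero (Nat.cast_ne_zero.mpr Nat.card_pos.ne')
  set σ : Representation ℂ H V := ρ.comp H.subtype with hσ
  have hc := Representation.card_inv_mul_sum_char_eq_finrank σ
  have hchar : ∀ x : H, σ.character x = (Module.finrank ℂ V : ℂ) := by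
    intro x
    obtain ⟨k, hk⟩ := mem_powers_iff_mem_zpowers.mpr x.2
    show ρ.character (x : G) = _
    rw [← hk, h, Representation.char_one]
  simp only [hchar, Finset.sum_const, Finset.card_univ, nsmul_eq_mul, Nat.card_eq_fintype_card] at hc
  rw [← mul_assoc, inv_mul_cancel₀ (Nat.cast_ne_zero.mpr Fintype.card_ne_zero), one_mul] at hc
  have htop : σ.invariants = ⊤ := Submodule.eq_top_of_finrank_eq (by exact_mod_cast hc.symm)
  ext v
  have hv : v ∈ σ.invariants := by rw [htop]; trivial
  exact hv ⟨g, Subgroup.mem_zpowers g⟩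

omit [Finite G] in
/-- The pullback of an irreducible character along a surjective homomorphism is irreducible. -/
theorem isIrrCharacter_comp {H : Type u} [Group H] {χ : G → ℂ} (hχ : IsIrrCharacter G χ) (f : H →* G)
    (hf : Function.Surjective f) : IsIrrCharacter H (fun x => χ (f x)) := by
  obtain ⟨n, ρ, hρ, rfl⟩ := hχ
  refine ⟨n, ρ.comp f, ?_, rfl⟩
  rw [CfsgLib.Characters.isIrreducible_iff] at hρ ⊢
  refine ⟨hρ.1, fun W hW => hρ.2 W fun g v hv => ?_⟩
  obtain ⟨x, rfl⟩ := hf g
  exact hW x v hv

end CfsgLib.OddOrder.CharTools
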