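import Mathlib
import Cfsg.Prelude.Def_OddOrderLocal
import Cfsg.Agent.Lib.OddOrder.PiCore

/-!
# The largest normal nilpotent Hall subgroup `fittingHall M`
-/

set_option autoImplicit false

namespace CfsgLib.OddOrder

open Subgroup

variable {G : Type*} [Group G]

/-- A prime dividing the order of `fittingHall G` divides the order of one of its defining members. -/
theorem exists_member_of_dvd_fittingHall [Finite G] {p : ℕ} (hp : p.Prime)
    (h : p ∣ Nat.card (Cfsg.fittingHall G)) :
    ∃ N : Subgroup G, (N.Normal ∧ Group.IsNilpotent N ∧ (Nat.card N).Coprime N.index) ∧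
      p ∣ Nat.card N := by
  by_contra hne
  push Not at hne
  have h2 : PiNat {q | q ≠ p} (Nat.card (Cfsg.fittingHall G)) :=
    piNat_card_sSup {q | q ≠ p} _
      (fun N hN => ⟨hN.1, fun q _ hd hqp => hne N hN (hqp ▸ hd)⟩)
  exact h2 p hp h rfl

theorem le_fittingHall {N : Subgroup G} (h1 : N.Normal) (h2 : Group.IsNilpotent N)
    (h3 : (Nat.card N).Coprime N.index) : N ≤ Cfsg.fittingHall G :=
  le_sSup ⟨h1, h2, h3⟩

theorem fittingHall_coprime_index [Finite G] :
    (Nat.card (Cfsg.fittingHall G)).Coprime (Cfsg.fittingHall G).index := by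
  refine Nat.coprime_of_dvd (fun p hp h1 h2 => ?_)
  obtain ⟨N, hN, hpN⟩ := exists_member_of_dvd_fittingHall hp h1
  have h3 : p ∣ N.index :=
    h2.trans (Subgroup.index_dvd_of_le (le_fittingHall hN.1 hN.2.1 hN.2.2))
  exact hp.ne_one (Nat.eq_one_of_dvd_coprimes hN.2.2 hpN h3)

/-- The Sylow `p`-subgroup of a member is a normal Sylow `p`-subgroup of `G`. -/
theorem exists_normal_sylow_le_fittingHall [Finite G] {p : ℕ} [Fact p.Prime]
    (h : p ∣ Nat.card (Cfsg.fittingHall G)) :
    ∃ P : Sylow p G, (P : Subgroup G).Normal ∧ (P : Subgroup G) ≤ Cfsg.fittingHall G := by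
  obtain ⟨N, ⟨hn, hnil, hcop⟩, hpN⟩ := exists_member_of_dvd_fittingHall Fact.out h
  obtain ⟨P⟩ : Nonempty (Sylow p N) := inferInstance
  have hPn : (P : Subgroup N).Normal := inferInstance
  have hPc : (P : Subgroup N).Characteristic := Sylow.characteristic_of_normal P hPn
  have hmapn : ((P : Subgroup N).map N.subtype).Normal := inferInstance
  have hidx : ¬ p ∣ N.index := fun hd =>
    (Fact.out : p.Prime).ne_one (Nat.eq_one_of_dvd_coprimes hcop hpN hd)
  have hpg : IsPGroup p ((P : Subgroup N).map N.subtype) := P.isPGroup'.map _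
  have hni : ¬ p ∣ ((P : Subgroup N).map N.subtype).index := by
    rw [Subgroup.index_map_subtype]
    exact fun hd => ((Fact.out : p.Prime).dvd_mul.mp hd).elim P.not_dvd_index hidx
  refine ⟨hpg.toSylow hni, hmapn, ?_⟩
  exact le_trans (Subgroup.map_subtype_le _) (le_fittingHall hn hnil hcop)

theorem fittingHall_isNilpotent [Finite G] : Group.IsNilpotent (Cfsg.fittingHall G) := by
  refine (Group.isNilpotent_of_finite_tfae.out 0 3 rfl rfl).mpr (fun p hp Q => ?_)
  have := hp
  by_cases h : p ∣ Nat.card (Cfsg.fittingHall G)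
  · obtain ⟨P, hPn, hPle⟩ := exists_normal_sylow_le_fittingHall (p := p) h
    have hn : ((P : Subgroup G).subgroupOf (Cfsg.fittingHall G)).Normal :=
      Subgroup.normal_subgroupOf
    let P' : Sylow p (Cfsg.fittingHall G) := P.subtype hPle
    have hP'n : (P' : Subgroup (Cfsg.fittingHall G)).Normal := hn
    have := Sylow.unique_of_normal P' hP'n
    rw [Subsingleton.elim Q P']
    exact hP'n
  · have : (Q : Subgroup (Cfsg.fittingHall G)) = ⊥ := by
      rw [← Subgroup.card_eq_one]
      obtain ⟨n, hn⟩ := Q.isPGroup'.exists_card_eq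
      rcases Nat.eq_zero_or_pos n with h0 | h0
      · rw [hn, h0, pow_zero]
      · exact absurd ((dvd_pow_self p h0.ne').trans (hn ▸ Q.card_subgroup_dvd_card)) h
    rw [this]
    infer_instance

theorem fittingHall_map_mulEquiv {H : Type*} [Group H] [Finite G] [Finite H] (e : G ≃* H) :
    (Cfsg.fittingHall G).map e.toMonoidHom = Cfsg.fittingHall H := by
  have key : ∀ {A B : Type _} [Group A] [Group B] [Finite A] [Finite B] (f : A ≃* B) (N : Subgroup A),
      N.Normal → Group.IsNilpotent N → (Nat.card N).Coprime N.index →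
        (N.map f.toMonoidHom) ≤ Cfsg.fittingHall B := by
    intro A B _ _ _ _ f N h1 h2 h3
    refine le_fittingHall (h1.map _ f.surjective) ?_ ?_
    · have := h2
      exact Group.nilpotent_of_mulEquiv (N.equivMapOfInjective f.toMonoidHom f.injective)
    · rw [Subgroup.card_map_of_injective f.injective]
      rwa [Subgroup.index_map_of_bijective f.bijective]
  apply le_antisymm
  · exact key e _ inferInstance fittingHall_isNilpotent fittingHall_coprime_index
  · intro x hx
    have hb : (Cfsg.fittingHall H).map e.symm.toMonoidHom ≤ Cfsg.fittingHall G := by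
      refine le_fittingHall ((inferInstance : (Cfsg.fittingHall H).Normal).map _ e.symm.surjective) ?_ ?_
      · have := fittingHall_isNilpotent (G := H)
        exact Group.nilpotent_of_mulEquiv
          ((Cfsg.fittingHall H).equivMapOfInjective e.symm.toMonoidHom e.symm.injective)
      · rw [Subgroup.card_map_of_injective e.symm.injective,
          Subgroup.index_map_of_bijective e.symm.bijective]
        exact fittingHall_coprime_index
    exact ⟨e.symm x, hb ⟨x, hx, rfl⟩, by simp⟩

/-! ### `fittingHallOf` -/

theorem fittingHallOf_le (M : Subgroup G) : Cfsg.fittingHallOf M ≤ M :=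
  Subgroup.map_subtype_le _

theorem fittingHallOf_normal (M : Subgroup G) :
    M ≤ Subgroup.normalizer (Cfsg.fittingHallOf M : Set G) := by
  have h := Subgroup.le_normalizer_map (H := Cfsg.fittingHall M) M.subtype
  rw [(Subgroup.normalizer_eq_top_iff).mpr (inferInstance : (Cfsg.fittingHall M).Normal)] at h
  simpa [← MonoidHom.range_eq_map, Cfsg.fittingHallOf] using h

theorem fittingHallOf_isNilpotent [Finite G] (M : Subgroup G) :
    Group.IsNilpotent (Cfsg.fittingHallOf M) := by
  have := fittingHall_isNilpotent (G := M)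
  exact Group.nilpotent_of_mulEquiv
    ((Cfsg.fittingHall M).equivMapOfInjective M.subtype M.subtype_injective)

theorem fittingHallOf_subgroupOf (M : Subgroup G) :
    (Cfsg.fittingHallOf M).subgroupOf M = Cfsg.fittingHall M :=
  Subgroup.comap_map_eq_self_of_injective M.subtype_injective _

theorem card_fittingHallOf (M : Subgroup G) :
    Nat.card (Cfsg.fittingHallOf M) = Nat.card (Cfsg.fittingHall M) :=
  Subgroup.card_map_of_injective M.subtype_injective

theorem fittingHallOf_coprime_relIndex [Finite G] (M : Subgroup G) :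
    (Nat.card (Cfsg.fittingHallOf M)).Coprime ((Cfsg.fittingHallOf M).relIndex M) := by
  rw [card_fittingHallOf, Subgroup.relIndex, fittingHallOf_subgroupOf]
  exact fittingHall_coprime_index

theorem le_fittingHallOf [Finite G] {M N : Subgroup G} (hNM : N ≤ M)
    (hn : M ≤ Subgroup.normalizer (N : Set G)) (hnil : Group.IsNilpotent N)
    (hcop : (Nat.card N).Coprime (N.relIndex M)) : N ≤ Cfsg.fittingHallOf M := by
  have h1 : (N.subgroupOf M).Normal := (Subgroup.normal_subgroupOf_iff_le_normalizer hNM).mpr hn
  have h2 : Group.IsNilpotent (N.subgroupOf M) := by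
    have := hnil
    exact Group.nilpotent_of_mulEquiv (Subgroup.subgroupOfEquivOfLe hNM).symm
  have h3 : (Nat.card (N.subgroupOf M)).Coprime (N.subgroupOf M).index := by
    rwa [Nat.card_congr (Subgroup.subgroupOfEquivOfLe hNM).toEquiv]
  have := Subgroup.map_mono (f := M.subtype) (le_fittingHall h1 h2 h3)
  rwa [Subgroup.map_subgroupOf_eq_of_le hNM] at this

end CfsgLib.OddOrder
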