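import Mathlib
import Cfsg.Agent.Lib.OddOrder.FittingOf
import Cfsg.Agent.Lib.OddOrder.MinSimple
import Cfsg.Agent.Lib.OddOrder.TransitivityCriteria
import Cfsg.Agent.Lib.PCore.Basic
import Cfsg.Agent.Lib.PCore.PSolvable
import Cfsg.Agent.Lib.Coprime.Commutator

/-!
# Bender's maximal subgroup lemma for solvable maximal subgroups
-/

set_option autoImplicit false

namespace CfsgLib.OddOrder.Bender

open Subgroup CfsgLib.OddOrder
open scoped commutatorElement

variable {G : Type*} [Group G] [Finite G]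

/-- `p`-local balance, for a `p`-subgroup. -/
theorem le_core_of_centralizer_subgroup {H : Type*} [Group H] [Finite H] [Group.IsSolvable H]
    {p : ℕ} [Fact p.Prime] {U Z : Subgroup H} (hU : IsPGroup p U)
    (hZU : Z ≤ Subgroup.centralizer (U : Set H))
    (hn : Subgroup.centralizer (U : Set H) ≤ Subgroup.normalizer (Z : Set H))
    (hZ : (Nat.card Z).Coprime p) : Z ≤ Cfsg.pPrimeCore p H := by
  set K := Cfsg.pPrimeCore p H with hK
  set f := QuotientGroup.mk' K with hf
  have hsurj : Function.Surjective f := QuotientGroup.mk'_surjective K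
  obtain ⟨T, hT⟩ := hU.exists_le_sylow
  let Tb := T.mapSurjective hsurj
  set R := Cfsg.pCore p (H ⧸ K) with hR
  have hRn : R.Normal := inferInstance
  have hRp : IsPGroup p R := PCore.pCore_isPGroup
  have hCR : Subgroup.centralizer (R : Set (H ⧸ K)) ≤ R :=
    PCore.centralizer_pCore_le PCore.isPSolvable_of_isSolvable PCore.pPrimeCore_quotient_pPrimeCore
  have hZb : Z.map f ≤ Subgroup.centralizer (R : Set (H ⧸ K)) := by
    refine Coprime.pq_lemma p (U.map f) (Z.map f) (hU.map f) (Criteria.coprime_map f hZ)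
      ?_ R hRp ?_ ?_ ?_
    · rintro _ ⟨x, hx, rfl⟩
      rw [Subgroup.mem_centralizer_iff]
      rintro _ ⟨z, hz, rfl⟩
      rw [← map_mul, ← map_mul]
      exact congrArg f ((Subgroup.mem_centralizer_iff.mp (hZU hz) x hx).symm)
    · rw [Subgroup.normalizer_eq_top_iff.mpr hRn]; exact le_top
    · rw [Subgroup.normalizer_eq_top_iff.mpr hRn]; exact le_top
    · rintro r ⟨hr, hrc⟩
      obtain ⟨t, ht, rfl⟩ : r ∈ (T : Subgroup H).map f := PCore.pCore_le_sylow Tb hr
      have htU : t ∈ Subgroup.centralizer (U : Set H) := by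
        rw [Subgroup.mem_centralizer_iff]
        intro e he
        refine Criteria.eq_of_map_eq (K := K) T.isPGroup' PCore.pPrimeCore_coprime
          (mul_mem (hT he) ht) (mul_mem ht (hT he)) ?_
        rw [map_mul, map_mul]
        exact Subgroup.mem_centralizer_iff.mp hrc _ ⟨e, he, rfl⟩
      have htn := hn htU
      rw [Subgroup.mem_centralizer_iff]
      rintro _ ⟨z, hz, rfl⟩
      have h1 : f (z * t * z⁻¹ * t⁻¹) ∈ R := by
        simp only [map_mul, map_inv]
        exact mul_mem (hRn.conj_mem _ hr (f z)) (inv_mem hr)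
      have h2 : f (z * t * z⁻¹ * t⁻¹) ∈ Z.map f := by
        refine ⟨_, ?_, rfl⟩
        rw [show z * t * z⁻¹ * t⁻¹ = z * (t * z⁻¹ * t⁻¹) by group]
        exact mul_mem hz ((Subgroup.mem_normalizer_iff.mp htn _).mp (inv_mem hz))
      have h3 := Criteria.eq_one_of_pgroup_of_coprime hRp (Criteria.coprime_map f hZ) h1 h2
      calc f z * f t = f (z * t * z⁻¹ * t⁻¹) * (f t * f z) := by
            simp only [map_mul, map_inv]; group
        _ = f t * f z := by rw [h3, one_mul]
  refine Criteria.le_core_of_map_eq_bot (eq_bot_iff.mpr ?_)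
  exact fun x hx => Criteria.eq_one_of_pgroup_of_coprime hRp (Criteria.coprime_map f hZ) (hCR (hZb hx)) hx

/-- The primes of `F(M)`. -/
def fitPrimes (M : Subgroup G) : Set ℕ := {r | r.Prime ∧ r ∣ Nat.card (Cfsg.fittingOf M)}

omit [Finite G] in
theorem piNat_fittingOf (M : Subgroup G) : PiNat (fitPrimes M) (Nat.card (Cfsg.fittingOf M)) :=
  fun _ hr hd => ⟨hr, hd⟩

theorem eq_bot_of_opCore {M N : Subgroup G} (hs : Group.IsSolvable M) (hNM : N ≤ M)
    (hn : M ≤ Subgroup.normalizer (N : Set G))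
    (h : ∀ r : ℕ, r.Prime → r ∣ Nat.card N → ¬ r ∣ Nat.card (Cfsg.fittingOf M)) : N = ⊥ := by
  by_contra hne
  have hns : Group.IsSolvable N :=
    Group.isSolvable_of_isSolvable_injective (Subgroup.inclusion_injective hNM)
  have : Nontrivial N := N.nontrivial_iff_ne_bot.mpr hne
  obtain ⟨r, hr, hrd, hrne⟩ := Fitting.exists_pCore_ne_bot (G := N)
  have := Fact.mk hr
  refine h r hr hrd (dvd_of_opCore_ne_bot hr ?_)
  have hle : (Cfsg.pCore r N).map N.subtype ≤ opCore r M := by
    refine le_opCore ((Subgroup.map_subtype_le _).trans hNM) ?_ ((Fitting.pCore_isPGroup r).map _)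
    intro m hm
    refine Transitivity.mem_normalizer_of_cj_eq ?_
    have he : Transitivity.cj m N = N := Transitivity.cj_eq_of_mem_normalizer (hn hm)
    have h1 : Transitivity.cj m ((Cfsg.pCore r N).map N.subtype) =
        (Cfsg.pCore r (Transitivity.cj m N)).map (Transitivity.cj m N).subtype := by
      rw [← PCore.map_pCore_equiv (N.equivMapOfInjective (MulAut.conj m).toMonoidHom
        (MulAut.conj m).injective), Transitivity.cj, Subgroup.map_map, Subgroup.map_map]
      rfl
    rw [h1, he]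
  refine ne_bot_of_le_ne_bot ?_ hle
  exact fun h0 => hrne ((Subgroup.map_eq_bot_iff_of_injective _ N.subtype_injective).mp h0)

/-- A product of `O_t(M)` avoiding `r`, as the largest normal subgroup of that kind. -/
def sCore (s : ℕ) (M : Subgroup G) : Subgroup G :=
  Cfsg.piCoreOf ({s} ∪ {t | t.Prime ∧ ¬ t ∣ Nat.card (Cfsg.fittingOf M)}) M

omit [Finite G] in
theorem sCore_le (s : ℕ) (M : Subgroup G) : sCore s M ≤ M := piCoreOf_le _ _

omit [Finite G] in
theorem sCore_normal (s : ℕ) (M : Subgroup G) :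
    M ≤ Subgroup.normalizer (sCore s M : Set G) := piCoreOf_normal _ _

theorem sCore_commute {M : Subgroup G} (hs : Group.IsSolvable M) {r s : ℕ} (hrs : r ≠ s) :
    sCore r M ≤ Subgroup.centralizer (sCore s M : Set G) := by
  refine commute_of_normalizes ((sCore_le r M).trans (sCore_normal s M))
    ((sCore_le s M).trans (sCore_normal r M)) (fun x hx hy => ?_)
  have h : sCore r M ⊓ sCore s M = ⊥ := by
    refine eq_bot_of_opCore hs (inf_le_left.trans (sCore_le r M))
      (le_trans (le_inf (sCore_normal r M) (sCore_normal s M)) Subgroup.inf_normalizer_le_normalizer_inf) ?_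
    intro t ht htd hf
    have h1 := piNat_card_piCoreOf _ M t ht (htd.trans (Subgroup.card_dvd_of_le inf_le_left))
    have h2 := piNat_card_piCoreOf _ M t ht (htd.trans (Subgroup.card_dvd_of_le inf_le_right))
    rcases h1 with h1 | h1
    · rcases h2 with h2 | h2
      · exact hrs ((Set.mem_singleton_iff.mp h1).symm.trans (Set.mem_singleton_iff.mp h2))
      · exact h2.2 hf
    · exact h1.2 hf
  exact Subgroup.mem_bot.mp (h ▸ ⟨hx, hy⟩)

theorem opCore_inter_le_sCore (hG : Cfsg.IsMinSimpleOddOrder G) {M L : Subgroup G} (hM : IsCoatom M)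
    (hL : IsCoatom L) (hFLM : Cfsg.fittingOf L ≤ M)
    (hpi : ∀ r : ℕ, r.Prime → r ∣ Nat.card (Cfsg.fittingOf M) → opCore r L ≠ ⊥)
    {s : ℕ} (hs : s.Prime) : opCore s (M ⊓ L) ≤ sCore s M := by
  have := Fact.mk hs
  set P := opCore s (M ⊓ L) with hP
  set π' : Set ℕ := {s} ∪ {t | t.Prime ∧ ¬ t ∣ Nat.card (Cfsg.fittingOf M)} with hπ'
  have := minSimple_solvable hG hM.1
  have hPM : P ≤ M := (opCore_le _ _).trans inf_le_left
  -- for every other prime `r` of `F(M)`, `P` lies in `O_{r'}(M)`
  have hbal : ∀ r : ℕ, r.Prime → r ∣ Nat.card (Cfsg.fittingOf M) → r ≠ s →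
      P.subgroupOf M ≤ Cfsg.pPrimeCore r M := by
    intro r hr hrd hrs
    have := Fact.mk hr
    set U := opCore r L with hU
    have hUM : U ≤ M := (opCore_le_fittingOf hr L).trans hFLM
    have hUI : U ≤ M ⊓ L := le_inf hUM (opCore_le r L)
    have hUn : (M ⊓ L) ≤ Subgroup.normalizer (U : Set G) := inf_le_right.trans (opCore_normal r L)
    have hc : P ≤ Subgroup.centralizer (U : Set G) :=
      commute_of_normalizes ((opCore_le _ _).trans hUn) (hUI.trans (opCore_normal s _))
        (fun x hx hy => isPGroup_inter_eq_one hrs.symm (opCore_isPGroup s _) (opCore_isPGroup r L) hx hy)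
    have hNU : Subgroup.normalizer (U : Set G) = L :=
      normalizer_eq_of_isCoatom hG hL (opCore_le r L) (hpi r hr hrd) (opCore_normal r L)
    refine le_core_of_centralizer_subgroup (U := U.subgroupOf M)
      ((opCore_isPGroup r L).comap_of_injective M.subtype M.subtype_injective) ?_ ?_ ?_
    · intro x hx
      rw [Subgroup.mem_centralizer_iff]
      exact fun u hu => Subtype.ext (Subgroup.mem_centralizer_iff.mp (hc hx) u hu)
    · intro x hx
      rw [← Subgroup.subgroupOf_normalizer_eq hPM]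
      refine opCore_normal s _ ⟨x.2, ?_⟩
      rw [← hNU]
      refine Subgroup.centralizer_le_normalizer (U : Set G) (Subgroup.mem_centralizer_iff.mpr (fun u hu => ?_))
      exact congrArg Subtype.val (Subgroup.mem_centralizer_iff.mp hx ⟨u, hUM hu⟩ hu)
    · obtain ⟨n, hn⟩ := (opCore_isPGroup s (M ⊓ L)).exists_card_eq
      rw [Nat.card_congr (Subgroup.subgroupOfEquivOfLe hPM).toEquiv, hn]
      exact ((Nat.coprime_primes hs hr).mpr hrs.symm).pow_left n
  set N : Subgroup M := ⨅ r ∈ {r : ℕ | r.Prime ∧ r ∣ Nat.card (Cfsg.fittingOf M) ∧ r ≠ s},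
    Cfsg.pPrimeCore r M with hN
  have hNn : N.Normal := Subgroup.normal_iInf_normal (fun r => Subgroup.normal_iInf_normal (fun _ => inferInstance))
  have hPN : P.subgroupOf M ≤ N := le_iInf₂ (fun r hr => hbal r hr.1 hr.2.1 hr.2.2)
  have hNπ : PiNat π' (Nat.card N) := by
    intro t ht htd
    by_cases hts : t = s
    · exact Or.inl hts
    · refine Or.inr ⟨ht, fun htf => ?_⟩
      have hle : N ≤ Cfsg.pPrimeCore t M := iInf₂_le t ⟨ht, htf, hts⟩
      exact ht.ne_one (Nat.eq_one_of_dvd_coprimes PCore.pPrimeCore_coprime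
        (htd.trans (Subgroup.card_dvd_of_le hle)) dvd_rfl)
  have h2 := Subgroup.map_mono (f := M.subtype) (hPN.trans (le_piCore hNn hNπ))
  rwa [Subgroup.map_subgroupOf_eq_of_le hPM] at h2

/-- `O_s(M ⊓ L) = O_s(M)` in Bender's situation. -/
theorem opCore_eq (hG : Cfsg.IsMinSimpleOddOrder G) {M L : Subgroup G} (hM : IsCoatom M)
    (hL : IsCoatom L) (hFML : Cfsg.fittingOf M ≤ L) (hFLM : Cfsg.fittingOf L ≤ M)
    (hpi : ∀ r : ℕ, r.Prime → r ∣ Nat.card (Cfsg.fittingOf M) → opCore r L ≠ ⊥)
    {s r : ℕ} (hs : s.Prime) (hr : r.Prime) (hrd : r ∣ Nat.card (Cfsg.fittingOf M)) (hrs : r ≠ s) :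
    opCore s (M ⊓ L) = opCore s M := by
  have := Fact.mk hr
  have hMs := minSimple_solvable hG hM.1
  refine le_antisymm ?_ ?_
  · -- `sCore s M` lies in `L`
    have hU : opCore r L ≤ sCore r M := by
      refine le_trans ?_ (opCore_inter_le_sCore hG hM hL hFLM hpi hr)
      exact le_opCore (le_inf ((opCore_le_fittingOf hr L).trans hFLM) (opCore_le r L))
        (inf_le_right.trans (opCore_normal r L)) (opCore_isPGroup r L)
    have hNL : sCore s M ≤ L := by
      rw [← normalizer_eq_of_isCoatom hG hL (opCore_le r L) (hpi r hr hrd) (opCore_normal r L)]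
      exact ((sCore_commute hMs hrs.symm).trans (Subgroup.centralizer_le hU)).trans
        (Subgroup.centralizer_le_normalizer _)
    set P := opCore s (M ⊓ L) with hP
    have hPM : P ≤ M := (opCore_le _ _).trans inf_le_left
    have hPN : P ≤ sCore s M := opCore_inter_le_sCore hG hM hL hFLM hpi hs
    have hsub : (P.subgroupOf M).IsSubnormal := by
      refine Subgroup.IsSubnormal.step _ ((sCore s M).subgroupOf M) (Subgroup.comap_mono hPN) ?_ ?_
      · exact ((Subgroup.normal_subgroupOf_iff_le_normalizer (sCore_le s M)).mpr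
          (sCore_normal s M)).isSubnormal
      · refine (Subgroup.normal_subgroupOf_iff_le_normalizer (Subgroup.comap_mono hPN)).mpr ?_
        intro x hx
        show x ∈ Subgroup.normalizer ((P.subgroupOf M : Subgroup M) : Set M)
        rw [← Subgroup.subgroupOf_normalizer_eq hPM]
        exact opCore_normal s _ ⟨x.2, hNL hx⟩
    have := Fact.mk hs
    have h2 := Subgroup.map_mono (f := M.subtype) (PCore.le_pCore_of_isSubnormal hsub
      ((opCore_isPGroup s _).comap_of_injective M.subtype M.subtype_injective) (p := s))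
    rwa [Subgroup.map_subgroupOf_eq_of_le hPM] at h2
  · exact le_opCore (le_inf (opCore_le s M) ((opCore_le_fittingOf hs M).trans hFML))
      (inf_le_left.trans (opCore_normal s M)) (opCore_isPGroup s M)

/-- **Bender**: two maximal subgroups whose Fitting subgroups lie in each other coincide, unless
these are `p`-groups. -/
theorem maximal_eq (hG : Cfsg.IsMinSimpleOddOrder G) {M L : Subgroup G} (hM : IsCoatom M)
    (hL : IsCoatom L) (hFML : Cfsg.fittingOf M ≤ L) (hFLM : Cfsg.fittingOf L ≤ M)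
    {s r : ℕ} (hs : s.Prime) (hr : r.Prime) (hsd : s ∣ Nat.card (Cfsg.fittingOf M))
    (hrd : r ∣ Nat.card (Cfsg.fittingOf M)) (hrs : r ≠ s)
    (hpi : ∀ t : ℕ, t.Prime → (t ∣ Nat.card (Cfsg.fittingOf M) ↔ t ∣ Nat.card (Cfsg.fittingOf L))) :
    M = L := by
  have h1 := opCore_eq hG hM hL hFML hFLM
    (fun t ht htd => opCore_ne_bot_of_dvd ht ((hpi t ht).mp htd)) hs hr hrd hrs
  have h2 := opCore_eq hG hL hM hFLM hFML
    (fun t ht htd => opCore_ne_bot_of_dvd ht ((hpi t ht).mpr htd)) hs hr ((hpi r hr).mp hrd) hrs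
  rw [inf_comm, h1] at h2
  rw [← normalizer_eq_of_isCoatom hG hM (opCore_le s M) (opCore_ne_bot_of_dvd hs hsd) (opCore_normal s M),
    h2, normalizer_eq_of_isCoatom hG hL (opCore_le s L) (opCore_ne_bot_of_dvd hs ((hpi s hs).mp hsd))
      (opCore_normal s L)]

end CfsgLib.OddOrder.Bender
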