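import Mathlib
import Cfsg.Agent.Lib.OddOrder.Transitivity
import Cfsg.Agent.Lib.OddOrder.CoprimeGlauberman
import Cfsg.Agent.Lib.OddOrder.NoncyclicAction

/-!
# BG 7.3, 7.4: transitivity for central rank at least 3, resp. 2; passage to subnormal overgroups
-/

set_option autoImplicit false

namespace CfsgLib.OddOrder.Transitivity

open Subgroup CfsgLib.OddOrder
open scoped commutatorElement

variable {G : Type*} [Group G] [Finite G]

omit [Finite G] in
theorem central_le_centralizer {A E : Subgroup G}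
    (h : E ≤ A ⊓ Subgroup.centralizer (A : Set G)) {b : G} (hb : b ∈ E) :
    A ≤ Subgroup.centralizer ({b} : Set G) := by
  intro a ha
  rw [Subgroup.mem_centralizer_singleton_iff]
  exact Subgroup.mem_centralizer_iff.mp (h hb).2 a ha

omit [Finite G] in
theorem prime_ne_of_central {A E : Subgroup G} {p q k : ℕ} (hk : k ≠ 0)
    (hle : E ≤ A) (hcard : Nat.card E = p ^ k) (hqA : ¬ q ∣ Nat.card A) : q ≠ p := by
  rintro rfl
  exact hqA ((dvd_pow_self q hk).trans (hcard ▸ Subgroup.card_dvd_of_le hle))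

theorem bot_mem_inv {q : ℕ} [Fact q.Prime] (A : Subgroup G) :
    (⊥ : Subgroup G) ∈ Cfsg.invSubgroups ⊤ A {q} := by
  refine mem_inv_iff.mpr ⟨IsPGroup.of_bot, ?_⟩
  rw [Subgroup.normalizer_eq_top_iff.mpr inferInstance]
  exact le_top

omit [Finite G] in
theorem eq_bot_of_max_bot {q : ℕ} [Fact q.Prime] {A Q R : Subgroup G}
    (hQ : Q ∈ Cfsg.maxInvSubgroups ⊤ A {q}) (h : Q = ⊥) (hR : R ∈ Cfsg.maxInvSubgroups ⊤ A {q}) :
    R = ⊥ := (hQ.2 R hR.1 (h ▸ bot_le)).trans h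

/-- **BG 7.3**. -/
theorem conj_of_center_rank_three (hG : Cfsg.IsMinSimpleOddOrder G) {A : Subgroup G}
    (hA : Cfsg.TransitivityHypothesis A)
    (hZ : ¬ Cfsg.RankLE 2 ↥(A ⊓ Subgroup.centralizer (A : Set G))) {q : ℕ} [Fact q.Prime]
    (hqA : ¬ q ∣ Nat.card A) {Q₁ Q₂ : Subgroup G} (h₁ : Q₁ ∈ Cfsg.maxInvSubgroups ⊤ A {q})
    (h₂ : Q₂ ∈ Cfsg.maxInvSubgroups ⊤ A {q}) :
    ∃ k ∈ primeCore A (Subgroup.centralizer (A : Set G)), Q₂ = cj k Q₁ := by
  obtain ⟨p, E, hp, hEle, hE, hcard⟩ := not_rankLE_subgroup_iff.mp hZ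
  have := Fact.mk hp
  have hEA : E ≤ A := hEle.trans inf_le_left
  have hqp : q ≠ p := prime_ne_of_central (by norm_num) hEA hcard hqA
  by_cases hb₁ : Q₁ = ⊥
  · exact ⟨1, Subgroup.one_mem _, by rw [cj_one, hb₁, eq_bot_of_max_bot h₁ hb₁ h₂]⟩
  have hb₂ : Q₂ ≠ ⊥ := fun h => hb₁ (eq_bot_of_max_bot h₂ h h₁)
  obtain ⟨hp₁, hn₁⟩ := mem_inv_iff.mp h₁.1
  obtain ⟨hp₂, hn₂⟩ := mem_inv_iff.mp h₂.1
  obtain ⟨B₁, hB₁, hc₁, hf₁⟩ := exists_sq_fixed_of_card_cube hqp hE hcard (hEA.trans hn₁) hp₁ hb₁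
  obtain ⟨B₂, hB₂, hc₂, hf₂⟩ := exists_sq_fixed_of_card_cube hqp hE hcard (hEA.trans hn₂) hp₂ hb₂
  have hint : B₁ ⊓ B₂ ≠ ⊥ := by
    intro h
    have hn : (B₂.subgroupOf E).Normal := by
      have := hE.1
      exact Subgroup.normal_of_isMulCommutative _
    have h3 := card_sup_of_normal (B₁.subgroupOf E) (B₂.subgroupOf E)
    rw [← Subgroup.inf_relIndex_right, Subgroup.subgroupOf, Subgroup.subgroupOf, ← Subgroup.comap_inf,
      inf_comm, h, MonoidHom.comap_bot, Subgroup.ker_subtype, Subgroup.relIndex_bot_left] at h3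
    have hc₁' : Nat.card (B₁.comap E.subtype) = p ^ 2 := by
      rw [← hc₁]; exact Nat.card_congr (Subgroup.subgroupOfEquivOfLe hB₁).toEquiv
    have hc₂' : Nat.card (B₂.comap E.subtype) = p ^ 2 := by
      rw [← hc₂]; exact Nat.card_congr (Subgroup.subgroupOfEquivOfLe hB₂).toEquiv
    rw [hc₁', hc₂'] at h3
    have h4 := Subgroup.card_le_card_group (B₁.comap E.subtype ⊔ B₂.comap E.subtype)
    rw [h3, hcard, ← pow_add] at h4
    exact absurd h4 (not_le.mpr (Nat.pow_lt_pow_right hp.one_lt (by norm_num)))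
  obtain ⟨b, hb, hb1⟩ := (Subgroup.bot_or_exists_ne_one (B₁ ⊓ B₂)).resolve_left hint
  refine conj_of_common_overgroup hG invSylowConj hA hqA h₁ h₂
    (minSimple_centralizer_singleton_ne_top hG hb1) (central_le_centralizer hEle (hB₁ hb.1)) ?_ ?_
  · refine ne_bot_of_le_ne_bot hf₁ (le_inf (inf_le_right.trans ?_) inf_le_left)
    exact Subgroup.centralizer_le (Set.singleton_subset_iff.mpr hb.1)
  · refine ne_bot_of_le_ne_bot hf₂ (le_inf (inf_le_right.trans ?_) inf_le_left)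
    exact Subgroup.centralizer_le (Set.singleton_subset_iff.mpr hb.2)

/-- **BG 7.4**. -/
theorem conj_of_center_rank_two (hG : Cfsg.IsMinSimpleOddOrder G) {A : Subgroup G}
    (hA : Cfsg.TransitivityHypothesis A)
    (hZ : ¬ Cfsg.RankLE 1 ↥(A ⊓ Subgroup.centralizer (A : Set G))) {q : ℕ} [Fact q.Prime]
    (hqA : ¬ q ∣ Nat.card A) (hqC : q ∣ Nat.card (Subgroup.centralizer (A : Set G)))
    {Q₁ Q₂ : Subgroup G} (h₁ : Q₁ ∈ Cfsg.maxInvSubgroups ⊤ A {q})
    (h₂ : Q₂ ∈ Cfsg.maxInvSubgroups ⊤ A {q}) :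
    ∃ k ∈ primeCore A (Subgroup.centralizer (A : Set G)), Q₂ = cj k Q₁ := by
  obtain ⟨p, E, hp, hEle, hE, hcard⟩ := not_rankLE_subgroup_iff.mp hZ
  have := Fact.mk hp
  have hEA : E ≤ A := hEle.trans inf_le_left
  have hqp : q ≠ p := prime_ne_of_central (by norm_num) hEA hcard hqA
  obtain ⟨x, hx⟩ := exists_prime_orderOf_dvd_card' (G := Subgroup.centralizer (A : Set G)) q hqC
  have hx1 : (x : G) ≠ 1 := fun h => (Fact.out : q.Prime).ne_one
    (hx.symm.trans (orderOf_eq_one_iff.mpr (Subtype.ext h)))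
  have hxne : Subgroup.zpowers (x : G) ≠ ⊥ := fun h => hx1 (Subgroup.zpowers_eq_bot.mp h)
  obtain ⟨Q₃, h₃, hle₃⟩ : ∃ Q ∈ Cfsg.maxInvSubgroups ⊤ A {q}, Subgroup.zpowers (x : G) ≤ Q := by
    refine exists_max_ge (mem_inv_iff.mpr ⟨IsPGroup.of_card (n := 1) ?_, ?_⟩)
    · rw [Nat.card_zpowers, Subgroup.orderOf_coe, hx, pow_one]
    · refine le_trans ?_ (Subgroup.centralizer_le_normalizer _)
      exact Subgroup.le_centralizer_iff.mp (Subgroup.zpowers_le.mpr x.2)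
  have key : ∀ Q ∈ Cfsg.maxInvSubgroups ⊤ A {q},
      ∃ k ∈ primeCore A (Subgroup.centralizer (A : Set G)), Q = cj k Q₃ := by
    intro Q hQ
    have hb : Q ≠ ⊥ := fun h => hxne (eq_bot_iff.mpr (hle₃.trans (eq_bot_of_max_bot hQ h h₃).le))
    obtain ⟨hQp, hQn⟩ := mem_inv_iff.mp hQ.1
    obtain ⟨b, hb', hb1, hf⟩ := exists_fixed_of_card_sq hqp hE hcard (hEA.trans hQn) hQp hb
    refine conj_of_common_overgroup hG invSylowConj hA hqA h₃ hQ
      (minSimple_centralizer_singleton_ne_top hG hb1) (central_le_centralizer hEle hb') ?_ ?_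
    · refine ne_bot_of_le_ne_bot hxne (le_inf ?_ hle₃)
      rw [Subgroup.zpowers_le, Subgroup.mem_centralizer_singleton_iff]
      exact (Subgroup.mem_centralizer_iff.mp x.2 b (hEA hb')).symm
    · rwa [inf_comm] at hf
  obtain ⟨k₁, hk₁, e₁⟩ := key Q₁ h₁
  obtain ⟨k₂, hk₂, e₂⟩ := key Q₂ h₂
  exact ⟨k₂ * k₁⁻¹, mul_mem hk₂ (Subgroup.inv_mem _ hk₁), by rw [e₂, e₁, cj_mul, inv_mul_cancel_right]⟩

/-! ### BG 7.5 (passage to a subnormal overgroup) -/

omit [Finite G] in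
/-- Subnormal subgroups are reached by a chain of normal steps. -/
theorem isSubnormal_induction {A P : Subgroup G} (hAP : A ≤ P) (hsn : (A.subgroupOf P).IsSubnormal)
    (motive : Subgroup G → Prop) (h0 : motive A)
    (step : ∀ X Y : Subgroup G, A ≤ X → X ≤ Y → Y ≤ P → Y ≤ Subgroup.normalizer (X : Set G) →
      motive X → motive Y) : motive P := by
  have gen : ∀ X : Subgroup P, X.IsSubnormal → A ≤ X.map P.subtype → motive (X.map P.subtype) →
      motive P := by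
    intro X hX
    induction hX with
    | top =>
      intro _ h
      rwa [← MonoidHom.range_eq_map, Subgroup.range_subtype] at h
    | step H K hle _ hn ih =>
      intro hA h
      refine ih (hA.trans (Subgroup.map_mono hle)) ?_
      refine step _ _ hA (Subgroup.map_mono hle) (Subgroup.map_subtype_le K) ?_ h
      exact le_trans (Subgroup.map_mono ((Subgroup.normal_subgroupOf_iff_le_normalizer hle).mp hn))
        (Subgroup.le_normalizer_map (H := H) P.subtype)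
  refine gen _ hsn ?_ ?_ <;> rw [Subgroup.map_subgroupOf_eq_of_le hAP]
  exact h0

theorem transitivity_passes (hG : Cfsg.IsMinSimpleOddOrder G) {A : Subgroup G}
    (hA : Cfsg.TransitivityHypothesis A) {q : ℕ} [Fact q.Prime] (hqA : ¬ q ∣ Nat.card A)
    {P : Subgroup G} (hPπ : ∀ r : ℕ, r.Prime → r ∣ Nat.card P → r ∣ Nat.card A) (hAP : A ≤ P)
    (hsn : (A.subgroupOf P).IsSubnormal)
    (htr : ∀ Q₁ ∈ Cfsg.maxInvSubgroups ⊤ A {q}, ∀ Q₂ ∈ Cfsg.maxInvSubgroups ⊤ A {q},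
      ∃ k ∈ primeCore A (Subgroup.centralizer (A : Set G)), Q₂ = cj k Q₁) :
    (∀ X : Subgroup G, A ≤ X → primeCore A (Subgroup.centralizer (A : Set G)) ⊓
        Subgroup.centralizer (X : Set G) = primeCore A (Subgroup.centralizer (X : Set G))) ∧
    (∀ Q₁ ∈ Cfsg.maxInvSubgroups ⊤ P {q}, ∀ Q₂ ∈ Cfsg.maxInvSubgroups ⊤ P {q},
      ∃ k ∈ primeCore A (Subgroup.centralizer (P : Set G)), Q₂ = cj k Q₁) ∧
    Cfsg.maxInvSubgroups ⊤ P {q} ⊆ Cfsg.maxInvSubgroups ⊤ A {q} := by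
  have hK : ∀ X : Subgroup G, A ≤ X → primeCore A (Subgroup.centralizer (A : Set G)) ⊓
      Subgroup.centralizer (X : Set G) = primeCore A (Subgroup.centralizer (X : Set G)) := by
    intro X hAX
    have hCX : Subgroup.centralizer (X : Set G) ≤ Subgroup.centralizer (A : Set G) :=
      Subgroup.centralizer_le hAX
    exact le_antisymm (piCoreOf_inf_le hCX)
      (le_inf (le_core_centralizer hG hA ((piCoreOf_le _ _).trans hCX) (piNat_card_piCoreOf _ _))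
        (piCoreOf_le _ _))
  refine ⟨hK, ?_⟩
  refine isSubnormal_induction hAP hsn
    (fun X => (∀ Q₁ ∈ Cfsg.maxInvSubgroups ⊤ X {q}, ∀ Q₂ ∈ Cfsg.maxInvSubgroups ⊤ X {q},
        ∃ k ∈ primeCore A (Subgroup.centralizer (X : Set G)), Q₂ = cj k Q₁) ∧
      Cfsg.maxInvSubgroups ⊤ X {q} ⊆ Cfsg.maxInvSubgroups ⊤ A {q}) ⟨htr, subset_rfl⟩ ?_
  rintro X Y hAX hXY hYP hYn ⟨htrX, hsubX⟩
  set KX := primeCore A (Subgroup.centralizer (X : Set G)) with hKX
  have hYπ : ∀ r : ℕ, r.Prime → r ∣ Nat.card Y → r ∣ Nat.card A :=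
    fun r hr h => hPπ r hr (h.trans (Subgroup.card_dvd_of_le hYP))
  have hcopY : ∀ L : Subgroup G, PiNat (Cfsg.primesNotDvd (Nat.card A)) (Nat.card L) →
      (Nat.card Y).Coprime (Nat.card L) := fun L hL =>
    Nat.coprime_of_dvd (fun r hr h1 h2 => (hL r hr h2).2 (hYπ r hr h1))
  have hKXn : Y ≤ Subgroup.normalizer (KX : Set G) :=
    (hYn.trans (normalizer_centralizer_le X)).trans (normalizer_le_normalizer_piCoreOf _ _)
  have hKXs : Group.IsSolvable KX := by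
    refine minSimple_solvable hG (fun h => minSimple_centralizer_subgroup_ne_top hG hA.1 ?_)
    exact top_le_iff.mp (h.symm.le.trans ((piCoreOf_le _ _).trans (Subgroup.centralizer_le hAX)))
  -- every maximal `Y`-invariant subgroup is maximal `X`-invariant
  have hsub : Cfsg.maxInvSubgroups ⊤ Y {q} ⊆ Cfsg.maxInvSubgroups ⊤ X {q} := by
    intro Q' hQ'
    obtain ⟨hQ'p, hQ'n⟩ := mem_inv_iff.mp hQ'.1
    have hQ'X : Q' ∈ Cfsg.invSubgroups ⊤ X {q} := mem_inv_iff.mpr ⟨hQ'p, hXY.trans hQ'n⟩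
    by_cases hb : Q' = ⊥
    · obtain ⟨Q₀, hQ₀, -⟩ := exists_max_ge hQ'X
      obtain ⟨Q, hQ, hQn⟩ := exists_fixed hKXn (hcopY _ (piNat_card_piCoreOf _ _)) hKXs
        (S := Cfsg.maxInvSubgroups ⊤ X {q})
        (fun k hk Q hQ => max_cj (centralizer_le_normalizer' X (piCoreOf_le _ _ hk)) hQ)
        (fun y hy Q hQ => max_cj (hYn hy) hQ) htrX ⟨Q₀, hQ₀⟩
      have he : Q = Q' :=
        hQ'.2 Q (mem_inv_iff.mpr ⟨(mem_inv_iff.mp hQ.1).1, hQn⟩) (hb ▸ bot_le)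
      exact he ▸ hQ
    · obtain ⟨Q, hQ, hle⟩ := exists_max_ge hQ'X
      by_contra hnot
      have hlt : Q' < Q := lt_of_le_of_ne hle (fun h => hnot (h ▸ hQ))
      set N := Subgroup.normalizer (Q' : Set G) with hN
      have hNtop : N ≠ ⊤ := minSimple_normalizer_ne_top hG hb (minSimple_pgroup_ne_top hG hQ'p)
      have hYN : Y ≤ N := hQ'n
      have hAN : A ≤ N := hAX.trans (hXY.trans hYN)
      set L := primeCore A N with hL
      obtain ⟨hQp, hQn⟩ := mem_inv_iff.mp hQ.1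
      have hRn : X ≤ Subgroup.normalizer ((N ⊓ Q : Subgroup G) : Set G) :=
        le_trans (le_inf ((hXY.trans hYN).trans Subgroup.le_normalizer) hQn)
          Subgroup.inf_normalizer_le_normalizer_inf
      have hRp : IsPGroup q ↥(N ⊓ Q) := hQp.to_le inf_le_right
      have hRL : N ⊓ Q ≤ L := inv_le_core hA hNtop hAN inf_le_left (hAX.trans hRn)
        (piNat_primesNotDvd_of_isPGroup Fact.out hqA hRp)
      have hQ'L : Q' ≤ L := le_trans (le_inf Subgroup.le_normalizer hle) hRL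
      have hYL : Y ≤ Subgroup.normalizer (L : Set G) := hYN.trans (piCoreOf_normal _ _)
      have hLs : Group.IsSolvable L :=
        minSimple_solvable hG (fun h => hNtop (top_le_iff.mp (h ▸ piCoreOf_le _ N)))
      have hgrow : Nat.card Q' < Nat.card ↥(N ⊓ Q) := normalizer_grows hQp hlt
      have hmax : ∀ M : Subgroup G, IsPGroup q M → M ≤ L → Nat.card M ≤ Nat.card Q' := by
        intro M hMp hML
        obtain ⟨T₂, hT₂⟩ := (hMp.comap_of_injective L.subtype L.subtype_injective).exists_le_sylow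
        obtain ⟨S₂, hS₂n, hS₂⟩ : ∃ S₂ : Sylow q L,
            Y ≤ Subgroup.normalizer (((S₂ : Subgroup L).map L.subtype : Subgroup G) : Set G) ∧
              Q' ≤ (S₂ : Subgroup L).map L.subtype :=
          invariant_sylow_ge hYL (hcopY _ (piNat_card_piCoreOf _ _)) hLs hQ'L hQ'p hQ'n
        have he := hQ'.2 _ (mem_inv_iff.mpr ⟨S₂.isPGroup'.map _, hS₂n⟩) hS₂
        rw [← he, Subgroup.card_map_of_injective L.subtype_injective, S₂.card_eq_multiplicity,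
          ← T₂.card_eq_multiplicity, ← Nat.card_congr (Subgroup.subgroupOfEquivOfLe hML).toEquiv]
        exact Subgroup.card_le_of_le hT₂
      exact absurd (hmax _ hRp hRL) (not_le.mpr hgrow)
  refine ⟨fun Q₁ h₁ Q₂ h₂ => ?_, hsub.trans hsubX⟩
  obtain ⟨k, hk, he⟩ := htrX Q₁ (hsub h₁) Q₂ (hsub h₂)
  obtain ⟨c, hc, hce⟩ := fixed_conj hKXn (hcopY _ (piNat_card_piCoreOf _ _)) hKXs
    (mem_inv_iff.mp h₁.1).2 (mem_inv_iff.mp h₂.1).2 hk he
  refine ⟨c, ?_, hce⟩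
  rw [hKX, ← hK X hAX] at hc
  rw [← hK Y (hAX.trans hXY)]
  exact ⟨hc.1.1, hc.2⟩

/-- **BG 7.5 (d)**. -/
theorem normalizer_factor {A : Subgroup G} {q : ℕ} [Fact q.Prime]
    {P : Subgroup G} (hPπ : ∀ r : ℕ, r.Prime → r ∣ Nat.card P → r ∣ Nat.card A)
    (htr : ∀ Q₁ ∈ Cfsg.maxInvSubgroups ⊤ P {q}, ∀ Q₂ ∈ Cfsg.maxInvSubgroups ⊤ P {q},
      ∃ k ∈ primeCore A (Subgroup.centralizer (P : Set G)), Q₂ = cj k Q₁)
    {Q : Subgroup G} (hQ : Q ∈ Cfsg.maxInvSubgroups ⊤ P {q}) :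
    P ⊓ ⁅Subgroup.normalizer (P : Set G), Subgroup.normalizer (P : Set G)⁆ ≤
        ⁅Subgroup.normalizer (Q : Set G), Subgroup.normalizer (Q : Set G)⁆ ∧
      Subgroup.normalizer (P : Set G) = primeCore A (Subgroup.centralizer (P : Set G)) ⊔
        (Subgroup.normalizer (P : Set G) ⊓ Subgroup.normalizer (Q : Set G)) := by
  set N := Subgroup.normalizer (P : Set G) with hN
  set KP := primeCore A (Subgroup.centralizer (P : Set G)) with hKP
  set Y := N ⊓ Subgroup.normalizer (Q : Set G) with hY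
  have hKN : KP ≤ N := (piCoreOf_le _ _).trans (centralizer_le_normalizer' P)
  have hNK : N ≤ Subgroup.normalizer (KP : Set G) :=
    (normalizer_centralizer_le P).trans (normalizer_le_normalizer_piCoreOf _ _)
  have heq : N = KP ⊔ Y := by
    refine le_antisymm (fun n hn => ?_) (sup_le hKN inf_le_left)
    obtain ⟨k, hk, he⟩ := htr Q hQ _ (max_cj hn hQ)
    have h1 : k⁻¹ * n ∈ Y := by
      refine ⟨mul_mem (Subgroup.inv_mem _ (hKN hk)) hn, mem_normalizer_of_cj_eq ?_⟩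
      rw [← cj_mul, he, cj_mul, inv_mul_cancel, cj_one]
    have h2 : n = k * (k⁻¹ * n) := by group
    rw [h2]
    exact mul_mem (le_sup_left (b := Y) hk) (le_sup_right (a := KP) h1)
  refine ⟨?_, heq⟩
  have hder : ⁅Y, Y⁆ ≤ ⁅Subgroup.normalizer (Q : Set G), Subgroup.normalizer (Q : Set G)⁆ :=
    Subgroup.commutator_mono inf_le_right inf_le_right
  refine le_trans ?_ hder
  rintro x ⟨hxP, hxN⟩
  set D := KP ⊔ ⁅Y, Y⁆ with hD
  have hDn : ∀ {g : G}, g ∈ N → g ∈ Subgroup.normalizer (KP : Set G) := fun hg => hNK hg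
  have hND : ⁅N, N⁆ ≤ D := by
    rw [Subgroup.commutator_le]
    intro a ha b hb
    rw [heq] at ha hb
    obtain ⟨k₁, hk₁, y₁, hy₁, rfl⟩ := exists_mem_mul (inf_le_left.trans hNK) ha
    obtain ⟨k₂, hk₂, y₂, hy₂, rfl⟩ := exists_mem_mul (inf_le_left.trans hNK) hb
    have hcy : ⁅y₁, y₂⁆ ∈ ⁅Y, Y⁆ := Subgroup.commutator_mem_commutator hy₁ hy₂
    have hconj : ∀ g ∈ N, ∀ z ∈ KP, g * z * g⁻¹ ∈ KP := fun g hg z hz =>
      (Subgroup.mem_normalizer_iff.mp (hNK hg) z).mp hz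
    have h1 : ⁅k₁ * y₁, k₂ * y₂⁆ = (k₁ * (y₁ * k₂ * y₁⁻¹)) * ((y₁ * y₂ * y₁⁻¹) * k₁⁻¹ * (y₁ * y₂ * y₁⁻¹)⁻¹) *
        (⁅y₁, y₂⁆ * k₂⁻¹ * ⁅y₁, y₂⁆⁻¹) * ⁅y₁, y₂⁆ := by
      simp only [commutatorElement_def]; group
    rw [h1]
    have hcN : ⁅y₁, y₂⁆ ∈ N := (Subgroup.commutator_le_self N)
      (Subgroup.commutator_mem_commutator hy₁.1 hy₂.1)
    refine mul_mem (le_sup_left (b := ⁅Y, Y⁆) (mul_mem (mul_mem (mul_mem hk₁ (hconj _ hy₁.1 _ hk₂)) ?_) ?_))
      (le_sup_right (a := KP) hcy)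
    · exact hconj _ (mul_mem (mul_mem hy₁.1 hy₂.1) (Subgroup.inv_mem _ hy₁.1)) _ (Subgroup.inv_mem _ hk₁)
    · exact hconj _ hcN _ (Subgroup.inv_mem _ hk₂)
  obtain ⟨k, hk, y, hy, hxe⟩ := exists_mem_mul
    (((Subgroup.commutator_le_self Y).trans inf_le_left).trans hNK) (hND hxN)
  have hxY : x ∈ Y := ⟨Subgroup.le_normalizer hxP, (mem_inv_iff.mp hQ.1).2 hxP⟩
  have hyY : y ∈ Y := Subgroup.commutator_le_self Y hy
  have hkY : k ∈ Y := by
    have : k = x * y⁻¹ := by rw [hxe]; group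
    rw [this]; exact mul_mem hxY (Subgroup.inv_mem _ hyY)
  let f := QuotientGroup.mk' (commutator Y)
  have hf : f ⟨x, hxY⟩ = f ⟨k, hkY⟩ := by
    have hyc : f ⟨y, hyY⟩ = 1 := by
      rw [QuotientGroup.mk'_apply, QuotientGroup.eq_one_iff]
      rw [← Y.map_subtype_commutator] at hy
      obtain ⟨z, hz, hze⟩ := hy
      have : z = ⟨y, hyY⟩ := Subtype.ext hze
      exact this ▸ hz
    have : (⟨x, hxY⟩ : Y) = ⟨k, hkY⟩ * ⟨y, hyY⟩ := Subtype.ext hxe
    rw [this, map_mul, hyc, mul_one]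
  have hcop : (Nat.card P).Coprime (Nat.card KP) :=
    Nat.coprime_of_dvd (fun r hr h1 h2 => ((piNat_card_piCoreOf _ _) r hr h2).2 (hPπ r hr h1))
  have h3 : (orderOf (f ⟨x, hxY⟩)) = 1 := by
    refine Nat.eq_one_of_dvd_coprimes hcop ((orderOf_map_dvd f _).trans ?_) ?_
    · rw [← Subgroup.orderOf_coe]; exact Subgroup.orderOf_dvd_natCard P hxP
    · rw [hf]
      refine (orderOf_map_dvd f _).trans ?_
      rw [← Subgroup.orderOf_coe]; exact Subgroup.orderOf_dvd_natCard KP hk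
  rw [orderOf_eq_one_iff, QuotientGroup.mk'_apply, QuotientGroup.eq_one_iff] at h3
  rw [← Y.map_subtype_commutator]
  exact ⟨_, h3, rfl⟩

end CfsgLib.OddOrder.Transitivity
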