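import Mathlib
import Cfsg.Agent.Lib.OddOrder.SylowOf
import Cfsg.Agent.Lib.OddOrder.MinSimple
import Cfsg.Agent.Lib.OddOrder.Rank
import Cfsg.Agent.Lib.OddOrder.TransitivityRank
import Cfsg.Agent.Lib.OddOrder41.RankTwoStructure
import Cfsg.Agent.Lib.OddOrder41.NormalElementary

/-!
# BG 9.1: uniqueness from invariant `p'`-subgroups
-/

set_option autoImplicit false

namespace CfsgLib.OddOrder.Uniq

open Subgroup CfsgLib.OddOrder CfsgLib.OddOrder.Transitivity

universe u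

variable {G : Type u} [Group G] [Finite G] {p : ℕ} [hp : Fact p.Prime]

omit hp in
theorem pPrimePCore_ge_of_index {H : Type*} [Group H] [Finite H]
    (h : (Cfsg.pPrimePCore p H).index.Coprime p) {Q : Subgroup H} (hQ : IsPGroup p Q) :
    Q ≤ Cfsg.pPrimePCore p H := by
  intro x hx
  obtain ⟨n, hn⟩ := hQ ⟨x, hx⟩
  set q := QuotientGroup.mk' (Cfsg.pPrimePCore p H) with hq
  refine (QuotientGroup.eq_one_iff x).mp (orderOf_eq_one_iff.mp
    (Nat.eq_one_of_dvd_coprimes (h.pow_right n) ?_ ?_))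
  · exact orderOf_dvd_natCard (q x)
  · refine orderOf_dvd_of_pow_eq_one (show (q x) ^ p ^ n = 1 from ?_)
    have h2 : x ^ p ^ n = 1 := congrArg Subtype.val hn
    rw [← map_pow, h2, map_one]

theorem prime_dvd_card {R : Subgroup G} (hR : IsPGroup p R) (h : R ≠ ⊥) : p ∣ Nat.card R := by
  obtain ⟨n, hn⟩ := hR.exists_card_eq
  exact hn ▸ dvd_pow_self p (fun h0 => h (Subgroup.card_eq_one.mp (by rw [hn, h0, pow_zero])))

theorem prime_ne_two (hG : Cfsg.IsMinSimpleOddOrder G) {R : Subgroup G} (hR : IsPGroup p R)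
    (h : R ≠ ⊥) : p ≠ 2 :=
  minSimple_prime_ne_two' hG ((prime_dvd_card hR h).trans (Subgroup.card_subgroup_dvd_card R))

omit hp in
/-- Subgroups invariant under the same group are permuted by its normalizer. -/
theorem mem_normalizer_of_largest {R D : Subgroup G} (hDn : R ≤ Subgroup.normalizer (D : Set G))
    (hDc : (Nat.card D).Coprime p)
    (hmax : ∀ Y : Subgroup G, (Nat.card Y).Coprime p → R ≤ Subgroup.normalizer (Y : Set G) → Y ≤ D) :
    Subgroup.normalizer (R : Set G) ≤ Subgroup.normalizer (D : Set G) := by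
  intro g hg
  refine mem_normalizer_of_cj_eq (Subgroup.eq_of_le_of_card_ge (hmax _ ?_ ?_) (card_cj g D).ge)
  · rw [card_cj]; exact hDc
  · intro r hr
    have hr' : g⁻¹ * r * g ∈ R := (Subgroup.mem_normalizer_iff''.mp hg r).mp hr
    refine mem_normalizer_of_cj_eq ?_
    rw [cj_mul, show r * g = g * (g⁻¹ * r * g) by group, ← cj_mul,
      cj_eq_of_mem_normalizer (hDn hr')]

/-- A `p'`-group normalized by a noncyclic elementary abelian group lies in any subgroup containing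
the fixed points of the nontrivial elements. -/
theorem le_of_centralizers_noncyclic {B Y Z : Subgroup G} (hBe : Cfsg.IsElementaryAbelian p B)
    (hBnc : ¬ IsCyclic B) (hY : (Nat.card Y).Coprime p) (hn : B ≤ Subgroup.normalizer (Y : Set G))
    (h : ∀ b ∈ B, b ≠ 1 → Y ⊓ Subgroup.centralizer ({b} : Set G) ≤ Z) : Y ≤ Z := by
  have h2 := (elemAb_not_isCyclic_iff hBe).mp hBnc
  have hp1 : 1 < p := hp.out.one_lt
  obtain ⟨s, hs, hs1⟩ : ∃ s ∈ B, s ≠ 1 := by
    refine (Subgroup.bot_or_exists_ne_one B).resolve_left (fun hb => ?_)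
    rw [hb, Subgroup.card_bot] at h2
    exact absurd h2 (not_le.mpr (Nat.one_lt_pow two_ne_zero hp1))
  have hso : orderOf s = p := orderOf_eq_prime (hBe.2 s hs) hs1
  obtain ⟨t, ht, hts⟩ : ∃ t ∈ B, t ∉ Subgroup.zpowers s := by
    refine SetLike.not_le_iff_exists.mp (fun hle => ?_)
    have h3 := Subgroup.card_le_of_le hle
    rw [Nat.card_zpowers, hso] at h3
    exact absurd (h2.trans h3) (not_le.mpr (lt_self_pow₀ hp1 one_lt_two))
  refine Tech46.le_of_centralizers_le (p := p) s t (hBe.2 s hs) (hBe.2 t ht)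
    (elemAb_commute hBe hs ht) Y Z
    (fun hd => hp.out.ne_one (Nat.eq_one_of_dvd_coprimes hY hd dvd_rfl)) (hn hs) (hn ht)
    (fun i j hij => h _ (mul_mem (pow_mem hs i) (pow_mem ht j)) (fun he => ?_))
  rcases hij with ⟨-, rfl⟩ | ⟨rfl, rfl⟩
  · apply hts
    rw [pow_one] at he
    rw [← inv_eq_of_mul_eq_one_right he]
    exact Subgroup.inv_mem _ (Subgroup.npow_mem_zpowers s i)
  · exact hs1 (by simpa using he)

/-- A `p`-group of rank at least three has an `SCN₃` subgroup. -/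
theorem exists_scn_three (hp2 : p ≠ 2) {R : Subgroup G} (hR : IsPGroup p R)
    (hr : ¬ Cfsg.PRankLE p 2 R) :
    ∃ A : Subgroup G, A ≤ R ∧ R ≤ Subgroup.normalizer (A : Set G) ∧
      R ⊓ Subgroup.centralizer (A : Set G) = A ∧ ¬ Cfsg.PRankLE p 2 A := by
  have := hR.isNilpotent
  have hp1 : 1 < p := hp.out.one_lt
  have hne : Nontrivial R := by
    obtain ⟨E, hE, hEe, hEc⟩ := not_pRankLE_subgroup_iff.mp hr
    refine (Subgroup.nontrivial_iff_ne_bot R).mpr (fun h => ?_)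
    have h2 := Subgroup.card_le_of_le hE
    rw [h, hEc, Subgroup.card_bot] at h2
    exact absurd h2 (not_le.mpr (Nat.one_lt_pow three_ne_zero hp1))
  -- a central element of order `p`
  obtain ⟨⟨z, hzc⟩, hzo⟩ : ∃ z : Subgroup.center R, orderOf z = p := by
    refine exists_prime_orderOf_dvd_card' p ?_
    obtain ⟨n, hn⟩ := (hR.to_subgroup (Subgroup.center R)).exists_card_eq
    exact hn ▸ dvd_pow_self p (fun h0 => (ne_of_gt hR.bot_lt_center)
      (Subgroup.card_eq_one.mp (by rw [hn, h0, pow_zero])))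
  rw [← Subgroup.orderOf_coe] at hzo
  have hzp : z ^ p = 1 := hzo ▸ pow_orderOf_eq_one z
  have hZn : (Subgroup.zpowers z).Normal := ⟨fun x hx g => by
    have h1 : x ∈ Subgroup.center R := Subgroup.zpowers_le.mpr hzc hx
    rw [Subgroup.mem_center_iff.mp h1 g, mul_inv_cancel_right]; exact hx⟩
  obtain ⟨E₀, hE₀e, hE₀c⟩ := exists_elemAb_of_not_pRankLE hr
  obtain ⟨x, hx, hxz⟩ : ∃ x ∈ E₀, x ∉ Subgroup.zpowers z := by
    refine SetLike.not_le_iff_exists.mp (fun h => ?_)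
    have h2 := Subgroup.card_le_of_le h
    rw [hE₀c, Nat.card_zpowers, hzo] at h2
    exact absurd h2 (not_le.mpr (lt_self_pow₀ hp1 (by norm_num)))
  obtain ⟨F, hFn, hFe, hlt⟩ := OddOrder41.exists_normal_elementary_gt hp2 hR (Subgroup.zpowers z)
    (elemAb_zpowers hzp) x (Subgroup.mem_centralizer_iff.mpr fun y hy =>
      (Subgroup.mem_center_iff.mp (Subgroup.zpowers_le.mpr hzc hy) x).symm) (hE₀e.2 x hx) hxz
  set F' := F.map R.subtype with hF'
  have hF'e : Cfsg.IsElementaryAbelian p F' := elemAb_map hFe _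
  have hF'1 : ¬ Cfsg.PRankLE p 1 F' := by
    intro h
    have h2 := pRankLE_iff.mp h (F'.subgroupOf F') (elemAb_comap hF'e F'.subtype F'.subtype_injective)
    rw [Nat.card_congr (Subgroup.subgroupOfEquivOfLe le_rfl).toEquiv, hF',
      Subgroup.card_map_of_injective R.subtype_injective, pow_one] at h2
    have h3 : Nat.card (Subgroup.zpowers z) < Nat.card F := lt_of_not_ge fun hge =>
      hlt.ne (Subgroup.eq_of_le_of_card_ge hlt.le hge)
    rw [Nat.card_zpowers, hzo] at h3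
    omega
  obtain ⟨E, hEn, hEe, hE2, -⟩ := Criteria.exists_normal_sq hR (Subgroup.map_subtype_le F)
    (map_subtype_normalized F) hF'e.1 hF'1
  obtain ⟨A, -, hAn, hAc, hA3⟩ := OddOrder41.normal_sq_le_scn_three p hp2 hR hr E hEe hE2
  refine ⟨A.map R.subtype, Subgroup.map_subtype_le A, map_subtype_normalized A, ?_, ?_⟩
  · refine le_antisymm ?_ (le_inf (Subgroup.map_subtype_le A) ?_)
    · rintro a ⟨haR, hac⟩
      refine ⟨⟨a, haR⟩, ?_, rfl⟩
      rw [← hAc]
      exact Subgroup.mem_centralizer_iff.mpr fun b hb =>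
        Subtype.ext (Subgroup.mem_centralizer_iff.mp hac b ⟨b, hb, rfl⟩)
    · rintro _ ⟨a, ha, rfl⟩
      rw [Subgroup.mem_centralizer_iff]
      rintro _ ⟨b, hb, rfl⟩
      exact congrArg Subtype.val (Subgroup.mem_centralizer_iff.mp (hAc.symm.le ha) b hb)
  · exact fun h => hA3 ((PRankLE.congr (A.equivMapOfInjective R.subtype R.subtype_injective)).mpr h)

/-- An `SCN` subgroup of a Sylow subgroup of a solvable group of odd order lies in `O_{p',p}`. -/
theorem le_of_scn_le_core {U R A R₁ : Subgroup G} [Group.IsSolvable U] (hodd : Odd (Nat.card U))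
    (hR : SylowOf p R U) (hAR : A ≤ R) (hAn : R ≤ Subgroup.normalizer (A : Set G))
    (hAc : R ⊓ Subgroup.centralizer (A : Set G) = A)
    (hR₁ : ∀ x : U, (x : G) ∈ R → x ∈ Cfsg.pPrimePCore p U → (x : G) ∈ R₁) : A ≤ R₁ := by
  obtain ⟨T, rfl⟩ := hR.toSylow
  have hAU : A ≤ U := hAR.trans hR.1
  have hcomm : ∀ a ∈ A, ∀ b ∈ A, a * b = b * a := fun a ha b hb =>
    Subgroup.mem_centralizer_iff.mp (hAc.ge hb).2 a ha
  have h := Quadratic.abelian_normal_sylow_le_pPrimePCore hodd T (A.subgroupOf U)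
    (fun x hx => by
      obtain ⟨t, ht, hte⟩ := hAR hx
      exact Subtype.coe_injective hte ▸ ht)
    ⟨⟨fun a b => Subtype.ext (Subtype.ext (hcomm _ a.2 _ b.2))⟩⟩
    (fun t ht => by
      rw [← Subgroup.subgroupOf_normalizer_eq hAU]
      exact hAn ⟨t, ht, rfl⟩)
  exact fun a ha => hR₁ ⟨a, hAU ha⟩ (hAR ha) (h ha)

/-- For `A ∈ SCN₃(R)`, `R` a Sylow subgroup of `G`: every `A`-invariant `p'`-subgroup lies in
every subgroup containing all `R`-invariant `p'`-subgroups (and normalized by `R`). -/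
theorem inv_le_of_scn_three (hG : Cfsg.IsMinSimpleOddOrder G) (P : Sylow p G) {A D : Subgroup G}
    (hscn : Cfsg.IsSCN (P : Subgroup G) A) (h3 : ¬ Cfsg.PRankLE p 2 A)
    (hmax : ∀ Y : Subgroup G, (Nat.card Y).Coprime p →
      (P : Subgroup G) ≤ Subgroup.normalizer (Y : Set G) → Y ≤ D)
    {Y : Subgroup G} (hY : (Nat.card Y).Coprime p) (hn : A ≤ Subgroup.normalizer (Y : Set G)) :
    Y ≤ D := by
  obtain ⟨hAP, hPA, hCA⟩ := hscn
  have hp1 : 1 < p := hp.out.one_lt
  have hAc : IsMulCommutative A := by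
    have hle : A ≤ Subgroup.centralizer (A : Set G) := fun a ha => (hCA.ge ha).2
    exact ⟨⟨fun x y => Subtype.ext (Subgroup.mem_centralizer_iff.mp (hle y.2) x x.2)⟩⟩
  have hAA : A ⊓ Subgroup.centralizer (A : Set G) = A :=
    inf_eq_left.mpr (fun a ha => Subgroup.mem_centralizer_iff.mpr fun b hb =>
      mul_comm_of_mem hAc hb ha)
  have hA : Cfsg.TransitivityHypothesis A := Criteria.hypothesis_of_scn (Criteria.quadStable p) hG P hAc
    ⟨hAP, hPA, hCA⟩ (fun h => h3 (PRankLE.mono_k hp.out one_le_two h))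
  have hZ : ¬ Cfsg.RankLE 2 ↥(A ⊓ Subgroup.centralizer (A : Set G)) := by
    rw [hAA]; exact fun h => h3 (h p hp.out)
  have hAp : IsPGroup p A := P.isPGroup'.to_le hAP
  have hpA : p ∣ Nat.card A := prime_dvd_card hAp hA.1
  set K := primeCore A (Subgroup.centralizer (A : Set G)) with hK
  have hKc : (Nat.card K).Coprime p :=
    (Nat.Coprime.coprime_dvd_left hpA (coprime_primeCore A _)).symm
  have hKn : (P : Subgroup G) ≤ Subgroup.normalizer (K : Set G) :=
    (hPA.trans (normalizer_centralizer_le A)).trans (normalizer_le_normalizer_piCoreOf _ _)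
  have hKD : K ≤ D := hmax K hKc hKn
  have hcop : (Nat.card (P : Subgroup G)).Coprime (Nat.card K) := by
    obtain ⟨n, hn'⟩ := P.isPGroup'.exists_card_eq
    rw [hn']
    exact hKc.symm.pow_left n
  have hKs : Group.IsSolvable K := by
    refine minSimple_solvable hG (fun h => minSimple_centralizer_subgroup_ne_top hG hA.1 ?_)
    exact top_le_iff.mp (h.symm.le.trans (piCoreOf_le _ _))
  -- every invariant `q`-subgroup lies in `D`
  have hq : ∀ q : ℕ, q.Prime → q ≠ p → ∀ Z : Subgroup G, IsPGroup q Z →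
      A ≤ Subgroup.normalizer (Z : Set G) → Z ≤ D := by
    intro q hq hqp Z hZq hZn
    have := Fact.mk hq
    have hqA : ¬ q ∣ Nat.card A := by
      obtain ⟨n, hn'⟩ := hAp.exists_card_eq
      exact fun hd => hqp ((Nat.prime_dvd_prime_iff_eq hq hp.out).mp (hq.dvd_of_dvd_pow (hn' ▸ hd)))
    have htr := fun Q₁ (h₁ : Q₁ ∈ Cfsg.maxInvSubgroups ⊤ A {q}) Q₂
      (h₂ : Q₂ ∈ Cfsg.maxInvSubgroups ⊤ A {q}) =>
      conj_of_center_rank_three hG hA hZ hqA h₁ h₂
    obtain ⟨Q, hQ, hZQ⟩ := exists_max_ge (mem_inv_iff.mpr ⟨hZq, hZn⟩)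
    obtain ⟨Q₀, hQ₀, hQ₀n⟩ := exists_fixed hKn hcop hKs (S := Cfsg.maxInvSubgroups ⊤ A {q})
      (fun k hk _ h => max_cj (centralizer_le_normalizer' A (piCoreOf_le _ _ hk)) h)
      (fun x hx _ h => max_cj (hPA hx) h) htr ⟨Q, hQ⟩
    have hQ₀D : Q₀ ≤ D := by
      refine hmax Q₀ ?_ hQ₀n
      obtain ⟨n, hn'⟩ := (mem_inv_iff.mp hQ₀.1).1.exists_card_eq
      rw [hn']
      exact ((Nat.coprime_primes hq hp.out).mpr hqp).pow_left n
    obtain ⟨k, hk, rfl⟩ := htr Q₀ hQ₀ Q hQ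
    refine hZQ.trans ((cj_mono hQ₀D).trans ?_)
    exact (cj_eq_of_mem_normalizer (Subgroup.le_normalizer (hKD hk))).le
  -- `Y` is generated by invariant Sylow subgroups
  have hYtop : Y ≠ ⊤ := by
    rintro rfl
    rw [Subgroup.card_top] at hY
    exact hp.out.ne_one (Nat.eq_one_of_dvd_coprimes hY
      (hpA.trans (Subgroup.card_subgroup_dvd_card A)) dvd_rfl)
  have hYs := minSimple_solvable hG hYtop
  have hcopA : (Nat.card A).Coprime (Nat.card Y) := by
    obtain ⟨n, hn'⟩ := hAp.exists_card_eq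
    rw [hn']
    exact hY.symm.pow_left n
  have hdvd : Nat.card Y ∣ Nat.card ↥(Y ⊓ D) := by
    rw [Nat.dvd_iff_prime_pow_dvd_dvd]
    intro q k hq' hd
    rcases Nat.eq_zero_or_pos k with rfl | hk
    · simp
    have := Fact.mk hq'
    have hqp : q ≠ p := by
      rintro rfl
      exact hq'.ne_one (Nat.eq_one_of_dvd_coprimes hY ((dvd_pow_self q hk.ne').trans hd) dvd_rfl)
    obtain ⟨S, hS, -⟩ := exists_invariant_sylow (q := q) hn hcopA hYs
    refine (S.pow_dvd_card_of_pow_dvd_card hd).trans ?_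
    rw [← Subgroup.card_map_of_injective (f := Y.subtype) Y.subtype_injective]
    exact Subgroup.card_dvd_of_le (le_inf (Subgroup.map_subtype_le _)
      (hq q hq' hqp _ (S.isPGroup'.map _) hS))
  exact inf_eq_left.mp (Subgroup.eq_of_le_of_card_ge inf_le_left (Nat.le_of_dvd Nat.card_pos hdvd))

variable {M B : Subgroup G}

/-- `O_{p'}(M)` is the largest `p'`-subgroup normalized by a Sylow subgroup containing `B`. -/
theorem inv_le_oPrime (hG : Cfsg.IsMinSimpleOddOrder G) (hM : IsCoatom M)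
    (hb : ∀ Y : Subgroup G, (Nat.card Y).Coprime p → B ≤ Subgroup.normalizer (Y : Set G) → Y ≤ M)
    {R : Subgroup G} (hR : SylowOf p R M) (hBR : B ≤ R) {Y : Subgroup G}
    (hY : (Nat.card Y).Coprime p) (hn : R ≤ Subgroup.normalizer (Y : Set G)) : Y ≤ oPrime p M :=
  have := minSimple_solvable hG hM.1
  le_oPrime_of_sylowOf_normalizes hR (hb Y hY (hBR.trans hn)) hY hn

theorem eq_normalizer_zj (hG : Cfsg.IsMinSimpleOddOrder G) (hM : IsCoatom M)
    {R : Subgroup G} (hR : SylowOf p R M) (hRne : R ≠ ⊥) (h0 : oPrime p M = ⊥) :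
    Subgroup.normalizer (PLocal.zj 0 R : Set G) = M := by
  have := minSimple_solvable hG hM.1
  have h := le_sup_normalizer_zj (minSimple_odd hG M) (prime_ne_two hG hR.2.1 hRne) hR
  rw [h0, bot_sup_eq] at h
  exact normalizer_eq_of_isCoatom hG hM ((PLocal.zj_le 0 R).trans hR.1) (zj_ne_bot hR.2.1 hRne)
    (h.trans inf_le_right)

theorem normalizer_le (hG : Cfsg.IsMinSimpleOddOrder G) (hM : IsCoatom M) (hB : B ≠ ⊥)
    (hb : ∀ Y : Subgroup G, (Nat.card Y).Coprime p → B ≤ Subgroup.normalizer (Y : Set G) → Y ≤ M)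
    {R : Subgroup G} (hR : SylowOf p R M) (hBR : B ≤ R) :
    Subgroup.normalizer (R : Set G) ≤ M := by
  have hRne : R ≠ ⊥ := fun h => hB (le_bot_iff.mp (h ▸ hBR))
  by_cases h0 : oPrime p M = ⊥
  · exact (PLocal.normalizer_le_normalizer_zj 0 R).trans (eq_normalizer_zj hG hM hR hRne h0).le
  · exact (mem_normalizer_of_largest (hR.1.trans (oPrime_normal M)) (oPrime_coprime M)
      fun Y hY hn => inv_le_oPrime hG hM hb hR hBR hY hn).trans
        (normalizer_eq_of_isCoatom hG hM (oPrime_le M) h0 (oPrime_normal M)).le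

theorem normalizer_zj_le (hG : Cfsg.IsMinSimpleOddOrder G) (hM : IsCoatom M) (hB : B ≠ ⊥)
    (hb : ∀ Y : Subgroup G, (Nat.card Y).Coprime p → B ≤ Subgroup.normalizer (Y : Set G) → Y ≤ M)
    {R : Subgroup G} (hR : SylowOf p R M) (hBR : B ≤ R) :
    Subgroup.normalizer (PLocal.zj 0 R : Set G) ≤ M := by
  have hRne : R ≠ ⊥ := fun h => hB (le_bot_iff.mp (h ▸ hBR))
  by_cases h0 : oPrime p M = ⊥
  · exact (eq_normalizer_zj hG hM hR hRne h0).le
  obtain ⟨P, hP⟩ := hR.exists_sylow (normalizer_le hG hM hB hb hR hBR)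
  set U := Subgroup.normalizer (PLocal.zj 0 R : Set G) with hU
  have hUtop : U ≠ ⊤ := minSimple_normalizer_ne_top hG (zj_ne_bot hR.2.1 hRne)
    (minSimple_pgroup_ne_top hG (hR.2.1.to_le (PLocal.zj_le 0 R)))
  have hUs := minSimple_solvable hG hUtop
  have hRU : R ≤ U := PLocal.le_normalizer_zj 0 R
  have hRsU : SylowOf p R U := hP ▸ sylowOf_of_sylow P (hP.symm ▸ hRU)
  have hOU : oPrime p U ≤ M := hb _ (oPrime_coprime U) (hBR.trans (hRU.trans (oPrime_normal U)))
  obtain ⟨R₁, hR₁R, hfac, hR₁⟩ := exists_frattini_core hRsU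
  refine hfac.trans (sup_le hOU (inf_le_right.trans ?_))
  by_cases hr : Cfsg.PRankLE p 2 R
  · -- rank at most two: `R₁ = R`
    have hrU : Cfsg.PRankLE p 2 U := by
      by_contra hcon
      obtain ⟨E, hEU, hE, hEc⟩ := not_pRankLE_subgroup_iff.mp hcon
      obtain ⟨Q, hQ⟩ := (isPGroup_of_elemAb hE).exists_le_sylow
      obtain ⟨g, hg⟩ := MulAction.exists_smul_eq G Q P
      refine not_pRankLE_subgroup_iff.mpr ⟨cj g E, ?_, elemAb_map hE _, (card_cj g E).trans hEc⟩ hr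
      rw [← hP, ← hg, Sylow.coe_subgroup_smul]
      exact Subgroup.map_mono hQ
    have hpU : p ∣ Nat.card U := (prime_dvd_card hR.2.1 hRne).trans (Subgroup.card_dvd_of_le hRU)
    have hidx := (OddOrder41.odd_solvable_rank_two_structure (minSimple_odd hG U) p hpU hrU).2.2.2.2.2
    have hRR₁ : R ≤ R₁ := fun x hx => hR₁ ⟨x, hRU hx⟩ hx
      (pPrimePCore_ge_of_index hidx (Q := R.subgroupOf U)
        (hR.2.1.comap_of_injective U.subtype U.subtype_injective) hx)
    rw [le_antisymm hR₁R hRR₁]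
    exact normalizer_le hG hM hB hb hR hBR
  · -- rank at least three
    obtain ⟨A, hAR, hAn, hAc, hA3⟩ := exists_scn_three (prime_ne_two hG hR.2.1 hRne) hR.2.1 hr
    have hinv : ∀ Y : Subgroup G, (Nat.card Y).Coprime p → A ≤ Subgroup.normalizer (Y : Set G) →
        Y ≤ oPrime p M := fun Y hY hn =>
      inv_le_of_scn_three hG P (hP.symm ▸ ⟨hAR, hAn, hAc⟩) hA3
        (fun Z hZ hZn => inv_le_oPrime hG hM hb hR hBR hZ (hP ▸ hZn)) hY hn
    have hAR₁ : A ≤ R₁ := le_of_scn_le_core (minSimple_odd hG U) hRsU hAR hAn hAc hR₁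
    exact (mem_normalizer_of_largest (hR₁R.trans (hR.1.trans (oPrime_normal M))) (oPrime_coprime M)
      fun Y hY hn => hinv Y hY (hAR₁.trans hn)).trans
        (normalizer_eq_of_isCoatom hG hM (oPrime_le M) h0 (oPrime_normal M)).le

/-- **BG 9.1**, for an arbitrary nontrivial `p`-subgroup. -/
theorem inUniqueMaximal_of_inv_le (hG : Cfsg.IsMinSimpleOddOrder G) (hM : IsCoatom M)
    (hBM : B ≤ M) (hBp : IsPGroup p B) (hB : B ≠ ⊥)
    (hb : ∀ Y : Subgroup G, (Nat.card Y).Coprime p → B ≤ Subgroup.normalizer (Y : Set G) → Y ≤ M) :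
    Cfsg.InUniqueMaximal B := by
  refine ⟨M, ⟨hM, hBM⟩, fun L₀ hL₀ => ?_⟩
  by_contra hne₀
  obtain ⟨T₀, ⟨⟨L, hL, hLM, hTL⟩, hTM, hTp, hBT⟩, hmax⟩ := Set.exists_max_image
    {T : Subgroup G | (∃ L, IsCoatom L ∧ L ≠ M ∧ T ≤ L) ∧ T ≤ M ∧ IsPGroup p T ∧ B ≤ T}
    (fun T => Nat.card T) (Set.toFinite _) ⟨B, ⟨L₀, hL₀.1, hne₀, hL₀.2⟩, hBM, hBp, le_rfl⟩
  -- a larger `p`-subgroup of `M` containing `T₀` lies in no other maximal subgroup
  have hbig : ∀ T : Subgroup G, T ≤ M → IsPGroup p T → B ≤ T → Nat.card T₀ < Nat.card T →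
      ∀ L' : Subgroup G, IsCoatom L' → T ≤ L' → L' = M := fun T h1 h2 h3 h4 L' hL' h5 => by
    by_contra hne
    exact absurd (hmax T ⟨⟨L', hL', hne, h5⟩, h1, h2, h3⟩) (not_le.mpr h4)
  have hTne : T₀ ≠ ⊥ := fun h => hB (le_bot_iff.mp (h ▸ hBT))
  have hp2 := prime_ne_two hG hTp hTne
  suffices h : SylowOf p T₀ L ∧ Subgroup.normalizer (PLocal.zj 0 T₀ : Set G) ≤ M by
    have := minSimple_solvable hG hL.1
    have h2 : L ≤ M := (le_sup_normalizer_zj (minSimple_odd hG L) hp2 h.1).trans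
      (sup_le (hb _ (oPrime_coprime L) (hBT.trans (hTL.trans (oPrime_normal L))))
        (inf_le_right.trans h.2))
    exact hLM ((hL.le_iff.mp h2).resolve_left hM.1).symm
  obtain ⟨T, hT, hTT⟩ := exists_sylowOf_ge hTM hTp
  rcases hTT.eq_or_lt with rfl | hlt
  · obtain ⟨P, hP⟩ := hT.exists_sylow (normalizer_le hG hM hB hb hT hBT)
    exact ⟨hP ▸ sylowOf_of_sylow P (hP.symm ▸ hTL), normalizer_zj_le hG hM hB hb hT hBT⟩
  · set T₁ := Subgroup.normalizer (T₀ : Set G) ⊓ T with hT₁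
    have hgrow : Nat.card T₀ < Nat.card T₁ := normalizer_grows hT.2.1 hlt
    have hT₁p : IsPGroup p T₁ := hT.2.1.to_le inf_le_right
    have hBT₁ : B ≤ T₁ := le_inf (hBT.trans Subgroup.le_normalizer) (hBT.trans hTT)
    have hover : ∀ N : Subgroup G, T₁ ≤ N → N ≠ ⊤ → N ≤ M := fun N h1 h2 => by
      obtain ⟨L', hL', hle⟩ := exists_isCoatom_ge h2
      exact hbig T₁ (inf_le_right.trans hT.1) hT₁p hBT₁ hgrow L' hL' (h1.trans hle) ▸ hle
    have hNM : Subgroup.normalizer (T₀ : Set G) ≤ M := hover _ inf_le_left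
      (minSimple_normalizer_ne_top hG hTne (minSimple_pgroup_ne_top hG hTp))
    refine ⟨⟨hTL, hTp, fun Q hQL hQp hle => ?_⟩, hover _ (inf_le_left.trans
      (PLocal.normalizer_le_normalizer_zj 0 T₀)) (minSimple_normalizer_ne_top hG (zj_ne_bot hTp hTne)
        (minSimple_pgroup_ne_top hG (hTp.to_le (PLocal.zj_le 0 T₀))))⟩
    by_contra hne
    have hg := normalizer_grows hQp (lt_of_le_of_ne hle (Ne.symm hne))
    exact absurd (hmax (Subgroup.normalizer (T₀ : Set G) ⊓ Q) ⟨⟨L, hL, hLM, inf_le_right.trans hQL⟩,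
      inf_le_left.trans hNM, hQp.to_le inf_le_right,
      le_inf (hBT.trans Subgroup.le_normalizer) (hBT.trans hle)⟩) (not_le.mpr hg)

/-- **BG 9.1**, with centralizers. -/
theorem inUniqueMaximal_of_centralizers_le (hG : Cfsg.IsMinSimpleOddOrder G) (hM : IsCoatom M)
    (hBM : B ≤ M) (hBe : Cfsg.IsElementaryAbelian p B) (hBnc : ¬ IsCyclic B)
    (hc : ∀ b ∈ B, b ≠ 1 → Subgroup.centralizer ({b} : Set G) ≤ M) :
    Cfsg.InUniqueMaximal B :=
  inUniqueMaximal_of_inv_le hG hM hBM (isPGroup_of_elemAb hBe)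
    (fun h => hBnc (by subst h; infer_instance))
    (fun _ hY hn => le_of_centralizers_noncyclic hBe hBnc hY hn
      (fun b hb h1 => inf_le_right.trans (hc b hb h1)))

end CfsgLib.OddOrder.Uniq
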