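import Mathlib
import Cfsg.Agent.Lib.OddOrder.Uniqueness
import Cfsg.Agent.Lib.Isolated.RankOne

/-!
# BG 9.2, 9.3: transfer of uniqueness along centralizers
-/

set_option autoImplicit false

namespace CfsgLib.OddOrder.Uniq

open Subgroup CfsgLib.OddOrder CfsgLib.OddOrder.Transitivity

universe u

variable {G : Type u} [Group G] [Finite G]

omit [Finite G] in
theorem InUniqueMaximal.eq {X M L : Subgroup G} (h : Cfsg.InUniqueMaximal X) (hM : IsCoatom M)
    (hXM : X ≤ M) (hL : IsCoatom L) (hXL : X ≤ L) : L = M := by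
  obtain ⟨M₀, -, huniq⟩ := h
  rw [huniq L ⟨hL, hXL⟩, huniq M ⟨hM, hXM⟩]

theorem InUniqueMaximal.mono {X Y : Subgroup G} (h : Cfsg.InUniqueMaximal X) (hXY : X ≤ Y)
    (hY : Y ≠ ⊤) : Cfsg.InUniqueMaximal Y := by
  obtain ⟨M, hM, hYM⟩ := exists_isCoatom_ge hY
  exact ⟨M, ⟨hM, hYM⟩, fun L hL => InUniqueMaximal.eq h hM (hXY.trans hYM) hL.1 (hXY.trans hL.2)⟩

theorem InUniqueMaximal.cj {X : Subgroup G} (h : Cfsg.InUniqueMaximal X) (g : G) :
    Cfsg.InUniqueMaximal (Transitivity.cj g X) := by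
  obtain ⟨M, ⟨hM, hXM⟩, huniq⟩ := h
  refine ⟨Transitivity.cj g M, ⟨isCoatom_map_conj hM g, cj_mono hXM⟩, fun L ⟨hL, hle⟩ => ?_⟩
  have h2 : Transitivity.cj g⁻¹ L = M := huniq _ ⟨isCoatom_map_conj hL g⁻¹, by
    have := cj_mono (g := g⁻¹) hle
    rwa [cj_mul, inv_mul_cancel, cj_one] at this⟩
  rw [← h2, cj_mul, mul_inv_cancel, cj_one]

theorem InUniqueMaximal.ne_bot (hG : Cfsg.IsMinSimpleOddOrder G) {X : Subgroup G}
    (h : Cfsg.InUniqueMaximal X) : X ≠ ⊥ := by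
  rintro rfl
  obtain ⟨M, ⟨hM, -⟩, huniq⟩ := h
  refine hM.1 (top_le_iff.mp fun x _ => ?_)
  have hx : Subgroup.zpowers x ≠ ⊤ := fun ht => minSimple_not_comm hG ⟨⟨fun a b => by
    obtain ⟨i, rfl⟩ := (ht.ge (Subgroup.mem_top a) : a ∈ Subgroup.zpowers x)
    obtain ⟨j, rfl⟩ := (ht.ge (Subgroup.mem_top b) : b ∈ Subgroup.zpowers x)
    exact ((Commute.refl x).zpow_zpow i j).eq⟩⟩
  obtain ⟨L, hL, hxL⟩ := exists_isCoatom_ge hx
  exact huniq L ⟨hL, bot_le⟩ ▸ hxL (Subgroup.mem_zpowers x)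

/-- **BG 9.2**. -/
theorem inUniqueMaximal_of_centralizes (hG : Cfsg.IsMinSimpleOddOrder G) {L K : Subgroup G}
    (hL : Cfsg.InUniqueMaximal L) (hK : K ≤ Subgroup.centralizer (L : Set G))
    (hr : ¬ Cfsg.RankLE 1 K) : Cfsg.InUniqueMaximal K := by
  have hLne := InUniqueMaximal.ne_bot hG hL
  obtain ⟨M, ⟨hM, hLM⟩, -⟩ := id hL
  have hLtop : L ≠ ⊤ := fun h => hM.1 (top_le_iff.mp (h ▸ hLM))
  have hNM : Subgroup.normalizer (L : Set G) ≤ M := by
    obtain ⟨L', hL', hle⟩ := exists_isCoatom_ge (minSimple_normalizer_ne_top hG hLne hLtop)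
    exact InUniqueMaximal.eq hL hM hLM hL' (Subgroup.le_normalizer.trans hle) ▸ hle
  have hKM : K ≤ M := hK.trans ((Subgroup.centralizer_le_normalizer (L : Set G)).trans hNM)
  obtain ⟨p, E, hp, hEK, hEe, hEc⟩ := not_rankLE_subgroup_iff.mp hr
  have := Fact.mk hp
  have hEnc : ¬ IsCyclic E := (elemAb_not_isCyclic_iff hEe).mpr hEc.ge
  have hE := inUniqueMaximal_of_centralizers_le hG hM (hEK.trans hKM) hEe hEnc (fun b hb hb1 => by
    obtain ⟨L', hL', hle⟩ := exists_isCoatom_ge (minSimple_centralizer_singleton_ne_top hG hb1)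
    refine InUniqueMaximal.eq hL hM hLM hL' (le_trans (fun l hl => ?_) hle) ▸ hle
    exact Subgroup.mem_centralizer_singleton_iff.mpr
      (Subgroup.mem_centralizer_iff.mp (hK (hEK hb)) l hl))
  exact InUniqueMaximal.mono hE hEK (fun h => hM.1 (top_le_iff.mp (h ▸ hKM)))

variable {p : ℕ} [hp : Fact p.Prime]

/-- `C_X(E)` has index at most `p` for `E` normal of order `p ^ 2`, so is noncyclic. -/
theorem not_rankLE_one_centralizer {P E X : Subgroup G} (hP : IsPGroup p P) (hEP : E ≤ P)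
    (hEn : P ≤ Subgroup.normalizer (E : Set G)) (hEe : Cfsg.IsElementaryAbelian p E)
    (hE2 : Nat.card E = p ^ 2) (hXP : X ≤ P) (hXe : Cfsg.IsElementaryAbelian p X)
    (hX3 : Nat.card X = p ^ 3) :
    ¬ Cfsg.RankLE 1 ↥(X ⊓ Subgroup.centralizer (E : Set G)) := by
  intro hcon
  have hn : (E.subgroupOf P).Normal := (Subgroup.normal_subgroupOf_iff_le_normalizer hEP).mpr hEn
  have hidx := OddOrder41.index_centralizer_dvd_of_card_sq hP (E.subgroupOf P)
    (elemAb_comap hEe P.subtype P.subtype_injective)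
    (by rw [Nat.card_congr (Subgroup.subgroupOfEquivOfLe hEP).toEquiv, hE2])
  set C := Subgroup.centralizer ((E.subgroupOf P : Subgroup P) : Set P) with hC
  have hle : (X.subgroupOf P ⊓ C).map P.subtype ≤ X ⊓ Subgroup.centralizer (E : Set G) := by
    rintro _ ⟨x, ⟨hx, hxc⟩, rfl⟩
    exact ⟨hx, Subgroup.mem_centralizer_iff.mpr fun e he =>
      congrArg Subtype.val (Subgroup.mem_centralizer_iff.mp hxc ⟨e, hEP he⟩ he)⟩
  have h1 := hcon p hp.out
  have hXC : Cfsg.IsElementaryAbelian p (X ⊓ Subgroup.centralizer (E : Set G)) :=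
    elemAb_mono hXe (inf_le_left : X ⊓ Subgroup.centralizer (E : Set G) ≤ X)
  have h2 := pRankLE_iff.mp h1 ((X ⊓ Subgroup.centralizer (E : Set G)).subgroupOf _)
    (elemAb_comap hXC _ (Subgroup.subtype_injective _))
  rw [Nat.card_congr (Subgroup.subgroupOfEquivOfLe le_rfl).toEquiv, pow_one] at h2
  have h3 : Nat.card (X.subgroupOf P ⊓ C : Subgroup P) ≤ p := by
    rw [← Subgroup.card_map_of_injective P.subtype_injective]
    exact (Subgroup.card_le_of_le hle).trans h2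
  have h4 : Nat.card (X.subgroupOf P) = Nat.card (X.subgroupOf P ⊓ C : Subgroup P) * C.relIndex (X.subgroupOf P) := by
    rw [← Subgroup.inf_relIndex_left (X.subgroupOf P) C, ← relIndex_bot_left, ← relIndex_bot_left]
    exact (relIndex_mul_relIndex ⊥ _ _ bot_le inf_le_left).symm
  have h5 : C.relIndex (X.subgroupOf P) ≤ p := by
    refine le_trans ?_ (Nat.le_of_dvd hp.out.pos hidx)
    rw [← relIndex_top_right C]
    exact Subgroup.relIndex_le_of_le_right le_top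
      (by rw [relIndex_top_right]; exact index_ne_zero_of_finite)
  rw [Nat.card_congr (Subgroup.subgroupOfEquivOfLe hXP).toEquiv, hX3] at h4
  have h6 : p ^ 3 ≤ p * p := h4.le.trans (Nat.mul_le_mul h3 h5)
  rw [← pow_two] at h6
  exact absurd ((Nat.pow_le_pow_iff_right hp.out.one_lt).mp h6) (by norm_num)

theorem not_rankLE_one_of_elemAb {X Y : Subgroup G} {k : ℕ} (hXY : X ≤ Y)
    (hXe : Cfsg.IsElementaryAbelian p X) (hXc : Nat.card X = p ^ (k + 2)) : ¬ Cfsg.RankLE 1 Y :=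
  fun h => absurd (PRankLE.mono_k hp.out (by omega : 1 ≤ k + 1) (h p hp.out))
    (not_pRankLE_subgroup_iff.mpr ⟨X, hXY, hXe, hXc⟩)

/-- All elementary abelian subgroups of order `p ^ 3` lie in unique maximal subgroups, if one
abelian `p`-subgroup of rank `3` does. -/
theorem inUniqueMaximal_cube (hG : Cfsg.IsMinSimpleOddOrder G) {A : Subgroup G}
    (hAp : IsPGroup p A) (hAc : IsMulCommutative A) (hA3 : ¬ Cfsg.PRankLE p 2 A)
    (hAU : Cfsg.InUniqueMaximal A) {X : Subgroup G} (hXe : Cfsg.IsElementaryAbelian p X)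
    (hX3 : Nat.card X = p ^ 3) : Cfsg.InUniqueMaximal X := by
  obtain ⟨X₀, hX₀A, hX₀e, hX₀c⟩ := not_pRankLE_subgroup_iff.mp hA3
  have hX₀U : Cfsg.InUniqueMaximal X₀ := inUniqueMaximal_of_centralizes hG hAU
    (hX₀A.trans fun a ha => Subgroup.mem_centralizer_iff.mpr fun b hb => mul_comm_of_mem hAc hb ha)
    (not_rankLE_one_of_elemAb le_rfl hX₀e hX₀c)
  obtain ⟨P, hP⟩ := hAp.exists_le_sylow
  have hP3 : ¬ Cfsg.PRankLE p 2 (P : Subgroup G) := fun h => hA3 (PRankLE.of_le hP h)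
  have hPne : (P : Subgroup G) ≠ ⊥ := fun h => InUniqueMaximal.ne_bot hG hAU (le_bot_iff.mp (h ▸ hP))
  have hp2 := prime_ne_two hG P.isPGroup' hPne
  obtain ⟨S, hSP, hSn, hSc, hS3⟩ := exists_scn_three hp2 P.isPGroup' hP3
  have hScomm : IsMulCommutative S := ⟨⟨fun x y =>
    Subtype.ext (Subgroup.mem_centralizer_iff.mp (hSc.ge y.2).2 x x.2)⟩⟩
  obtain ⟨E', hE'n, hE'e, hE'2, -⟩ := Criteria.exists_normal_sq P.isPGroup' hSP hSn hScomm
    (fun h => hS3 (PRankLE.mono_k hp.out one_le_two h))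
  set E := E'.map (P : Subgroup G).subtype with hE
  have hEe : Cfsg.IsElementaryAbelian p E := elemAb_map hE'e _
  have hE2 : Nat.card E = p ^ 2 := by
    rw [hE, Subgroup.card_map_of_injective (Subgroup.subtype_injective _), hE'2]
  have hEn := map_subtype_normalized (M := (P : Subgroup G)) E'
  have hEP : E ≤ P := Subgroup.map_subtype_le E'
  have hrX : ∀ X : Subgroup G, X ≤ P → Cfsg.IsElementaryAbelian p X → Nat.card X = p ^ 3 →
      ¬ Cfsg.RankLE 1 ↥(X ⊓ Subgroup.centralizer (E : Set G)) := fun X h1 h2 h3 =>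
    not_rankLE_one_centralizer P.isPGroup' hEP hEn hEe hE2 h1 h2 h3
  -- `E` is a uniqueness subgroup
  have hX₀P : X₀ ≤ P := hX₀A.trans hP
  have hC : Cfsg.InUniqueMaximal (X₀ ⊓ Subgroup.centralizer (E : Set G)) :=
    inUniqueMaximal_of_centralizes hG hX₀U (inf_le_left.trans fun a ha =>
      Subgroup.mem_centralizer_iff.mpr fun b hb => mul_comm_of_mem hX₀e.1 hb ha) (hrX X₀ hX₀P hX₀e hX₀c)
  have hEU : Cfsg.InUniqueMaximal E := inUniqueMaximal_of_centralizes hG hC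
    (Subgroup.le_centralizer_iff.mp inf_le_right)
    (not_rankLE_one_of_elemAb (k := 0) le_rfl hEe hE2)
  obtain ⟨Q, hQ⟩ := (isPGroup_of_elemAb hXe).exists_le_sylow
  obtain ⟨g, hg⟩ := MulAction.exists_smul_eq G Q P
  have hgX : cj g X ≤ P := by
    rw [← hg, Sylow.coe_subgroup_smul]
    exact Subgroup.map_mono hQ
  have hgXe : Cfsg.IsElementaryAbelian p (cj g X) := elemAb_map hXe _
  have h1 : Cfsg.InUniqueMaximal (cj g X) :=
    InUniqueMaximal.mono (inUniqueMaximal_of_centralizes hG hEU inf_le_right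
      (hrX _ hgX hgXe ((card_cj g X).trans hX3))) inf_le_left
      (minSimple_pgroup_ne_top hG (isPGroup_of_elemAb hgXe))
  have h2 := InUniqueMaximal.cj h1 g⁻¹
  rwa [cj_mul, inv_mul_cancel, cj_one] at h2

theorem not_rankLE_one_of_not_isCyclic (hp2 : p ≠ 2) {B : Subgroup G} (hBp : IsPGroup p B)
    (hBnc : ¬ IsCyclic B) : ¬ Cfsg.RankLE 1 B := by
  intro h
  refine hBnc (Isolated.isCyclic_of_small_abelian hp2 hBp fun A hA hAe => ?_)
  simpa using pRankLE_iff.mp (h p hp.out) A ⟨hA, hAe⟩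

/-- **BG 9.3**. -/
theorem inUniqueMaximal_of_centralizer_rank_three (hG : Cfsg.IsMinSimpleOddOrder G)
    {A B : Subgroup G} (hAp : IsPGroup p A) (hAc : IsMulCommutative A) (hA3 : ¬ Cfsg.PRankLE p 2 A)
    (hAU : Cfsg.InUniqueMaximal A) (hBp : IsPGroup p B) (hBnc : ¬ IsCyclic B)
    (hB3 : ¬ Cfsg.PRankLE p 2 ↥(Subgroup.centralizer (B : Set G))) :
    Cfsg.InUniqueMaximal B := by
  obtain ⟨X, hXC, hXe, hX3⟩ := not_pRankLE_subgroup_iff.mp hB3
  have hBne : B ≠ ⊥ := fun h => hBnc (by subst h; infer_instance)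
  exact inUniqueMaximal_of_centralizes hG (inUniqueMaximal_cube hG hAp hAc hA3 hAU hXe hX3)
    (Subgroup.le_centralizer_iff.mp hXC)
    (not_rankLE_one_of_not_isCyclic (prime_ne_two hG hBp hBne) hBp hBnc)

end CfsgLib.OddOrder.Uniq
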