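import Mathlib
import Cfsg.Agent.Lib.OddOrder.Uniqueness
import Cfsg.Agent.Lib.OddOrder.UniquenessTransfer
import Cfsg.Agent.Lib.OddOrder.Bender
import Cfsg.Agent.Lib.Structure.IndexPowers

/-!
# BG 8.1: maximal subgroups with a Fitting subgroup of rank at least three
-/

set_option autoImplicit false

namespace CfsgLib.OddOrder.MaxFit

open Subgroup CfsgLib.OddOrder CfsgLib.OddOrder.Transitivity
open scoped commutatorElement

universe u

variable {G : Type u} [Group G] [Finite G]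

/-- An invariant subgroup lies in `D` as soon as its invariant prime power subgroups do. -/
theorem inv_le_of_forall_prime {A Y D : Subgroup G} (hYs : Group.IsSolvable Y)
    (hcop : (Nat.card A).Coprime (Nat.card Y)) (hn : A ≤ Subgroup.normalizer (Y : Set G))
    (h : ∀ q : ℕ, q.Prime → q ∣ Nat.card Y → ∀ Z : Subgroup G, IsPGroup q Z →
      A ≤ Subgroup.normalizer (Z : Set G) → Z ≤ D) : Y ≤ D := by
  have hdvd : Nat.card Y ∣ Nat.card ↥(Y ⊓ D) := by
    rw [Nat.dvd_iff_prime_pow_dvd_dvd]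
    intro q k hq hd
    rcases Nat.eq_zero_or_pos k with rfl | hk
    · simp
    have := Fact.mk hq
    obtain ⟨S, hS, -⟩ := exists_invariant_sylow (q := q) hn hcop hYs
    refine (S.pow_dvd_card_of_pow_dvd_card hd).trans ?_
    rw [← Subgroup.card_map_of_injective (f := Y.subtype) Y.subtype_injective]
    exact Subgroup.card_dvd_of_le (le_inf (Subgroup.map_subtype_le _)
      (h q hq ((dvd_pow_self q hk.ne').trans hd) _ (S.isPGroup'.map _) hS))
  exact inf_eq_left.mp (Subgroup.eq_of_le_of_card_ge inf_le_left (Nat.le_of_dvd Nat.card_pos hdvd))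

/-- If every maximal `P`-invariant `q`-subgroup is unique, and `M` normalizes `P`, they are normal in
`M`; so trivial if `M` has no normal `q`-subgroup. -/
theorem eq_bot_of_unique_max (hG : Cfsg.IsMinSimpleOddOrder G) {M A P : Subgroup G} (hM : IsCoatom M)
    (hMP : M ≤ Subgroup.normalizer (P : Set G)) {q : ℕ} [Fact q.Prime]
    (hq : ¬ q ∣ Nat.card (Cfsg.fittingOf M))
    (hsub : Cfsg.maxInvSubgroups ⊤ P {q} ⊆ Cfsg.maxInvSubgroups ⊤ A {q})
    (huniq : ∀ Q₁ ∈ Cfsg.maxInvSubgroups ⊤ P {q}, ∀ Q₂ ∈ Cfsg.maxInvSubgroups ⊤ P {q}, Q₂ = Q₁)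
    {Z : Subgroup G} (hZ : IsPGroup q Z) (hn : A ≤ Subgroup.normalizer (Z : Set G)) : Z = ⊥ := by
  obtain ⟨Q, hQ, -⟩ := exists_max_ge (bot_mem_inv (q := q) P)
  have hQn : M ≤ Subgroup.normalizer (Q : Set G) := fun m hm =>
    mem_normalizer_of_cj_eq (huniq Q hQ _ (max_cj (hMP hm) hQ))
  have hQp := (mem_inv_iff.mp hQ.1).1
  have hQb : Q = ⊥ := by
    by_contra hne
    have hNM : Subgroup.normalizer (Q : Set G) = M := by
      rcases hQn.eq_or_lt with h | h
      · exact h.symm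
      · exact absurd (hM.2 _ h) (minSimple_normalizer_ne_top hG hne (minSimple_pgroup_ne_top hG hQp))
    refine hq (dvd_of_opCore_ne_bot Fact.out (ne_bot_of_le_ne_bot hne (le_opCore ?_ hQn hQp)))
    exact Subgroup.le_normalizer.trans hNM.le
  obtain ⟨R, hR, hZR⟩ := exists_max_ge (mem_inv_iff.mpr ⟨hZ, hn⟩)
  exact le_bot_iff.mp (eq_bot_of_max_bot (hsub hQ) hQb hR ▸ hZR)

/-- Primes of `F(M)`-cores: a subgroup in every `O_{t'}(X)`, `t ∈ T`, lies in the `T'`-core. -/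
theorem le_piCoreOf_of_forall {T : Set ℕ} {X Y : Subgroup G} (hYX : Y ≤ X)
    (h : ∀ t ∈ T, t.Prime → Y ≤ oPrime t X) :
    Y ≤ Cfsg.piCoreOf {t : ℕ | t.Prime ∧ t ∉ T} X := by
  set N : Subgroup X := ⨅ t ∈ {t : ℕ | t ∈ T ∧ t.Prime}, Cfsg.pPrimeCore t X with hN
  have hNn : N.Normal :=
    Subgroup.normal_iInf_normal (fun t => Subgroup.normal_iInf_normal (fun _ => inferInstance))
  have hYN : Y.subgroupOf X ≤ N := le_iInf₂ fun t ht => by
    intro y hy
    obtain ⟨z, hz, hze⟩ := h t ht.1 ht.2 hy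
    exact Subtype.coe_injective hze ▸ hz
  have hNπ : PiNat {t : ℕ | t.Prime ∧ t ∉ T} (Nat.card N) := fun t ht htd => ⟨ht, fun htT => by
    have hle : N ≤ Cfsg.pPrimeCore t X := iInf₂_le t ⟨htT, ht⟩
    exact ht.ne_one (Nat.eq_one_of_dvd_coprimes PCore.pPrimeCore_coprime
      (htd.trans (Subgroup.card_dvd_of_le hle)) dvd_rfl)⟩
  have h2 := Subgroup.map_mono (f := X.subtype) (hYN.trans (le_piCore hNn hNπ))
  rwa [Subgroup.map_subgroupOf_eq_of_le hYX] at h2

theorem fittingOf_ne_bot (hG : Cfsg.IsMinSimpleOddOrder G) {M : Subgroup G} (hM : IsCoatom M) :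
    Cfsg.fittingOf M ≠ ⊥ := fun h => by
  have hs := minSimple_solvable hG hM.1
  refine isCoatom_ne_bot hG hM (Bender.eq_bot_of_opCore hs le_rfl Subgroup.le_normalizer fun r hr _ hd => ?_)
  rw [h, Subgroup.card_bot] at hd
  exact hr.ne_one (Nat.dvd_one.mp hd)

theorem isPGroup_of_forall_prime_dvd {p : ℕ} [Fact p.Prime] {H : Subgroup G}
    (h : ∀ r : ℕ, r.Prime → r ∣ Nat.card H → r = p) : IsPGroup p H :=
  IsPGroup.of_card (Nat.eq_prime_pow_of_unique_prime_dvd Nat.card_pos.ne' (fun {d} hd hdd => h d hd hdd))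

section NotPGroup

variable {M A₀ : Subgroup G} {p : ℕ} [hp : Fact p.Prime]

/-- `C_{F(M)}(A₀)`. -/
def cF (M A₀ : Subgroup G) : Subgroup G := Cfsg.fittingOf M ⊓ Subgroup.centralizer (A₀ : Set G)

/-- The `r`-part of `C_{F(M)}(A₀)`. -/
def cPart (r : ℕ) (M A₀ : Subgroup G) : Subgroup G :=
  opCore r M ⊓ Subgroup.centralizer (A₀ : Set G)

variable (hG : Cfsg.IsMinSimpleOddOrder G) (hM : IsCoatom M) (hA₀ : A₀ ≤ Cfsg.fittingOf M)
  (hA₀e : Cfsg.IsElementaryAbelian p A₀)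

include hA₀ hA₀e in
theorem le_opCore_p : A₀ ≤ opCore p M := le_opCore_of_le_fittingOf hA₀ (isPGroup_of_elemAb hA₀e)

include hA₀ hA₀e in
theorem le_cPart : A₀ ≤ cPart p M A₀ :=
  le_inf (le_opCore_p hA₀ hA₀e) fun a ha => Subgroup.mem_centralizer_iff.mpr fun _ hb =>
    elemAb_commute hA₀e hb ha

omit hp in
theorem cPart_le_cF {r : ℕ} (hr : r.Prime) : cPart r M A₀ ≤ cF M A₀ :=
  inf_le_inf_right _ (opCore_le_fittingOf hr M)

omit hp in
theorem cPart_isPGroup (r : ℕ) : IsPGroup r (cPart r M A₀) :=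
  (opCore_isPGroup r M).to_le inf_le_left

omit [Finite G] hp in
theorem cF_le_M : cF M A₀ ≤ M := inf_le_left.trans (fittingOf_le M)

omit [Finite G] hp in
theorem cF_le_normalizer_cPart (r : ℕ) :
    cF M A₀ ≤ Subgroup.normalizer (cPart r M A₀ : Set G) :=
  le_trans (le_inf ((inf_le_left.trans (fittingOf_le M)).trans (opCore_normal r M))
    (inf_le_right.trans Subgroup.le_normalizer)) Subgroup.inf_normalizer_le_normalizer_inf

include hA₀ hA₀e in
theorem opCore_le_centralizer {r : ℕ} (hr : r.Prime) (hrp : r ≠ p) :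
    opCore r M ≤ Subgroup.centralizer (A₀ : Set G) :=
  (opCore_commute hr hp.out hrp M).trans (Subgroup.centralizer_le (le_opCore_p hA₀ hA₀e))

include hA₀ hA₀e in
/-- Elements of `O_r(M)` centralizing `C_{F}(A₀)_r` lie in it. -/
theorem fixed_le_cPart {r : ℕ} (hr : r.Prime) {x : G} (hx : x ∈ opCore r M)
    (hxc : x ∈ Subgroup.centralizer (cPart r M A₀ : Set G)) : x ∈ cPart r M A₀ := by
  refine ⟨hx, ?_⟩
  by_cases hrp : r = p
  · subst hrp
    exact Subgroup.centralizer_le (le_cPart hA₀ hA₀e) hxc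
  · exact opCore_le_centralizer hA₀ hA₀e hr hrp hx

include hA₀ hA₀e in
theorem center_le_cPart {r : ℕ} (hr : r.Prime) :
    opCore r M ⊓ Subgroup.centralizer (opCore r M : Set G) ≤ cPart r M A₀ :=
  fun _ hx => fixed_le_cPart hA₀ hA₀e hr hx.1
    (Subgroup.centralizer_le (inf_le_left : cPart r M A₀ ≤ opCore r M) hx.2)

theorem center_opCore_ne_bot {r : ℕ} (hr : r.Prime) (hd : r ∣ Nat.card (Cfsg.fittingOf M)) :
    opCore r M ⊓ Subgroup.centralizer (opCore r M : Set G) ≠ ⊥ := by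
  have := Fact.mk hr
  have hne := opCore_ne_bot_of_dvd hr hd
  have hnt : Nontrivial (opCore r M) := (Subgroup.nontrivial_iff_ne_bot _).mpr hne
  obtain ⟨⟨z, hz⟩, hz1⟩ := Subgroup.ne_bot_iff_exists_ne_one.mp (ne_of_gt (opCore_isPGroup r M).bot_lt_center)
  intro hbot
  have h : ((z : opCore r M) : G) ∈ opCore r M ⊓ Subgroup.centralizer (opCore r M : Set G) :=
    ⟨z.2, Subgroup.mem_centralizer_iff.mpr fun a ha =>
      congrArg Subtype.val (Subgroup.mem_center_iff.mp hz ⟨a, ha⟩)⟩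
  exact hz1 (Subtype.ext (Subtype.ext (Subgroup.mem_bot.mp (hbot ▸ h))))

include hG hM hA₀ hA₀e in
theorem centralizer_cPart_le {r : ℕ} (hr : r.Prime) (hd : r ∣ Nat.card (Cfsg.fittingOf M)) :
    Subgroup.centralizer (cPart r M A₀ : Set G) ≤ M := by
  set Z := opCore r M ⊓ Subgroup.centralizer (opCore r M : Set G) with hZ
  refine (Subgroup.centralizer_le (center_le_cPart hA₀ hA₀e hr)).trans
    ((Subgroup.centralizer_le_normalizer (Z : Set G)).trans
      (normalizer_eq_of_isCoatom hG hM (inf_le_left.trans (opCore_le r M)) (center_opCore_ne_bot hr hd) ?_).le)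
  exact le_trans (le_inf (opCore_normal r M) ((opCore_normal r M).trans (normalizer_centralizer_le _)))
    Subgroup.inf_normalizer_le_normalizer_inf

include hA₀ hA₀e in
theorem dvd_card_cF {r : ℕ} (hr : r.Prime) (hd : r ∣ Nat.card (Cfsg.fittingOf M)) :
    r ∣ Nat.card (cF M A₀) := by
  have := Fact.mk hr
  refine (Uniq.prime_dvd_card (cPart_isPGroup r) ?_).trans (Subgroup.card_dvd_of_le (cPart_le_cF hr))
  exact ne_bot_of_le_ne_bot (center_opCore_ne_bot hr hd) (center_le_cPart hA₀ hA₀e hr)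

include hG hM hA₀ hA₀e in
/-- `C`-invariant subgroups of `M` coprime to `F(M)` are trivial. -/
theorem eq_bot_of_le_M {Y : Subgroup G} (hYM : Y ≤ M)
    (hYc : ∀ q : ℕ, q.Prime → q ∣ Nat.card Y → ¬ q ∣ Nat.card (Cfsg.fittingOf M))
    (hn : cF M A₀ ≤ Subgroup.normalizer (Y : Set G)) : Y = ⊥ := by
  have hcop : (Nat.card Y).Coprime (Nat.card (Cfsg.fittingOf M)) := Nat.coprime_of_dvd hYc
  have hdisj : ∀ x : G, x ∈ Y → x ∈ Cfsg.fittingOf M → x = 1 := fun x h1 h2 =>
    orderOf_eq_one_iff.mp (Nat.eq_one_of_dvd_coprimes hcop (Subgroup.orderOf_dvd_natCard Y h1)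
      (Subgroup.orderOf_dvd_natCard _ h2))
  have hYC : Y ≤ Subgroup.centralizer (cF M A₀ : Set G) := by
    intro y hy
    rw [Subgroup.mem_centralizer_iff]
    intro c hc
    refine commutatorElement_eq_one_iff_mul_comm.mp (hdisj _ ?_ ?_) <;> rw [commutatorElement_def]
    · exact mul_mem ((Subgroup.mem_normalizer_iff.mp (hn hc) y).mp hy) (Y.inv_mem hy)
    · rw [mul_assoc, mul_assoc]
      refine mul_mem hc.1 ?_
      rw [← mul_assoc]
      exact conj_mem_of_le_normalizer (fittingOf_normal M) (hYM hy) ((Cfsg.fittingOf M).inv_mem hc.1)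
  have hYF : Cfsg.fittingOf M ≤ Subgroup.centralizer (Y : Set G) := by
    refine fittingOf_le_of_forall fun r hr => ?_
    by_cases hd : r ∣ Nat.card (Cfsg.fittingOf M)
    swap
    · intro x hx
      rw [show opCore r M = ⊥ from not_not.mp fun h => hd (dvd_of_opCore_ne_bot hr h)] at hx
      rw [Subgroup.mem_bot.mp hx]
      exact Subgroup.one_mem _
    have := Fact.mk hr
    have hc : Y ≤ Subgroup.centralizer (cPart r M A₀ : Set G) :=
      hYC.trans (Subgroup.centralizer_le (cPart_le_cF hr))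
    refine Subgroup.le_centralizer_iff.mp (Coprime.pq_lemma r (cPart r M A₀) Y (cPart_isPGroup r)
      ?_ (Subgroup.le_centralizer_iff.mp hc) (opCore r M) (opCore_isPGroup r M)
      ((inf_le_left : cPart r M A₀ ≤ opCore r M).trans Subgroup.le_normalizer)
      (hYM.trans (opCore_normal r M)) ?_)
    · exact (Nat.Coprime.coprime_dvd_left hd hcop.symm).symm
    · exact fun x hx => Subgroup.le_centralizer_iff.mp hc (fixed_le_cPart hA₀ hA₀e hr hx.1 hx.2)
  exact eq_bot_iff.mpr fun y hy => hdisj y hy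
    (centralizer_fittingOf_le (minSimple_solvable hG hM.1)
      ⟨hYM hy, Subgroup.le_centralizer_iff.mp hYF hy⟩)

include hG hM hA₀ hA₀e in
/-- Balance: `O_s(M) ∩ X ≤ O_{r'}(X)` for proper `X ≥ C`. -/
theorem opCore_inf_le_oPrime {r s : ℕ} (hr : r.Prime) (hs : s.Prime)
    (hd : r ∣ Nat.card (Cfsg.fittingOf M)) (hrs : r ≠ s) {X : Subgroup G} (hX : X ≠ ⊤)
    (hCX : cF M A₀ ≤ X) : opCore s M ⊓ X ≤ oPrime r X := by
  have := Fact.mk hr
  have := Fact.mk hs
  have := minSimple_solvable hG hX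
  have hUX : cPart r M A₀ ≤ X := (cPart_le_cF hr).trans hCX
  have hZ : (opCore s M ⊓ X).subgroupOf X ≤ Cfsg.pPrimeCore r X := by
    refine Bender.le_core_of_centralizer_subgroup (U := (cPart r M A₀).subgroupOf X)
      ((cPart_isPGroup r).comap_of_injective X.subtype X.subtype_injective) ?_ ?_ ?_
    · intro x hx
      rw [Subgroup.mem_centralizer_iff]
      intro u hu
      exact Subtype.ext (Subgroup.mem_centralizer_iff.mp (opCore_commute hs hr hrs.symm M hx.1) u hu.1)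
    · intro x hx
      rw [← Subgroup.subgroupOf_normalizer_eq (inf_le_right : opCore s M ⊓ X ≤ X)]
      refine Subgroup.inf_normalizer_le_normalizer_inf ⟨opCore_normal s M
        (centralizer_cPart_le hG hM hA₀ hA₀e hr hd ?_), Subgroup.le_normalizer x.2⟩
      refine Subgroup.mem_centralizer_iff.mpr fun u hu => ?_
      exact congrArg Subtype.val (Subgroup.mem_centralizer_iff.mp hx ⟨u, hUX hu⟩ hu)
    · obtain ⟨n, hn⟩ := ((opCore_isPGroup s M).to_le (inf_le_left : opCore s M ⊓ X ≤ _)).exists_card_eq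
      rw [Nat.card_congr (Subgroup.subgroupOfEquivOfLe (inf_le_right : opCore s M ⊓ X ≤ X)).toEquiv, hn]
      exact ((Nat.coprime_primes hs hr).mpr hrs.symm).pow_left n
  have h2 := Subgroup.map_mono (f := X.subtype) hZ
  rwa [Subgroup.map_subgroupOf_eq_of_le inf_le_right] at h2

include hA₀ hA₀e in
theorem prime_dvd_fittingOf (hA₀ne : A₀ ≠ ⊥) : p ∣ Nat.card (Cfsg.fittingOf M) :=
  (Uniq.prime_dvd_card (isPGroup_of_elemAb hA₀e) hA₀ne).trans (Subgroup.card_dvd_of_le hA₀)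

variable (hA₀3 : p ^ 3 ≤ Nat.card A₀) (hFp : ¬ IsPGroup p (Cfsg.fittingOf M))

omit [Finite G] in
include hA₀3 in
theorem ne_bot_of_card : A₀ ≠ ⊥ := fun h => by
  rw [h, Subgroup.card_bot] at hA₀3
  exact absurd hA₀3 (not_le.mpr (Nat.one_lt_pow three_ne_zero hp.out.one_lt))

include hA₀ hA₀e hA₀3 hFp in
theorem exists_other_prime (r : ℕ) :
    ∃ s : ℕ, s.Prime ∧ s ∣ Nat.card (Cfsg.fittingOf M) ∧ r ≠ s := by
  by_contra! hcon
  refine hFp (isPGroup_of_forall_prime_dvd fun t ht htd => ?_)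
  rw [← hcon t ht htd, hcon p hp.out (prime_dvd_fittingOf hA₀ hA₀e (ne_bot_of_card hA₀3))]

include hG hM hA₀ hA₀e hA₀3 hFp in
theorem hypothesis_cF : Cfsg.TransitivityHypothesis (cF M A₀) := by
  have hCne : cF M A₀ ≠ ⊥ := ne_bot_of_le_ne_bot (ne_bot_of_card hA₀3)
    ((le_cPart hA₀ hA₀e).trans (cPart_le_cF hp.out))
  refine ⟨hCne, fun h => hM.1 (top_le_iff.mp (h ▸ cF_le_M)), fun X hX hCX =>
    le_antisymm (sSup_le ?_) (le_sSup ?_)⟩
  swap
  · exact ⟨piCoreOf_le _ _, piNat_card_piCoreOf _ _, hCX.trans (piCoreOf_normal _ _)⟩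
  rintro Y ⟨hYX, hYπ, hYn⟩
  have hYF : ∀ q : ℕ, q.Prime → q ∣ Nat.card Y → ¬ q ∣ Nat.card (Cfsg.fittingOf M) :=
    fun q hq hd hF => (hYπ q hq hd).2 (dvd_card_cF hA₀ hA₀e hq hF)
  have hYs : Group.IsSolvable Y :=
    minSimple_solvable hG (fun h => hX (top_le_iff.mp (h ▸ hYX)))
  refine le_trans (le_piCoreOf_of_forall (T := {t | t ∣ Nat.card (Cfsg.fittingOf M)}) hYX
    fun r hrd hr => ?_) (Subgroup.map_mono (piCore_mono fun t ht => ?_))
  swap
  · exact ⟨ht.1, fun h => ht.2 (h.trans (Subgroup.card_dvd_of_le (inf_le_left : cF M A₀ ≤ _)))⟩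
  obtain ⟨s, hs, hsd, hrs⟩ := exists_other_prime hA₀ hA₀e hA₀3 hFp r
  have := Fact.mk hs
  set S := cPart s M A₀ with hS
  have hSX : S ≤ X := (cPart_le_cF hs).trans hCX
  have hSO : S ≤ oPrime r X :=
    le_trans (le_inf inf_le_left hSX) (opCore_inf_le_oPrime hG hM hA₀ hA₀e hr hs hrd hrs hX hCX)
  have hSn : S ≤ Subgroup.normalizer (Y : Set G) := (cPart_le_cF hs).trans hYn
  have hcop : (Nat.card S).Coprime (Nat.card Y) := by
    obtain ⟨n, hn⟩ := (cPart_isPGroup (M := M) (A₀ := A₀) s).exists_card_eq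
    rw [hn]
    exact ((hs.coprime_iff_not_dvd).mpr fun h => hYF s hs h hsd).pow_left n
  have hfix : Y ⊓ Subgroup.centralizer (S : Set G) = ⊥ :=
    eq_bot_of_le_M hG hM hA₀ hA₀e (inf_le_right.trans (centralizer_cPart_le hG hM hA₀ hA₀e hs hsd))
      (fun q hq hd => hYF q hq (hd.trans (Subgroup.card_dvd_of_le inf_le_left)))
      (le_trans (le_inf hYn ((cF_le_normalizer_cPart s).trans (normalizer_centralizer_le _)))
        Subgroup.inf_normalizer_le_normalizer_inf)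
  have hY := Coprime.commutator_sup_centralizer S Y hSn hcop (Or.inr hYs)
  rw [hfix, sup_bot_eq] at hY
  rw [← hY, Subgroup.commutator_le]
  intro y hy a ha
  rw [commutatorElement_def]
  exact mul_mem (conj_mem_of_le_normalizer (oPrime_normal X) (hYX hy) (hSO ha)) (inv_mem (hSO ha))

include hG hM hA₀ hA₀e hA₀3 hFp in
/-- All `C`-invariant `π(F)'`-subgroups are trivial. -/
theorem inv_eq_bot {Y : Subgroup G}
    (hY : ∀ q : ℕ, q.Prime → q ∣ Nat.card Y → ¬ q ∣ Nat.card (Cfsg.fittingOf M))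
    (hn : cF M A₀ ≤ Subgroup.normalizer (Y : Set G)) : Y = ⊥ := by
  set F := Cfsg.fittingOf M with hF
  set C := cF M A₀ with hC
  have hA := hypothesis_cF hG hM hA₀ hA₀e hA₀3 hFp
  have hCF : C ≤ F := inf_le_left
  have hπ : ∀ r : ℕ, r.Prime → r ∣ Nat.card F → r ∣ Nat.card C :=
    fun r hr h => dvd_card_cF hA₀ hA₀e hr h
  have hA₀C : A₀ ≤ C := (le_cPart hA₀ hA₀e).trans (cPart_le_cF hp.out)
  have hZ : ¬ Cfsg.RankLE 2 ↥(C ⊓ Subgroup.centralizer (C : Set G)) := fun h => by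
    have h3 : A₀ ≤ C ⊓ Subgroup.centralizer (C : Set G) :=
      le_inf hA₀C (Subgroup.le_centralizer_iff.mp (inf_le_right : C ≤ _))
    have h4 := pRankLE_iff.mp (h p hp.out) (A₀.subgroupOf _)
      (elemAb_comap hA₀e _ (Subgroup.subtype_injective _))
    rw [Nat.card_congr (Subgroup.subgroupOfEquivOfLe h3).toEquiv] at h4
    exact absurd (hA₀3.trans h4) (not_le.mpr (Nat.pow_lt_pow_right hp.out.one_lt (by norm_num)))
  have hsn : (C.subgroupOf F).IsSubnormal := by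
    have := fittingOf_isNilpotent M
    exact IndexPowers.isSubnormal_of_normalizerCondition
      (Group.normalizerCondition_of_isNilpotent) _
  have hMF : M ≤ Subgroup.normalizer (F : Set G) := fittingOf_normal M
  have hKF : primeCore C (Subgroup.centralizer (F : Set G)) = ⊥ := by
    have h1 : Subgroup.centralizer (F : Set G) ≤ M :=
      (Subgroup.centralizer_le_normalizer (F : Set G)).trans
        (normalizer_eq_of_isCoatom hG hM (fittingOf_le M) (fittingOf_ne_bot hG hM) hMF).le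
    refine eq_bot_iff.mpr fun x hx => Subgroup.mem_bot.mpr ?_
    have hxc : x ∈ Subgroup.centralizer (F : Set G) := piCoreOf_le _ _ hx
    have hxF : x ∈ F := centralizer_fittingOf_le (minSimple_solvable hG hM.1) ⟨h1 hxc, hxc⟩
    refine orderOf_eq_one_iff.mp (by_contra fun hne => ?_)
    obtain ⟨r, hr, hrd⟩ := Nat.exists_prime_and_dvd hne
    exact (piNat_card_piCoreOf _ _ r hr (hrd.trans (Subgroup.orderOf_dvd_natCard _ hx))).2
      (hπ r hr (hrd.trans (Subgroup.orderOf_dvd_natCard _ hxF)))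
  have hYtop : Y ≠ ⊤ := by
    rintro rfl
    have hpF := prime_dvd_fittingOf hA₀ hA₀e (ne_bot_of_card hA₀3)
    exact hY p hp.out (Subgroup.card_top (G := G) ▸ hpF.trans (Subgroup.card_subgroup_dvd_card F)) hpF
  refine le_bot_iff.mp (inv_le_of_forall_prime (minSimple_solvable hG hYtop)
    (Nat.coprime_of_dvd fun q hq h1 h2 => hY q hq h2 (h1.trans (Subgroup.card_dvd_of_le hCF))) hn
    fun q hq hqY Z hZq hZn => le_of_eq ?_)
  have := Fact.mk hq
  have hqC : ¬ q ∣ Nat.card C := fun h => hY q hq hqY (h.trans (Subgroup.card_dvd_of_le hCF))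
  obtain ⟨-, htr, hsub⟩ := transitivity_passes hG hA hqC hπ hCF hsn
    (fun _ h₁ _ h₂ => conj_of_center_rank_three hG hA hZ hqC h₁ h₂)
  refine eq_bot_of_unique_max hG hM hMF (hY q hq hqY) hsub (fun Q₁ h₁ Q₂ h₂ => ?_) hZq hZn
  obtain ⟨k, hk, rfl⟩ := htr Q₁ h₁ Q₂ h₂
  rw [hKF, Subgroup.mem_bot] at hk
  rw [hk, cj_one]

include hG hM hA₀ hA₀e hA₀3 hFp in
theorem eq_of_cF_le {L : Subgroup G} (hL : IsCoatom L) (hCL : cF M A₀ ≤ L) : L = M := by
  set F := Cfsg.fittingOf M with hF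
  have hLs := minSimple_solvable hG hL.1
  -- the primes of `F(L)` are primes of `F(M)`
  have hπ1 : ∀ q : ℕ, q.Prime → q ∣ Nat.card (Cfsg.fittingOf L) → q ∣ Nat.card F := by
    intro q hq hd
    by_contra hnd
    have := Fact.mk hq
    refine opCore_ne_bot_of_dvd hq hd
      (inv_eq_bot hG hM hA₀ hA₀e hA₀3 hFp (fun t ht htd => ?_) (hCL.trans (opCore_normal q L)))
    obtain ⟨n, hn⟩ := (opCore_isPGroup q L).exists_card_eq
    exact (Nat.prime_dvd_prime_iff_eq ht hq).mp (ht.dvd_of_dvd_pow (hn ▸ htd)) ▸ hnd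
  -- `O_r(L)` centralizes `O_{r'}(L)`
  have hcomm : ∀ r : ℕ, r.Prime → opCore r L ≤ Subgroup.centralizer (oPrime r L : Set G) := by
    intro r hr
    have := Fact.mk hr
    exact commute_of_normalizes ((opCore_le r L).trans (oPrime_normal L))
      ((oPrime_le L).trans (opCore_normal r L))
      (fun x h1 h2 => Criteria.eq_one_of_pgroup_of_coprime (opCore_isPGroup r L) (oPrime_coprime L) h1 h2)
  have hFLM : Cfsg.fittingOf L ≤ M := by
    refine fittingOf_le_of_forall fun r hr => ?_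
    by_cases hd : r ∣ Nat.card (Cfsg.fittingOf L)
    swap
    · rw [show opCore r L = ⊥ from not_not.mp fun h => hd (dvd_of_opCore_ne_bot hr h)]
      exact bot_le
    obtain ⟨s, hs, hsd, hrs⟩ := exists_other_prime hA₀ hA₀e hA₀3 hFp r
    refine ((hcomm r hr).trans (Subgroup.centralizer_le ?_)).trans
      (centralizer_cPart_le hG hM hA₀ hA₀e hs hsd)
    exact le_trans (le_inf inf_le_left ((cPart_le_cF hs).trans hCL))
      (opCore_inf_le_oPrime hG hM hA₀ hA₀e hr hs (hπ1 r hr hd) hrs hL.1 hCL)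
  have hRF : ∀ r s : ℕ, r.Prime → s.Prime → r ≠ s → r ∣ Nat.card (Cfsg.fittingOf L) →
      opCore r L ≤ Subgroup.centralizer (opCore s M : Set G) := by
    intro r s hr hs hrs hd
    have := Fact.mk hr
    have := Fact.mk hs
    have hc : opCore r L ≤ Subgroup.centralizer (cPart s M A₀ : Set G) :=
      (hcomm r hr).trans (Subgroup.centralizer_le
        (le_trans (le_inf inf_le_left ((cPart_le_cF hs).trans hCL))
          (opCore_inf_le_oPrime hG hM hA₀ hA₀e hr hs (hπ1 r hr hd) hrs hL.1 hCL)))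
    refine Coprime.pq_lemma s (cPart s M A₀) (opCore r L) (cPart_isPGroup s) ?_
      (Subgroup.le_centralizer_iff.mp hc) (opCore s M) (opCore_isPGroup s M)
      ((inf_le_left : cPart s M A₀ ≤ opCore s M).trans Subgroup.le_normalizer)
      (((opCore_le_fittingOf hr L).trans hFLM).trans (opCore_normal s M))
      (fun x hx => Subgroup.le_centralizer_iff.mp hc (fixed_le_cPart hA₀ hA₀e hs hx.1 hx.2))
    obtain ⟨n, hn⟩ := (opCore_isPGroup r L).exists_card_eq
    rw [hn]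
    exact ((Nat.coprime_primes hr hs).mpr hrs).pow_left n
  have hNr : ∀ r s : ℕ, r.Prime → s.Prime → r ≠ s → r ∣ Nat.card (Cfsg.fittingOf L) →
      opCore s M ≤ L := fun r s hr hs hrs hd =>
    ((Subgroup.le_centralizer_iff.mp (hRF r s hr hs hrs hd)).trans
      (Subgroup.centralizer_le_normalizer _)).trans (normalizer_eq_of_isCoatom hG hL (opCore_le r L)
        (opCore_ne_bot_of_dvd hr hd) (opCore_normal r L)).le
  -- a subgroup `O_s(M) ≤ L` whose prime differs from all those of `F(L)` is trivial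
  have hkey : ∀ s : ℕ, s.Prime → s ∣ Nat.card F → opCore s M ≤ L →
      (∀ t : ℕ, t.Prime → t ∣ Nat.card (Cfsg.fittingOf L) → t ≠ s) → False := by
    intro s hs hsd hsL hne
    refine opCore_ne_bot_of_dvd hs hsd (le_bot_iff.mp ?_)
    refine (le_piCoreOf_of_forall (T := {t | t ∣ Nat.card (Cfsg.fittingOf L)}) hsL
      fun t htd ht => ?_).trans (Bender.eq_bot_of_opCore hLs (piCoreOf_le _ _) (piCoreOf_normal _ _)
        fun t ht htd => (piNat_card_piCoreOf _ _ t ht htd).2).le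
    exact le_trans (le_inf le_rfl hsL)
      (opCore_inf_le_oPrime hG hM hA₀ hA₀e ht hs (hπ1 t ht htd) (hne t ht htd) hL.1 hCL)
  have hother : ∀ s : ℕ, s.Prime →
      ∃ r : ℕ, r.Prime ∧ r ∣ Nat.card (Cfsg.fittingOf L) ∧ r ≠ s := by
    intro s hs
    by_contra! hcon
    obtain ⟨t, ht, htd⟩ := Nat.exists_prime_and_dvd
      (fun h => fittingOf_ne_bot hG hL (Subgroup.card_eq_one.mp h))
    have hts : t = s := hcon t ht htd
    subst hts
    obtain ⟨u, hu, hud, htu⟩ := exists_other_prime hA₀ hA₀e hA₀3 hFp t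
    exact hkey u hu hud (hNr t u ht hu htu htd) (fun v hv hvd h => htu ((hcon v hv hvd).symm.trans h))
  have hFL : F ≤ L := fittingOf_le_of_forall fun s hs => by
    obtain ⟨r, hr, hrd, hrs⟩ := hother s hs
    exact hNr r s hr hs hrs hrd
  have hπ : ∀ t : ℕ, t.Prime → (t ∣ Nat.card F ↔ t ∣ Nat.card (Cfsg.fittingOf L)) :=
    fun t ht => ⟨fun htd => by_contra fun hn => hkey t ht htd
      ((opCore_le_fittingOf ht M).trans hFL) (fun v _ hvd h => hn (h ▸ hvd)), hπ1 t ht⟩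
  obtain ⟨r, hr, hrd, hpr⟩ := exists_other_prime hA₀ hA₀e hA₀3 hFp p
  exact (Bender.maximal_eq hG hM hL hFL hFLM hp.out hr
    (prime_dvd_fittingOf hA₀ hA₀e (ne_bot_of_card hA₀3)) hrd hpr.symm hπ).symm

include hG hM hA₀ hA₀e hA₀3 hFp in
/-- **BG 8.1 (a)**. -/
theorem inUniqueMaximal_cF : Cfsg.InUniqueMaximal (cF M A₀) :=
  ⟨M, ⟨hM, cF_le_M⟩, fun _ hL => eq_of_cF_le hG hM hA₀ hA₀e hA₀3 hFp hL.1 hL.2⟩

end NotPGroup

section PGroup

variable {M : Subgroup G} {p : ℕ} [hp : Fact p.Prime]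

theorem eq_opCore_of_isPGroup (hFp : IsPGroup p (Cfsg.fittingOf M)) :
    Cfsg.fittingOf M = opCore p M :=
  le_antisymm (le_opCore_of_le_fittingOf le_rfl hFp) (opCore_le_fittingOf hp.out M)

theorem oPrime_eq_bot_of_fittingOf (hG : Cfsg.IsMinSimpleOddOrder G) (hM : IsCoatom M)
    (hFp : IsPGroup p (Cfsg.fittingOf M)) : oPrime p M = ⊥ := by
  refine Bender.eq_bot_of_opCore (minSimple_solvable hG hM.1) (oPrime_le M) (oPrime_normal M)
    fun r hr hd hdF => ?_
  obtain ⟨n, hn⟩ := hFp.exists_card_eq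
  have := (Nat.prime_dvd_prime_iff_eq hr hp.out).mp (hr.dvd_of_dvd_pow (hn ▸ hdF))
  subst this
  exact hr.ne_one (Nat.eq_one_of_dvd_coprimes (oPrime_coprime M) hd dvd_rfl)

/-- **BG 8.1 (b)**. -/
theorem pGroup_case (hG : Cfsg.IsMinSimpleOddOrder G) (hM : IsCoatom M)
    (hFp : IsPGroup p (Cfsg.fittingOf M)) {R : Subgroup G} (hR : SylowOf p R M) :
    (∃ P : Sylow p G, (P : Subgroup G) = R) ∧
      ∀ A : Subgroup G, Cfsg.IsSCN R A → ¬ Cfsg.PRankLE p 2 A →
        A ≤ Cfsg.fittingOf M ∧ Cfsg.InUniqueMaximal A := by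
  set F := Cfsg.fittingOf M with hF
  have hMs := minSimple_solvable hG hM.1
  have h0 := oPrime_eq_bot_of_fittingOf hG hM hFp
  have hFR : F ≤ R := by
    obtain ⟨T, rfl⟩ := hR.toSylow
    rw [hF, eq_opCore_of_isPGroup hFp]
    exact Subgroup.map_mono (PCore.pCore_le_sylow T)
  have hRne : R ≠ ⊥ := fun h => fittingOf_ne_bot hG hM (le_bot_iff.mp (h ▸ hFR))
  have hN := Uniq.eq_normalizer_zj hG hM hR hRne h0
  obtain ⟨P, hP⟩ := hR.exists_sylow ((PLocal.normalizer_le_normalizer_zj 0 R).trans hN.le)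
  refine ⟨⟨P, hP⟩, ?_⟩
  rintro A ⟨hAR, hAn, hAc⟩ hA3
  have hAF : A ≤ F := by
    rw [hF, eq_opCore_of_isPGroup hFp]
    refine Uniq.le_of_scn_le_core (minSimple_odd hG M) hR hAR hAn hAc fun x _ hx => ?_
    have h0' : Cfsg.pPrimeCore p M = ⊥ :=
      (Subgroup.map_eq_bot_iff_of_injective _ M.subtype_injective).mp h0
    rw [PCore.pPrimePCore_eq_pCore h0'] at hx
    exact ⟨x, hx, rfl⟩
  refine ⟨hAF, ?_⟩
  have hAcomm : IsMulCommutative A := ⟨⟨fun x y =>
    Subtype.ext (Subgroup.mem_centralizer_iff.mp (hAc.ge y.2).2 x x.2)⟩⟩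
  have hA := Criteria.hypothesis_of_scn (Criteria.quadStable p) hG P hAcomm (hP.symm ▸ ⟨hAR, hAn, hAc⟩)
    (fun h => hA3 (PRankLE.mono_k hp.out one_le_two h))
  have hAA : A ⊓ Subgroup.centralizer (A : Set G) = A :=
    inf_eq_left.mpr (fun a ha => Subgroup.mem_centralizer_iff.mpr fun b hb =>
      mul_comm_of_mem hAcomm hb ha)
  have hZ : ¬ Cfsg.RankLE 2 ↥(A ⊓ Subgroup.centralizer (A : Set G)) := by
    rw [hAA]; exact fun h => hA3 (h p hp.out)
  have hAp : IsPGroup p A := hFp.to_le hAF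
  have hπ : ∀ r : ℕ, r.Prime → r ∣ Nat.card F → r ∣ Nat.card A := fun r hr hd => by
    obtain ⟨n, hn⟩ := hFp.exists_card_eq
    rw [(Nat.prime_dvd_prime_iff_eq hr hp.out).mp (hr.dvd_of_dvd_pow (hn ▸ hd))]
    exact Uniq.prime_dvd_card hAp hA.1
  have hsn : (A.subgroupOf F).IsSubnormal :=
    ((Subgroup.normal_subgroupOf_iff_le_normalizer hAF).mpr (hFR.trans hAn)).isSubnormal
  have hKF : primeCore A (Subgroup.centralizer (F : Set G)) = ⊥ := by
    have h1 : Subgroup.centralizer (F : Set G) ≤ M :=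
      (Subgroup.centralizer_le_normalizer (F : Set G)).trans
        (normalizer_eq_of_isCoatom hG hM (fittingOf_le M) (fittingOf_ne_bot hG hM) (fittingOf_normal M)).le
    refine eq_bot_iff.mpr fun x hx => Subgroup.mem_bot.mpr ?_
    have hxc : x ∈ Subgroup.centralizer (F : Set G) := piCoreOf_le _ _ hx
    refine Criteria.eq_one_of_pgroup_of_coprime hFp ((Nat.Coprime.coprime_dvd_left
      (Uniq.prime_dvd_card hAp hA.1) (coprime_primeCore A _)).symm)
      (centralizer_fittingOf_le hMs ⟨h1 hxc, hxc⟩) hx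
  refine Uniq.inUniqueMaximal_of_inv_le hG hM (hAR.trans hR.1) hAp hA.1 fun Y hY hn => ?_
  have hpG : p ∣ Nat.card G :=
    (Uniq.prime_dvd_card hAp hA.1).trans (Subgroup.card_subgroup_dvd_card A)
  have hYtop : Y ≠ ⊤ := by
    rintro rfl
    rw [Subgroup.card_top] at hY
    exact hp.out.ne_one (Nat.eq_one_of_dvd_coprimes hY hpG dvd_rfl)
  have hcop : (Nat.card A).Coprime (Nat.card Y) := by
    obtain ⟨n, hn'⟩ := hAp.exists_card_eq
    rw [hn']
    exact hY.symm.pow_left n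
  refine le_trans (inv_le_of_forall_prime (D := ⊥) (minSimple_solvable hG hYtop) hcop hn
    fun q hq hqY Z hZq hZn => le_of_eq ?_) bot_le
  have := Fact.mk hq
  have hqA : ¬ q ∣ Nat.card A := fun h => hq.ne_one (Nat.eq_one_of_dvd_coprimes hcop h hqY)
  have hqF : ¬ q ∣ Nat.card F := fun h => hqA (hπ q hq h)
  obtain ⟨-, htr, hsub⟩ := transitivity_passes hG hA hqA hπ hAF hsn
    (fun _ h₁ _ h₂ => conj_of_center_rank_three hG hA hZ hqA h₁ h₂)
  refine eq_bot_of_unique_max hG hM (fittingOf_normal M) hqF hsub (fun Q₁ h₁ Q₂ h₂ => ?_) hZq hZn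
  obtain ⟨k, hk, rfl⟩ := htr Q₁ h₁ Q₂ h₂
  rw [hKF, Subgroup.mem_bot] at hk
  rw [hk, cj_one]

end PGroup

/-- **BG 9.4**: rank three in `F(M)` makes all abelian rank three `p`-subgroups uniqueness subgroups. -/
theorem inUniqueMaximal_of_rank_three (hG : Cfsg.IsMinSimpleOddOrder G) {M : Subgroup G}
    (hM : IsCoatom M) {p : ℕ} [hp : Fact p.Prime] (hF : ¬ Cfsg.PRankLE p 2 ↥(Cfsg.fittingOf M))
    {A : Subgroup G} (hAp : IsPGroup p A) (hA3 : ¬ Cfsg.PRankLE p 2 A) :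
    Cfsg.InUniqueMaximal A := by
  obtain ⟨E, hEF, hEe, hEc⟩ := not_pRankLE_subgroup_iff.mp hF
  obtain ⟨X, hXA, hXe, hXc⟩ := not_pRankLE_subgroup_iff.mp hA3
  suffices hU : ∃ B : Subgroup G, IsPGroup p B ∧ IsMulCommutative B ∧ ¬ Cfsg.PRankLE p 2 B ∧
      Cfsg.InUniqueMaximal B by
    obtain ⟨B, hBp, hBc, hB3, hBU⟩ := hU
    exact Uniq.InUniqueMaximal.mono (Uniq.inUniqueMaximal_cube hG hBp hBc hB3 hBU hXe hXc) hXA
      (minSimple_pgroup_ne_top hG hAp)
  by_cases hFp : IsPGroup p ↥(Cfsg.fittingOf M)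
  · have hp2 := Uniq.prime_ne_two hG hFp (fittingOf_ne_bot hG hM)
    obtain ⟨R, hR, hFR⟩ := exists_sylowOf_ge (fittingOf_le M) hFp
    obtain ⟨B, hBR, hBn, hBc, hB3⟩ := Uniq.exists_scn_three hp2 hR.2.1
      (fun h => hF (PRankLE.of_le hFR h))
    exact ⟨B, hR.2.1.to_le hBR, ⟨⟨fun x y =>
      Subtype.ext (Subgroup.mem_centralizer_iff.mp (hBc.ge y.2).2 x x.2)⟩⟩, hB3,
      ((pGroup_case hG hM hFp hR).2 B ⟨hBR, hBn, hBc⟩ hB3).2⟩
  · have hEc' : p ^ 3 ≤ Nat.card E := hEc.ge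
    refine ⟨E, isPGroup_of_elemAb hEe, hEe.1, fun h => not_pRankLE_subgroup_iff.mpr
      ⟨E, le_rfl, hEe, hEc⟩ h, ?_⟩
    refine Uniq.inUniqueMaximal_of_centralizes hG (inUniqueMaximal_cF hG hM hEF hEe hEc' hFp)
      (Subgroup.le_centralizer_iff.mp inf_le_right) ?_
    exact Uniq.not_rankLE_one_of_elemAb (k := 1) le_rfl hEe hEc

end CfsgLib.OddOrder.MaxFit
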