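import Mathlib
import Cfsg.Agent.Lib.OddOrder.MaximalFitting
import Cfsg.Agent.Lib.OddOrder41.FixedFormula
import Cfsg.Agent.Lib.OddOrder41.FixOmega
import Cfsg.Agent.Lib.OddOrder41.NormalElementary
import Cfsg.Agent.Lib.Coprime.HyperplaneGeneration
import Cfsg.Agent.Lib.PGroup.Class2
import Cfsg.Agent.Lib.Structure.Subnormal

/-!
# Lemmas for a signalizer-free proof of BG 9.5

Coprime action of an elementary abelian group of order `p ^ 3`, the subgroup `Ω₁(Z₂(Q))`, and a
Frobenius fixed point argument.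
-/

set_option autoImplicit false
set_option linter.style.haveILetI false

namespace CfsgLib.OddOrder.CubeUnique

open Subgroup CfsgLib.OddOrder CfsgLib.OddOrder.Transitivity
open scoped commutatorElement

universe u

variable {G : Type u} [Group G] [Finite G] {p : ℕ} [hp : Fact p.Prime]

/-- A group normalized by `E` is generated by the centralizers of the hyperplanes of `E`. -/
theorem le_of_pieces {E R M : Subgroup G} (hEe : Cfsg.IsElementaryAbelian p E)
    (hEc : Nat.card E = p ^ 3) (hR : (Nat.card R).Coprime p) (hn : E ≤ Subgroup.normalizer (R : Set G))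
    (h : ∀ B : Subgroup G, B ≤ E → Nat.card B = p ^ 2 → R ⊓ Subgroup.centralizer (B : Set G) ≤ M) :
    R ≤ M := by
  have hE1 : E ≠ ⊥ := fun hb => by
    rw [hb, Subgroup.card_bot] at hEc
    exact (Nat.one_lt_pow three_ne_zero hp.out.one_lt).ne hEc
  rw [← Coprime39.eq_hyperCent hEe hE1 hR hn]
  refine iSup_le fun B => h B.1 B.2.1 ?_
  have h1 := card_mul_relIndex_of_le B.2.1
  rw [B.2.2, hEc] at h1
  exact Nat.eq_of_mul_eq_mul_right hp.out.pos (h1.trans (pow_succ p 2))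

theorem exists_mem_inf_ne_one {E B₁ B₂ : Subgroup G} (hE : Nat.card E = p ^ 3) (h1 : B₁ ≤ E) (h2 : B₂ ≤ E)
    (hc1 : Nat.card B₁ = p ^ 2) (hc2 : Nat.card B₂ = p ^ 2) : ∃ a ∈ B₁ ⊓ B₂, a ≠ (1 : G) := by
  by_contra hcon
  push Not at hcon
  have hinj : Function.Injective
      (fun q : ↥B₁ × ↥B₂ => (⟨(q.1 : G) * (q.2 : G), mul_mem (h1 q.1.2) (h2 q.2.2)⟩ : E)) := by
    rintro ⟨a, b⟩ ⟨a', b'⟩ h
    have e : (a : G) * b = a' * b' := congrArg Subtype.val h
    have e2 : (a' : G)⁻¹ * a = b' * (b : G)⁻¹ := by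
      rw [eq_mul_inv_iff_mul_eq, mul_assoc, e, inv_mul_cancel_left]
    have m1 : (a' : G)⁻¹ * a ∈ B₁ := mul_mem (inv_mem a'.2) a.2
    have m2 : (a' : G)⁻¹ * a ∈ B₂ := by rw [e2]; exact mul_mem b'.2 (inv_mem b.2)
    have h3 := hcon _ (Subgroup.mem_inf.mpr ⟨m1, m2⟩)
    exact Prod.ext (Subtype.ext (inv_mul_eq_one.mp h3).symm)
      (Subtype.ext (mul_inv_eq_one.mp (e2 ▸ h3)).symm)
  have := Nat.card_le_card_of_injective _ hinj
  rw [Nat.card_prod, hE, hc1, hc2, ← pow_add] at this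
  exact absurd this (not_le.mpr (Nat.pow_lt_pow_right hp.out.one_lt (by norm_num)))

omit [Finite G] in
theorem zpowers_eq_of_mem {a e : G} (ha : orderOf a = p) (he : e ∈ Subgroup.zpowers a) (he1 : e ≠ 1) :
    a ∈ Subgroup.zpowers e := by
  have hd : Nat.card (Subgroup.zpowers e) ∣ Nat.card (Subgroup.zpowers a) :=
    Subgroup.card_dvd_of_le (Subgroup.zpowers_le.mpr he)
  rw [Nat.card_zpowers, Nat.card_zpowers, ha] at hd
  rcases (Nat.dvd_prime hp.out).mp hd with h | h
  · exact absurd (orderOf_eq_one_iff.mp h) he1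
  · have : Finite (Subgroup.zpowers a) :=
      Nat.finite_of_card_ne_zero (by rw [Nat.card_zpowers, ha]; exact hp.out.ne_zero)
    exact (Subgroup.eq_of_le_of_card_ge (Subgroup.zpowers_le.mpr he)
      (by rw [Nat.card_zpowers, Nat.card_zpowers, ha, h])).ge (Subgroup.mem_zpowers a)

omit [Finite G] in
theorem commute_of_commute_mem_zpowers {a x y : G} (hx : x ∈ Subgroup.zpowers a) (h : Commute a y) :
    Commute x y := by
  obtain ⟨i, rfl⟩ := hx
  exact h.zpow_left i

/-- A Frobenius group `⟨v⟩⟨b⟩` acting coprimely: `X ≤ M` if the centralizers of `v` and `b` are. -/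
theorem le_of_frobenius {q r : ℕ} [hq : Fact q.Prime] [hr : Fact r.Prime] (hrp : r ≠ p) (hrq : r ≠ q)
    (hqp : q ≠ p) {X M : Subgroup G} (hX : IsPGroup r X) {v b : G} (hv : orderOf v = q)
    (hb : orderOf b = p) (hbv : b ∈ Subgroup.normalizer (Subgroup.zpowers v : Set G))
    (hne : b * v ≠ v * b) (hvX : v ∈ Subgroup.normalizer (X : Set G))
    (hbX : b ∈ Subgroup.normalizer (X : Set G))
    (hCv : Subgroup.centralizer ({v} : Set G) ≤ M) (hCb : Subgroup.centralizer ({b} : Set G) ≤ M) :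
    X ≤ M := by
  set U := Subgroup.zpowers v with hU
  set F := Subgroup.zpowers b with hF
  have hUc : Nat.card U = q := by rw [hU, Nat.card_zpowers, hv]
  have hFc : Nat.card F = p := by rw [hF, Nat.card_zpowers, hb]
  have hF1 : F ≠ ⊥ := fun h => hp.out.ne_one (by rw [← hFc, h, Subgroup.card_bot])
  have hcopUF : (Nat.card U).Coprime (Nat.card F) := by
    rw [hUc, hFc]; exact (Nat.coprime_primes hq.out hp.out).mpr hqp
  have hFU : F ≤ Subgroup.normalizer (U : Set G) := Subgroup.zpowers_le.mpr hbv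
  have hfpf : ∀ e ∈ F, e ≠ 1 → ∀ u ∈ U, e * u = u * e → u = 1 := by
    intro e he he1 u hu heu
    by_contra hu1
    refine hne ?_
    have h1 : Commute b u := commute_of_commute_mem_zpowers (zpowers_eq_of_mem hb he he1) heu
    exact (commute_of_commute_mem_zpowers (zpowers_eq_of_mem hv hu hu1) h1.symm).symm
  have hn : U ⊔ F ≤ Subgroup.normalizer (X : Set G) :=
    sup_le (Subgroup.zpowers_le.mpr hvX) (Subgroup.zpowers_le.mpr hbX)
  have hUM : U ≤ M :=
    Subgroup.zpowers_le.mpr (hCv (Subgroup.mem_centralizer_singleton_iff.mpr rfl))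
  have hFM : F ≤ M :=
    Subgroup.zpowers_le.mpr (hCb (Subgroup.mem_centralizer_singleton_iff.mpr rfl))
  have hnH : U ⊔ F ≤ Subgroup.normalizer ((X ⊓ M : Subgroup G) : Set G) :=
    (le_inf hn ((sup_le hUM hFM).trans Subgroup.le_normalizer)).trans
      Subgroup.inf_normalizer_le_normalizer_inf
  have hcop : ∀ H : Subgroup G, H ≤ X → (Nat.card H).Coprime (Nat.card ↥(U ⊔ F)) := by
    intro H hH
    obtain ⟨n, hn'⟩ := hX.exists_card_eq
    refine Nat.Coprime.coprime_dvd_left (Subgroup.card_dvd_of_le hH) ?_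
    rw [hn']
    refine Nat.Coprime.pow_left _ (Nat.Coprime.coprime_dvd_right (sup_comm U F ▸ Coprime.card_sup_dvd hFU) ?_)
    rw [hFc, hUc]
    exact Nat.Coprime.mul_right ((Nat.coprime_primes hr.out hp.out).mpr hrp)
      ((Nat.coprime_primes hr.out hq.out).mpr hrq)
  have hXs : Group.IsSolvable X := by
    have := hX.isNilpotent
    infer_instance
  have e1 := OddOrder41.FixedFormula.fixed_formula U F hF1 hFU hcopUF hfpf X hn hXs (hcop X le_rfl)
  have e2 := OddOrder41.FixedFormula.fixed_formula U F hF1 hFU hcopUF hfpf (X ⊓ M) hnH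
    (Group.isSolvable_of_isSolvable_injective (Subgroup.inclusion_injective inf_le_left))
    (hcop _ inf_le_left)
  have hmem : ∀ {S : Set G} {g : G}, Subgroup.centralizer ({g} : Set G) ≤ M → g ∈ S →
      (X ⊓ M) ⊓ Subgroup.centralizer S = X ⊓ Subgroup.centralizer S := fun {S g} h hg => by
    rw [inf_assoc, inf_eq_right.mpr ((Subgroup.centralizer_le (Set.singleton_subset_iff.mpr hg)).trans h)]
  rw [hmem hCv ((le_sup_left : U ≤ U ⊔ F) (Subgroup.mem_zpowers v)), hmem hCb (Subgroup.mem_zpowers b),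
    hmem hCv (Subgroup.mem_zpowers v), ← e1] at e2
  have h3 := Nat.eq_of_mul_eq_mul_left (Nat.pow_pos Nat.card_pos) e2
  exact inf_eq_left.mp (Subgroup.eq_of_le_of_card_ge inf_le_left h3.ge)

/-- An elementary abelian group of order `p ^ 3` does not act faithfully on an `r`-group of rank two. -/
theorem exists_fixing_rank_two {r : ℕ} [hr : Fact r.Prime] (hr2 : r ≠ 2) (hrp : r ≠ p) {E W : Subgroup G}
    (hEe : Cfsg.IsElementaryAbelian p E) (hEc : Nat.card E = p ^ 3) (hW : IsPGroup r W)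
    (hr' : Cfsg.PRankLE r 2 W) (hn : E ≤ Subgroup.normalizer (W : Set G)) :
    ∃ e ∈ E, e ≠ 1 ∧ ∀ w ∈ W, e * w = w * e := by
  obtain ⟨Q, φ, hexp, hcard, hfix⟩ := OddOrder41.rank_two_small_quotient hr2 W E hW hr' hn
  suffices h : ∃ e : E, e ≠ 1 ∧ φ e = 1 by
    obtain ⟨e, he1, he⟩ := h
    refine ⟨e, e.2, fun h => he1 (Subtype.ext h), hfix e ?_ he⟩
    rw [Subgroup.orderOf_coe]
    exact Nat.Coprime.coprime_dvd_left
      (orderOf_dvd_of_pow_eq_one (Subtype.ext (by simpa using hEe.2 e e.2)))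
      ((Nat.coprime_primes hp.out hr.out).mpr hrp.symm)
  set S := Abelianization Q ⋊[φ] E with hS
  have : Finite S := Finite.of_equiv _ SemidirectProduct.equivProd.symm
  set V : Subgroup S := (SemidirectProduct.inl : Abelianization Q →* S).range with hV
  set F : Subgroup S := (SemidirectProduct.inr : E →* S).range with hF
  have hFe : Cfsg.IsElementaryAbelian p F := by
    rw [hF, MonoidHom.range_eq_map]
    refine elemAb_map ⟨⟨⟨fun a b => Subtype.ext ?_⟩⟩, fun a _ => Subtype.ext (by simpa using hEe.2 a a.2)⟩ _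
    exact Subtype.ext (elemAb_commute hEe (a : E).2 (b : E).2)
  have hFc : Nat.card F = p ^ 3 := by
    rw [hF, ← hEc]
    exact (Nat.card_congr (MonoidHom.ofInjective SemidirectProduct.inr_injective).toEquiv).symm
  have hVc : Nat.card V = Nat.card (Abelianization Q) :=
    (Nat.card_congr (MonoidHom.ofInjective SemidirectProduct.inl_injective).toEquiv).symm
  have hVp : IsPGroup r V := fun x => by
    obtain ⟨w, hw⟩ := x.2
    exact ⟨1, Subtype.ext (by simp [← hw, ← map_pow, hexp])⟩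
  have hVcop : (Nat.card V).Coprime p := by
    obtain ⟨n, hn'⟩ := hVp.exists_card_eq
    rw [hn']
    exact Nat.Coprime.pow_left _ ((Nat.coprime_primes hr.out hp.out).mpr hrp)
  have hFV : F ≤ Subgroup.normalizer (V : Set S) := by
    have hVn : V.Normal := by
      rw [hV, SemidirectProduct.range_inl_eq_ker_rightHom]
      infer_instance
    rw [Subgroup.normalizer_eq_top_iff.mpr hVn]
    exact le_top
  -- a nontrivial element of `F` centralizing `V`
  suffices h : ∃ f ∈ F, f ≠ 1 ∧ V ≤ Subgroup.centralizer ({f} : Set S) by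
    obtain ⟨_, ⟨e, rfl⟩, he1, hle⟩ := h
    refine ⟨e, fun h => he1 (by rw [h, map_one]), MulEquiv.ext fun w => ?_⟩
    apply SemidirectProduct.inl_injective (φ := φ)
    rw [SemidirectProduct.inl_aut, ← (Subgroup.mem_centralizer_singleton_iff.mp (hle ⟨w, rfl⟩)),
      map_inv, mul_inv_cancel_right]
    rfl
  by_cases hall : ∀ B : Subgroup S, B ≤ F → Nat.card B = p ^ 2 → V ⊓ Subgroup.centralizer (B : Set S) ≤ ⊥
  · obtain ⟨f, hf, hf1⟩ := (Subgroup.bot_or_exists_ne_one F).resolve_left fun h => by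
      rw [h, Subgroup.card_bot] at hFc
      exact (Nat.one_lt_pow three_ne_zero hp.out.one_lt).ne hFc
    exact ⟨f, hf, hf1, (le_of_pieces hFe hFc hVcop hFV hall).trans bot_le⟩
  push Not at hall
  obtain ⟨B₁, hB₁, hB₁c, hP₁⟩ := hall
  by_cases hall₂ : ∀ B : Subgroup S, B ≤ F → Nat.card B = p ^ 2 →
      V ⊓ Subgroup.centralizer (B : Set S) ≤ V ⊓ Subgroup.centralizer (B₁ : Set S)
  · obtain ⟨f, hf, hf1⟩ := (Subgroup.bot_or_exists_ne_one B₁).resolve_left fun h => by
      rw [h, Subgroup.card_bot] at hB₁c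
      exact (Nat.one_lt_pow two_ne_zero hp.out.one_lt).ne hB₁c
    exact ⟨f, hB₁ hf, hf1, (le_of_pieces hFe hFc hVcop hFV hall₂).trans
      (inf_le_right.trans (Subgroup.centralizer_le (Set.singleton_subset_iff.mpr hf)))⟩
  push Not at hall₂
  obtain ⟨B₂, hB₂, hB₂c, hP₂⟩ := hall₂
  obtain ⟨f, ⟨hf₁, hf₂⟩, hf1⟩ := exists_mem_inf_ne_one hFc hB₁ hB₂ hB₁c hB₂c
  set P₁ := V ⊓ Subgroup.centralizer (B₁ : Set S) with hP₁'
  set P₂ := V ⊓ Subgroup.centralizer (B₂ : Set S) with hP₂'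
  have hsup : P₁ ⊔ P₂ = V := by
    refine Subgroup.eq_of_le_of_card_ge (sup_le inf_le_left inf_le_left) ?_
    have hlt : Nat.card P₁ < Nat.card ↥(P₁ ⊔ P₂) := by
      by_contra h
      exact hP₂ (le_sup_right.trans (Subgroup.eq_of_le_of_card_ge le_sup_left (not_lt.mp h)).ge)
    obtain ⟨m, hm⟩ := (hVp.to_le (sup_le inf_le_left inf_le_left : P₁ ⊔ P₂ ≤ V)).exists_card_eq
    have h1 : 1 < Nat.card P₁ := Subgroup.one_lt_card_iff_ne_bot P₁ |>.mpr fun h => hP₁ h.le
    obtain ⟨k, hk⟩ := (hVp.to_le (inf_le_left : P₁ ≤ V)).exists_card_eq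
    rw [hm] at hlt ⊢
    rw [hk] at h1 hlt
    have hk1 : 1 ≤ k := Nat.one_le_iff_ne_zero.mpr fun h => by simp [h] at h1
    have hkm : k < m := (Nat.pow_lt_pow_iff_right hr.out.one_lt).mp hlt
    rw [hVc]
    exact hcard.trans (Nat.pow_le_pow_right hr.out.pos (by omega))
  exact ⟨f, hB₁ hf₁, hf1, hsup ▸ sup_le
    (inf_le_right.trans (Subgroup.centralizer_le (Set.singleton_subset_iff.mpr hf₁)))
    (inf_le_right.trans (Subgroup.centralizer_le (Set.singleton_subset_iff.mpr hf₂)))⟩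

/-! ### `Ω₁(Z₂(Q))` -/

section OmegaTwo

variable {q : ℕ} [hq : Fact q.Prime] {R : Type u} [Group R]

/-- The elements of exponent `q` in the second centre, for `q` odd. -/
def omegaTwo (q : ℕ) (hodd : Odd q) (R : Type u) [Group R] : Subgroup R where
  carrier := {x | x ∈ Subgroup.upperCentralSeries R 2 ∧ x ^ q = 1}
  one_mem' := ⟨Subgroup.one_mem _, one_pow q⟩
  mul_mem' := fun {x y} hx hy => ⟨Subgroup.mul_mem _ hx.1 hy.1, PGroup.mul_pow_eq_one_of_central hodd
    (by
      have h := Subgroup.mem_upperCentralSeries_succ_iff.mp hy.1 x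
      rwa [Subgroup.upperCentralSeries_one] at h) hx.2 hy.2⟩
  inv_mem' := fun {x} hx => ⟨Subgroup.inv_mem _ hx.1, by rw [inv_pow, hx.2, inv_one]⟩

omit hq in
theorem omegaTwo_characteristic (hodd : Odd q) : (omegaTwo q hodd R).Characteristic := by
  rw [Subgroup.characteristic_iff_le_comap]
  intro φ x hx
  exact ⟨(Subgroup.characteristic_iff_le_comap.mp inferInstance φ) hx.1,
    by rw [MulEquiv.toMonoidHom_eq_coe, MonoidHom.coe_coe, ← map_pow, hx.2, map_one]⟩

end OmegaTwo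

/-- `Ω₁(Z₂(Q))` inside the ambient group, for a `q`-group `Q` of rank at least three. -/
theorem exists_omegaTwo {q : ℕ} [hq : Fact q.Prime] (hq2 : q ≠ 2) {Q : Subgroup G} (hQ : IsPGroup q Q)
    (hr : ¬ Cfsg.PRankLE q 2 Q) :
    ∃ T : Subgroup G, T ≤ Q ∧ Subgroup.normalizer (Q : Set G) ≤ Subgroup.normalizer (T : Set G) ∧
      (∀ x ∈ T, x ^ q = 1) ∧ (∀ x ∈ Q, x ∈ Subgroup.centralizer (Q : Set G) → x ^ q = 1 → x ∈ T) ∧
      (∀ x ∈ T, ∀ g ∈ Q, ⁅x, g⁆ ∈ Q ⊓ Subgroup.centralizer (Q : Set G) ∧ ⁅x, g⁆ ^ q = 1) ∧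
      ∃ W : Subgroup G, W ≤ T ∧ Cfsg.IsElementaryAbelian q W ∧ Nat.card W = q ^ 2 := by
  have hodd : Odd q := hq.out.odd_of_ne_two hq2
  have := omegaTwo_characteristic (R := ↥Q) hodd
  have hcen : ∀ {z : Q}, z ∈ Subgroup.center Q → (z : G) ∈ Q ⊓ Subgroup.centralizer (Q : Set G) :=
    fun {z} hz => ⟨z.2, Subgroup.mem_centralizer_iff.mpr fun g hg =>
      congrArg Subtype.val (Subgroup.mem_center_iff.mp hz ⟨g, hg⟩)⟩
  refine ⟨(omegaTwo q hodd ↥Q).map Q.subtype, Subgroup.map_subtype_le _,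
    CfsgLib.Structure.normalizer_le_normalizer_map_subtype Q _, ?_, ?_, ?_, ?_⟩
  · rintro _ ⟨x, hx, rfl⟩
    rw [← map_pow, hx.2, map_one]
  · intro x hxQ hxc hxq
    refine ⟨⟨x, hxQ⟩, ⟨Subgroup.mem_upperCentralSeries_succ_iff.mpr fun y => ?_, Subtype.ext hxq⟩, rfl⟩
    rw [commutatorElement_eq_one_iff_mul_comm.mpr (Subtype.ext
      (Subgroup.mem_centralizer_iff.mp hxc y y.2).symm)]
    exact Subgroup.one_mem _
  · rintro _ ⟨x, hx, rfl⟩ g hg
    have h := Subgroup.mem_upperCentralSeries_succ_iff.mp hx.1 ⟨g, hg⟩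
    rw [Subgroup.upperCentralSeries_one] at h
    refine ⟨hcen h, ?_⟩
    have h2 : ⁅x, (⟨g, hg⟩ : Q)⁆ ^ q = 1 :=
      PGroup.commutatorElement_pow_eq_one_of_pow_central h (by rw [hx.2]; exact Subgroup.one_mem _)
    exact congrArg Subtype.val h2
  · obtain ⟨S, hSQ, hSn, hSc, hS3⟩ := Uniq.exists_scn_three hq2 hQ hr
    have hScomm : IsMulCommutative S := ⟨⟨fun x y =>
      Subtype.ext (Subgroup.mem_centralizer_iff.mp (hSc.ge y.2).2 x x.2)⟩⟩
    obtain ⟨W, hWn, hWe, hW2, -⟩ := Criteria.exists_normal_sq hQ hSQ hSn hScomm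
      (fun h => hS3 (PRankLE.mono_k hq.out one_le_two h))
    refine ⟨W.map Q.subtype, Subgroup.map_mono fun w hw => ⟨?_, hWe.2 w hw⟩, elemAb_map hWe _,
      by rw [Subgroup.card_map_of_injective Q.subtype_injective, hW2]⟩
    have : Group.IsNilpotent Q := hQ.isNilpotent
    suffices hle : W ≤ Subgroup.upperCentralSeries Q 2 from hle hw
    by_cases hc : W ≤ Subgroup.center Q
    · intro x hx
      rw [Subgroup.mem_upperCentralSeries_succ_iff]
      intro y
      rw [commutatorElement_eq_one_iff_mul_comm.mpr (Subgroup.mem_center_iff.mp (hc hx) y).symm]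
      exact Subgroup.one_mem _
    obtain ⟨y, hyW, hyc, hy⟩ := OddOrder41.exists_central_step W (Subgroup.center Q) hc
    have hWne : ¬ W ≤ ⊥ := fun h => by
      rw [le_bot_iff] at h
      rw [h, Subgroup.card_bot] at hW2
      exact (Nat.one_lt_pow two_ne_zero hq.out.one_lt).ne hW2
    obtain ⟨z, hzW, hz1, hzc⟩ := OddOrder41.exists_central_step W ⊥ hWne
    have hzZ : z ∈ Subgroup.center Q := Subgroup.mem_center_iff.mpr fun g =>
      (commutatorElement_eq_one_iff_mul_comm.mp (Subgroup.mem_bot.mp (hzc g))).symm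
    have hz2 : z ∈ Subgroup.upperCentralSeries Q 2 := Subgroup.mem_upperCentralSeries_succ_iff.mpr fun g => by
      rw [Subgroup.mem_bot.mp (hzc g)]; exact Subgroup.one_mem _
    have hy2 : y ∈ Subgroup.upperCentralSeries Q 2 := Subgroup.mem_upperCentralSeries_succ_iff.mpr fun g => by
      rw [Subgroup.upperCentralSeries_one]; exact hy g
    have hlt : Nat.card (Subgroup.zpowers z) < Nat.card ↥(W ⊓ Subgroup.upperCentralSeries Q 2) := by
      have hle : Subgroup.zpowers z ≤ W ⊓ Subgroup.upperCentralSeries Q 2 :=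
        Subgroup.zpowers_le.mpr ⟨hzW, hz2⟩
      by_contra h
      exact hyc ((Subgroup.zpowers_le.mpr hzZ) ((Subgroup.eq_of_le_of_card_ge hle (not_lt.mp h)).ge ⟨hyW, hy2⟩))
    obtain ⟨m, hm2, hm⟩ := (Nat.dvd_prime_pow hq.out).mp
      (hW2 ▸ Subgroup.card_dvd_of_le (inf_le_left : W ⊓ Subgroup.upperCentralSeries Q 2 ≤ W))
    rw [Nat.card_zpowers, orderOf_eq_prime (hWe.2 z hzW) (fun h => hz1 (h ▸ Subgroup.one_mem _)), hm] at hlt
    have hm1 : 1 < m := (Nat.pow_lt_pow_iff_right hq.out.one_lt).mp ((pow_one q).symm ▸ hlt)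
    exact inf_eq_left.mp (Subgroup.eq_of_le_of_card_ge inf_le_left
      (by rw [hW2, hm, show m = 2 by omega]))

end CfsgLib.OddOrder.CubeUnique
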