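import Mathlib
import Cfsg.Agent.Lib.OddOrder.CubeUniqueAux

/-!
# Signalizer-free BG 9.5: spreading containment in `M` over invariant `r`-subgroups

If the `r`-groups normalized by `A` and an element `v` lie in `M`, so do all `A`-invariant
`r`-groups.
-/

set_option autoImplicit false

namespace CfsgLib.OddOrder.CubeUnique

open Subgroup CfsgLib.OddOrder CfsgLib.OddOrder.Transitivity

universe u

variable {G : Type u} [Group G] [Finite G] {p : ℕ} [hp : Fact p.Prime]

omit hp in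
theorem coprime_of_isPGroup {r n : ℕ} (hr : r.Prime) {X : Subgroup G} (hX : IsPGroup r X)
    (h : ¬ r ∣ n) : (Nat.card X).Coprime n := by
  have := Fact.mk hr
  obtain ⟨m, hm⟩ := hX.exists_card_eq
  rw [hm]
  exact ((Nat.Prime.coprime_iff_not_dvd hr).mpr h).pow_left m

omit hp in
theorem coprime_prime_of_isPGroup {r : ℕ} (hr : r.Prime) (hpp : p.Prime) (hrp : r ≠ p)
    {X : Subgroup G} (hX : IsPGroup r X) : (Nat.card X).Coprime p :=
  coprime_of_isPGroup hr hX fun h => hrp ((Nat.prime_dvd_prime_iff_eq hr hpp).mp h)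

omit [Finite G] hp in
theorem le_normalizer_inf {A X Y : Subgroup G} (hX : A ≤ Subgroup.normalizer (X : Set G))
    (hY : A ≤ Subgroup.normalizer (Y : Set G)) : A ≤ Subgroup.normalizer ((X ⊓ Y : Subgroup G) : Set G) :=
  (le_inf hX hY).trans Subgroup.inf_normalizer_le_normalizer_inf

omit [Finite G] hp in
theorem le_normalizer_centralizer {A S : Subgroup G} (h : A ≤ Subgroup.centralizer (S : Set G)) :
    A ≤ Subgroup.normalizer ((Subgroup.centralizer (S : Set G) : Subgroup G) : Set G) :=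
  h.trans Subgroup.le_normalizer

section

variable {A : Subgroup G} (hG : Cfsg.IsMinSimpleOddOrder G) (hAp : IsPGroup p A)
  (hA : Cfsg.TransitivityHypothesis A)

include hAp hA in
theorem prime_dvd : p ∣ Nat.card A := Uniq.prime_dvd_card hAp hA.1

include hAp in
theorem not_dvd {r : ℕ} (hr : r.Prime) (hrp : r ≠ p) : ¬ r ∣ Nat.card A := by
  obtain ⟨n, hn⟩ := hAp.exists_card_eq
  exact fun h => hrp ((Nat.prime_dvd_prime_iff_eq hr hp.out).mp (hr.dvd_of_dvd_pow (hn ▸ h)))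

include hAp hA in
theorem piNat_of_coprime {n : ℕ} (hn : n.Coprime p) :
    PiNat (Cfsg.primesNotDvd (Nat.card A)) n := by
  refine (Criteria.piNat_primesNotDvd_iff ?_).mpr hn
  obtain ⟨k, hk⟩ := hAp.exists_card_eq
  exact ⟨k, Nat.pos_of_ne_zero fun h => hA.1 (Subgroup.card_eq_one.mp (by rw [hk, h, pow_zero])), hk⟩

include hAp hA in
theorem primeCore_coprime (X : Subgroup G) : (Nat.card (primeCore A X)).Coprime p :=
  (Nat.Coprime.coprime_dvd_left (prime_dvd hAp hA) (coprime_primeCore A X)).symm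

include hAp in
theorem coprime_card {n : ℕ} (hn : n.Coprime p) : (Nat.card A).Coprime n := by
  obtain ⟨k, hk⟩ := hAp.exists_card_eq
  rw [hk]
  exact hn.symm.pow_left k

include hAp hA in
theorem coprime_ne_top {Y : Subgroup G} (hY : (Nat.card Y).Coprime p) : Y ≠ ⊤ := by
  rintro rfl
  rw [Subgroup.card_top] at hY
  exact hp.out.ne_one (Nat.eq_one_of_dvd_coprimes hY
    ((prime_dvd hAp hA).trans (Subgroup.card_subgroup_dvd_card A)) dvd_rfl)

include hG hAp hA in
/-- If one invariant Sylow `r`-subgroup of a `p'`-group lies in `M`, so do all invariant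
`r`-subgroups. -/
theorem le_of_sylow_le {M L S Z : Subgroup G} {r : ℕ} [hr : Fact r.Prime]
    (hD : primeCore A (Subgroup.centralizer (A : Set G)) ≤ M)
    (hn : A ≤ Subgroup.normalizer (L : Set G)) (hc : (Nat.card L).Coprime p)
    (hS : SylowOf r S L) (hSn : A ≤ Subgroup.normalizer (S : Set G)) (hSM : S ≤ M)
    (hZL : Z ≤ L) (hZ : IsPGroup r Z) (hZn : A ≤ Subgroup.normalizer (Z : Set G)) : Z ≤ M := by
  obtain ⟨k, ⟨hkL, hkC⟩, S', hS'L, hS'p, -, h1, h2⟩ := invSylowConj A L r hr.out hn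
    (coprime_card hAp hc) (minSimple_solvable hG (coprime_ne_top hAp hA hc)) S Z hS.1 hS.2.1 hSn
    hZL hZ hZn
  have hkD : k ∈ primeCore A (Subgroup.centralizer (A : Set G)) :=
    le_core_centralizer hG hA (Subgroup.zpowers_le.mpr hkC)
      ((piNat_of_coprime hAp hA hc).dvd (Subgroup.card_dvd_of_le (Subgroup.zpowers_le.mpr hkL)))
      (Subgroup.mem_zpowers k)
  have he : cj k S = S' := Subgroup.eq_of_le_of_card_ge h1
    ((Nat.le_of_dvd Nat.card_pos (hS.card_dvd hS'L hS'p)).trans (card_cj k S).ge)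
  rw [← he] at h2
  exact h2.trans ((cj_mono hSM).trans (cj_eq_of_mem_normalizer (Subgroup.le_normalizer (hD hkD))).le)

omit hp in
/-- For `K = D N` with `D` normal and `R` a Sylow `r`-subgroup of `N`, the product `D R` contains
a Sylow `r`-subgroup of `K`. -/
theorem sylowOf_of_factor {r : ℕ} [Fact r.Prime] {K D N R S : Subgroup G}
    (hDn : N ≤ Subgroup.normalizer (D : Set G)) (hK : K = N ⊔ D) (hR : SylowOf r R N)
    (hS : SylowOf r S (R ⊔ D)) : SylowOf r S K := by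
  have hRn : R ≤ Subgroup.normalizer (D : Set G) := hR.1.trans hDn
  have h1 := Coprime.card_sup_mul_card_inf hRn
  have h2 := Coprime.card_sup_mul_card_inf hDn
  rw [← hK] at h2
  obtain ⟨m, hm⟩ := Subgroup.card_dvd_of_le hR.1
  have hrm : ¬ r ∣ m := by
    obtain ⟨T, hT⟩ := hR.toSylow
    intro h
    refine T.not_dvd_index ?_
    have h3 := Subgroup.card_mul_index (T : Subgroup N)
    have h4 : Nat.card R = Nat.card (T : Subgroup N) := by
      rw [← hT, Subgroup.card_map_of_injective N.subtype_injective]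
    have h5 : Nat.card (T : Subgroup N) * (T : Subgroup N).index = Nat.card (T : Subgroup N) * m := by
      rw [h3, ← h4, ← hm]
    rwa [Nat.eq_of_mul_eq_mul_left Nat.card_pos h5]
  obtain ⟨c, hc⟩ := Subgroup.card_dvd_of_le (inf_le_inf_left D hR.1 : D ⊓ R ≤ D ⊓ N)
  have hKc : Nat.card K * c = Nat.card ↥(R ⊔ D) * m := by
    refine Nat.eq_of_mul_eq_mul_left (Nat.card_pos (α := ↥(D ⊓ R))) ?_
    calc Nat.card ↥(D ⊓ R) * (Nat.card K * c) = Nat.card K * (Nat.card ↥(D ⊓ R) * c) := by ring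
      _ = Nat.card R * m * Nat.card D := by rw [← hc, h2, hm]
      _ = Nat.card ↥(R ⊔ D) * Nat.card ↥(D ⊓ R) * m := by rw [h1]; ring
      _ = Nat.card ↥(D ⊓ R) * (Nat.card ↥(R ⊔ D) * m) := by ring
  have hle : S ≤ K := hS.1.trans (hK ▸ sup_le_sup_right hR.1 D)
  refine ⟨hle, hS.2.1, fun Q hQ hQp hSQ => ?_⟩
  obtain ⟨k, hk⟩ := hQp.exists_card_eq
  have hd : r ^ k ∣ Nat.card ↥(R ⊔ D) * m := by
    rw [← hKc]
    exact (hk ▸ Subgroup.card_dvd_of_le hQ).mul_right c
  have hd2 : r ^ k ∣ Nat.card ↥(R ⊔ D) :=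
    (((Nat.Prime.coprime_iff_not_dvd Fact.out).mpr hrm).pow_left k).dvd_of_dvd_mul_right hd
  obtain ⟨T, hT⟩ := Sylow.exists_subgroup_card_pow_prime r hd2
  have hT2 : Nat.card (T.map (R ⊔ D).subtype) = r ^ k := by
    rw [Subgroup.card_map_of_injective (R ⊔ D).subtype_injective, hT]
  refine (Subgroup.eq_of_le_of_card_ge hSQ (Nat.le_of_dvd Nat.card_pos ?_)).symm
  rw [hk, ← hT2]
  exact hS.card_dvd (Subgroup.map_subtype_le T) (IsPGroup.of_card hT2)

variable {M : Subgroup G} {q : ℕ} [hq : Fact q.Prime] {v : G}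

include hG hAp hA in
/-- The key property spreads to all invariant `p'`-groups containing `v`. -/
theorem le_of_key (hM : IsCoatom M) (hqp : q ≠ p)
    (hD : primeCore A (Subgroup.centralizer (A : Set G)) ≤ M)
    (hUq : ∀ Q ∈ Cfsg.maxInvSubgroups ⊤ A {q}, Cfsg.InUniqueMaximal Q ∧ Q ≤ M)
    (hv : orderOf v = q) (hvn : A ≤ Subgroup.normalizer (Subgroup.zpowers v : Set G))
    {r : ℕ} [hr : Fact r.Prime] (hrp : r ≠ p)
    (key : ∀ X : Subgroup G, IsPGroup r X → A ≤ Subgroup.normalizer (X : Set G) →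
      v ∈ Subgroup.normalizer (X : Set G) → X ≤ M)
    {K Z : Subgroup G} (hKn : A ≤ Subgroup.normalizer (K : Set G)) (hKc : (Nat.card K).Coprime p)
    (hvK : v ∈ K) (hZK : Z ≤ K) (hZ : IsPGroup r Z) (hZn : A ≤ Subgroup.normalizer (Z : Set G)) :
    Z ≤ M := by
  have hvp : IsPGroup q (Subgroup.zpowers v) :=
    IsPGroup.of_card (n := 1) (by rw [Nat.card_zpowers, hv, pow_one])
  -- an invariant Sylow `q`-subgroup of a `p'`-group above an invariant `q`-subgroup
  have hsyl : ∀ L Y : Subgroup G, (Nat.card L).Coprime p → A ≤ Subgroup.normalizer (L : Set G) →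
      Y ≤ L → IsPGroup q Y → A ≤ Subgroup.normalizer (Y : Set G) →
        ∃ Q₂ : Subgroup G, SylowOf q Q₂ L ∧ A ≤ Subgroup.normalizer (Q₂ : Set G) ∧ Y ≤ Q₂ := by
    intro L Y hLc hLn hYL hYp hYn
    obtain ⟨S, hSn, hYS⟩ := invariant_sylow_ge (q := q) hLn (coprime_card hAp hLc)
      (minSimple_solvable hG (coprime_ne_top hAp hA hLc)) hYL hYp hYn
    exact ⟨_, sylowOf_map S, hSn, hYS⟩
  obtain ⟨Q₂, hQ₂, hQ₂n, hvQ₂⟩ := hsyl K _ hKc hKn (Subgroup.zpowers_le.mpr hvK) hvp hvn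
  rw [Subgroup.zpowers_le] at hvQ₂
  induction' hd : Nat.card G - Nat.card Q₂ using Nat.strong_induction_on with n ih
    generalizing K Z Q₂
  have hKtop : K ≠ ⊤ := coprime_ne_top hAp hA hKc
  have hKs := minSimple_solvable hG hKtop
  set D₀ := oPrime q K with hD₀
  have hD₀K : D₀ ≤ K := oPrime_le K
  have hKD₀ : K ≤ Subgroup.normalizer (D₀ : Set G) := oPrime_normal K
  have hD₀c : (Nat.card D₀).Coprime p := hKc.coprime_dvd_left (Subgroup.card_dvd_of_le hD₀K)
  have hD₀n : A ≤ Subgroup.normalizer (D₀ : Set G) := fun a ha => by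
    refine mem_normalizer_of_cj_eq (Subgroup.eq_of_le_of_card_ge ?_ (card_cj a D₀).ge)
    have haK : cj a K = K := cj_eq_of_mem_normalizer (hKn ha)
    refine le_oPrime ((cj_mono hD₀K).trans haK.le) (fun x hx => mem_normalizer_of_cj_eq ?_)
      (by rw [card_cj]; exact oPrime_coprime K)
    have hx' : a⁻¹ * x * a ∈ K := mem_cj.mp (haK.ge hx)
    rw [cj_mul, show x * a = a * (a⁻¹ * x * a) by group, ← cj_mul,
      cj_eq_of_mem_normalizer (hKD₀ hx')]
  -- the invariant `r`-subgroups of `D₀` lie in `M`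
  have hD₀M : ∀ Z' : Subgroup G, Z' ≤ D₀ → IsPGroup r Z' →
      A ≤ Subgroup.normalizer (Z' : Set G) → Z' ≤ M := by
    intro Z' h1 h2 h3
    set H := Subgroup.zpowers v ⊔ A with hH
    have hHn : H ≤ Subgroup.normalizer (D₀ : Set G) :=
      sup_le (Subgroup.zpowers_le.mpr (hKD₀ hvK)) hD₀n
    have hHc : (Nat.card H).Coprime (Nat.card D₀) := by
      refine Nat.Coprime.coprime_dvd_left
        ((sup_comm (Subgroup.zpowers v) A).symm ▸ Coprime.card_sup_dvd hvn) ?_
      rw [Nat.card_zpowers, hv]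
      exact Nat.Coprime.mul_left (coprime_card hAp hD₀c) (oPrime_coprime K).symm
    obtain ⟨S, hSn, -⟩ := exists_invariant_sylow (q := r) hHn hHc
      (Group.isSolvable_of_isSolvable_injective (Subgroup.inclusion_injective hD₀K))
    exact le_of_sylow_le hG hAp hA hD hD₀n hD₀c (sylowOf_map S) (le_sup_right.trans hSn)
      (key _ (S.isPGroup'.map _) (le_sup_right.trans hSn)
        (hSn (le_sup_left (b := A) (Subgroup.mem_zpowers v)))) h1 h2 h3
  -- the invariant `r`-subgroups of `K ⊓ N(ZJ(Q₂))` lie in `M`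
  have hQne : Q₂ ≠ ⊥ := fun h => hq.out.ne_one (by
    rw [h, Subgroup.mem_bot] at hvQ₂
    rw [← hv, hvQ₂, orderOf_one])
  set N := Subgroup.normalizer (PLocal.zj 0 Q₂ : Set G) with hN
  have hQN : Subgroup.normalizer (Q₂ : Set G) ≤ N := PLocal.normalizer_le_normalizer_zj 0 Q₂
  have hAN : A ≤ N := hQ₂n.trans hQN
  have hNtop : N ≠ ⊤ := minSimple_normalizer_ne_top hG (zj_ne_bot hQ₂.2.1 hQne)
    (minSimple_pgroup_ne_top hG (hQ₂.2.1.to_le (PLocal.zj_le 0 Q₂)))
  have hNM : ∀ Z' : Subgroup G, Z' ≤ N → IsPGroup r Z' →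
      A ≤ Subgroup.normalizer (Z' : Set G) → Z' ≤ M := by
    intro Z' h1 h2 h3
    obtain ⟨Qm, hQm, hQle⟩ := exists_max_ge (mem_inv_iff.mpr ⟨hQ₂.2.1, hQ₂n⟩)
    obtain ⟨hQmp, hQmn⟩ := mem_inv_iff.mp hQm.1
    rcases hQle.eq_or_lt with he | hlt
    · obtain ⟨hU, hQM⟩ := hUq Qm hQm
      obtain ⟨L, hL, hNL⟩ := exists_isCoatom_ge hNtop
      rw [← he] at hU hQM
      rw [Uniq.InUniqueMaximal.eq hU hM hQM hL
        ((Subgroup.le_normalizer.trans hQN).trans hNL)] at hNL
      exact h1.trans hNL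
    set Q' := Subgroup.normalizer (Q₂ : Set G) ⊓ Qm with hQ'
    have hgrow : Nat.card Q₂ < Nat.card Q' := normalizer_grows hQmp hlt
    have hQ'p : IsPGroup q Q' := hQmp.to_le inf_le_right
    have hQ'n : A ≤ Subgroup.normalizer (Q' : Set G) :=
      le_normalizer_inf (hQ₂n.trans Subgroup.le_normalizer) hQmn
    set K' := primeCore A N with hK'
    have hQ'K : Q' ≤ K' := inv_le_core hA hNtop hAN (inf_le_left.trans hQN) hQ'n
      (piNat_primesNotDvd_of_isPGroup hq.out (not_dvd hAp hq.out hqp) hQ'p)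
    have hZ'K : Z' ≤ K' := inv_le_core hA hNtop hAN h1 h3
      (piNat_primesNotDvd_of_isPGroup hr.out (not_dvd hAp hr.out hrp) h2)
    have hK'n : A ≤ Subgroup.normalizer (K' : Set G) := le_normalizer_core hAN
    have hK'c : (Nat.card K').Coprime p := primeCore_coprime hAp hA N
    obtain ⟨Q₃, hQ₃, hQ₃n, hQ'Q₃⟩ := hsyl K' Q' hK'c hK'n hQ'K hQ'p hQ'n
    have hvQ' : v ∈ Q' := ⟨Subgroup.le_normalizer hvQ₂, hQle hvQ₂⟩
    refine ih (Nat.card G - Nat.card Q₃) ?_ hK'n hK'c (hQ'K hvQ') hZ'K h2 h3 Q₃ hQ₃ hQ₃n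
      (hQ'Q₃ hvQ') rfl
    have h4 := Subgroup.card_le_of_le hQ'Q₃
    have h5 := Subgroup.card_le_card_group Q₃
    omega
  -- combine
  have hKN : A ≤ Subgroup.normalizer ((K ⊓ N : Subgroup G) : Set G) :=
    le_normalizer_inf hKn (hAN.trans Subgroup.le_normalizer)
  have hKNc : (Nat.card ↥(K ⊓ N)).Coprime p :=
    hKc.coprime_dvd_left (Subgroup.card_dvd_of_le inf_le_left)
  obtain ⟨R, hRn, -⟩ := exists_invariant_sylow (q := r) hKN (coprime_card hAp hKNc)
    (Group.isSolvable_of_isSolvable_injective (Subgroup.inclusion_injective (inf_le_left : K ⊓ N ≤ K)))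
  set R₀ := (R : Subgroup ↥(K ⊓ N)).map (K ⊓ N).subtype with hR₀
  have hR₀s : SylowOf r R₀ (K ⊓ N) := sylowOf_map R
  have hR₀M : R₀ ≤ M := hNM R₀ (hR₀s.1.trans inf_le_right) hR₀s.2.1 hRn
  have hfac : K = (K ⊓ N) ⊔ D₀ := le_antisymm
    ((le_sup_normalizer_zj (minSimple_odd hG K) (Uniq.prime_ne_two hG hQ₂.2.1 hQne) hQ₂).trans
      (sup_comm _ _).le) (sup_le inf_le_left hD₀K)
  have hKND : K ⊓ N ≤ Subgroup.normalizer (D₀ : Set G) := inf_le_left.trans hKD₀
  set L := R₀ ⊔ D₀ with hL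
  have hLK : L ≤ K := sup_le (hR₀s.1.trans inf_le_left) hD₀K
  have hLn : A ≤ Subgroup.normalizer (L : Set G) := fun a ha => by
    refine mem_normalizer_of_cj_eq ?_
    rw [hL, Transitivity.cj, Subgroup.map_sup]
    exact congrArg₂ (· ⊔ ·) (cj_eq_of_mem_normalizer (hRn ha)) (cj_eq_of_mem_normalizer (hD₀n ha))
  have hLc : (Nat.card L).Coprime p := hKc.coprime_dvd_left (Subgroup.card_dvd_of_le hLK)
  obtain ⟨S, hSn, hRS⟩ := invariant_sylow_ge (q := r) hLn (coprime_card hAp hLc)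
    (Group.isSolvable_of_isSolvable_injective (Subgroup.inclusion_injective hLK))
    le_sup_left hR₀s.2.1 hRn
  set S₀ := (S : Subgroup L).map L.subtype with hS₀
  have hS₀s : SylowOf r S₀ L := sylowOf_map S
  have hS₀K : SylowOf r S₀ K := sylowOf_of_factor hKND hfac hR₀s hS₀s
  have hS₀M : S₀ ≤ M := fun s hs => by
    obtain ⟨a, ha, b, hb, rfl⟩ :=
      Coprime.exists_mul_of_mem_sup ((hR₀s.1.trans hKND)) (hS₀s.1 hs)
    have hbS : b ∈ S₀ := by
      have := mul_mem (inv_mem (hRS ha)) hs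
      rwa [inv_mul_cancel_left] at this
    exact mul_mem (hR₀M ha) (hD₀M (D₀ ⊓ S₀) inf_le_left (hS₀s.2.1.to_le inf_le_right)
      (le_normalizer_inf hD₀n hSn) ⟨hb, hbS⟩)
  exact le_of_sylow_le hG hAp hA hD hKn hKc hS₀K hSn hS₀M hZK hZ hZn

variable {E : Subgroup G}

include hG hAp hA in
/-- All invariant `r`-subgroups lie in `M` once the key property holds. -/
theorem inv_le_of_key (hM : IsCoatom M) (hqp : q ≠ p)
    (hD : primeCore A (Subgroup.centralizer (A : Set G)) ≤ M)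
    (hUq : ∀ Q ∈ Cfsg.maxInvSubgroups ⊤ A {q}, Cfsg.InUniqueMaximal Q ∧ Q ≤ M)
    (hAc : IsMulCommutative A) (hEA : E ≤ A) (hEe : Cfsg.IsElementaryAbelian p E)
    (hEc : Nat.card E = p ^ 3) (hv : orderOf v = q)
    (hvn : A ≤ Subgroup.normalizer (Subgroup.zpowers v : Set G))
    {B : Subgroup G} (hBE : B ≤ E) (hBc : Nat.card B = p ^ 2)
    (hvB : v ∈ Subgroup.centralizer (B : Set G))
    {r : ℕ} [hr : Fact r.Prime] (hrp : r ≠ p)
    (key : ∀ X : Subgroup G, IsPGroup r X → A ≤ Subgroup.normalizer (X : Set G) →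
      v ∈ Subgroup.normalizer (X : Set G) → X ≤ M)
    {R : Subgroup G} (hR : IsPGroup r R) (hRn : A ≤ Subgroup.normalizer (R : Set G)) : R ≤ M := by
  refine le_of_pieces hEe hEc (coprime_prime_of_isPGroup hr.out hp.out hrp hR) (hEA.trans hRn)
    fun B' hB' hB'c => ?_
  obtain ⟨c, ⟨hcB, hcB'⟩, hc1⟩ := exists_mem_inf_ne_one hEc hBE hB' hBc hB'c
  set C := Subgroup.centralizer ({c} : Set G) with hC
  have hCtop : C ≠ ⊤ := minSimple_centralizer_singleton_ne_top hG hc1
  have hAC : A ≤ C := fun a ha =>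
    Subgroup.mem_centralizer_singleton_iff.mpr (mul_comm_of_mem hAc ha (hEA (hB' hcB')))
  have hAB' : A ≤ Subgroup.centralizer (B' : Set G) := fun a ha =>
    Subgroup.mem_centralizer_iff.mpr fun x hx => mul_comm_of_mem hAc (hEA (hB' hx)) ha
  set Z := R ⊓ Subgroup.centralizer (B' : Set G) with hZ
  have hZp : IsPGroup r Z := hR.to_le inf_le_left
  have hZn : A ≤ Subgroup.normalizer (Z : Set G) :=
    le_normalizer_inf hRn (le_normalizer_centralizer hAB')
  have hvC : v ∈ C :=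
    Subgroup.mem_centralizer_singleton_iff.mpr (Subgroup.mem_centralizer_iff.mp hvB c hcB).symm
  have hvp : IsPGroup q (Subgroup.zpowers v) :=
    IsPGroup.of_card (n := 1) (by rw [Nat.card_zpowers, hv, pow_one])
  refine le_of_key hG hAp hA hM hqp hD hUq hv hvn hrp key (le_normalizer_core hAC)
    (primeCore_coprime hAp hA C)
    (inv_le_core hA hCtop hAC (Subgroup.zpowers_le.mpr hvC) hvn
      (piNat_primesNotDvd_of_isPGroup hq.out (not_dvd hAp hq.out hqp) hvp) (Subgroup.mem_zpowers v))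
    (inv_le_core hA hCtop hAC
      (inf_le_right.trans (Subgroup.centralizer_le (Set.singleton_subset_iff.mpr hcB'))) hZn
      (piNat_primesNotDvd_of_isPGroup hr.out (not_dvd hAp hr.out hrp) hZp))
    hZp hZn

end

end CfsgLib.OddOrder.CubeUnique
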