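import Mathlib
import Cfsg.Agent.Lib.OddOrder.CubeUniqueSweep

/-!
# Signalizer-free BG 9.5: the data attached to an invariant `q`-group of rank three

For a prime `q` at which some maximal subgroup containing `A` has a Fitting subgroup of rank three,
there are `M ∈ 𝓜`, an element `a` of `E` fixing all `A`-invariant `q`-groups with `C(a) ≤ M`, and
elements of order `q` with centralizer in `M` that are moved by the other elements of `E`.
-/

set_option autoImplicit false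

namespace CfsgLib.OddOrder.CubeUnique

open Subgroup CfsgLib.OddOrder CfsgLib.OddOrder.Transitivity
open scoped commutatorElement

universe u

variable {G : Type u} [Group G] [Finite G] {q : ℕ} [hq : Fact q.Prime]

theorem exists_cube_sup {W : Subgroup G} (hWe : Cfsg.IsElementaryAbelian q W) (hWc : Nat.card W = q ^ 2)
    {y : G} (hy : y ^ q = 1) (hyW : y ∉ W) (hyc : y ∈ Subgroup.centralizer (W : Set G)) :
    ∃ X : Subgroup G, Cfsg.IsElementaryAbelian q X ∧ Nat.card X = q ^ 3 ∧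
      W ≤ Subgroup.centralizer (X : Set G) := by
  have hXe := elemAb_sup_zpowers hWe hy hyc
  refine ⟨W ⊔ Subgroup.zpowers y, hXe, ?_, fun w hw => Subgroup.mem_centralizer_iff.mpr fun x hx =>
    elemAb_commute hXe hx (le_sup_left (b := Subgroup.zpowers y) hw)⟩
  rw [card_sup_zpowers_of_not_mem hXe le_sup_left (le_sup_right (a := W) (Subgroup.mem_zpowers y)) hyW,
    hWc, ← pow_succ]

theorem mem_zpowers_of_no_sq {P : Subgroup G} (hPc : IsMulCommutative P)
    (h : ∀ W : Subgroup G, W ≤ P → Cfsg.IsElementaryAbelian q W → Nat.card W ≠ q ^ 2)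
    {x y : G} (hx : x ∈ P) (hxo : orderOf x = q) (hy : y ∈ P) (hyq : y ^ q = 1) :
    y ∈ Subgroup.zpowers x := by
  by_contra hyx
  have hxe : Cfsg.IsElementaryAbelian q (Subgroup.zpowers x) :=
    elemAb_zpowers (hxo ▸ pow_orderOf_eq_one x)
  have hXe := elemAb_sup_zpowers hxe hyq (Subgroup.mem_centralizer_iff.mpr fun a ha =>
    mul_comm_of_mem hPc ((Subgroup.zpowers_le.mpr hx) ha) hy)
  refine h _ (sup_le (Subgroup.zpowers_le.mpr hx) (Subgroup.zpowers_le.mpr hy)) hXe ?_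
  rw [card_sup_zpowers_of_not_mem hXe le_sup_left
    (le_sup_right (a := Subgroup.zpowers x) (Subgroup.mem_zpowers y)) hyx, Nat.card_zpowers, hxo, pow_two]

theorem isCyclic_of_no_sq (hq2 : q ≠ 2) {P : Subgroup G} (hP : IsPGroup q P)
    (h : ∀ W : Subgroup G, W ≤ P → Cfsg.IsElementaryAbelian q W → Nat.card W ≠ q ^ 2) :
    IsCyclic P := by
  have h1 : Cfsg.PRankLE q 1 P := by
    by_contra hcon
    obtain ⟨W, hWP, hWe, hWc⟩ := not_pRankLE_subgroup_iff.mp hcon
    exact h W hWP hWe hWc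
  exact Isolated.isCyclic_of_small_abelian hq2 hP fun S hS hSe => by
    simpa using pRankLE_iff.mp h1 S ⟨hS, hSe⟩

/-- For a `q`-group `Q` of rank three with uniqueness cubes: the elementary abelian subgroups of order
`q ^ 2` of `T = Ω₁(Z₂(Q))` and of `C_Q(T)` are uniqueness subgroups, and cover the elements of order `q`. -/
theorem exists_layer (hG : Cfsg.IsMinSimpleOddOrder G) (hq2 : q ≠ 2) {Q : Subgroup G}
    (hQ : IsPGroup q Q) (hr : ¬ Cfsg.PRankLE q 2 Q)
    (hU : ∀ X : Subgroup G, Cfsg.IsElementaryAbelian q X → Nat.card X = q ^ 3 → Cfsg.InUniqueMaximal X) :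
    ∃ T : Subgroup G, T ≤ Q ∧ Subgroup.normalizer (Q : Set G) ≤ Subgroup.normalizer (T : Set G) ∧
      (∀ x ∈ T, x ^ q = 1) ∧
      (∃ W : Subgroup G, W ≤ T ∧ Cfsg.IsElementaryAbelian q W ∧ Nat.card W = q ^ 2) ∧
      ∀ X : Subgroup G, (X = T ∨ X = Q ⊓ Subgroup.centralizer (T : Set G)) →
        (∀ W : Subgroup G, W ≤ X → Cfsg.IsElementaryAbelian q W → Nat.card W = q ^ 2 →
          Cfsg.InUniqueMaximal W) ∧
        ∀ x ∈ X, x ^ q = 1 → x ≠ 1 → ∃ W : Subgroup G, Cfsg.IsElementaryAbelian q W ∧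
          Nat.card W = q ^ 2 ∧ x ∈ W ∧ W ≤ Q ∧ Cfsg.InUniqueMaximal W := by
  obtain ⟨T, hTQ, hTn, hTexp, hTc, hTcomm, W₀, hW₀T, hW₀e, hW₀c⟩ := exists_omegaTwo hq2 hQ hr
  obtain ⟨Y, hYQ, hYe, hYc⟩ := not_pRankLE_subgroup_iff.mp hr
  have hUW : ∀ {W : Subgroup G}, Cfsg.IsElementaryAbelian q W → Nat.card W = q ^ 2 →
      (∃ X : Subgroup G, Cfsg.IsElementaryAbelian q X ∧ Nat.card X = q ^ 3 ∧
        W ≤ Subgroup.centralizer (X : Set G)) → Cfsg.InUniqueMaximal W :=
    fun {W} hWe hWc ⟨X, hXe, hXc, hWX⟩ => Uniq.inUniqueMaximal_of_centralizes hG (hU X hXe hXc) hWX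
      (Uniq.not_rankLE_one_of_elemAb (k := 0) le_rfl hWe hWc)
  -- a central element of order `q`
  have hQne : Q ≠ ⊥ := fun h => by
    have h2 := Subgroup.card_le_of_le hYQ
    rw [h, hYc, Subgroup.card_bot] at h2
    exact absurd h2 (not_le.mpr (Nat.one_lt_pow three_ne_zero hq.out.one_lt))
  have : Nontrivial Q := (Subgroup.nontrivial_iff_ne_bot Q).mpr hQne
  obtain ⟨z', hz'⟩ : ∃ z : Subgroup.center Q, orderOf z = q := by
    refine exists_prime_orderOf_dvd_card' q ?_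
    obtain ⟨n, hn⟩ := (hQ.to_subgroup (Subgroup.center Q)).exists_card_eq
    exact hn ▸ dvd_pow_self q fun h0 => (ne_of_gt hQ.bot_lt_center)
      (Subgroup.card_eq_one.mp (by rw [hn, h0, pow_zero]))
  set z : G := ((z' : Q) : G) with hz
  have hzo : orderOf z = q := by rw [hz, Subgroup.orderOf_coe, Subgroup.orderOf_coe, hz']
  have hzQ : z ∈ Q := (z' : Q).2
  have hzC : z ∈ Subgroup.centralizer (Q : Set G) := Subgroup.mem_centralizer_iff.mpr fun g hg =>
    congrArg Subtype.val (Subgroup.mem_center_iff.mp z'.2 ⟨g, hg⟩)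
  have hzq : z ^ q = 1 := hzo ▸ pow_orderOf_eq_one z
  have hzT : z ∈ T := hTc z hzQ hzC hzq
  have hzK : z ∈ Q ⊓ Subgroup.centralizer (T : Set G) := ⟨hzQ, Subgroup.centralizer_le hTQ hzC⟩
  -- elementary subgroups of order `q ^ 2` inside `T`
  have hT2 : ∀ W : Subgroup G, W ≤ T → Cfsg.IsElementaryAbelian q W → Nat.card W = q ^ 2 →
      Cfsg.InUniqueMaximal W := by
    intro W hWT hWe hWc
    refine hUW hWe hWc ?_
    by_cases hWC : W ≤ Subgroup.centralizer (Q : Set G)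
    · exact ⟨Y, hYe, hYc, hWC.trans (Subgroup.centralizer_le hYQ)⟩
    by_cases hex : ∃ w ∈ Q ⊓ Subgroup.centralizer (Q : Set G), w ^ q = 1 ∧ w ∉ W
    · obtain ⟨w, hw, hwq, hwW⟩ := hex
      exact exists_cube_sup hWe hWc hwq hwW (Subgroup.centralizer_le (hWT.trans hTQ) hw.2)
    push Not at hex
    have hzW : z ∈ W := hex z ⟨hzQ, hzC⟩ hzq
    have hΩ : ∀ w ∈ Q ⊓ Subgroup.centralizer (Q : Set G), w ^ q = 1 → w ∈ Subgroup.zpowers z := by
      intro w hw hwq
      by_contra hwz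
      refine hWC ?_
      have hle : Subgroup.zpowers z ⊔ Subgroup.zpowers w ≤ W :=
        sup_le (Subgroup.zpowers_le.mpr hzW) (Subgroup.zpowers_le.mpr (hex w hw hwq))
      rw [← Subgroup.eq_of_le_of_card_ge hle (by
        rw [card_sup_zpowers_of_not_mem hWe (Subgroup.zpowers_le.mpr hzW) (hex w hw hwq) hwz,
          Nat.card_zpowers, hzo, hWc, pow_two])]
      exact sup_le (Subgroup.zpowers_le.mpr hzC) (Subgroup.zpowers_le.mpr hw.2)
    obtain ⟨x, hxW, hxC⟩ := SetLike.not_le_iff_exists.mp hWC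
    let f : ↥Y →* G :=
      { toFun := fun y => ⁅x, (y : G)⁆
        map_one' := by simp
        map_mul' := fun a b => by
          have h1 : ⁅x, (b : G)⁆ * a = a * ⁅x, (b : G)⁆ :=
            (Subgroup.mem_centralizer_iff.mp (hTcomm x (hWT hxW) b (hYQ b.2)).1.2 a (hYQ a.2)).symm
          calc ⁅x, ((a * b : ↥Y) : G)⁆ = ⁅x, (a : G)⁆ * (a * ⁅x, (b : G)⁆ * (a : G)⁻¹) := by
                rw [Subgroup.coe_mul, commutatorElement_def, commutatorElement_def, commutatorElement_def]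
                group
            _ = ⁅x, (a : G)⁆ * ⁅x, (b : G)⁆ := by rw [← h1, mul_inv_cancel_right] }
    have hfr : f.range ≤ Subgroup.zpowers z := by
      rintro _ ⟨y, rfl⟩
      obtain ⟨h1, h2⟩ := hTcomm x (hWT hxW) y (hYQ y.2)
      exact hΩ _ h1 h2
    set Y₀ : Subgroup G := f.ker.map Y.subtype with hY₀
    have hY₀c : q ^ 2 ≤ Nat.card Y₀ := by
      rw [hY₀, Subgroup.card_map_of_injective Y.subtype_injective]
      have h1 : Nat.card f.ker * Nat.card f.range = q ^ 3 := by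
        rw [← Subgroup.index_ker, Subgroup.card_mul_index, hYc]
      have h2 : Nat.card f.range ≤ q :=
        (Subgroup.card_le_of_le hfr).trans (by rw [Nat.card_zpowers, hzo])
      refine Nat.le_of_mul_le_mul_right ?_ hq.out.pos
      calc q ^ 2 * q = Nat.card f.ker * Nat.card f.range := by rw [h1]; ring
        _ ≤ Nat.card f.ker * q := Nat.mul_le_mul_left _ h2
    have hY₀x : ∀ y ∈ Y₀, x * y = y * x := by
      rintro _ ⟨y, hy, rfl⟩
      exact commutatorElement_eq_one_iff_mul_comm.mp hy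
    by_cases hle : Y₀ ≤ W
    · have he : Y₀ = W := Subgroup.eq_of_le_of_card_ge hle (hWc ▸ hY₀c)
      exact ⟨Y, hYe, hYc, he ▸ (Subgroup.map_subtype_le f.ker).trans fun y hy =>
        Subgroup.mem_centralizer_iff.mpr fun g hg => elemAb_commute hYe hg hy⟩
    · obtain ⟨y, hy, hyW⟩ := SetLike.not_le_iff_exists.mp hle
      have hyY : y ∈ Y := Subgroup.map_subtype_le f.ker hy
      refine exists_cube_sup hWe hWc (hYe.2 y hyY) hyW ?_
      have hxz : x ∉ Subgroup.zpowers z := fun h => hxC (Subgroup.zpowers_le.mpr hzC h)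
      have heW : Subgroup.zpowers z ⊔ Subgroup.zpowers x = W := Subgroup.eq_of_le_of_card_ge
        (sup_le (Subgroup.zpowers_le.mpr hzW) (Subgroup.zpowers_le.mpr hxW))
        (by rw [card_sup_zpowers_of_not_mem hWe (Subgroup.zpowers_le.mpr hzW) hxW hxz,
          Nat.card_zpowers, hzo, hWc, pow_two])
      rw [← Subgroup.zpowers_le, Subgroup.le_centralizer_iff, ← heW]
      refine sup_le (Subgroup.zpowers_le.mpr ?_) (Subgroup.zpowers_le.mpr ?_)
      · exact Subgroup.centralizer_le (Subgroup.zpowers_le.mpr (hYQ hyY)) hzC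
      · rw [Subgroup.mem_centralizer_iff]
        rintro _ ⟨i, rfl⟩
        exact (Commute.zpow_left (hY₀x y hy).symm i).eq
  -- elementary subgroups of order `q ^ 2` inside `C_Q(T)`
  have hK2 : ∀ W : Subgroup G, W ≤ Q ⊓ Subgroup.centralizer (T : Set G) →
      Cfsg.IsElementaryAbelian q W → Nat.card W = q ^ 2 → Cfsg.InUniqueMaximal W := by
    intro W hW hWe hWc
    by_cases hle : W₀ ≤ W
    · exact hT2 W ((Subgroup.eq_of_le_of_card_ge hle (hWc ▸ hW₀c.ge)) ▸ hW₀T) hWe hWc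
    obtain ⟨w, hw, hwW⟩ := SetLike.not_le_iff_exists.mp hle
    exact hUW hWe hWc (exists_cube_sup hWe hWc (hTexp w (hW₀T hw)) hwW
      (Subgroup.mem_centralizer_iff.mpr fun a ha =>
        (Subgroup.mem_centralizer_iff.mp (hW ha).2 w (hW₀T hw)).symm))
  refine ⟨T, hTQ, hTn, hTexp, ⟨W₀, hW₀T, hW₀e, hW₀c⟩, fun X hX => ?_⟩
  have hX2 : ∀ W : Subgroup G, W ≤ X → Cfsg.IsElementaryAbelian q W → Nat.card W = q ^ 2 →
      Cfsg.InUniqueMaximal W := by
    rcases hX with rfl | rfl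
    exacts [hT2, hK2]
  have hXQ : X ≤ Q := by rcases hX with rfl | rfl; exacts [hTQ, inf_le_left]
  have hzX : z ∈ X := by rcases hX with rfl | rfl; exacts [hzT, hzK]
  refine ⟨hX2, fun x hx hxq hx1 => ?_⟩
  have hxo : orderOf x = q := orderOf_eq_prime hxq hx1
  by_cases hxz : x ∈ Subgroup.zpowers z
  · -- `x` is central: adjoin an element of `W₀`
    have hxC : x ∈ Subgroup.centralizer (Q : Set G) := Subgroup.zpowers_le.mpr hzC hxz
    obtain ⟨w, hw, hwx⟩ : ∃ w ∈ W₀, w ∉ Subgroup.zpowers x := by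
      refine SetLike.not_le_iff_exists.mp fun h => ?_
      have h2 := Subgroup.card_le_of_le h
      rw [hW₀c, Nat.card_zpowers, hxo] at h2
      exact absurd h2 (not_le.mpr (lt_self_pow₀ hq.out.one_lt one_lt_two))
    have hxT : x ∈ T := Subgroup.zpowers_le.mpr hzT hxz
    have he := elemAb_sup_zpowers (elemAb_zpowers hxq) (hTexp w (hW₀T hw))
      (Subgroup.mem_centralizer_iff.mpr fun a ha =>
        (Subgroup.mem_centralizer_iff.mp (Subgroup.zpowers_le.mpr hxC ha) w (hTQ (hW₀T hw))).symm)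
    have hc : Nat.card ↥(Subgroup.zpowers x ⊔ Subgroup.zpowers w) = q ^ 2 := by
      rw [card_sup_zpowers_of_not_mem he le_sup_left
        (le_sup_right (a := Subgroup.zpowers x) (Subgroup.mem_zpowers w)) hwx, Nat.card_zpowers, hxo, pow_two]
    have hle : Subgroup.zpowers x ⊔ Subgroup.zpowers w ≤ T :=
      sup_le (Subgroup.zpowers_le.mpr hxT) (Subgroup.zpowers_le.mpr (hW₀T hw))
    exact ⟨_, he, hc, le_sup_left (b := Subgroup.zpowers w) (Subgroup.mem_zpowers x),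
      hle.trans hTQ, hT2 _ hle he hc⟩
  · have hzx : z ∉ Subgroup.zpowers x := fun h => hxz (zpowers_eq_of_mem (p := q) hxo h
      (fun h1 => hq.out.ne_one (by rw [← hzo, h1, orderOf_one])))
    have he := elemAb_sup_zpowers (elemAb_zpowers hxq) hzq (Subgroup.mem_centralizer_iff.mpr fun a ha =>
      Subgroup.mem_centralizer_iff.mp hzC a (Subgroup.zpowers_le.mpr (hXQ hx) ha))
    have hc : Nat.card ↥(Subgroup.zpowers x ⊔ Subgroup.zpowers z) = q ^ 2 := by
      rw [card_sup_zpowers_of_not_mem he le_sup_left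
        (le_sup_right (a := Subgroup.zpowers x) (Subgroup.mem_zpowers z)) hzx, Nat.card_zpowers, hxo, pow_two]
    have hle : Subgroup.zpowers x ⊔ Subgroup.zpowers z ≤ X :=
      sup_le (Subgroup.zpowers_le.mpr hx) (Subgroup.zpowers_le.mpr hzX)
    exact ⟨_, he, hc, le_sup_left (b := Subgroup.zpowers z) (Subgroup.mem_zpowers x),
      hle.trans hXQ, hX2 _ hle he hc⟩

section

variable {p : ℕ} [hp : Fact p.Prime] {A E : Subgroup G}

omit hq hp [Finite G] in
theorem core_le_centralizer {e : G} (he : e ∈ A) :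
    primeCore A (Subgroup.centralizer (A : Set G)) ≤ Subgroup.centralizer ({e} : Set G) :=
  (piCoreOf_le _ _).trans (Subgroup.centralizer_le (Set.singleton_subset_iff.mpr he))

omit hq in
/-- If all invariant `p'`-groups of prime power order lie in one maximal subgroup, `A` is a
uniqueness subgroup. -/
theorem inUniqueMaximal_of_all_le (hG : Cfsg.IsMinSimpleOddOrder G) (hAp : IsPGroup p A)
    (hA : Cfsg.TransitivityHypothesis A) {M : Subgroup G} (hM : IsCoatom M) (hAM : A ≤ M)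
    (h : ∀ r : ℕ, r.Prime → r ≠ p → ∀ R : Subgroup G, IsPGroup r R →
      A ≤ Subgroup.normalizer (R : Set G) → R ≤ M) : Cfsg.InUniqueMaximal A := by
  refine Uniq.inUniqueMaximal_of_inv_le hG hM hAM hAp hA.1 fun Y hY hn => ?_
  refine MaxFit.inv_le_of_forall_prime (minSimple_solvable hG (coprime_ne_top hAp hA hY))
    (coprime_card hAp hY) hn fun r hr hrY Z hZ hZn => h r hr ?_ Z hZ hZn
  rintro rfl
  exact hr.ne_one (Nat.eq_one_of_dvd_coprimes hY hrY dvd_rfl)

/-- The conclusion of this file. -/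
structure Datum (A E : Subgroup G) (p q : ℕ) (M : Subgroup G) (a : G) : Prop where
  ne : q ≠ p
  coatom : IsCoatom M
  le : A ≤ M
  mem : a ∈ E
  order : orderOf a = p
  cent_le : Subgroup.centralizer ({a} : Set G) ≤ M
  max_unique : ∀ Q ∈ Cfsg.maxInvSubgroups ⊤ A {q}, Cfsg.InUniqueMaximal Q ∧ Q ≤ M
  fixed : ∀ R : Subgroup G, IsPGroup q R → A ≤ Subgroup.normalizer (R : Set G) →
    R ≤ Subgroup.centralizer ({a} : Set G)
  moved : ∀ e ∈ E, e ∉ Subgroup.zpowers a → ∃ v : G, ∃ B : Subgroup G, B ≤ E ∧ Nat.card B = p ^ 2 ∧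
    v ∈ Subgroup.centralizer (B : Set G) ∧ orderOf v = q ∧
    A ≤ Subgroup.normalizer (Subgroup.zpowers v : Set G) ∧
    Subgroup.centralizer ({v} : Set G) ≤ M ∧ e * v ≠ v * e

theorem exists_datum (hG : Cfsg.IsMinSimpleOddOrder G) (hAp : IsPGroup p A) (hAc : IsMulCommutative A)
    (hA3 : ¬ Cfsg.PRankLE p 2 A) (hA : Cfsg.TransitivityHypothesis A)
    (hAU : ¬ Cfsg.InUniqueMaximal A) (hEA : E ≤ A) (hEe : Cfsg.IsElementaryAbelian p E)
    (hEc : Nat.card E = p ^ 3) {L : Subgroup G} (hL : IsCoatom L) (hAL : A ≤ L)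
    (hFL : ¬ Cfsg.PRankLE q 2 ↥(Cfsg.fittingOf L)) : ∃ M a, Datum A E p q M a := by
  have hqp : q ≠ p := by
    rintro rfl
    exact hAU (MaxFit.inUniqueMaximal_of_rank_three hG hL hFL hAp hA3)
  have hU : ∀ X : Subgroup G, Cfsg.IsElementaryAbelian q X → Nat.card X = q ^ 3 →
      Cfsg.InUniqueMaximal X := fun X hXe hXc => MaxFit.inUniqueMaximal_of_rank_three hG hL hFL
    (isPGroup_of_elemAb hXe) (not_pRankLE_subgroup_iff.mpr ⟨X, le_rfl, hXe, hXc⟩)
  have hEU : ¬ Cfsg.InUniqueMaximal E := fun h => hAU (Uniq.InUniqueMaximal.mono h hEA hA.2.1)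
  -- a maximal invariant `q`-group `Q` and its maximal subgroup
  obtain ⟨X, hXF, hXe, hXc⟩ := not_pRankLE_subgroup_iff.mp hFL
  obtain ⟨Q, hQ, hOQ⟩ := exists_max_ge
    (mem_inv_iff.mpr ⟨opCore_isPGroup q L, hAL.trans (opCore_normal q L)⟩)
  obtain ⟨hQp, hQn⟩ := mem_inv_iff.mp hQ.1
  have hXQ : X ≤ Q := (le_opCore_of_le_fittingOf hXF (isPGroup_of_elemAb hXe)).trans hOQ
  have hQr : ¬ Cfsg.PRankLE q 2 Q := not_pRankLE_subgroup_iff.mpr ⟨X, hXQ, hXe, hXc⟩
  have hQtop := minSimple_pgroup_ne_top hG hQp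
  have hQU : Cfsg.InUniqueMaximal Q := Uniq.InUniqueMaximal.mono (hU X hXe hXc) hXQ hQtop
  have hQne : Q ≠ ⊥ := Uniq.InUniqueMaximal.ne_bot hG hQU
  have hq2 : q ≠ 2 := Uniq.prime_ne_two hG hQp hQne
  obtain ⟨M, ⟨hM, hQM⟩, -⟩ := id hQU
  have hover : ∀ H : Subgroup G, H ≠ ⊤ → Q ≤ H → H ≤ M := fun H h1 h2 => by
    obtain ⟨L', hL', hle⟩ := exists_isCoatom_ge h1
    exact Uniq.InUniqueMaximal.eq hQU hM hQM hL' (h2.trans hle) ▸ hle
  have hAM : A ≤ M :=
    hQn.trans (hover _ (minSimple_normalizer_ne_top hG hQne hQtop) Subgroup.le_normalizer)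
  obtain ⟨T, hTQ, hTn, hTexp, ⟨W₀, hW₀T, hW₀e, hW₀c⟩, hlay⟩ := exists_layer hG hq2 hQp hQr hU
  set K := Q ⊓ Subgroup.centralizer (T : Set G) with hK
  obtain ⟨hT2, hT1⟩ := hlay T (Or.inl rfl)
  obtain ⟨hK2, hK1⟩ := hlay K (Or.inr rfl)
  have hTA : A ≤ Subgroup.normalizer (T : Set G) := hQn.trans hTn
  have hKA : A ≤ Subgroup.normalizer (K : Set G) :=
    le_normalizer_inf hQn (hTA.trans (normalizer_centralizer_le T))
  -- centralizers of elements of order `q` lie in `M`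
  have hcv : ∀ {v : G}, v ≠ 1 → (∃ W : Subgroup G, Cfsg.IsElementaryAbelian q W ∧ Nat.card W = q ^ 2 ∧
      v ∈ W ∧ W ≤ Q ∧ Cfsg.InUniqueMaximal W) → Subgroup.centralizer ({v} : Set G) ≤ M := by
    rintro v hv1 ⟨W, hWe, -, hvW, hWQ, hWU⟩
    obtain ⟨L', hL', hle⟩ := exists_isCoatom_ge (minSimple_centralizer_singleton_ne_top hG hv1)
    exact Uniq.InUniqueMaximal.eq hWU hM (hWQ.trans hQM) hL'
      (le_trans (fun w hw => Subgroup.mem_centralizer_singleton_iff.mpr (elemAb_commute hWe hw hvW)) hle) ▸ hle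
  -- hyperplane pieces
  have hpiece : ∀ {Y B : Subgroup G}, Y ≤ Q →
      (∀ W : Subgroup G, W ≤ Y → Cfsg.IsElementaryAbelian q W → Nat.card W = q ^ 2 →
        Cfsg.InUniqueMaximal W) → B ≤ E → Nat.card B = p ^ 2 →
      ∀ W : Subgroup G, W ≤ Y ⊓ Subgroup.centralizer (B : Set G) →
        Cfsg.IsElementaryAbelian q W → Nat.card W ≠ q ^ 2 := by
    intro Y B hYQ hY2 hB hBc W hW hWe hWc
    have hWU := hY2 W (hW.trans inf_le_left) hWe hWc
    have hWM : W ≤ M := (hW.trans inf_le_left).trans (hYQ.trans hQM)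
    have hBe := elemAb_mono hEe hB
    refine hEU (Uniq.InUniqueMaximal.mono (Uniq.inUniqueMaximal_of_centralizers_le hG hM
      (hB.trans (hEA.trans hAM)) hBe ((elemAb_not_isCyclic_iff hBe).mpr hBc.ge) fun b hb hb1 => ?_) hB
      (minSimple_pgroup_ne_top hG (isPGroup_of_elemAb hEe)))
    obtain ⟨L', hL', hle⟩ := exists_isCoatom_ge (minSimple_centralizer_singleton_ne_top hG hb1)
    exact Uniq.InUniqueMaximal.eq hWU hM hWM hL'
      (((hW.trans inf_le_right).trans (Subgroup.centralizer_le (Set.singleton_subset_iff.mpr hb))).trans hle) ▸ hle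
  have hcomm : ∀ {P : Subgroup G}, P ≤ Q →
      (∀ W : Subgroup G, W ≤ P → Cfsg.IsElementaryAbelian q W → Nat.card W ≠ q ^ 2) →
      IsMulCommutative P := fun {P} hPQ h => by
    have := isCyclic_of_no_sq hq2 (hQp.to_le hPQ) h
    infer_instance
  have hinv : ∀ {Y B : Subgroup G}, Y ≤ Q → A ≤ Subgroup.normalizer (Y : Set G) →
      (∀ W : Subgroup G, W ≤ Y → Cfsg.IsElementaryAbelian q W → Nat.card W = q ^ 2 →
        Cfsg.InUniqueMaximal W) → B ≤ E → Nat.card B = p ^ 2 →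
      ∀ {v : G}, v ∈ Y ⊓ Subgroup.centralizer (B : Set G) → orderOf v = q →
        A ≤ Subgroup.normalizer (Subgroup.zpowers v : Set G) := by
    intro Y B hYQ hYn hY2 hB hBc v hv hvo a ha
    have hno := hpiece hYQ hY2 hB hBc
    have hPn : A ≤ Subgroup.normalizer ((Y ⊓ Subgroup.centralizer (B : Set G) : Subgroup G) : Set G) :=
      le_normalizer_inf hYn (le_normalizer_centralizer fun x hx => Subgroup.mem_centralizer_iff.mpr
        fun y hy => mul_comm_of_mem hAc (hEA (hB hy)) hx)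
    refine mem_normalizer_of_cj_eq (Subgroup.eq_of_le_of_card_ge ?_ (card_cj a _).ge)
    rw [Transitivity.cj, MonoidHom.map_zpowers, Subgroup.zpowers_le]
    refine mem_zpowers_of_no_sq (hcomm (inf_le_left.trans hYQ) hno) hno hv hvo
      ((Subgroup.mem_normalizer_iff.mp (hPn ha) v).mp hv) ?_
    change (a * v * a⁻¹) ^ q = 1
    rw [conj_pow, ← hvo, pow_orderOf_eq_one, mul_one, mul_inv_cancel]
  have hTnsq : ∀ {v : G}, orderOf v = q → ¬ T ≤ Subgroup.zpowers v := fun {v} hvo h => by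
    have h2 := Subgroup.card_le_of_le (hW₀T.trans h)
    rw [hW₀c, Nat.card_zpowers, hvo] at h2
    exact absurd h2 (not_le.mpr (lt_self_pow₀ hq.out.one_lt one_lt_two))
  have hTpiece : ∀ {B : Subgroup G}, B ≤ E → Nat.card B = p ^ 2 → ∀ {v : G},
      v ∈ T ⊓ Subgroup.centralizer (B : Set G) → orderOf v = q →
      T ⊓ Subgroup.centralizer (B : Set G) ≤ Subgroup.zpowers v := fun {B} hB hBc v hv hvo y hy =>
    mem_zpowers_of_no_sq (hcomm (inf_le_left.trans hTQ) (hpiece hTQ hT2 hB hBc)) (hpiece hTQ hT2 hB hBc)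
      hv hvo hy (hTexp y hy.1)
  -- two pieces of `T`
  have hTcop : (Nat.card T).Coprime p :=
    coprime_prime_of_isPGroup hq.out hp.out hqp (hQp.to_le hTQ)
  obtain ⟨B₁, hB₁, hB₁c, v₁, hv₁, hv₁o⟩ : ∃ B₁ : Subgroup G, B₁ ≤ E ∧ Nat.card B₁ = p ^ 2 ∧
      ∃ v, v ∈ T ⊓ Subgroup.centralizer (B₁ : Set G) ∧ orderOf v = q := by
    by_contra hcon
    push Not at hcon
    have hTb : T ≤ ⊥ := le_of_pieces hEe hEc hTcop (hEA.trans hTA) fun B hB hBc x hx => by
      refine Subgroup.mem_bot.mpr (by_contra fun hx1 => ?_)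
      exact hcon B hB hBc x hx (orderOf_eq_prime (hTexp x hx.1) hx1)
    have h2 := Subgroup.card_le_of_le (hW₀T.trans hTb)
    rw [hW₀c, Subgroup.card_bot] at h2
    exact absurd h2 (not_le.mpr (Nat.one_lt_pow two_ne_zero hq.out.one_lt))
  obtain ⟨B₂, hB₂, hB₂c, v₂, hv₂, hv₂o, hv₂₁⟩ : ∃ B₂ : Subgroup G, B₂ ≤ E ∧ Nat.card B₂ = p ^ 2 ∧
      ∃ v, v ∈ T ⊓ Subgroup.centralizer (B₂ : Set G) ∧ orderOf v = q ∧ v ∉ Subgroup.zpowers v₁ := by
    by_contra hcon
    push Not at hcon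
    refine hTnsq hv₁o (le_of_pieces hEe hEc hTcop (hEA.trans hTA) fun B hB hBc x hx => ?_)
    by_cases hx1 : x = 1
    · exact hx1 ▸ Subgroup.one_mem _
    exact hcon B hB hBc x hx (orderOf_eq_prime (hTexp x hx.1) hx1)
  have hfix : ∀ {B : Subgroup G}, B ≤ E → Nat.card B = p ^ 2 → ∀ {v : G},
      v ∈ T ⊓ Subgroup.centralizer (B : Set G) → orderOf v = q →
      E ⊓ Subgroup.centralizer ({v} : Set G) = B := by
    intro B hB hBc v hv hvo
    have hle : B ≤ E ⊓ Subgroup.centralizer ({v} : Set G) := le_inf hB fun b hb =>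
      Subgroup.mem_centralizer_singleton_iff.mpr (Subgroup.mem_centralizer_iff.mp hv.2 b hb)
    have hne : ¬ E ≤ Subgroup.centralizer ({v} : Set G) := fun hEv => by
      refine hTnsq hvo (le_of_pieces hEe hEc hTcop (hEA.trans hTA) fun B' hB' hB'c x hx => ?_)
      exact hTpiece hB' hB'c ⟨hv.1, Subgroup.mem_centralizer_iff.mpr fun b hb =>
        Subgroup.mem_centralizer_singleton_iff.mp (hEv (hB' hb))⟩ hvo hx
    refine (Subgroup.eq_of_le_of_card_ge hle ?_).symm
    obtain ⟨k, hk3, hk⟩ := (Nat.dvd_prime_pow hp.out).mp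
      (hEc ▸ Subgroup.card_dvd_of_le (inf_le_left : E ⊓ Subgroup.centralizer ({v} : Set G) ≤ E))
    rw [hk, hBc]
    refine Nat.pow_le_pow_right hp.out.pos ?_
    by_contra hk2
    have hk3' : k = 3 := by omega
    refine hne (inf_eq_left.mp (Subgroup.eq_of_le_of_card_ge inf_le_left ?_))
    rw [hEc, hk, hk3']
  obtain ⟨b, ⟨hb₁, hb₂⟩, hb1⟩ := exists_mem_inf_ne_one hEc hB₁ hB₂ hB₁c hB₂c
  have hbE : b ∈ E := hB₁ hb₁
  have hbo : orderOf b = p := orderOf_eq_prime (hEe.2 b hbE) hb1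
  -- `C(b) ≤ M`
  have hCb : Subgroup.centralizer ({b} : Set G) ≤ M := by
    set P := T ⊓ Subgroup.centralizer ({b} : Set G) with hP
    obtain ⟨W, hWP, hWe, hWc⟩ : ∃ W : Subgroup G, W ≤ P ∧ Cfsg.IsElementaryAbelian q W ∧ Nat.card W = q ^ 2 := by
      by_contra hcon
      push Not at hcon
      have hmem : ∀ {B : Subgroup G}, b ∈ B → ∀ {v : G}, v ∈ T ⊓ Subgroup.centralizer (B : Set G) → v ∈ P :=
        fun {B} hbB {v} hv => ⟨hv.1, Subgroup.mem_centralizer_singleton_iff.mpr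
          (Subgroup.mem_centralizer_iff.mp hv.2 b hbB).symm⟩
      exact hv₂₁ (mem_zpowers_of_no_sq (hcomm (inf_le_left.trans hTQ) hcon) hcon (hmem hb₁ hv₁) hv₁o
        (hmem hb₂ hv₂) (hTexp v₂ hv₂.1))
    obtain ⟨L', hL', hle⟩ := exists_isCoatom_ge (minSimple_centralizer_singleton_ne_top hG hb1)
    exact Uniq.InUniqueMaximal.eq (hT2 W (hWP.trans inf_le_left) hWe hWc) hM
      ((hWP.trans inf_le_left).trans (hTQ.trans hQM)) hL' ((hWP.trans inf_le_right).trans hle) ▸ hle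
  have hDM : primeCore A (Subgroup.centralizer (A : Set G)) ≤ M :=
    (core_le_centralizer (hEA hbE)).trans hCb
  have hZ : ¬ Cfsg.RankLE 2 ↥(A ⊓ Subgroup.centralizer (A : Set G)) := by
    rw [inf_eq_left.mpr (fun x hx => Subgroup.mem_centralizer_iff.mpr fun y hy =>
      mul_comm_of_mem hAc hy hx)]
    exact fun h => hA3 (h p hp.out)
  have hUq : ∀ Qm ∈ Cfsg.maxInvSubgroups ⊤ A {q}, Cfsg.InUniqueMaximal Qm ∧ Qm ≤ M := by
    intro Qm hQm
    obtain ⟨k, hk, rfl⟩ := conj_of_center_rank_three hG hA hZ (not_dvd hAp hq.out hqp) hQ hQm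
    exact ⟨Uniq.InUniqueMaximal.cj hQU k,
      (cj_mono hQM).trans (cj_eq_of_mem_normalizer (Subgroup.le_normalizer (hDM hk))).le⟩
  -- `b` centralizes every admissible element of order `q`
  have hstill : ∀ (v : G) (B : Subgroup G), B ≤ E → Nat.card B = p ^ 2 →
      v ∈ Subgroup.centralizer (B : Set G) → orderOf v = q →
      A ≤ Subgroup.normalizer (Subgroup.zpowers v : Set G) →
      Subgroup.centralizer ({v} : Set G) ≤ M → b * v = v * b := by
    intro v B hB hBc hvB hvo hvn hCv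
    by_contra hne
    refine hAU (inUniqueMaximal_of_all_le hG hAp hA hM hAM fun r hr hrp R hR hRn => ?_)
    have := Fact.mk hr
    by_cases hrq : r = q
    · subst hrq
      obtain ⟨Qm, hQm, hle⟩ := exists_max_ge (mem_inv_iff.mpr ⟨hR, hRn⟩)
      exact hle.trans (hUq Qm hQm).2
    exact inv_le_of_key hG hAp hA hM hqp hDM hUq hAc hEA hEe hEc hvo hvn hB hBc hvB hrp
      (fun X hX hXn hvX => le_of_frobenius hrp hrq hqp hX hvo hbo (hvn (hEA hbE)) hne hvX
        (hXn (hEA hbE)) hCv hCb) hR hRn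
  have hQb : Q ≤ Subgroup.centralizer ({b} : Set G) := by
    have hcopb : (Nat.card (Subgroup.zpowers b)).Coprime q := by
      rw [Nat.card_zpowers, hbo]
      exact (Nat.coprime_primes hp.out hq.out).mpr hqp.symm
    have hXb : ∀ Y : Subgroup G, Y ≤ Q → A ≤ Subgroup.normalizer (Y : Set G) →
        (∀ W : Subgroup G, W ≤ Y → Cfsg.IsElementaryAbelian q W → Nat.card W = q ^ 2 →
          Cfsg.InUniqueMaximal W) →
        (∀ x ∈ Y, x ^ q = 1 → x ≠ 1 → ∃ W : Subgroup G, Cfsg.IsElementaryAbelian q W ∧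
          Nat.card W = q ^ 2 ∧ x ∈ W ∧ W ≤ Q ∧ Cfsg.InUniqueMaximal W) →
        Y ≤ Subgroup.centralizer ({b} : Set G) := by
      intro Y hYQ hYn hY2 hY1
      refine le_of_pieces hEe hEc (coprime_prime_of_isPGroup hq.out hp.out hqp (hQp.to_le hYQ))
        (hEA.trans hYn) fun B hB hBc => ?_
      have hAB : A ≤ Subgroup.centralizer (B : Set G) := fun x hx => Subgroup.mem_centralizer_iff.mpr
        fun y hy => mul_comm_of_mem hAc (hEA (hB hy)) hx
      have hPn : A ≤ Subgroup.normalizer ((Y ⊓ Subgroup.centralizer (B : Set G) : Subgroup G) : Set G) :=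
        le_normalizer_inf hYn (le_normalizer_centralizer hAB)
      refine le_trans (Subgroup.le_centralizer_iff.mp
        (OddOrder41.le_centralizer_of_fixes_order_p q hq2 (Y ⊓ Subgroup.centralizer (B : Set G)) ⊥
          (Subgroup.zpowers b) (hQp.to_le (inf_le_left.trans hYQ)) bot_le
          ⟨inferInstance, fun x hx => by rw [Subgroup.mem_bot.mp hx, one_pow]⟩
          (Subgroup.zpowers_le.mpr (hPn (hEA hbE))) hcopb fun x hx hxo => ?_))
        (Subgroup.centralizer_le (Set.singleton_subset_iff.mpr (Subgroup.mem_zpowers b)))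
      have hxP : x ∈ Y ⊓ Subgroup.centralizer (B : Set G) := hx.1
      have hx1 : x ≠ 1 := fun h => hq.out.ne_one (by rw [← hxo, h, orderOf_one])
      rw [Subgroup.zpowers_le, Subgroup.mem_centralizer_singleton_iff]
      exact hstill x B hB hBc hxP.2 hxo (hinv hYQ hYn hY2 hB hBc hxP hxo)
        (hcv hx1 (hY1 x hxP.1 (hxo ▸ pow_orderOf_eq_one x) hx1))
    have hTb := hXb T hTQ hTA hT2 hT1
    have hKb := hXb K inf_le_left hKA hK2 hK1
    refine le_trans (Subgroup.le_centralizer_iff.mp (OddOrder41.le_centralizer_of_centralizer_fixed_le Q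
      (Subgroup.zpowers b) hQp.isNilpotent (Subgroup.zpowers_le.mpr (hQn (hEA hbE))) ?_ ?_))
      (Subgroup.centralizer_le (Set.singleton_subset_iff.mpr (Subgroup.mem_zpowers b)))
    · obtain ⟨n, hn⟩ := hQp.exists_card_eq
      rw [hn]
      exact hcopb.pow_right n
    · have hcb : ∀ {g : G}, g ∈ Subgroup.centralizer ({b} : Set G) →
          g ∈ Subgroup.centralizer (Subgroup.zpowers b : Set G) := fun {g} hg => by
        rw [← Subgroup.zpowers_le, Subgroup.le_centralizer_iff, Subgroup.zpowers_le]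
        refine Subgroup.mem_centralizer_iff.mpr ?_
        rintro _ ⟨i, rfl⟩
        exact (Commute.zpow_left (Subgroup.mem_centralizer_singleton_iff.mp hg) i).eq
      have hTle : T ≤ Q ⊓ Subgroup.centralizer (Subgroup.zpowers b : Set G) :=
        fun t ht => ⟨hTQ ht, hcb (hTb ht)⟩
      exact fun x hx => ⟨hx.1, hcb (hKb ⟨hx.1, Subgroup.centralizer_le hTle hx.2⟩)⟩
  refine ⟨M, b, hqp, hM, hAM, hbE, hbo, hCb, hUq, fun R hR hRn => ?_, fun e he hea => ?_⟩
  · obtain ⟨Qm, hQm, hle⟩ := exists_max_ge (mem_inv_iff.mpr ⟨hR, hRn⟩)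
    obtain ⟨k, hk, rfl⟩ := conj_of_center_rank_three hG hA hZ (not_dvd hAp hq.out hqp) hQ hQm
    exact hle.trans ((cj_mono hQb).trans
      (cj_eq_of_mem_normalizer (Subgroup.le_normalizer (core_le_centralizer (hEA hbE) hk))).le)
  · by_cases h1 : e * v₁ = v₁ * e
    · refine ⟨v₂, B₂, hB₂, hB₂c, hv₂.2, hv₂o, hinv hTQ hTA hT2 hB₂ hB₂c hv₂ hv₂o,
        hcv (fun h => hq.out.ne_one (by rw [← hv₂o, h, orderOf_one]))
          (hT1 v₂ hv₂.1 (hTexp _ hv₂.1) fun h => hq.out.ne_one (by rw [← hv₂o, h, orderOf_one])),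
        fun h2 => hea ?_⟩
      have he1 : e ∈ B₁ := (hfix hB₁ hB₁c hv₁ hv₁o).le ⟨he, Subgroup.mem_centralizer_singleton_iff.mpr h1⟩
      have he2 : e ∈ B₂ := (hfix hB₂ hB₂c hv₂ hv₂o).le ⟨he, Subgroup.mem_centralizer_singleton_iff.mpr h2⟩
      have hB12 : B₁ ⊓ B₂ ≤ Subgroup.zpowers b := by
        have hle : Subgroup.zpowers b ≤ B₁ ⊓ B₂ := Subgroup.zpowers_le.mpr ⟨hb₁, hb₂⟩
        refine (Subgroup.eq_of_le_of_card_ge hle ?_).ge
        obtain ⟨k, hk2, hk⟩ := (Nat.dvd_prime_pow hp.out).mp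
          (hB₁c ▸ Subgroup.card_dvd_of_le (inf_le_left : B₁ ⊓ B₂ ≤ B₁))
        rw [hk, Nat.card_zpowers, hbo]
        refine le_trans (Nat.pow_le_pow_right hp.out.pos ?_) (pow_one p).le
        by_contra hk1
        have hk2' : k = 2 := by omega
        have h12 : B₁ ⊓ B₂ = B₁ := Subgroup.eq_of_le_of_card_ge inf_le_left (by rw [hB₁c, hk, hk2'])
        have hB : B₁ = B₂ := Subgroup.eq_of_le_of_card_ge (inf_eq_left.mp h12) (by rw [hB₁c, hB₂c])
        exact hv₂₁ (hTpiece hB₁ hB₁c hv₁ hv₁o (hB ▸ hv₂))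
      exact hB12 ⟨he1, he2⟩
    · exact ⟨v₁, B₁, hB₁, hB₁c, hv₁.2, hv₁o, hinv hTQ hTA hT2 hB₁ hB₁c hv₁ hv₁o,
        hcv (fun h => hq.out.ne_one (by rw [← hv₁o, h, orderOf_one]))
          (hT1 v₁ hv₁.1 (hTexp _ hv₁.1) fun h => hq.out.ne_one (by rw [← hv₁o, h, orderOf_one])), h1⟩

end

end CfsgLib.OddOrder.CubeUnique
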