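import Mathlib
import Cfsg.Agent.Lib.Techniques.Control
import Cfsg.Agent.Lib.Techniques.Failure
import Cfsg.Agent.Lib.Transfer.Basic
import Cfsg.Agent.Lib.OddOrder.SylowOf
import Cfsg.Agent.Lib.OddOrder.MinSimple

/-!
# `Z(J(P))` controls fusion in a minimal simple group of odd order
-/

set_option autoImplicit false

namespace CfsgLib.OddOrder.ZJFusion

open Subgroup CfsgLib.OddOrder CfsgLib.Techniques.Fusion

universe u

/-- The functor `Q ↦ Z(J(Q))`. -/
def zjFun (Q : Type u) [Group Q] : Subgroup Q := PLocal.zj 0 (⊤ : Subgroup Q)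

theorem inducedFunctor_zjFun {G : Type u} [Group G] (P : Subgroup G) :
    Cfsg.inducedFunctor (G := G) zjFun P = PLocal.zj 0 P := by
  change (PLocal.zj 0 (⊤ : Subgroup P)).map P.subtype = PLocal.zj 0 P
  rw [← PLocal.zj_map P.subtype_injective, PLocal.map_subtype_top]

theorem zjFun_isCharPFunctor {p : ℕ} [Fact p.Prime] : Cfsg.IsCharPFunctor.{u} p zjFun := by
  refine ⟨fun Q _ _ hQ hnt => zj_ne_bot (hQ.to_subgroup ⊤) ?_, fun Q R _ _ _ hQ φ => ?_⟩
  · exact (Subgroup.nontrivial_iff_ne_bot _).mp (Equiv.nontrivial (Subgroup.topEquiv (G := Q)).toEquiv)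
  · rw [zjFun, zjFun, ← PLocal.zj_map φ.injective, Subgroup.map_top_of_surjective φ.toMonoidHom φ.surjective]

variable {G : Type u} [Group G] [Finite G] {p : ℕ} [Fact p.Prime]

/-- The normalizer of `Z(J(P))` controls strong fusion in `P`. -/
theorem fusCtrl (hG : Cfsg.IsMinSimpleOddOrder G) (hp2 : p ≠ 2) :
    FusCtrl p ({zjFun} : Set (∀ (Q : Type u) [Group Q], Subgroup Q)) G := by
  have h𝓦 : ∀ V ∈ ({zjFun} : Set (∀ (Q : Type u) [Group Q], Subgroup Q)),
      Cfsg.IsCharPFunctor.{u} p V := fun V hV => by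
    obtain rfl := hV; exact zjFun_isCharPFunctor
  refine fusCtrl_of_constrained h𝓦 (fun X _ _ hX hc => ?_) G IsSectionOf.refl
  have hodd : Odd (Nat.card X) ∧ Group.IsSolvable X := by
    obtain ⟨K, f, hf⟩ := id hX
    refine ⟨Odd.of_dvd_nat (minSimple_odd hG K) (Subgroup.card_dvd_of_surjective f hf), ?_⟩
    by_cases hK : K = ⊤
    · subst hK
      have hs := minSimple_isSimple hG
      set g : G →* X := f.comp Subgroup.topEquiv.symm.toMonoidHom with hg
      have hgs : Function.Surjective g := hf.comp Subgroup.topEquiv.symm.surjective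
      rcases minSimple_eq_bot_or_top hG (inferInstance : g.ker.Normal) with h | h
      · exfalso
        let e : G ≃* X := MulEquiv.ofBijective g ⟨(MonoidHom.ker_eq_bot_iff g).mp h, hgs⟩
        have hcG := constrained_of_mulEquiv e.symm hc
        have hO : Cfsg.pCore p G = ⊥ := by
          refine (minSimple_eq_bot_or_top hG inferInstance).resolve_right (fun ht => ?_)
          exact minSimple_pgroup_ne_top hG (PCore.pCore_isPGroup (p := p) (G := G)) ht
        rw [hO] at hcG
        refine minSimple_not_solvable hG ?_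
        have h1 : Subgroup.centralizer ((⊥ : Subgroup G) : Set G) = ⊤ := by simp
        rw [h1, top_le_iff] at hcG
        have : Subsingleton G := (Subgroup.subsingleton_iff (G := G)).mp (subsingleton_of_bot_eq_top hcG)
        infer_instance
      · have : Subsingleton X := ⟨fun a b => by
          obtain ⟨a', rfl⟩ := hgs a
          obtain ⟨b', rfl⟩ := hgs b
          rw [MonoidHom.mem_ker.mp (h.ge (Subgroup.mem_top a')), MonoidHom.mem_ker.mp (h.ge (Subgroup.mem_top b'))]⟩
        infer_instance
    · have := minSimple_solvable hG hK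
      exact Group.isSolvable_of_surjective hf
  obtain ⟨hodd, hsol⟩ := hodd
  intro S D h _ _ hh
  have hn : (Cfsg.inducedFunctor (G := X) zjFun (S : Subgroup X)).Normal := by
    rw [inducedFunctor_zjFun]
    exact PLocal.zj_normal hp2 (Or.inl rfl) hc (fun V _ hV => isPStableOn_of_odd hodd V hV) S
  refine chain_step (Ms := stepGroups {zjFun} (S : Subgroup X)) ⟨zjFun, rfl, rfl⟩ ?_ hh
  simp only [Subgroup.normalizer_eq_top]
  exact Subgroup.mem_top h

/-- Conjugation into `P` is realized in the normalizer of `Z(J(P))`. -/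
theorem exists_conj (hG : Cfsg.IsMinSimpleOddOrder G) (hp2 : p ≠ 2) (P : Sylow p G) {D : Subgroup G}
    (hD : D ≤ (P : Subgroup G)) {g : G}
    (hg : D.map (MulAut.conj g).toMonoidHom ≤ (P : Subgroup G)) :
    ∃ n ∈ Subgroup.normalizer (PLocal.zj 0 (P : Subgroup G) : Set G),
      ∀ a ∈ D, n * a * n⁻¹ = g * a * g⁻¹ := by
  have hc := fusCtrl hG hp2 P D g (Subgroup.mem_top _) hD hg
  rw [stepGroups, Set.image_singleton, inducedFunctor_zjFun] at hc
  obtain ⟨x, hx, hx'⟩ := hc.exists_mem
  exact ⟨x, hx, fun a ha => hx' a ha⟩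

/-- Every Sylow subgroup lies in the derived group of the normalizer of its `Z(J)`. -/
theorem le_commutator_normalizer_zj (hG : Cfsg.IsMinSimpleOddOrder G) (hp2 : p ≠ 2) (P : Sylow p G) :
    (P : Subgroup G) ≤ ⁅Subgroup.normalizer (PLocal.zj 0 (P : Subgroup G) : Set G),
      Subgroup.normalizer (PLocal.zj 0 (P : Subgroup G) : Set G)⁆ := by
  set K := Subgroup.normalizer (PLocal.zj 0 (P : Subgroup G) : Set G)
  have h := Transfer.commutator_inf_eq_of_controls P (K := K) (PLocal.le_normalizer_zj 0 _)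
    fun x hx g hg => by
      obtain ⟨n, hn, he⟩ := exists_conj hG hp2 P (D := Subgroup.zpowers x) (g := g)
        (Subgroup.zpowers_le.mpr hx) (by
          rw [MonoidHom.map_zpowers, Subgroup.zpowers_le]; exact hg)
      exact ⟨n, hn, he x (Subgroup.mem_zpowers x)⟩
  have htop : commutator G = ⊤ :=
    (minSimple_eq_bot_or_top hG (inferInstance : (commutator G).Normal)).resolve_left fun hb =>
      minSimple_not_comm hG ⟨⟨fun a b => commutatorElement_eq_one_iff_mul_comm.mp
        (Subgroup.mem_bot.mp (hb ▸ Subgroup.commutator_mem_commutator (Subgroup.mem_top a) (Subgroup.mem_top b)))⟩⟩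
  rw [htop, top_inf_eq] at h
  exact h.le.trans inf_le_left

end CfsgLib.OddOrder.ZJFusion
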