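import Mathlib
import Cfsg.Agent.Lib.OddOrder.CubeUniqueData
import Cfsg.Agent.Lib.OddOrder.ZJFusion
import Cfsg.Agent.Lib.OddOrder41.RankTwoFitting

/-!
# BG 9.5, 9.6: the uniqueness theorem, without signalizer functors
-/

set_option autoImplicit false

namespace CfsgLib.OddOrder.CubeUnique

open Subgroup CfsgLib.OddOrder CfsgLib.OddOrder.Transitivity
open scoped commutatorElement

universe u

variable {G : Type u} [Group G] [Finite G] {p : ℕ} [hp : Fact p.Prime]

omit hp in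
/-- For rank two at all primes in `F(L)`, the derived group lies in the Fitting subgroup. -/
theorem derived_le_fittingOf (hG : Cfsg.IsMinSimpleOddOrder G) {L : Subgroup G} (hL : L ≠ ⊤)
    (h : Cfsg.RankLE 2 ↥(Cfsg.fittingOf L)) : ⁅L, L⁆ ≤ Cfsg.fittingOf L := by
  have := minSimple_solvable hG hL
  have h2 := OddOrder41.derived_le_fitting (minSimple_odd hG L) fun q hq =>
    (PRankLE.congr ((Cfsg.fittingSubgroup ↥L).equivMapOfInjective L.subtype L.subtype_injective)).mpr (h q hq)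
  rw [← Subgroup.map_subtype_commutator]
  exact Subgroup.map_mono h2

theorem inUniqueMaximal_of_hypothesis (hG : Cfsg.IsMinSimpleOddOrder G) {A : Subgroup G}
    (hAp : IsPGroup p A) (hAc : IsMulCommutative A) (hA3 : ¬ Cfsg.PRankLE p 2 A)
    (hA : Cfsg.TransitivityHypothesis A) : Cfsg.InUniqueMaximal A := by
  by_contra hAU
  obtain ⟨E, hEA, hEe, hEc⟩ := not_pRankLE_subgroup_iff.mp hA3
  -- a prime `q` with data
  obtain ⟨P, hP⟩ := hAp.exists_le_sylow
  have hPne : (P : Subgroup G) ≠ ⊥ := fun h => hA.1 (le_bot_iff.mp (h ▸ hP))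
  have hp2 := Uniq.prime_ne_two hG P.isPGroup' hPne
  set N := Subgroup.normalizer (PLocal.zj 0 (P : Subgroup G) : Set G) with hN
  obtain ⟨M₀, hM₀, hNM₀⟩ := exists_isCoatom_ge (minSimple_normalizer_ne_top hG
    (zj_ne_bot P.isPGroup' hPne) (minSimple_pgroup_ne_top hG (P.isPGroup'.to_le (PLocal.zj_le 0 _))) :
      N ≠ ⊤)
  have hAM₀ : A ≤ M₀ := hP.trans ((PLocal.le_normalizer_zj 0 _).trans hNM₀)
  obtain ⟨q, hq, hFq⟩ : ∃ q : ℕ, q.Prime ∧ ¬ Cfsg.PRankLE q 2 ↥(Cfsg.fittingOf M₀) := by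
    by_contra hcon
    push Not at hcon
    have hPF : (P : Subgroup G) ≤ Cfsg.fittingOf M₀ :=
      (ZJFusion.le_commutator_normalizer_zj hG hp2 P).trans
        ((Subgroup.commutator_mono hNM₀ hNM₀).trans (derived_le_fittingOf hG hM₀.1 hcon))
    exact hA3 (PRankLE.of_le (hP.trans hPF) (hcon p hp.out))
  have := Fact.mk hq
  obtain ⟨M, a, hd⟩ := exists_datum hG hAp hAc hA3 hA hAU hEA hEe hEc hM₀ hAM₀ hFq
  have hDM : primeCore A (Subgroup.centralizer (A : Set G)) ≤ M :=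
    (core_le_centralizer (hEA hd.mem)).trans hd.cent_le
  -- an element of `E` fixing all invariant `r`-groups puts them in `M`
  have hfix : ∀ r : ℕ, r.Prime → r ≠ p → r ≠ q → ∀ e ∈ E, e ≠ 1 →
      (∀ R : Subgroup G, IsPGroup r R → A ≤ Subgroup.normalizer (R : Set G) →
        R ≤ Subgroup.centralizer ({e} : Set G)) →
      ∀ R : Subgroup G, IsPGroup r R → A ≤ Subgroup.normalizer (R : Set G) → R ≤ M := by
    intro r hr hrp hrq e he he1 hfe R hR hRn
    have := Fact.mk hr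
    by_cases hea : e ∈ Subgroup.zpowers a
    · refine (hfe R hR hRn).trans (le_trans (fun x hx => ?_) hd.cent_le)
      exact Subgroup.mem_centralizer_singleton_iff.mpr (commute_of_commute_mem_zpowers
        (zpowers_eq_of_mem hd.order hea he1) (Subgroup.mem_centralizer_singleton_iff.mp hx).symm).symm
    obtain ⟨v, B, hB, hBc, hvB, hvo, hvn, hCv, hev⟩ := hd.moved e he hea
    refine inv_le_of_key hG hAp hA hd.coatom hd.ne hDM hd.max_unique hAc hEA hEe hEc hvo hvn hB hBc hvB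
      hrp (fun X hX hXn hvX => le_trans (fun x hx => ?_) hCv) hR hRn
    have hex : ∀ y ∈ X, e * y = y * e := fun y hy =>
      (Subgroup.mem_centralizer_singleton_iff.mp (hfe X hX hXn hy)).symm
    have hc : v⁻¹ * (e * v * e⁻¹) ∈ Subgroup.zpowers v := mul_mem
      (inv_mem (Subgroup.mem_zpowers v))
      ((Subgroup.mem_normalizer_iff.mp (hvn (hEA he)) v).mp (Subgroup.mem_zpowers v))
    have hc1 : v⁻¹ * (e * v * e⁻¹) ≠ 1 := fun h => hev (by
      rw [inv_mul_eq_one] at h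
      conv_rhs => rw [h]
      rw [inv_mul_cancel_right])
    have h1 : e⁻¹ * x * e = x := by rw [mul_assoc, ← hex x hx, inv_mul_cancel_left]
    have h2 : e * (v * x * v⁻¹) * e⁻¹ = v * x * v⁻¹ := by
      rw [hex _ ((Subgroup.mem_normalizer_iff.mp hvX x).mp hx), mul_inv_cancel_right]
    have hcx : Commute (v⁻¹ * (e * v * e⁻¹)) x := by
      have h3 : (e * v * e⁻¹) * x * (e * v * e⁻¹)⁻¹ = v * x * v⁻¹ := by
        calc (e * v * e⁻¹) * x * (e * v * e⁻¹)⁻¹ = e * (v * (e⁻¹ * x * e) * v⁻¹) * e⁻¹ := by group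
          _ = v * x * v⁻¹ := by rw [h1, h2]
      calc v⁻¹ * (e * v * e⁻¹) * x
          = v⁻¹ * ((e * v * e⁻¹) * x * (e * v * e⁻¹)⁻¹) * (e * v * e⁻¹) := by group
        _ = v⁻¹ * (v * x * v⁻¹) * (e * v * e⁻¹) := by rw [h3]
        _ = x * (v⁻¹ * (e * v * e⁻¹)) := by group
    exact Subgroup.mem_centralizer_singleton_iff.mpr
      (commute_of_commute_mem_zpowers (zpowers_eq_of_mem (p := q) hvo hc hc1) hcx).symm
  have hqle : ∀ R : Subgroup G, IsPGroup q R → A ≤ Subgroup.normalizer (R : Set G) → R ≤ M :=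
    fun R hR hRn => (hd.fixed R hR hRn).trans hd.cent_le
  refine hAU (inUniqueMaximal_of_all_le hG hAp hA hd.coatom hd.le fun r hr hrp R hR hRn => ?_)
  have := Fact.mk hr
  by_cases hrq : r = q
  · subst hrq; exact hqle R hR hRn
  obtain ⟨R', hR', hRR'⟩ := exists_max_ge (mem_inv_iff.mpr ⟨hR, hRn⟩)
  obtain ⟨hR'p, hR'n⟩ := mem_inv_iff.mp hR'.1
  by_cases hRb : R' = ⊥
  · exact hRR'.trans (hRb.le.trans bot_le)
  have hr2 : r ≠ 2 := Uniq.prime_ne_two hG hR'p hRb
  obtain ⟨L, hL, hNL⟩ := exists_isCoatom_ge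
    (minSimple_normalizer_ne_top hG hRb (minSimple_pgroup_ne_top hG hR'p))
  have hAL : A ≤ L := hR'n.trans hNL
  by_cases hrank : Cfsg.RankLE 2 ↥(Cfsg.fittingOf L)
  · -- rank two: an element of `E` fixes `R'`
    obtain ⟨e, he, he1, hfe⟩ := exists_fixing_rank_two hr2 hrp hEe hEc (opCore_isPGroup r L)
      (PRankLE.of_le (opCore_le_fittingOf hr L) (hrank r hr)) ((hEA.trans hAL).trans (opCore_normal r L))
    have hR'C : R' ≤ Subgroup.centralizer ({e} : Set G) := fun x hx => by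
      have hcR : ⁅e, x⁆ ∈ R' := by
        rw [commutatorElement_def]
        exact mul_mem ((Subgroup.mem_normalizer_iff.mp (hR'n (hEA he)) x).mp hx) (inv_mem hx)
      have hcF : ⁅e, x⁆ ∈ Cfsg.fittingOf L := derived_le_fittingOf hG hL.1 hrank
        (Subgroup.commutator_mem_commutator (hAL (hEA he)) (hNL (Subgroup.le_normalizer hx)))
      have hcO : ⁅e, x⁆ ∈ opCore r L := le_opCore_of_le_fittingOf (r := r)
        (Subgroup.zpowers_le.mpr hcF) (hR'p.to_le (Subgroup.zpowers_le.mpr hcR)) (Subgroup.mem_zpowers _)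
      have hy : x⁻¹ * ⁅e, x⁆ * x ∈ R' := mul_mem (mul_mem (inv_mem hx) hcR) hx
      rw [Subgroup.mem_centralizer_singleton_iff]
      have hcop : (orderOf e).Coprime (Nat.card R') := by
        rw [orderOf_eq_prime (hEe.2 e he) he1]
        exact (coprime_prime_of_isPGroup hr hp.out hrp hR'p).symm
      have h := OddOrder41.fixes_of_step_fixed (a := e) (n := x⁻¹) (x := ⁅e, x⁆⁻¹) hcop
        (inv_mem hcR) (by rw [commutatorElement_def]; group) (by
          rw [← conj_inv, hfe _ hcO, mul_inv_cancel_right])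
      exact (Commute.inv_right_iff.mp h).symm
    refine hRR'.trans (hfix r hr hrp hrq e he he1 (fun Z hZ hZn => ?_) R' hR'p hR'n)
    obtain ⟨Z', hZ', hle⟩ := exists_max_ge (mem_inv_iff.mpr ⟨hZ, hZn⟩)
    obtain ⟨k, hk, rfl⟩ := conj_of_center_rank_three hG hA (by
      rw [inf_eq_left.mpr (fun z hz => Subgroup.mem_centralizer_iff.mpr fun y hy =>
        mul_comm_of_mem hAc hy hz)]
      exact fun h => hA3 (h p hp.out)) (not_dvd hAp hr hrp) hR' hZ'
    exact hle.trans ((cj_mono hR'C).trans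
      (cj_eq_of_mem_normalizer (Subgroup.le_normalizer (core_le_centralizer (hEA he) hk))).le)
  · -- rank three at a prime `s`
    simp only [Cfsg.RankLE, not_forall] at hrank
    obtain ⟨s, hs, hsr⟩ := hrank
    have := Fact.mk hs
    obtain ⟨M', a', hd'⟩ := exists_datum hG hAp hAc hA3 hA hAU hEA hEe hEc hL hAL hsr
    have hsM : opCore s L ≤ M := by
      by_cases hsq : s = q
      · subst hsq
        exact hqle _ (opCore_isPGroup _ L) (hAL.trans (opCore_normal _ L))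
      exact hfix s hs hd'.ne hsq a' hd'.mem
        (fun h => hp.out.ne_one (by rw [← hd'.order, h, orderOf_one]))
        hd'.fixed _ (opCore_isPGroup s L) (hAL.trans (opCore_normal s L))
    obtain ⟨X, hXF, hXe, hXc⟩ := not_pRankLE_subgroup_iff.mp hsr
    have hXO : X ≤ opCore s L := le_opCore_of_le_fittingOf hXF (isPGroup_of_elemAb hXe)
    have hXU : Cfsg.InUniqueMaximal X := MaxFit.inUniqueMaximal_of_rank_three hG hL hsr
      (isPGroup_of_elemAb hXe) (not_pRankLE_subgroup_iff.mpr ⟨X, le_rfl, hXe, hXc⟩)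
    have hLM : L = M :=
      Uniq.InUniqueMaximal.eq hXU hd.coatom (hXO.trans hsM) hL (hXO.trans (opCore_le s L))
    exact hRR'.trans (Subgroup.le_normalizer.trans (hNL.trans hLM.le))

/-- **BG 9.5**. -/
theorem inUniqueMaximal_scn (hG : Cfsg.IsMinSimpleOddOrder G) (P : Sylow p G)
    {A : Subgroup G} (hscn : Cfsg.IsSCN (P : Subgroup G) A) (hA3 : ¬ Cfsg.PRankLE p 2 A) :
    Cfsg.InUniqueMaximal A := by
  have hAc : IsMulCommutative A := ⟨⟨fun x y => Subtype.ext
    (Subgroup.mem_centralizer_iff.mp (hscn.2.2.ge y.2).2 x x.2)⟩⟩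
  exact inUniqueMaximal_of_hypothesis hG (P.isPGroup'.to_le hscn.1) hAc hA3
    (Criteria.hypothesis_of_scn (Criteria.quadStable p) hG P hAc hscn
      (fun h => hA3 (PRankLE.mono_k hp.out one_le_two h)))

/-- Every elementary abelian subgroup of order `p ^ 3` is a uniqueness subgroup. -/
theorem inUniqueMaximal_cube (hG : Cfsg.IsMinSimpleOddOrder G) {X : Subgroup G}
    (hXe : Cfsg.IsElementaryAbelian p X) (hX3 : Nat.card X = p ^ 3) : Cfsg.InUniqueMaximal X := by
  obtain ⟨P, hP⟩ := (isPGroup_of_elemAb hXe).exists_le_sylow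
  have hP3 : ¬ Cfsg.PRankLE p 2 (P : Subgroup G) := not_pRankLE_subgroup_iff.mpr ⟨X, hP, hXe, hX3⟩
  have hPne : (P : Subgroup G) ≠ ⊥ := fun h => by
    have h2 := Subgroup.card_le_of_le hP
    rw [h, hX3, Subgroup.card_bot] at h2
    exact absurd h2 (not_le.mpr (Nat.one_lt_pow three_ne_zero hp.out.one_lt))
  obtain ⟨A, hAP, hAn, hAc, hA3⟩ :=
    Uniq.exists_scn_three (Uniq.prime_ne_two hG P.isPGroup' hPne) P.isPGroup' hP3
  have hAcomm : IsMulCommutative A := ⟨⟨fun x y => Subtype.ext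
    (Subgroup.mem_centralizer_iff.mp (hAc.ge y.2).2 x x.2)⟩⟩
  exact Uniq.inUniqueMaximal_cube hG (P.isPGroup'.to_le hAP) hAcomm hA3
    (inUniqueMaximal_scn hG P ⟨hAP, hAn, hAc⟩ hA3) hXe hX3

omit hp in
/-- **BG 9.6**, the uniqueness theorem. -/
theorem inUniqueMaximal_rank (hG : Cfsg.IsMinSimpleOddOrder G) {K : Subgroup G} (hK : K ≠ ⊤)
    (hK2 : ¬ Cfsg.RankLE 1 K)
    (hK3 : ¬ Cfsg.RankLE 2 K ∨ ¬ Cfsg.RankLE 2 ↥(Subgroup.centralizer (K : Set G))) :
    Cfsg.InUniqueMaximal K := by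
  rcases hK3 with h | h
  · obtain ⟨q, X, hq, hXK, hXe, hXc⟩ := not_rankLE_subgroup_iff.mp h
    have := Fact.mk hq
    exact Uniq.InUniqueMaximal.mono (inUniqueMaximal_cube hG hXe hXc) hXK hK
  · obtain ⟨q, X, hq, hXC, hXe, hXc⟩ := not_rankLE_subgroup_iff.mp h
    have := Fact.mk hq
    exact Uniq.inUniqueMaximal_of_centralizes hG (inUniqueMaximal_cube hG hXe hXc)
      (Subgroup.le_centralizer_iff.mp hXC) hK2

end CfsgLib.OddOrder.CubeUnique
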