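import Mathlib
import Cfsg.Agent.Lib.OddOrder.CubeUnique
import Cfsg.Agent.Lib.OddOrder41.RankTwoFitting
import Cfsg.Agent.Lib.OddOrder41.FixOmega

/-!
# BG §10: `σ(M)`, `α(M)`, `M_σ`, `M_α`

-/

set_option autoImplicit false

namespace CfsgLib.OddOrder.Sigma10

open Subgroup CfsgLib.OddOrder CfsgLib.OddOrder.Transitivity

universe u

variable {G : Type u} [Group G] [Finite G]

variable {p : ℕ} [hp : Fact p.Prime]

theorem exists_conj_le {R M Q : Subgroup G} (hR : SylowOf p R M) (hQ : Q ≤ M)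
    (hQp : IsPGroup p Q) : ∃ m ∈ M, cj m Q ≤ R := by
  obtain ⟨T, rfl⟩ := hR.toSylow
  obtain ⟨S, hS⟩ := (hQp.comap_of_injective M.subtype M.subtype_injective).exists_le_sylow
  obtain ⟨m, hm⟩ := MulAction.exists_smul_eq M S T
  refine ⟨m, m.2, ?_⟩
  rintro _ ⟨x, hx, rfl⟩
  refine ⟨m * ⟨x, hQ hx⟩ * m⁻¹, ?_, by simp⟩
  rw [← hm]
  exact Coprime.mem_conj_smul.mpr (by simpa [mul_assoc] using hS (show (⟨x, hQ hx⟩ : M) ∈ Q.subgroupOf M from hx))

theorem pRankLE_of_sylowOf {R M : Subgroup G} {k : ℕ} (hR : SylowOf p R M)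
    (h : Cfsg.PRankLE p k R) : Cfsg.PRankLE p k M := by
  by_contra hcon
  obtain ⟨E, hEM, hE, hc⟩ := not_pRankLE_subgroup_iff.mp hcon
  obtain ⟨m, -, hle⟩ := exists_conj_le hR hEM (isPGroup_of_elemAb hE)
  exact not_pRankLE_subgroup_iff.mpr ⟨cj m E, hle, elemAb_map hE _, (card_cj m E).trans hc⟩ h

omit [Finite G] hp in
theorem commutator_eq_top (hG : Cfsg.IsMinSimpleOddOrder G) : commutator G = ⊤ :=
  (minSimple_eq_bot_or_top hG (inferInstance : (commutator G).Normal)).resolve_left fun hb =>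
    minSimple_not_comm hG ⟨⟨fun a b => commutatorElement_eq_one_iff_mul_comm.mp
      (Subgroup.mem_bot.mp (hb ▸ Subgroup.commutator_mem_commutator (Subgroup.mem_top a) (Subgroup.mem_top b)))⟩⟩

theorem inUnique_of_rank_three (hG : Cfsg.IsMinSimpleOddOrder G)
    {R : Subgroup G} (hR : ¬ Cfsg.PRankLE p 2 R) (hRtop : R ≠ ⊤) : Cfsg.InUniqueMaximal R := by
  obtain ⟨X, hXR, hXe, hXc⟩ := not_pRankLE_subgroup_iff.mp hR
  exact Uniq.InUniqueMaximal.mono (CubeUnique.inUniqueMaximal_cube hG hXe hXc) hXR hRtop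

/-- Any Sylow `p`-subgroup witnesses `p ∈ σ(M)`. -/
theorem normalizer_le_of_mem_sigma {M : Subgroup G} (hpσ : p ∈ Cfsg.sigma M) {R : Subgroup G}
    (hR : SylowOf p R M) : Subgroup.normalizer (R : Set G) ≤ M := by
  obtain ⟨-, -, T, hT⟩ := hpσ
  obtain ⟨m, hm, hle⟩ := exists_conj_le (sylowOf_map T) hR.1 hR.2.1
  have heq : cj m R = (T : Subgroup M).map M.subtype := by
    refine Subgroup.eq_of_le_of_card_ge hle ?_
    rw [card_cj]
    exact Nat.le_of_dvd Nat.card_pos (hR.card_dvd (Subgroup.map_subtype_le _) (T.isPGroup'.map _))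
  rw [← heq] at hT
  intro x hx
  have h1 : m * x * m⁻¹ ∈ Subgroup.normalizer ((cj m R : Subgroup G) : Set G) :=
    mem_normalizer_of_cj_eq (by
      rw [cj_mul, show m * x * m⁻¹ * m = m * x by group, ← cj_mul, cj_eq_of_mem_normalizer hx])
  simpa [mul_assoc] using M.mul_mem (M.mul_mem (M.inv_mem hm) (hT h1)) hm

theorem exists_sylow_of_mem_sigma {M : Subgroup G} (hpσ : p ∈ Cfsg.sigma M) {R : Subgroup G}
    (hR : SylowOf p R M) : ∃ P : Sylow p G, (P : Subgroup G) = R :=
  hR.exists_sylow (normalizer_le_of_mem_sigma hpσ hR)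

/-- `α(M) ⊆ σ(M)`. -/
theorem alpha_subset_sigma (hG : Cfsg.IsMinSimpleOddOrder G)
    {M : Subgroup G} (hM : IsCoatom M) : Cfsg.alpha M ⊆ Cfsg.sigma M := by
  rintro q ⟨hq, hr⟩
  have := Fact.mk hq
  obtain ⟨T⟩ : Nonempty (Sylow q M) := inferInstance
  have hR := sylowOf_map T
  have hr' : ¬ Cfsg.PRankLE q 2 ↥((T : Subgroup M).map M.subtype) :=
    fun h => hr (pRankLE_of_sylowOf hR h)
  have hRtop := minSimple_pgroup_ne_top hG hR.2.1
  have hRU := inUnique_of_rank_three hG hr' hRtop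
  refine ⟨hq, ?_, T, ?_⟩
  · by_contra hd
    exact hr (pRankLE_of_not_dvd 2 hd)
  · obtain ⟨L, hL, hle⟩ := exists_isCoatom_ge
      (minSimple_normalizer_ne_top hG (Uniq.InUniqueMaximal.ne_bot hG hRU) hRtop)
    exact Uniq.InUniqueMaximal.eq hRU hM hR.1 hL (Subgroup.le_normalizer.trans hle) ▸ hle

section TenOne

variable (hG : Cfsg.IsMinSimpleOddOrder G) {M : Subgroup G} (hM : IsCoatom M)
  (hpσ : p ∈ Cfsg.sigma M)

/-- The factorization property of a `p`-subgroup `X` of `M`. -/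
def ConjFactor (M X : Subgroup G) : Prop :=
  ∀ g : G, cj g X ≤ M → ∃ m ∈ M, ∃ c ∈ Subgroup.centralizer (X : Set G), g = m * c

include hpσ in
/-- A Sylow subgroup of `M ⊓ U` larger than `X` is a Sylow subgroup of `U ≥ C(X)`. -/
theorem sylow_inf_of_bigger {X U T : Subgroup G} (hCU : Subgroup.centralizer (X : Set G) ≤ U)
    (hT : SylowOf p T (M ⊓ U)) (hXT : X ≤ T) (hTf : ConjFactor M T) : SylowOf p T U := by
  refine ⟨hT.1.trans inf_le_right, hT.2.1, fun Q hQU hQp hle => ?_⟩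
  by_contra hne
  have hgrow := normalizer_grows hQp (lt_of_le_of_ne hle (Ne.symm hne))
  set S := Subgroup.normalizer (T : Set G) ⊓ Q with hS
  have hTS : T ≤ S := le_inf Subgroup.le_normalizer hle
  obtain ⟨R, hR, -⟩ := exists_sylowOf_ge (hT.1.trans inf_le_left) hT.2.1
  obtain ⟨P, rfl⟩ := exists_sylow_of_mem_sigma hpσ hR
  obtain ⟨P', hP'⟩ := (hQp.to_le (inf_le_right : S ≤ Q)).exists_le_sylow
  obtain ⟨h, hh⟩ := MulAction.exists_smul_eq G P' P
  have hSP : cj h S ≤ P := by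
    rw [← hh, Sylow.coe_subgroup_smul]
    exact Subgroup.map_mono hP'
  obtain ⟨m, hm, c, hc, rfl⟩ := hTf h ((cj_mono hTS).trans (hSP.trans hR.1))
  have hcU : c ∈ U := hCU (Subgroup.centralizer_le hXT hc)
  have hcS : cj c S ≤ M ⊓ U := by
    refine le_inf ?_ ((cj_mono (inf_le_right.trans hQU)).trans
      (cj_eq_of_mem_normalizer (Subgroup.le_normalizer hcU)).le)
    have h1 := cj_mono (g := m⁻¹) (hSP.trans hR.1)
    rw [cj_mul, ← mul_assoc, inv_mul_cancel, one_mul,
      cj_eq_of_mem_normalizer (Subgroup.le_normalizer (M.inv_mem hm))] at h1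
    exact h1
  have h2 := Nat.le_of_dvd Nat.card_pos
    (hT.card_dvd hcS (((hQp.to_le (inf_le_right : S ≤ Q))).map _))
  rw [card_cj] at h2
  omega

include hG hM hpσ in
/-- **BG 10.1**. -/
theorem conjFactor {X : Subgroup G} (hXp : IsPGroup p X) (hX1 : X ≠ ⊥) (hXM : X ≤ M) :
    ConjFactor M X := by
  suffices key : ∀ k, ∀ X : Subgroup G, IsPGroup p X → X ≠ ⊥ → X ≤ M → Nat.card G - Nat.card X ≤ k →
      ConjFactor M X from key _ X hXp hX1 hXM le_rfl
  intro k
  induction k with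
  | zero =>
    intro X hXp _ hXM hle
    exact absurd (Subgroup.eq_top_of_le_card X (Nat.le_of_sub_eq_zero (Nat.le_zero.mp hle)))
      (minSimple_pgroup_ne_top hG hXp)
  | succ k ih =>
  intro X hXp hX1 hXM hcard g hg
  have hbig : ∀ T : Subgroup G, IsPGroup p T → T ≤ M → Nat.card X < Nat.card T → ConjFactor M T :=
    fun T h1 h2 h3 => ih T h1 (fun hb => by
      rw [hb, Subgroup.card_bot] at h3
      exact absurd h3 (not_lt.mpr Nat.card_pos)) h2 (by omega)
  obtain ⟨R, hR, hXR⟩ := exists_sylowOf_ge hXM hXp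
  rcases hXR.eq_or_lt with rfl | hlt
  · obtain ⟨m, hm, hle⟩ := exists_conj_le hR hg (hXp.map _)
    rw [cj_mul] at hle
    have heq := Subgroup.eq_of_le_of_card_ge hle (card_cj (m * g) X).ge
    have hgM : g ∈ M := by
      simpa using M.mul_mem (M.inv_mem hm)
        (normalizer_le_of_mem_sigma hpσ hR (mem_normalizer_of_cj_eq heq))
    exact ⟨g, hgM, 1, Subgroup.one_mem _, (mul_one g).symm⟩
  set S := Subgroup.normalizer (X : Set G) ⊓ R with hS
  have hXS : Nat.card X < Nat.card S := normalizer_grows hR.2.1 hlt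
  have hSp : IsPGroup p S := hR.2.1.to_le inf_le_right
  -- part one : the normalizer of `X`
  have hNX : ∀ n ∈ Subgroup.normalizer (X : Set G),
      ∃ m ∈ M, ∃ c ∈ Subgroup.centralizer (X : Set G), n = m * c := by
    obtain ⟨L, hL, hle⟩ := exists_isCoatom_ge
      (minSimple_normalizer_ne_top hG hX1 (minSimple_pgroup_ne_top hG hXp))
    by_cases hLM : L = M
    · exact fun n hn => ⟨n, hLM ▸ hle hn, 1, Subgroup.one_mem _, (mul_one n).symm⟩
    obtain ⟨T, hT, hST⟩ := exists_sylowOf_ge (M := M ⊓ L)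
      (le_inf (inf_le_right.trans hR.1) (inf_le_left.trans hle)) hSp
    have hXT : X ≤ T := (le_inf Subgroup.le_normalizer hXR).trans hST
    have hTM : T ≤ M := hT.1.trans inf_le_left
    have hTf := hbig T hT.2.1 hTM (hXS.trans_le (Subgroup.card_le_of_le hST))
    have hTL := sylow_inf_of_bigger hpσ ((Subgroup.centralizer_le_normalizer (X : Set G)).trans hle)
      hT hXT hTf
    have hTr : Cfsg.PRankLE p 2 T := by
      by_contra hcon
      exact hLM (Uniq.InUniqueMaximal.eq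
        (inUnique_of_rank_three hG hcon (minSimple_pgroup_ne_top hG hT.2.1)) hM hTM hL hTL.1)
    have := minSimple_solvable hG hL.1
    have hpL : p ∣ Nat.card L :=
      (Uniq.prime_dvd_card hXp hX1).trans (Subgroup.card_dvd_of_le (hXT.trans hTL.1))
    have hidx := (OddOrder41.odd_solvable_rank_two_structure (minSimple_odd hG L) p hpL
      (pRankLE_of_sylowOf hTL hTr)).2.2.2.2.2
    obtain ⟨T₁, hT₁T, hfac, hT₁⟩ := exists_frattini_core hTL
    have hTT₁ : T ≤ T₁ := fun x hx => hT₁ ⟨x, hTL.1 hx⟩ hx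
      (Uniq.pPrimePCore_ge_of_index hidx (Q := T.subgroupOf L)
        (hT.2.1.comap_of_injective L.subtype L.subtype_injective) hx)
    obtain rfl := le_antisymm hT₁T hTT₁
    intro n hn
    have hnL := hfac (hle hn)
    rw [sup_comm] at hnL
    obtain ⟨h, ⟨hhL, hhT⟩, o, ho, rfl⟩ := Coprime.exists_mul_of_mem_sup
      (inf_le_left.trans (oPrime_normal L)) hnL
    obtain ⟨m, hm, c, hc, rfl⟩ := hTf h ((cj_eq_of_mem_normalizer hhT).le.trans hTM)
    refine ⟨m, hm, c * o, mul_mem (Subgroup.centralizer_le hXT hc) ?_, mul_assoc m c o⟩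
    rw [Subgroup.mem_centralizer_iff]
    intro x hx
    have h1 : o * x * o⁻¹ ∈ T₁ := by
      have h2 : (m * c * o) * x * (m * c * o)⁻¹ ∈ T₁ :=
        hXT ((Subgroup.mem_normalizer_iff.mp hn x).mp hx)
      refine (Subgroup.mem_normalizer_iff.mp hhT _).mpr ?_
      simpa [mul_assoc] using h2
    have h3 : o * x * o⁻¹ * x⁻¹ ∈ oPrime p L := by
      rw [mul_assoc o, mul_assoc o]
      exact mul_mem ho (conj_mem_of_le_normalizer (oPrime_normal L) (hTL.1 (hXT hx)) (inv_mem ho))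
    have h4 := Criteria.eq_one_of_pgroup_of_coprime hT.2.1 (oPrime_coprime L)
      (mul_mem h1 (inv_mem (hXT hx))) h3
    calc x * o = (o * x * o⁻¹ * x⁻¹) * x * o := by rw [h4, one_mul]
      _ = o * x := by group
  -- part two
  obtain ⟨R', hR', hXR'⟩ := exists_sylowOf_ge hg (hXp.map _)
  set S' := Subgroup.normalizer ((cj g X : Subgroup G) : Set G) ⊓ R' with hS'
  have hS'M : S' ≤ M := inf_le_right.trans hR'.1
  have hXS' : Nat.card X < Nat.card S' := by
    rw [← card_cj g X]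
    rcases hXR'.eq_or_lt with h | h
    · exfalso
      have h5 := Nat.le_of_dvd Nat.card_pos (hR'.card_dvd hR.1 hR.2.1)
      rw [← h, card_cj] at h5
      exact absurd h5 (not_le.mpr (lt_of_not_ge fun hge =>
        hlt.ne (Subgroup.eq_of_le_of_card_ge hXR hge)))
    · exact normalizer_grows hR'.2.1 h
  set T2 := cj g⁻¹ S' with hT2
  have hT2p : IsPGroup p T2 := (hR'.2.1.to_le inf_le_right).map _
  have hXT2 : X ≤ T2 := by
    have h := cj_mono (g := g⁻¹) (le_inf Subgroup.le_normalizer hXR' : cj g X ≤ S')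
    rwa [cj_mul, inv_mul_cancel, cj_one] at h
  have hT2N : T2 ≤ Subgroup.normalizer (X : Set G) := by
    intro y hy
    rw [hT2, mem_cj, inv_inv] at hy
    refine mem_normalizer_of_cj_eq (cj_inj (g := g) ?_)
    have h := cj_eq_of_mem_normalizer hy.1
    rw [cj_mul] at h ⊢
    rwa [show g * y = g * y * g⁻¹ * g by group]
  obtain ⟨T, hT, hST⟩ := exists_sylowOf_ge (M := M ⊓ Subgroup.normalizer (X : Set G))
    (le_inf (inf_le_right.trans hR.1) inf_le_left : S ≤ _) hSp
  have hXT : X ≤ T := (le_inf Subgroup.le_normalizer hXR).trans hST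
  have hTN := sylow_inf_of_bigger hpσ (Subgroup.centralizer_le_normalizer (X : Set G)) hT hXT
    (hbig T hT.2.1 (hT.1.trans inf_le_left) (hXS.trans_le (Subgroup.card_le_of_le hST)))
  obtain ⟨n, hn, hnT⟩ := exists_conj_le hTN hT2N hT2p
  obtain ⟨m, hm, c, hc, rfl⟩ := hNX n hn
  have hT3M : cj c T2 ≤ M := by
    have h := cj_mono (g := m⁻¹) (hnT.trans (hT.1.trans inf_le_left))
    rwa [cj_mul, ← mul_assoc, inv_mul_cancel, one_mul,
      cj_eq_of_mem_normalizer (Subgroup.le_normalizer (M.inv_mem hm))] at h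
  obtain ⟨m', hm', c', hc', he⟩ := hbig (cj c T2) (hT2p.map _) hT3M
    (by rw [card_cj, hT2, card_cj]; exact hXS') (g * c⁻¹) (by
      rw [cj_mul, mul_assoc, inv_mul_cancel, mul_one, hT2, cj_mul, mul_inv_cancel, cj_one]
      exact hS'M)
  refine ⟨m', hm', c' * c, mul_mem ?_ hc, ?_⟩
  · refine Subgroup.centralizer_le ?_ hc'
    intro x hx
    have hcx : x * c = c * x := Subgroup.mem_centralizer_iff.mp hc x hx
    rw [SetLike.mem_coe, mem_cj, mul_assoc, hcx, ← mul_assoc, inv_mul_cancel, one_mul]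
    exact hXT2 hx
  · rw [← mul_assoc, ← he]; group

include hG hM hpσ in
theorem normalizer_eq {X : Subgroup G} (hXp : IsPGroup p X) (hX1 : X ≠ ⊥) (hXM : X ≤ M) :
    Subgroup.normalizer (X : Set G) =
      (M ⊓ Subgroup.normalizer (X : Set G)) ⊔ Subgroup.centralizer (X : Set G) := by
  refine le_antisymm (fun n hn => ?_)
    (sup_le inf_le_right (Subgroup.centralizer_le_normalizer _))
  obtain ⟨m, hm, c, hc, rfl⟩ := conjFactor hG hM hpσ hXp hX1 hXM n
    ((cj_eq_of_mem_normalizer hn).le.trans hXM)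
  refine Subgroup.mul_mem_sup ⟨hm, ?_⟩ hc
  simpa using mul_mem hn (inv_mem (Subgroup.centralizer_le_normalizer (X : Set G) hc))

include hG hM hpσ in
/-- For `p ∈ σ(M)` a Sylow `p`-subgroup lies in `M'`. -/
theorem le_derived {R : Subgroup G} (hR : SylowOf p R M) : R ≤ ⁅M, M⁆ := by
  obtain ⟨P, rfl⟩ := exists_sylow_of_mem_sigma hpσ hR
  have h := Transfer.commutator_inf_eq_of_controls P hR.1 fun x hx g hg => by
    by_cases hx1 : x = 1
    · exact ⟨1, M.one_mem, by simp [hx1]⟩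
    obtain ⟨m, hm, c, hc, rfl⟩ := conjFactor hG hM hpσ
      (P.isPGroup'.to_le (Subgroup.zpowers_le.mpr hx)) (Subgroup.zpowers_ne_bot.mpr hx1)
      (Subgroup.zpowers_le.mpr (hR.1 hx)) g (by
        rw [cj, MonoidHom.map_zpowers, Subgroup.zpowers_le]; exact hR.1 hg)
    refine ⟨m, hm, ?_⟩
    have hxc : x * c = c * x := Subgroup.mem_centralizer_iff.mp hc x (Subgroup.mem_zpowers x)
    calc m * x * m⁻¹ = m * (x * c) * c⁻¹ * m⁻¹ := by group
      _ = m * c * x * (m * c)⁻¹ := by rw [hxc]; group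
  rw [commutator_eq_top hG, top_inf_eq] at h
  exact h.le.trans inf_le_left

end TenOne

section Hall

variable (hG : Cfsg.IsMinSimpleOddOrder G) {M : Subgroup G} (hM : IsCoatom M)

omit hp in
include hG hM in
/-- `M'` is nilpotent modulo `M_α`. -/
theorem derived_quotient_le_fitting :
    commutator (M ⧸ Cfsg.piCore (Cfsg.alpha M) M) ≤
      Cfsg.fittingSubgroup (M ⧸ Cfsg.piCore (Cfsg.alpha M) M) := by
  set N := Cfsg.piCore (Cfsg.alpha M) M with hN
  have := minSimple_solvable hG hM.1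
  have := Group.isSolvable_of_surjective (QuotientGroup.mk'_surjective N)
  refine OddOrder41.derived_le_fitting
    (Odd.of_dvd_nat (minSimple_odd hG M) (Subgroup.card_quotient_dvd_card N)) fun q hq => ?_
  have := Fact.mk hq
  by_cases hqα : q ∈ Cfsg.alpha M
  · by_contra hcon
    obtain ⟨E, hEF, hEe, hEc⟩ := not_pRankLE_subgroup_iff.mp hcon
    set O := Cfsg.pCore q (M ⧸ N) with hO
    have hbot : O = ⊥ := by
      have hn : (O.comap (QuotientGroup.mk' N)).Normal := inferInstance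
      have hle : O.comap (QuotientGroup.mk' N) ≤ N := by
        refine le_piCore hn fun t ht htd => ?_
        rw [PCore.card_comap_mk' N O] at htd
        rcases ht.dvd_mul.mp htd with h | h
        · exact piNat_card_piCore _ t ht h
        · obtain ⟨n, hn'⟩ := (PCore.pCore_isPGroup (p := q) (G := M ⧸ N)).exists_card_eq
          rw [← hO] at hn'
          rw [(Nat.prime_dvd_prime_iff_eq ht hq).mp (ht.dvd_of_dvd_pow (hn' ▸ h))]
          exact hqα
      rw [← Subgroup.map_comap_eq_self_of_surjective (QuotientGroup.mk'_surjective N) O]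
      refine (Subgroup.map_eq_bot_iff _).mpr ?_
      rwa [QuotientGroup.ker_mk']
    have hE' : E ≤ O := by
      obtain ⟨P, hP⟩ := ((isPGroup_of_elemAb hEe).comap_of_injective
        (Cfsg.fittingSubgroup (M ⧸ N)).subtype (Subgroup.subtype_injective _)).exists_le_sylow
      rw [hO, ← Fitting.sylow_fitting_eq_pCore P]
      exact fun x hx => ⟨⟨x, hEF hx⟩, hP hx, rfl⟩
    rw [hbot] at hE'
    have h2 := Subgroup.card_le_of_le hE'
    rw [hEc, Subgroup.card_bot] at h2
    exact absurd h2 (not_le.mpr (Nat.one_lt_pow three_ne_zero hq.one_lt))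
  · have hr : Cfsg.PRankLE q 2 M := by
      by_contra h
      exact hqα ⟨hq, h⟩
    refine PRankLE.subgroup _ (OddOrder41.pRankLE_quotient_coprime N ?_ hr)
    exact ((hq.coprime_iff_not_dvd).mpr fun hd => hqα (piNat_card_piCore _ q hq hd)).symm

include hG hM in
/-- For `p ∈ σ(M)`, `R ≤ O_π(M)` whenever `π ⊇ α(M) ∪ {p}`. -/
theorem sylow_le_piCore {π : Set ℕ} (hα : Cfsg.alpha M ⊆ π) (hpπ : p ∈ π)
    (hpσ : p ∈ Cfsg.sigma M) {R : Subgroup G} (hR : SylowOf p R M) :
    R ≤ Cfsg.piCoreOf π M := by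
  set N := Cfsg.piCore (Cfsg.alpha M) M with hN
  set f := QuotientGroup.mk' N with hf
  have hsurj : Function.Surjective f := QuotientGroup.mk'_surjective N
  obtain ⟨T, hT⟩ := hR.toSylow
  have h1 : (T : Subgroup M) ≤ commutator M := by
    intro x hx
    have h2 : (x : G) ∈ ⁅M, M⁆ := le_derived hG hM hpσ hR (hT ▸ ⟨x, hx, rfl⟩)
    rw [← Subgroup.map_subtype_commutator] at h2
    obtain ⟨y, hy, hyx⟩ := h2
    exact Subtype.coe_injective hyx ▸ hy
  have h2 : (T : Subgroup M).map f ≤ Cfsg.fittingSubgroup (M ⧸ N) := by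
    refine le_trans ?_ (derived_quotient_le_fitting hG hM)
    refine (Subgroup.map_mono h1).trans (le_of_eq ?_)
    rw [commutator_def, Subgroup.map_commutator, Subgroup.map_top_of_surjective f hsurj, ← commutator_def]
  have h3 : (T : Subgroup M).map f ≤ Cfsg.pCore p (M ⧸ N) := by
    obtain ⟨P, hP⟩ := ((T.isPGroup'.map f).comap_of_injective
      (Cfsg.fittingSubgroup (M ⧸ N)).subtype (Subgroup.subtype_injective _)).exists_le_sylow
    rw [← Fitting.sylow_fitting_eq_pCore P]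
    exact fun x hx => ⟨⟨x, h2 hx⟩, hP hx, rfl⟩
  have hle : (Cfsg.pCore p (M ⧸ N)).comap f ≤ Cfsg.piCore π M := by
    refine le_piCore inferInstance fun t ht htd => ?_
    rw [PCore.card_comap_mk' N (Cfsg.pCore p (M ⧸ N))] at htd
    rcases ht.dvd_mul.mp htd with h | h
    · exact hα (piNat_card_piCore _ t ht h)
    · obtain ⟨n, hn'⟩ := (PCore.pCore_isPGroup (p := p) (G := M ⧸ N)).exists_card_eq
      rw [(Nat.prime_dvd_prime_iff_eq ht hp.out).mp (ht.dvd_of_dvd_pow (hn' ▸ h))]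
      exact hpπ
  rw [← hT]
  exact Subgroup.map_mono ((Subgroup.map_le_iff_le_comap.mp h3).trans hle)

omit hp in
include hG hM in
/-- `O_π(M)` is a Hall subgroup of `M` and of `G` for `α(M) ⊆ π ⊆ σ(M)`. -/
theorem isPiHall_piCoreOf {π : Set ℕ} (hα : Cfsg.alpha M ⊆ π) (hπ : π ⊆ Cfsg.sigma M) :
    Cfsg.IsPiHallOf π (Cfsg.piCoreOf π M) M ∧ Cfsg.IsPiHall π (Cfsg.piCoreOf π M) := by
  refine ⟨⟨piCoreOf_le _ _, piNat_card_piCoreOf _ _, fun q hq hqπ hd => ?_⟩,
    piNat_card_piCoreOf _ _, fun q hq hqπ hd => ?_⟩ <;>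
  · have := Fact.mk hq
    obtain ⟨T⟩ : Nonempty (Sylow q M) := inferInstance
    have hR := sylowOf_map T
    have hle := sylow_le_piCore hG hM hα hqπ (hπ hqπ) hR
    obtain ⟨P, hP⟩ := exists_sylow_of_mem_sigma (hπ hqπ) hR
    refine P.not_dvd_index ?_
    first
      | exact (hd.trans (Subgroup.relIndex_dvd_index_of_le (piCoreOf_le _ _))).trans
          (Subgroup.index_dvd_of_le (hP ▸ hle))
      | exact hd.trans (Subgroup.index_dvd_of_le (hP ▸ hle))

omit hp in
include hG hM in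
/-- **BG 10.2**. -/
theorem sigmaCore_hall : Cfsg.IsPiHallOf (Cfsg.sigma M) (Cfsg.sigmaCore M) M ∧
    Cfsg.IsPiHall (Cfsg.sigma M) (Cfsg.sigmaCore M) :=
  isPiHall_piCoreOf hG hM (alpha_subset_sigma hG hM) subset_rfl

omit hp in
include hG hM in
theorem alphaCore_hall : Cfsg.IsPiHallOf (Cfsg.alpha M) (Cfsg.alphaCore M) M ∧
    Cfsg.IsPiHall (Cfsg.alpha M) (Cfsg.alphaCore M) :=
  isPiHall_piCoreOf hG hM subset_rfl (alpha_subset_sigma hG hM)

omit hp in
include hG hM in
theorem alphaCore_le_sigmaCore : Cfsg.alphaCore M ≤ Cfsg.sigmaCore M :=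
  Subgroup.map_mono (piCore_mono (alpha_subset_sigma hG hM))

omit hp in
include hG hM in
theorem rankLE_quotient_alpha : Cfsg.RankLE 2 (M ⧸ Cfsg.piCore (Cfsg.alpha M) M) := by
  intro q hq
  have := Fact.mk hq
  by_cases hqα : q ∈ Cfsg.alpha M
  · refine pRankLE_of_not_dvd 2 fun hd => (alphaCore_hall hG hM).1.2.2 q hq hqα ?_
    rw [Cfsg.alphaCore, Subgroup.relIndex, Subgroup.subgroupOf,
      Subgroup.comap_map_eq_self_of_injective M.subtype_injective]
    exact hd
  · exact OddOrder41.pRankLE_quotient_coprime _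
      ((hq.coprime_iff_not_dvd).mpr fun hd => hqα (piNat_card_piCore _ q hq hd)).symm
      (by by_contra h; exact hqα ⟨hq, h⟩)

end Hall

end CfsgLib.OddOrder.Sigma10
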