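import Mathlib
import Cfsg.Agent.Lib.OddOrder.Sigma10
import Cfsg.Agent.Lib.Coprime.Action
import Cfsg.Agent.Lib.Isolated.RankOne

/-!
# BG 10.3 -- 10.5: primes outside `σ(M)`

-/

set_option autoImplicit false

namespace CfsgLib.OddOrder.Sigma10

open Subgroup CfsgLib.OddOrder CfsgLib.OddOrder.Transitivity

universe u

variable {G : Type u} [Group G] [Finite G]

theorem mem_of_rankLE_two {p : ℕ} [Fact p.Prime] {E : Subgroup G}
    (hE : Cfsg.IsElementaryAbelian p E) (hE2 : Nat.card E = p ^ 2) {H : Subgroup G} (hEH : E ≤ H)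
    (hH : Cfsg.PRankLE p 2 H) {x : G} (hxH : x ∈ H) (hx : x ^ p = 1)
    (hc : x ∈ Subgroup.centralizer (E : Set G)) : x ∈ E := by
  by_contra hxE
  set F := E ⊔ Subgroup.zpowers x with hF
  have hlt : E < F := lt_of_le_of_ne le_sup_left fun h =>
    hxE (h.symm ▸ (le_sup_right : Subgroup.zpowers x ≤ F) (Subgroup.mem_zpowers x))
  have h1 : Nat.card E < Nat.card F := by
    by_contra h
    exact hlt.ne (Subgroup.eq_of_le_of_card_ge hlt.le (not_lt.mp h))
  have hFH : F ≤ H := sup_le hEH (Subgroup.zpowers_le.mpr hxH)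
  have h2 := pRankLE_iff.mp hH (F.subgroupOf H)
    (elemAb_comap (elemAb_sup_zpowers hE hx hc) _ H.subtype_injective)
  rw [Nat.card_congr (Subgroup.subgroupOfEquivOfLe hFH).toEquiv] at h2
  omega

theorem exists_central_orderOf {p : ℕ} [hp : Fact p.Prime] {R : Subgroup G} (hR : IsPGroup p R)
    (hne : R ≠ ⊥) : ∃ z ∈ R, (∀ r ∈ R, r * z = z * r) ∧ orderOf z = p := by
  have : Nontrivial R := Subgroup.nontrivial_iff_ne_bot R |>.mpr hne
  have hnt : Nontrivial (Subgroup.center R) := hR.center_nontrivial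
  obtain ⟨k, hk, hcard⟩ := (hR.to_subgroup (Subgroup.center R)).nontrivial_iff_card.mp hnt
  obtain ⟨z, hz⟩ := exists_prime_orderOf_dvd_card' (G := Subgroup.center R) p
    (hcard ▸ dvd_pow_self p hk.ne')
  refine ⟨((z : R) : G), (z : R).2, fun r hr => ?_, ?_⟩
  · exact congrArg Subtype.val (Subgroup.mem_center_iff.mp z.2 ⟨r, hr⟩)
  · rw [Subgroup.orderOf_coe, Subgroup.orderOf_coe, hz]

variable (hG : Cfsg.IsMinSimpleOddOrder G) {M : Subgroup G} (hM : IsCoatom M)

include hG hM in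
theorem not_mem_alpha_of_not_mem_sigma {p : ℕ} (hp : p ∉ Cfsg.sigma M) : p ∉ Cfsg.alpha M :=
  fun h => hp (alpha_subset_sigma hG hM h)

include hG hM in
/-- **BG 10.3**. -/
theorem inUnique_inf_centralizer {X : Subgroup G} (hXM : X ≤ M)
    (hXα : ∀ q : ℕ, q.Prime → q ∣ Nat.card X → q ∉ Cfsg.alpha M)
    (hr : ¬ Cfsg.RankLE 1 ↥(Cfsg.alphaCore M ⊓ Subgroup.centralizer (X : Set G))) :
    Cfsg.InUniqueMaximal (M ⊓ Subgroup.centralizer (X : Set G)) := by
  obtain ⟨q, E, hq, hE, hEe, hEc⟩ := not_rankLE_subgroup_iff.mp hr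
  have := Fact.mk hq
  have hEc2 : Nat.card E = q ^ 2 := hEc
  set A := Cfsg.alphaCore M with hA
  have hAM : A ≤ M := piCoreOf_le _ _
  have hEA : E ≤ A := hE.trans inf_le_left
  have hEX : E ≤ Subgroup.centralizer (X : Set G) := hE.trans inf_le_right
  have hEM : E ≤ M ⊓ Subgroup.centralizer (X : Set G) := le_inf (hEA.trans hAM) hEX
  have hne : E ≠ ⊥ := fun h => by
    rw [h, Subgroup.card_bot] at hEc2
    exact absurd hEc2.symm (Nat.one_lt_pow two_ne_zero hq.one_lt).ne'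
  have hqα : q ∈ Cfsg.alpha M := piNat_card_piCoreOf (Cfsg.alpha M) M q hq
    ((Uniq.prime_dvd_card (isPGroup_of_elemAb hEe) hne).trans (Subgroup.card_dvd_of_le hEA))
  have htop : M ⊓ Subgroup.centralizer (X : Set G) ≠ ⊤ := fun h =>
    hM.1 (top_le_iff.mp (h ▸ inf_le_left))
  by_cases hCr : Cfsg.PRankLE q 2 ↥(Subgroup.centralizer (E : Set G))
  swap
  · obtain ⟨Y, hYC, hYe, hYc⟩ := not_pRankLE_subgroup_iff.mp hCr
    exact Uniq.InUniqueMaximal.mono (Uniq.inUniqueMaximal_of_centralizes hG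
      (CubeUnique.inUniqueMaximal_cube hG hYe hYc) (Subgroup.le_centralizer_iff.mp hYC)
      (Uniq.not_rankLE_one_of_elemAb (k := 0) le_rfl hEe hEc2)) hEM htop
  have hnA : X ≤ Subgroup.normalizer (A : Set G) := hXM.trans (piCoreOf_normal _ _)
  have hcop : (Nat.card X).Coprime (Nat.card A) :=
    Nat.coprime_of_dvd fun t ht h1 h2 => hXα t ht h1 (piNat_card_piCoreOf (Cfsg.alpha M) M t ht h2)
  have hsA : Group.IsSolvable A :=
    minSimple_solvable hG fun h => hM.1 (top_le_iff.mp (h ▸ hAM))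
  have hXE : X ≤ Subgroup.normalizer (E : Set G) :=
    (Subgroup.le_centralizer_iff.mp hEX).trans (Subgroup.centralizer_le_normalizer (E : Set G))
  obtain ⟨T, hET, hXT⟩ := Coprime.exists_invariant_sylow_ge X A hnA hcop (Or.inr hsA) q E hEA
    (isPGroup_of_elemAb hEe) hXE
  set P := (T : Subgroup A).map A.subtype with hP
  have hPs : SylowOf q P A := sylowOf_map T
  have hq2 := Uniq.prime_ne_two hG (isPGroup_of_elemAb hEe) hne
  have hcq : (Nat.card X).Coprime q :=
    ((hq.coprime_iff_not_dvd).mpr fun hd => hXα q hq hd hqα).symm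
  have hXP : X ≤ Subgroup.centralizer (P : Set G) := by
    refine OddOrder41.le_centralizer_of_fixes_order_p q hq2 P E X hPs.2.1 hET hEe hXT hcq
      fun x hx hox => ?_
    have hxE : x ∈ E := mem_of_rankLE_two hEe hEc2
      (fun e he => Subgroup.mem_centralizer_iff.mpr fun f hf => elemAb_commute hEe hf he)
      hCr hx.2 (hox ▸ pow_orderOf_eq_one x) hx.2
    exact fun y hy => Subgroup.mem_centralizer_singleton_iff.mpr
      (Subgroup.mem_centralizer_iff.mp (hEX hxE) y hy)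
  obtain ⟨R, hR, hPR⟩ := exists_sylowOf_ge (hPs.1.trans hAM) hPs.2.1
  have hRA : R ≤ A := sylow_le_piCore hG hM subset_rfl hqα
    (alpha_subset_sigma hG hM hqα) hR
  obtain rfl : R = P := hPs.2.2 R hRA hR.2.1 hPR
  refine Uniq.InUniqueMaximal.mono (inUnique_of_rank_three hG
    (fun h => hqα.2 (pRankLE_of_sylowOf hR h)) (minSimple_pgroup_ne_top hG hR.2.1))
    (le_inf hR.1 (Subgroup.le_centralizer_iff.mp hXP)) htop

variable {p : ℕ} [hp : Fact p.Prime]

omit [Finite G] hp in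
theorem mem_sigma_of_normalizer_le {M R : Subgroup G} (hq : p.Prime) (hd : p ∣ Nat.card M)
    (hR : SylowOf p R M) (h : Subgroup.normalizer (R : Set G) ≤ M) : p ∈ Cfsg.sigma M := by
  obtain ⟨T, rfl⟩ := hR.toSylow
  exact ⟨hq, hd, T, h⟩

include hG hM in
/-- **BG 10.4**. -/
theorem exists_central_zgroup (hpM : p ∣ Nat.card M)
    (hpσ : p ∉ Cfsg.sigma M) {R : Subgroup G} (hR : SylowOf p R M) :
    ∃ x ∈ R, (∀ r ∈ R, r * x = x * r) ∧ orderOf x = p ∧
      IsZGroup ↥(Cfsg.alphaCore M ⊓ Subgroup.centralizer ({x} : Set G)) ∧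
      ¬ (Subgroup.centralizer ({x} : Set G) ≤ M ∧
        ∀ L : Subgroup G, IsCoatom L → Subgroup.centralizer ({x} : Set G) ≤ L → L = M) := by
  have hN : ¬ Subgroup.normalizer (R : Set G) ≤ M :=
    fun h => hpσ (mem_sigma_of_normalizer_le hp.out hpM hR h)
  have hRne : R ≠ ⊥ := fun h => by
    obtain ⟨Q, hQ⟩ := hR.toSylow
    have := Q.ne_bot_of_dvd_card hpM
    rw [h] at hQ
    exact this ((Subgroup.map_eq_bot_iff_of_injective _ M.subtype_injective).mp hQ)
  obtain ⟨z, hzR, hzc, hzo⟩ := exists_central_orderOf hR.2.1 hRne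
  -- the subgroup of central elements of order dividing `p`
  set W : Subgroup G :=
    { carrier := {x | x ∈ R ∧ (∀ r ∈ R, r * x = x * r) ∧ x ^ p = 1}
      one_mem' := ⟨R.one_mem, fun r _ => by simp, one_pow p⟩
      mul_mem' := fun {a b} ha hb => ⟨R.mul_mem ha.1 hb.1,
        fun r hr => (Commute.mul_right (ha.2.1 r hr) (hb.2.1 r hr)),
        by rw [(show Commute a b from hb.2.1 a ha.1).mul_pow, ha.2.2, hb.2.2, one_mul]⟩
      inv_mem' := fun {a} ha => ⟨R.inv_mem ha.1,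
        fun r hr => (Commute.inv_right (ha.2.1 r hr)), by rw [inv_pow, ha.2.2, inv_one]⟩ } with hW
  have hWe : Cfsg.IsElementaryAbelian p W :=
    ⟨⟨⟨fun a b => Subtype.ext (b.2.2.1 a a.2.1)⟩⟩, fun a ha => ha.2.2⟩
  have hzW : z ∈ W := ⟨hzR, hzc, hzo ▸ pow_orderOf_eq_one z⟩
  have hz1 : z ≠ 1 := fun h => hp.out.ne_one (by rw [← hzo, h, orderOf_one])
  have hWR : W ≤ R := fun x hx => hx.1
  have hWne : W ≠ ⊥ := fun h => hz1 (Subgroup.mem_bot.mp (h ▸ hzW))
  have hNW : Subgroup.normalizer (R : Set G) ≤ Subgroup.normalizer (W : Set G) := by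
    refine Subgroup.le_normalizer_iff.2 fun g hg x hx => ⟨?_, ?_, ?_⟩
    · exact (Subgroup.mem_normalizer_iff.mp hg x).mp hx.1
    · intro r hr
      have h1 := hx.2.1 (g⁻¹ * r * g) (by simpa using (Subgroup.mem_normalizer_iff''.mp hg r).mp hr)
      calc r * (g * x * g⁻¹) = g * ((g⁻¹ * r * g) * x) * g⁻¹ := by group
        _ = g * x * g⁻¹ * r := by rw [h1]; group
    · rw [conj_pow, hx.2.2, mul_one, mul_inv_cancel]
  obtain ⟨L, hL, hNL⟩ := exists_isCoatom_ge (minSimple_normalizer_ne_top hG hWne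
    (minSimple_pgroup_ne_top hG (hR.2.1.to_le hWR)))
  have hLM : L ≠ M := fun h => hN (hNW.trans (h ▸ hNL))
  obtain ⟨x, hxW, hx1, hx⟩ : ∃ x ∈ W, x ≠ 1 ∧ ¬ (Subgroup.centralizer ({x} : Set G) ≤ M ∧
      ∀ L : Subgroup G, IsCoatom L → Subgroup.centralizer ({x} : Set G) ≤ L → L = M) := by
    by_contra hall
    push Not at hall
    by_cases hcyc : IsCyclic W
    · obtain ⟨⟨w, hw⟩, hgen⟩ := hcyc.exists_generator
      have hw1 : w ≠ 1 := fun h => hz1 (by
        obtain ⟨i, hi⟩ := hgen ⟨z, hzW⟩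
        have hi' := congrArg Subtype.val hi
        simpa [h] using hi'.symm)
      refine hLM ((hall w hw hw1).2 L hL (le_trans (fun y hy => ?_) hNL))
      refine Subgroup.centralizer_le_normalizer (W : Set G) (Subgroup.mem_centralizer_iff.mpr fun v hv => ?_)
      obtain ⟨i, hi⟩ := hgen ⟨v, hv⟩
      have hi' : w ^ i = v := congrArg Subtype.val hi
      rw [← hi']
      exact (Commute.zpow_left (show Commute w y from
        (Subgroup.mem_centralizer_singleton_iff.mp hy).symm) i)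
    · exact hLM (Uniq.InUniqueMaximal.eq (Uniq.inUniqueMaximal_of_centralizers_le hG hM
        (hWR.trans hR.1) hWe hcyc fun b hb hb1 => (hall b hb hb1).1) hM (hWR.trans hR.1) hL
        (Subgroup.le_normalizer.trans hNL))
  have hox : orderOf x = p := orderOf_eq_prime hxW.2.2 hx1
  refine ⟨x, hxW.1, hxW.2.1, hox, ?_, hx⟩
  have hr : Cfsg.RankLE 1 ↥(Cfsg.alphaCore M ⊓ Subgroup.centralizer ({x} : Set G)) := by
    by_contra hcon
    have hz : Subgroup.centralizer ((Subgroup.zpowers x : Subgroup G) : Set G) =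
        Subgroup.centralizer ({x} : Set G) := by
      rw [Subgroup.zpowers_eq_closure, Subgroup.centralizer_closure]
    have hU := inUnique_inf_centralizer hG hM (Subgroup.zpowers_le.mpr (hR.1 hxW.1))
      (fun q hq hd hqα => by
        rw [Nat.card_zpowers, hox] at hd
        exact not_mem_alpha_of_not_mem_sigma hG hM hpσ
          ((Nat.prime_dvd_prime_iff_eq hq hp.out).mp hd ▸ hqα))
      (by rw [hz]; exact hcon)
    rw [hz] at hU
    have huniq : ∀ L : Subgroup G, IsCoatom L → Subgroup.centralizer ({x} : Set G) ≤ L → L = M :=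
      fun L hL hle => Uniq.InUniqueMaximal.eq hU hM inf_le_left hL (inf_le_right.trans hle)
    obtain ⟨L', hL', hle⟩ := exists_isCoatom_ge (minSimple_centralizer_singleton_ne_top hG hx1)
    exact hx ⟨huniq L' hL' hle ▸ hle, huniq⟩
  refine ⟨fun q hq Q => ?_⟩
  have := Fact.mk hq
  by_cases hb : (Q : Subgroup ↥(Cfsg.alphaCore M ⊓ Subgroup.centralizer ({x} : Set G))) = ⊥
  · rw [hb]; infer_instance
  refine Isolated.isCyclic_of_small_abelian ?_ Q.isPGroup' fun A hA hAe => ?_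
  · exact Uniq.prime_ne_two hG (Q.isPGroup'.map (Subgroup.subtype _))
      (fun h => hb ((Subgroup.map_eq_bot_iff_of_injective _ (Subgroup.subtype_injective _)).mp h))
  · simpa using pRankLE_iff.mp (PRankLE.subgroup _ (hr q hq)) A ⟨hA, hAe⟩

include hG hM in
/-- **BG 10.5**: outside `σ(M)` the elementary abelian `p²`-subgroups of `M` are maximal. -/
theorem elemAb_sq_maximal (hpσ : p ∉ Cfsg.sigma M)
    {A B : Subgroup G} (hAM : A ≤ M) (hAe : Cfsg.IsElementaryAbelian p A) (hA2 : Nat.card A = p ^ 2)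
    (hBe : Cfsg.IsElementaryAbelian p B) (hAB : A ≤ B) : B = A := by
  by_contra hne
  have hlt : Nat.card A < Nat.card B := by
    by_contra h
    exact hne (Subgroup.eq_of_le_of_card_ge hAB (not_lt.mp h)).symm
  have h3 : ¬ Cfsg.PRankLE p 2 B := fun h => by
    have := pRankLE_iff.mp h ⊤ (elemAb_mono (elemAb_comap hBe B.subtype B.subtype_injective)
      (fun x _ => x.2))
    rw [Subgroup.card_top] at this
    omega
  obtain ⟨Y, hYB, hYe, hYc⟩ := not_pRankLE_subgroup_iff.mp h3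
  have hAU : Cfsg.InUniqueMaximal A := Uniq.inUniqueMaximal_of_centralizes hG
    (CubeUnique.inUniqueMaximal_cube hG hYe hYc)
    (fun a ha => Subgroup.mem_centralizer_iff.mpr fun y hy => elemAb_commute hBe (hYB hy) (hAB ha))
    (Uniq.not_rankLE_one_of_elemAb (k := 0) le_rfl hAe hA2)
  obtain ⟨R, hR, hAR⟩ := exists_sylowOf_ge hAM (isPGroup_of_elemAb hAe)
  obtain ⟨L, hL, hle⟩ := exists_isCoatom_ge (minSimple_normalizer_ne_top hG
    (fun h => Uniq.InUniqueMaximal.ne_bot hG hAU (le_bot_iff.mp (h ▸ hAR)))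
    (minSimple_pgroup_ne_top hG hR.2.1))
  have hd : p ∣ Nat.card M :=
    (hA2 ▸ dvd_pow_self p two_ne_zero).trans (Subgroup.card_dvd_of_le hAM)
  exact hpσ (mem_sigma_of_normalizer_le hp.out hd hR
    (Uniq.InUniqueMaximal.eq hAU hM hAM hL (hAR.trans (Subgroup.le_normalizer.trans hle)) ▸ hle))

include hG hM in
theorem not_idealPrime (hpσ : p ∉ Cfsg.sigma M) (hr1 : ¬ Cfsg.PRankLE p 1 M) :
    ¬ Cfsg.IsIdealPrime p G := by
  obtain ⟨A, hAM, hAe, hA2⟩ := not_pRankLE_subgroup_iff.mp hr1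
  rintro ⟨-, -, h⟩
  obtain ⟨P, hP⟩ := (isPGroup_of_elemAb hAe).exists_le_sylow
  obtain ⟨B, -, hBe, hAB⟩ := h P A hP hAe hA2
  exact hAB.ne (elemAb_sq_maximal hG hM hpσ hAM hAe hA2 hBe hAB.le).symm

include hG hM in
/-- **BG 10.5**: a subgroup of order `p` with normalizer in `M`, `p ∉ σ(M)`. -/
theorem rank_two_of_normalizer_le (hpσ : p ∉ Cfsg.sigma M) {X : Subgroup G} (hX : Nat.card X = p)
    (hNX : Subgroup.normalizer (X : Set G) ≤ M) :
    (Cfsg.PRankLE p 2 M ∧ ¬ Cfsg.PRankLE p 1 M) ∧ ¬ Cfsg.IsIdealPrime p G ∧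
      ∃ A : Subgroup G, Cfsg.IsElementaryAbelian p A ∧ Nat.card A = p ^ 2 ∧ X ≤ A := by
  have hXM : X ≤ M := Subgroup.le_normalizer.trans hNX
  have hd : p ∣ Nat.card M := hX ▸ Subgroup.card_dvd_of_le hXM
  have hXp : IsPGroup p X := IsPGroup.of_card (n := 1) (by rw [hX, pow_one])
  have hX1 : X ≠ ⊥ := fun h => by rw [h, Subgroup.card_bot] at hX; exact hp.out.ne_one hX.symm
  have hXe : Cfsg.IsElementaryAbelian p X := by
    have : IsCyclic X := isCyclic_of_prime_card hX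
    exact ⟨IsCyclic.isMulCommutative, fun a ha => by
      simpa [hX] using congrArg Subtype.val (pow_card_eq_one' (x := (⟨a, ha⟩ : X)))⟩
  obtain ⟨R, hR, hXR⟩ := exists_sylowOf_ge hXM hXp
  obtain ⟨z, hzR, hzc, hzo⟩ := exists_central_orderOf hR.2.1
    (fun h => hX1 (le_bot_iff.mp (h ▸ hXR)))
  have hzp : z ^ p = 1 := hzo ▸ pow_orderOf_eq_one z
  have hr2 : Cfsg.PRankLE p 2 M := by
    by_contra h
    exact not_mem_alpha_of_not_mem_sigma hG hM hpσ ⟨hp.out, h⟩
  -- a subgroup of order `p` contains every centralizing element of order `p` if the rank is one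
  have grow : ∀ {x : G}, x ∈ R → x ^ p = 1 → x ∈ Subgroup.centralizer (X : Set G) → x ∉ X →
      ∃ A : Subgroup G, A ≤ R ∧ Cfsg.IsElementaryAbelian p A ∧ Nat.card A = p ^ 2 ∧ X ≤ A := by
    intro x hxR hxp hxc hxX
    refine ⟨X ⊔ Subgroup.zpowers x, sup_le hXR (Subgroup.zpowers_le.mpr hxR),
      elemAb_sup_zpowers hXe hxp hxc, ?_, le_sup_left⟩
    have hle : X ⊔ Subgroup.zpowers x ≤ R := sup_le hXR (Subgroup.zpowers_le.mpr hxR)
    have he := elemAb_sup_zpowers hXe hxp hxc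
    obtain ⟨n, hn⟩ := elemAb_card he
    have hlt : p ^ 1 < p ^ n := by
      rw [pow_one, ← hn]
      by_contra hcon
      have h2 := Subgroup.eq_of_le_of_card_ge (le_sup_left : X ≤ X ⊔ Subgroup.zpowers x)
        (hX.symm ▸ not_lt.mp hcon)
      exact hxX (h2.symm ▸ (le_sup_right : Subgroup.zpowers x ≤ X ⊔ Subgroup.zpowers x)
        (Subgroup.mem_zpowers x))
    have hle2 : p ^ n ≤ p ^ 2 := by
      rw [← hn, ← Nat.card_congr (Subgroup.subgroupOfEquivOfLe (hle.trans hR.1)).toEquiv]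
      exact pRankLE_iff.mp hr2 _ (elemAb_comap he _ M.subtype_injective)
    rw [Nat.pow_lt_pow_iff_right hp.out.one_lt] at hlt
    rw [Nat.pow_le_pow_iff_right hp.out.one_lt] at hle2
    rw [hn, show n = 2 by omega]
  have hr1 : ¬ Cfsg.PRankLE p 1 M := by
    intro h
    refine hpσ (mem_sigma_of_normalizer_le hp.out hd hR (le_trans ?_ hNX))
    have key : ∀ y ∈ R, y ^ p = 1 → (∀ r ∈ X, r * y = y * r) → y ∈ X := by
      intro y hy hyp hyc
      by_contra hyX
      obtain ⟨A, hAR, hAe, hA2, -⟩ := grow hy hyp (Subgroup.mem_centralizer_iff.mpr hyc) hyX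
      exact not_pRankLE_subgroup_iff.mpr ⟨A, hAR.trans hR.1, hAe, hA2⟩ h
    have hzX : z ∈ X := key z hzR hzp fun r hr => hzc r (hXR hr)
    have hXz : X = Subgroup.zpowers z :=
      (Subgroup.eq_of_le_of_card_ge (Subgroup.zpowers_le.mpr hzX)
        (by rw [Nat.card_zpowers, hzo, hX])).symm
    refine Subgroup.le_normalizer_iff.2 fun g hg x hx => key _ ?_ ?_ fun r hr => ?_
    · exact (Subgroup.mem_normalizer_iff.mp hg x).mp (hXR hx)
    · rw [conj_pow, hXe.2 x hx, mul_one, mul_inv_cancel]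
    · rw [hXz] at hr
      obtain ⟨i, rfl⟩ := hr
      exact Commute.zpow_left
        (show Commute z (g * x * g⁻¹) from (hzc _ ((Subgroup.mem_normalizer_iff.mp hg x).mp (hXR hx))).symm) i
  refine ⟨⟨hr2, hr1⟩, not_idealPrime hG hM hpσ hr1, ?_⟩
  suffices ∃ A : Subgroup G, A ≤ R ∧ Cfsg.IsElementaryAbelian p A ∧ Nat.card A = p ^ 2 ∧ X ≤ A from
    let ⟨A, _, h1, h2, h3⟩ := this
    ⟨A, h1, h2, h3⟩
  by_cases hzX : z ∈ X
  · have hXz : X = Subgroup.zpowers z :=
      (Subgroup.eq_of_le_of_card_ge (Subgroup.zpowers_le.mpr hzX)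
        (by rw [Nat.card_zpowers, hzo, hX])).symm
    obtain ⟨A, hAR, hAe, hA2⟩ := not_pRankLE_subgroup_iff.mp
      (fun h => hr1 (pRankLE_of_sylowOf hR h))
    obtain ⟨y, hyA, hyX⟩ : ∃ y ∈ A, y ∉ X := by
      by_contra hcon
      push Not at hcon
      have h1 := Subgroup.card_le_of_le (show A ≤ X from hcon)
      rw [hA2, hX] at h1
      exact absurd h1 (not_le.mpr (by rw [sq]; exact lt_mul_left hp.out.pos hp.out.one_lt))
    refine grow (hAR hyA) (hAe.2 y hyA) (Subgroup.mem_centralizer_iff.mpr fun r hr => ?_) hyX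
    rw [hXz] at hr
    obtain ⟨i, rfl⟩ := hr
    exact Commute.zpow_left (show Commute z y from (hzc y (hAR hyA)).symm) i
  · exact grow hzR hzp (Subgroup.mem_centralizer_iff.mpr fun r hr => hzc r (hXR hr)) hzX

end CfsgLib.OddOrder.Sigma10
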