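import Mathlib
import Cfsg.Agent.Lib.OddOrder.CubeUniqueAux
import Cfsg.Agent.Lib.OddOrder.Sigma10Local

/-!
# BG 5.3: narrow `p`-groups of rank at least three
-/

set_option autoImplicit false

namespace CfsgLib.OddOrder.Narrow

open Subgroup CfsgLib.OddOrder
open scoped commutatorElement

universe u

variable {R : Type u} [Group R] [Finite R] {p : ℕ} [hp : Fact p.Prime]

omit [Finite R] hp in
theorem mem_of_maximal {E : Subgroup R} (hE : Cfsg.IsElementaryAbelian p E)
    (hmax : ∀ B : Subgroup R, Cfsg.IsElementaryAbelian p B → E ≤ B → B = E) {x : R} (hx : x ^ p = 1)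
    (hc : x ∈ Subgroup.centralizer (E : Set R)) : x ∈ E :=
  (hmax _ (elemAb_sup_zpowers hE hx hc) le_sup_left).le
    ((le_sup_right : Subgroup.zpowers x ≤ E ⊔ Subgroup.zpowers x) (Subgroup.mem_zpowers x))

/-- A narrow `p`-group of rank at least three has a maximal elementary abelian subgroup of order
`p ^ 2`. -/
theorem exists_maximal_sq (hR : IsPGroup p R) (hr : ¬ Cfsg.PRankLE p 2 R) (h : Cfsg.IsNarrow p R) :
    ∃ E : Subgroup R, Cfsg.IsElementaryAbelian p E ∧ Nat.card E = p ^ 2 ∧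
      ∀ B : Subgroup R, Cfsg.IsElementaryAbelian p B → E ≤ B → B = E := by
  rcases h with h | ⟨R₀, R₁, hc0, hcyc, hinf, hcomm, hsup⟩
  · exact absurd h hr
  have hp1 := hp.out.one_lt
  obtain ⟨X, hXe, hXc⟩ := exists_elemAb_of_not_pRankLE hr
  have : Nontrivial R := by
    by_contra hn
    rw [not_nontrivial_iff_subsingleton] at hn
    rw [Nat.card_eq_one_iff_unique.mpr ⟨inferInstance, ⟨1⟩⟩] at hXc
    exact (Nat.one_lt_pow three_ne_zero hp1).ne hXc
  obtain ⟨r₀, hr₀⟩ : ∃ r, r ∈ R₀ ∧ r ≠ 1 :=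
    (Subgroup.bot_or_exists_ne_one R₀).resolve_left fun hb => by
      rw [hb, Subgroup.card_bot] at hc0; exact hp.out.ne_one hc0.symm
  have hz0 : R₀ = Subgroup.zpowers r₀ :=
    (Subgroup.eq_of_le_of_card_ge (Subgroup.zpowers_le.mpr hr₀.1) (by
      rw [hc0, Nat.card_zpowers]
      rcases (Nat.dvd_prime hp.out).mp (hc0 ▸ Subgroup.orderOf_dvd_natCard R₀ hr₀.1) with h | h
      · exact absurd (orderOf_eq_one_iff.mp h) hr₀.2
      · exact h.ge)).symm
  have hr₀p : r₀ ^ p = 1 := orderOf_dvd_iff_pow_eq_one.mp (hc0 ▸ Subgroup.orderOf_dvd_natCard R₀ hr₀.1)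
  have hR₁ne : R₁ ≠ ⊥ := by
    intro hb
    rw [hb, sup_bot_eq] at hsup
    -- then the centre is `R₀`, and `R₀` is central
    obtain ⟨z, -, hzc, hzo⟩ := Sigma10.exists_central_orderOf (hR.to_subgroup ⊤)
      (fun h : (⊤ : Subgroup R) = ⊥ => by
        have := (Subgroup.nontrivial_iff (G := R)).mpr inferInstance
        exact absurd h.symm bot_ne_top)
    have hz : z ∈ R₀ := hsup.ge (Subgroup.mem_centralizer_iff.mpr fun a _ => hzc a (Subgroup.mem_top a))
    have hR0 : R₀ = Subgroup.zpowers z := (Subgroup.eq_of_le_of_card_ge (Subgroup.zpowers_le.mpr hz)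
      (by rw [hc0, Nat.card_zpowers, hzo])).symm
    have hle : X ≤ R₀ := fun x _ => hsup.ge (Subgroup.mem_centralizer_iff.mpr fun a ha => by
      rw [SetLike.mem_coe, hR0] at ha
      obtain ⟨i, rfl⟩ := ha
      exact (Commute.zpow_left (hzc x (Subgroup.mem_top x)).symm i).eq)
    have := Subgroup.card_le_of_le hle
    rw [hc0, hXc] at this
    exact absurd this (not_le.mpr (lt_self_pow₀ hp1 (by norm_num)))
  -- the element of order `p` in `R₁`
  obtain ⟨s, hs, hso⟩ : ∃ s ∈ R₁, orderOf s = p := by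
    obtain ⟨n, hn⟩ := (hR.to_subgroup R₁).exists_card_eq
    obtain ⟨s, hs⟩ := exists_prime_orderOf_dvd_card' (G := R₁) p
      (hn ▸ dvd_pow_self p fun h0 => hR₁ne (Subgroup.card_eq_one.mp (by rw [hn, h0, pow_zero])))
    exact ⟨s, s.2, (Subgroup.orderOf_coe s).trans hs⟩
  have hsR₀ : s ∉ R₀ := fun h => by
    have : s ∈ R₀ ⊓ R₁ := ⟨h, hs⟩
    rw [hinf, Subgroup.mem_bot] at this
    rw [this, orderOf_one] at hso
    exact hp.out.ne_one hso.symm
  have hsc : s ∈ Subgroup.centralizer (R₀ : Set R) := hsup ▸ le_sup_right (a := R₀) hs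
  have hR₀e : Cfsg.IsElementaryAbelian p R₀ := hz0 ▸ elemAb_zpowers hr₀p
  have hEe := elemAb_sup_zpowers hR₀e (hso ▸ pow_orderOf_eq_one s) hsc
  refine ⟨R₀ ⊔ Subgroup.zpowers s, hEe, ?_, fun B hBe hEB => le_antisymm (fun b hb => ?_) hEB⟩
  · rw [card_sup_zpowers_of_not_mem hEe le_sup_left (le_sup_right (a := R₀) (Subgroup.mem_zpowers s)) hsR₀,
      hc0, pow_two]
  · have hbC : b ∈ R₀ ⊔ R₁ := hsup.ge (Subgroup.mem_centralizer_iff.mpr fun a ha =>
      elemAb_commute hBe (hEB (le_sup_left (b := Subgroup.zpowers s) ha)) hb)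
    have hn : R₁ ≤ Subgroup.normalizer (R₀ : Set R) := fun x hx =>
      Subgroup.centralizer_le_normalizer _ (Subgroup.mem_centralizer_iff.mpr fun a ha => hcomm a ha x hx)
    obtain ⟨t, ht, r, hr1, rfl⟩ := Coprime.exists_mul_of_mem_sup hn (sup_comm R₀ R₁ ▸ hbC)
    -- the component in `R₁` has exponent `p`
    have htp : t ^ p = 1 := by
      have h1 : Commute t r := (hcomm r hr1 t ht).symm
      have h2 := hBe.2 _ hb
      rw [h1.mul_pow, hR₀e.2 r hr1, mul_one] at h2
      exact h2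
    refine mul_mem (le_sup_right (a := R₀) ?_) (le_sup_left (b := Subgroup.zpowers s) hr1)
    by_contra hts
    have := IsCyclic.isMulCommutative (α := R₁)
    have hT := elemAb_sup_zpowers (elemAb_zpowers (hso ▸ pow_orderOf_eq_one s)) htp
      (Subgroup.mem_centralizer_iff.mpr fun a ha => mul_comm_of_mem this ((Subgroup.zpowers_le.mpr hs) ha) ht)
    have hle : Subgroup.zpowers s ⊔ Subgroup.zpowers t ≤ R₁ :=
      sup_le (Subgroup.zpowers_le.mpr hs) (Subgroup.zpowers_le.mpr ht)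
    have : IsCyclic ↥(Subgroup.zpowers s ⊔ Subgroup.zpowers t) :=
      isCyclic_of_injective (Subgroup.inclusion hle) (Subgroup.inclusion_injective hle)
    refine (elemAb_not_isCyclic_iff hT).mpr ?_ this
    rw [card_sup_zpowers_of_not_mem hT le_sup_left
      (le_sup_right (a := Subgroup.zpowers s) (Subgroup.mem_zpowers t)) hts, Nat.card_zpowers, hso, pow_two]

/-- The invariants of BG 5.3: `Ω₁(Z(R)) = ⟨z⟩` and `W = Ω₁(Z₂(R))`. -/
structure Layer (p : ℕ) (E W : Subgroup R) (z e : R) : Prop where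
  order_z : orderOf z = p
  central : ∀ g : R, g * z = z * g
  omega : ∀ x : R, (∀ g : R, g * x = x * g) → x ^ p = 1 → x ∈ Subgroup.zpowers z
  mem_z : z ∈ E
  mem_e : e ∈ E
  gen : E = Subgroup.zpowers z ⊔ Subgroup.zpowers e
  not_le : ¬ E ≤ Subgroup.centralizer (W : Set R)
  elemAb : Cfsg.IsElementaryAbelian p W
  card : Nat.card W = p ^ 2
  index : (Subgroup.centralizer (W : Set R)).index = p
  inf_le : E ⊓ Subgroup.centralizer (W : Set R) ≤ Subgroup.zpowers z

/-- BG 5.3. -/
theorem exists_layer (hp2 : p ≠ 2) (hR : IsPGroup p R) (hr : ¬ Cfsg.PRankLE p 2 R) {E : Subgroup R}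
    (hE : Cfsg.IsElementaryAbelian p E) (hE2 : Nat.card E = p ^ 2)
    (hmax : ∀ B : Subgroup R, Cfsg.IsElementaryAbelian p B → E ≤ B → B = E) :
    ∃ z e : R, Layer p E (CubeUnique.omegaTwo p (hp.out.odd_of_ne_two hp2) R) z e := by
  have hp1 := hp.out.one_lt
  have hodd := hp.out.odd_of_ne_two hp2
  set W := CubeUnique.omegaTwo p hodd R with hW
  have hEnn : ¬ E.Normal := by
    intro hn
    obtain ⟨A, hEA, -, hAc, hA3⟩ := OddOrder41.normal_sq_le_scn_three p hp2 hR hr E hE hE2
    obtain ⟨B, hBA, hBe, hBc⟩ := not_pRankLE_subgroup_iff.mp hA3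
    have hBE : B ≤ E := fun x hx => mem_of_maximal hE hmax (hBe.2 x hx)
      (Subgroup.centralizer_le hEA (hAc.ge (hBA hx)))
    have h := Subgroup.card_le_of_le hBE
    rw [hE2, hBc] at h
    exact absurd ((Nat.pow_le_pow_iff_right hp1).mp h) (by norm_num)
  have htop : (⊤ : Subgroup R) ≠ ⊥ := fun h => by
    have h2 := Subgroup.card_le_of_le (le_top : E ≤ ⊤)
    rw [h, hE2, Subgroup.card_bot] at h2
    exact absurd h2 (not_le.mpr (Nat.one_lt_pow two_ne_zero hp1))
  obtain ⟨z, -, hzc, hzo⟩ := Sigma10.exists_central_orderOf (hR.to_subgroup ⊤) htop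
  have hzc' : ∀ g : R, g * z = z * g := fun g => hzc g (Subgroup.mem_top g)
  have hzE : z ∈ E := mem_of_maximal hE hmax (hzo ▸ pow_orderOf_eq_one z)
    (Subgroup.mem_centralizer_iff.mpr fun g _ => hzc' g)
  have hEgen : ∀ y ∈ E, y ∉ Subgroup.zpowers z → E = Subgroup.zpowers z ⊔ Subgroup.zpowers y :=
    fun y hy hyz => (Subgroup.eq_of_le_of_card_ge
      (sup_le (Subgroup.zpowers_le.mpr hzE) (Subgroup.zpowers_le.mpr hy))
      (by rw [card_sup_zpowers_of_not_mem hE (Subgroup.zpowers_le.mpr hzE) hy hyz, Nat.card_zpowers,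
        hzo, hE2, pow_two])).symm
  obtain ⟨e, he, hez⟩ : ∃ e ∈ E, e ∉ Subgroup.zpowers z := by
    refine SetLike.not_le_iff_exists.mp fun h => ?_
    have h2 := Subgroup.card_le_of_le h
    rw [hE2, Nat.card_zpowers, hzo] at h2
    exact absurd h2 (not_le.mpr (lt_self_pow₀ hp1 one_lt_two))
  have hω : ∀ x : R, (∀ g : R, g * x = x * g) → x ^ p = 1 → x ∈ Subgroup.zpowers z := by
    intro x hx hxp
    by_contra hxz
    refine hEnn ⟨fun y hy g => ?_⟩
    have hg := hEgen x (mem_of_maximal hE hmax hxp (Subgroup.mem_centralizer_iff.mpr fun g _ => hx g)) hxz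
    have hcen : E ≤ Subgroup.center R := hg ▸ sup_le
      (Subgroup.zpowers_le.mpr (Subgroup.mem_center_iff.mpr hzc'))
      (Subgroup.zpowers_le.mpr (Subgroup.mem_center_iff.mpr hx))
    rwa [Subgroup.mem_center_iff.mp (hcen hy) g, mul_inv_cancel_right]
  have hcomm : ∀ x ∈ W, ∀ g : R, ⁅x, g⁆ ∈ Subgroup.zpowers z := by
    intro x hx g
    have h := Subgroup.mem_upperCentralSeries_succ_iff.mp hx.1 g
    rw [Subgroup.upperCentralSeries_one] at h
    exact hω _ (Subgroup.mem_center_iff.mp h)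
      (PGroup.commutatorElement_pow_eq_one_of_pow_central h (by rw [hx.2]; exact Subgroup.one_mem _))
  have heW : e ∉ W := fun h => hEnn ⟨fun y hy g => by
    have hzW : E ≤ W := (hEgen e he hez).le.trans (sup_le (Subgroup.zpowers_le.mpr
      ⟨Subgroup.mem_upperCentralSeries_succ_iff.mpr fun a => by
        rw [commutatorElement_eq_one_iff_mul_comm.mpr (hzc' a).symm]; exact Subgroup.one_mem _,
        hzo ▸ pow_orderOf_eq_one z⟩) (Subgroup.zpowers_le.mpr h))
    have h2 : g * y * g⁻¹ = ⁅y, g⁆⁻¹ * y := by rw [commutatorElement_def]; group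
    rw [h2]
    exact mul_mem (inv_mem (Subgroup.zpowers_le.mpr hzE (hcomm y (hzW hy) g))) hy⟩
  have hWE : ∀ x ∈ W, x * e = e * x → x ∈ Subgroup.zpowers z := by
    intro x hx hxe
    have hxE : x ∈ E := mem_of_maximal hE hmax hx.2 (Subgroup.mem_centralizer_iff.mpr fun a ha => by
      rw [SetLike.mem_coe, hEgen e he hez] at ha
      have hc : Subgroup.zpowers z ⊔ Subgroup.zpowers e ≤ Subgroup.centralizer ({x} : Set R) :=
        sup_le (Subgroup.zpowers_le.mpr (Subgroup.mem_centralizer_singleton_iff.mpr (hzc' x).symm))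
          (Subgroup.zpowers_le.mpr (Subgroup.mem_centralizer_singleton_iff.mpr hxe.symm))
      exact Subgroup.mem_centralizer_singleton_iff.mp (hc ha))
    by_contra hxz
    have hg := hEgen x hxE hxz
    refine heW ((le_trans hg.le (sup_le (Subgroup.zpowers_le.mpr ?_) (Subgroup.zpowers_le.mpr hx))) he)
    exact ⟨Subgroup.mem_upperCentralSeries_succ_iff.mpr fun a => by
      rw [commutatorElement_eq_one_iff_mul_comm.mpr (hzc' a).symm]; exact Subgroup.one_mem _,
      hzo ▸ pow_orderOf_eq_one z⟩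
  -- `W` has order `p ^ 2`
  let f : ↥W →* R :=
    { toFun := fun x => ⁅(x : R), e⁆
      map_one' := by simp
      map_mul' := fun a b => by
        have hc : ∀ g : R, g * ⁅(b : R), e⁆ = ⁅(b : R), e⁆ * g := fun g => by
          obtain ⟨i, hi⟩ := hcomm b b.2 e
          simp only at hi
          rw [← hi]
          exact (Commute.zpow_right (hzc' g) i).eq
        calc ⁅((a * b : ↥W) : R), e⁆ = (a : R) * ⁅(b : R), e⁆ * (a : R)⁻¹ * ⁅(a : R), e⁆ := by
              rw [Subgroup.coe_mul, commutatorElement_def, commutatorElement_def, commutatorElement_def]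
              group
          _ = ⁅(a : R), e⁆ * ⁅(b : R), e⁆ := by rw [hc a, mul_inv_cancel_right, hc] }
  have hWle : Nat.card W ≤ p ^ 2 := by
    rw [← Subgroup.card_mul_index f.ker, Subgroup.index_ker, pow_two]
    refine Nat.mul_le_mul ?_ ?_
    · rw [← Subgroup.card_map_of_injective W.subtype_injective, ← hzo, ← Nat.card_zpowers]
      refine Subgroup.card_le_of_le ?_
      rintro _ ⟨x, hx, rfl⟩
      exact hWE x x.2 (commutatorElement_eq_one_iff_mul_comm.mp hx)
    · rw [← hzo, ← Nat.card_zpowers]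
      refine Subgroup.card_le_of_le ?_
      rintro _ ⟨x, rfl⟩
      exact hcomm x x.2 e
  obtain ⟨T, -, -, hTp, -, hTc, W₀, hW₀T, -, hW₀c⟩ := CubeUnique.exists_omegaTwo hp2 (hR.to_subgroup ⊤)
    (fun h => hr ((PRankLE.congr Subgroup.topEquiv).mp h))
  have hW₀W : W₀ ≤ W := fun x hx => by
    refine ⟨Subgroup.mem_upperCentralSeries_succ_iff.mpr fun g => ?_, hTp x (hW₀T hx)⟩
    rw [Subgroup.upperCentralSeries_one, Subgroup.mem_center_iff]
    exact fun a => Subgroup.mem_centralizer_iff.mp (hTc x (hW₀T hx) g (Subgroup.mem_top g)).1.2 a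
      (Subgroup.mem_top a)
  have hWc : Nat.card W = p ^ 2 := le_antisymm hWle (hW₀c ▸ Subgroup.card_le_of_le hW₀W)
  have hWe : Cfsg.IsElementaryAbelian p W :=
    ⟨IsPGroup.isMulCommutative_of_card_eq_prime_sq hWc, fun x hx => hx.2⟩
  have hWn : W.Normal := by
    have := CubeUnique.omegaTwo_characteristic (R := R) hodd
    infer_instance
  have hTC : ¬ E ≤ Subgroup.centralizer (W : Set R) := fun h => by
    have hWE' : W ≤ Subgroup.zpowers z := fun x hx => hWE x hx
      (Subgroup.mem_centralizer_iff.mp (h he) x hx)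
    have := Subgroup.card_le_of_le hWE'
    rw [hWc, Nat.card_zpowers, hzo] at this
    exact absurd this (not_le.mpr (lt_self_pow₀ hp1 one_lt_two))
  refine ⟨z, e, hzo, hzc', hω, hzE, he, hEgen e he hez, hTC, hWe, hWc, ?_, ?_⟩
  · rcases (Nat.dvd_prime hp.out).mp (OddOrder41.index_centralizer_dvd_of_card_sq hR W hWe hWc) with h | h
    · exact absurd (le_top.trans (Subgroup.index_eq_one.mp h).ge) hTC
    · exact h
  · intro x hx
    by_contra hxz
    refine hTC ?_
    rw [hEgen x hx.1 hxz]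
    exact sup_le (Subgroup.zpowers_le.mpr (Subgroup.mem_centralizer_iff.mpr fun g _ => hzc' g))
      (Subgroup.zpowers_le.mpr hx.2)

end CfsgLib.OddOrder.Narrow
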