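import Mathlib
import Cfsg.Agent.Lib.OddOrder.Sigma10Local
import Cfsg.Agent.Lib.OddOrder41.NormalElementary

/-!
# Narrow `p`-groups: a maximal elementary abelian `p²`-subgroup makes a `p`-group narrow
-/

set_option autoImplicit false

namespace CfsgLib.OddOrder.Narrow

open Subgroup CfsgLib.OddOrder CfsgLib.OddOrder.Transitivity

universe u

variable {G : Type u} [Group G] [Finite G] {p : ℕ} [hp : Fact p.Prime]

/-- BG 5.2. -/
theorem isNarrow_of_maximal_sq (hp2 : p ≠ 2) {P A : Subgroup G} (hP : IsPGroup p P) (hAP : A ≤ P)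
    (hAe : Cfsg.IsElementaryAbelian p A) (hA2 : Nat.card A = p ^ 2)
    (hmax : ∀ x ∈ P, x ^ p = 1 → x ∈ Subgroup.centralizer (A : Set G) → x ∈ A) :
    Cfsg.IsNarrow p ↥P := by
  by_cases hr : Cfsg.PRankLE p 2 P
  · exact Or.inl hr
  refine Or.inr ?_
  set A' := A.subgroupOf P with hA'
  have hA'e : Cfsg.IsElementaryAbelian p A' := elemAb_comap hAe _ P.subtype_injective
  have hA'2 : Nat.card A' = p ^ 2 := by
    rw [hA', Nat.card_congr (Subgroup.subgroupOfEquivOfLe hAP).toEquiv, hA2]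
  have hmax' : ∀ x : P, x ^ p = 1 → x ∈ Subgroup.centralizer (A' : Set P) → x ∈ A' := fun x hx hc =>
    hmax x x.2 (congrArg Subtype.val hx) (Subgroup.mem_centralizer_iff.mpr fun a ha =>
      congrArg Subtype.val (Subgroup.mem_centralizer_iff.mp hc ⟨a, hAP ha⟩ ha))
  -- a normal elementary abelian subgroup of order `p²`
  obtain ⟨S, hSP, hSn, hSc, hS3⟩ := Uniq.exists_scn_three hp2 hP hr
  have hScomm : IsMulCommutative S := ⟨⟨fun x y =>
    Subtype.ext (Subgroup.mem_centralizer_iff.mp (hSc.ge y.2).2 x x.2)⟩⟩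
  obtain ⟨W, hWn, hWe, hW2, -⟩ := Criteria.exists_normal_sq hP hSP hSn hScomm
    (fun h => hS3 (PRankLE.mono_k hp.out one_le_two h))
  have hWne : W ≠ A' := by
    rintro rfl
    obtain ⟨B, hAB, -, hBc, hB3⟩ := OddOrder41.normal_sq_le_scn_three p hp2 hP hr A' hA'e hA'2
    obtain ⟨E, hEB, hEe, hEc⟩ := not_pRankLE_subgroup_iff.mp hB3
    have hEA : E ≤ A' := fun x hx => hmax' x (hEe.2 x hx)
      (Subgroup.centralizer_le hAB (hBc.ge (hEB hx)))
    have h := Subgroup.card_le_of_le hEA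
    rw [hA'2, hEc] at h
    exact absurd ((Nat.pow_le_pow_iff_right hp.out.one_lt).mp h) (by norm_num)
  set T := Subgroup.centralizer (W : Set P) with hT
  have hTn : T.Normal := Subgroup.normalizer_eq_top_iff.mp (top_le_iff.mp
    ((Subgroup.normalizer_eq_top_iff.mpr hWn).ge.trans (normalizer_centralizer_le W)))
  have hAT : ¬ A' ≤ T := fun h => hWne (Subgroup.eq_of_le_of_card_ge
    (fun w hw => hmax' w (hWe.2 w hw) (Subgroup.le_centralizer_iff.mp h hw))
    (hA'2.trans hW2.symm).le)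
  obtain ⟨a, ha, haT⟩ := SetLike.not_le_iff_exists.mp hAT
  have hao : orderOf a = p :=
    orderOf_eq_prime (hA'e.2 a ha) (fun h => haT (h ▸ Subgroup.one_mem _))
  have hPne : (⊤ : Subgroup P) ≠ ⊥ := fun h => haT (by
    have ha1 : a = 1 := Subgroup.mem_bot.mp (h ▸ Subgroup.mem_top a)
    rw [ha1]; exact Subgroup.one_mem _)
  obtain ⟨z, -, hzc, hzo⟩ := Sigma10.exists_central_orderOf (hP.to_subgroup ⊤) hPne
  have hzA : z ∈ A' := hmax' z (hzo ▸ pow_orderOf_eq_one z)
    (Subgroup.mem_centralizer_iff.mpr fun b _ => hzc b (Subgroup.mem_top b))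
  have hzT : z ∈ T := Subgroup.mem_centralizer_iff.mpr fun b _ => hzc b (Subgroup.mem_top b)
  set R₀ := Subgroup.zpowers a with hR₀
  have hR₀A : R₀ ≤ A' := Subgroup.zpowers_le.mpr ha
  have hR₀c : Nat.card R₀ = p := by rw [hR₀, Nat.card_zpowers, hao]
  have hR₀T : R₀ ⊓ T = ⊥ := by
    rcases (Nat.dvd_prime hp.out).mp (hR₀c ▸ Subgroup.card_dvd_of_le (inf_le_left : R₀ ⊓ T ≤ R₀)) with h | h
    · exact Subgroup.card_eq_one.mp h
    · exact absurd ((Subgroup.eq_of_le_of_card_ge inf_le_left (hR₀c.trans h.symm).le).ge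
        (Subgroup.mem_zpowers a)).2 haT
  have hA'sup : A' = R₀ ⊔ Subgroup.zpowers z := by
    refine (Subgroup.eq_of_le_of_card_ge (sup_le hR₀A (Subgroup.zpowers_le.mpr hzA)) ?_).symm
    obtain ⟨n, -, hn⟩ := (Nat.dvd_prime_pow hp.out).mp
      (hA'2 ▸ Subgroup.card_dvd_of_le (sup_le hR₀A (Subgroup.zpowers_le.mpr hzA)))
    rw [hA'2, hn]
    refine Nat.pow_le_pow_right hp.out.pos ?_
    by_contra hlt
    have hle : Nat.card ↥(R₀ ⊔ Subgroup.zpowers z) ≤ Nat.card R₀ := by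
      rw [hn, hR₀c]
      exact (Nat.pow_le_pow_right hp.out.pos (by omega : n ≤ 1)).trans (pow_one p).le
    have he : R₀ = R₀ ⊔ Subgroup.zpowers z := Subgroup.eq_of_le_of_card_ge le_sup_left hle
    have hz0 : z ∈ R₀ ⊓ T := ⟨he.ge ((le_sup_right : Subgroup.zpowers z ≤ _) (Subgroup.mem_zpowers z)), hzT⟩
    rw [hR₀T, Subgroup.mem_bot] at hz0
    exact hp.out.ne_one (by rw [← hzo, hz0, orderOf_one])
  have hCA : Subgroup.centralizer (R₀ : Set P) ≤ Subgroup.centralizer (A' : Set P) := by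
    rw [Subgroup.le_centralizer_iff, hA'sup]
    refine sup_le (Subgroup.le_centralizer_iff.mp le_rfl) (Subgroup.zpowers_le.mpr ?_)
    exact Subgroup.mem_centralizer_iff.mpr fun b _ => hzc b (Subgroup.mem_top b)
  refine ⟨R₀, T ⊓ Subgroup.centralizer (R₀ : Set P), hR₀c, ?_, ?_, ?_, ?_⟩
  · refine Isolated.isCyclic_of_small_abelian hp2 (hP.to_subgroup _) fun B hBc hBp => ?_
    set B' := B.map (T ⊓ Subgroup.centralizer (R₀ : Set P)).subtype with hB'
    have hle : B' ≤ A' ⊓ T := by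
      rintro _ ⟨x, hx, rfl⟩
      exact ⟨hmax' _ (congrArg Subtype.val (hBp x hx)) (hCA x.2.2), x.2.1⟩
    obtain ⟨n, hn2, hn⟩ := (Nat.dvd_prime_pow hp.out).mp
      (hA'2 ▸ Subgroup.card_dvd_of_le (inf_le_left : A' ⊓ T ≤ A'))
    have hn1 : n ≤ 1 := by
      by_contra hlt
      exact hAT (inf_eq_left.mp (Subgroup.eq_of_le_of_card_ge inf_le_left
        (by rw [hn, hA'2, show n = 2 by omega])))
    have h := Subgroup.card_le_of_le hle
    rw [hn, hB', Subgroup.card_map_of_injective (Subgroup.subtype_injective _)] at h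
    exact h.trans ((Nat.pow_le_pow_right hp.out.pos hn1).trans (pow_one p).le)
  · rw [eq_bot_iff, ← hR₀T]
    exact inf_le_inf_left _ inf_le_left
  · exact fun x hx y hy => Subgroup.mem_centralizer_iff.mp hy.2 x hx
  · refine le_antisymm (sup_le (Subgroup.le_centralizer R₀) inf_le_right) fun c hc => ?_
    have htop : R₀ ⊔ T = ⊤ := by
      rw [← Subgroup.index_eq_one]
      have hd := OddOrder41.index_centralizer_dvd_of_card_sq hP W hWe hW2
      rcases (Nat.dvd_prime hp.out).mp ((Subgroup.index_dvd_of_le (le_sup_right : T ≤ R₀ ⊔ T)).trans hd) with h | h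
      · exact h
      · have hTi : T.index = p := Nat.dvd_antisymm hd (h ▸ Subgroup.index_dvd_of_le le_sup_right)
        have hmul := Subgroup.relIndex_mul_index (le_sup_right : T ≤ R₀ ⊔ T)
        rw [h, hTi] at hmul
        have h1 : T.relIndex (R₀ ⊔ T) = 1 := (mul_eq_right₀ hp.out.ne_zero).mp hmul
        exact absurd ((Subgroup.relIndex_eq_one.mp h1) ((le_sup_left : R₀ ≤ R₀ ⊔ T) (Subgroup.mem_zpowers a))) haT
    obtain ⟨r, hr0, t, ht, rfl⟩ := Subgroup.mem_sup_of_normal_right.1 (htop.ge (Subgroup.mem_top c))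
    refine Subgroup.mul_mem_sup hr0 ⟨ht, ?_⟩
    simpa using mul_mem (inv_mem ((Subgroup.le_centralizer R₀) hr0)) hc

end CfsgLib.OddOrder.Narrow
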