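import Mathlib
import Cfsg.Agent.Lib.OddOrder.PiCore
import Cfsg.Agent.Lib.Transfer.NormalComplement

/-!
# Normal Hall subgroups and nilpotent complements from normal `p`-complements

If `X` has a normal `p`-complement for every prime `p ∉ π` then `O_π(X)` is a Hall subgroup with a
nilpotent complement.
-/

set_option autoImplicit false
set_option linter.style.haveILetI false

namespace CfsgLib.OddOrder.NilHall

open Subgroup CfsgLib.OddOrder

universe u

theorem exists_kernel {D : Type u} [Group D] [Finite D] {π : Set ℕ}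
    (h : ∀ p : ℕ, p.Prime → p ∉ π → Cfsg.HasNormalPComplement p D) :
    (∀ q : ℕ, q.Prime → q ∈ π → ¬ q ∣ (Cfsg.piCore π D).index) ∧
      ∀ H : Subgroup D, H ⊓ Cfsg.piCore π D = ⊥ → Group.IsNilpotent H := by
  let I := {p : ℕ // p.Prime ∧ p ∣ Nat.card D ∧ p ∉ π}
  have : Finite I := by
    refine Set.Finite.to_subtype ((Finset.finite_toSet (Nat.card D).primeFactors).subset ?_)
    intro p hp
    exact Nat.mem_primeFactors.mpr ⟨hp.1, hp.2.1, Nat.card_pos.ne'⟩
  have hn : ∀ i : I, (Cfsg.pResidual i.1 D).Normal := fun i => Transfer.pResidual_normal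
  let f : D →* ∀ i : I, D ⧸ Cfsg.pResidual i.1 D :=
    Pi.monoidHom fun i => QuotientGroup.mk' (Cfsg.pResidual i.1 D)
  have hgrp : ∀ i : I, IsPGroup i.1 (D ⧸ Cfsg.pResidual i.1 D) := fun i =>
    haveI := Fact.mk i.2.1
    Transfer.isPGroup_quotient_of_pResidual_le _ le_rfl
  have hker : f.ker ≤ Cfsg.piCore π D := by
    refine le_piCore inferInstance fun t ht htd => ?_
    by_contra htπ
    have := Fact.mk ht
    have : (Cfsg.pResidual t D).Normal := Transfer.pResidual_normal
    have hle : f.ker ≤ Cfsg.pResidual t D := fun x hx =>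
      (QuotientGroup.eq_one_iff x).mp (congrFun hx ⟨t, ht, htd.trans (Subgroup.card_subgroup_dvd_card _), htπ⟩)
    exact Transfer.hasNormalPComplement_iff.mp (h t ht htπ) (htd.trans (Subgroup.card_dvd_of_le hle))
  have hnil : ∀ i : I, Group.IsNilpotent (D ⧸ Cfsg.pResidual i.1 D) := fun i =>
    haveI := Fact.mk i.2.1
    (hgrp i).isNilpotent
  refine ⟨fun q hq hqπ hd => ?_, fun H hH => ?_⟩
  · have h1 : q ∣ Nat.card (∀ i : I, D ⧸ Cfsg.pResidual i.1 D) := by
      refine hd.trans ((Subgroup.index_dvd_of_le hker).trans ?_)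
      rw [Subgroup.index_ker]
      exact Subgroup.card_subgroup_dvd_card _
    have := Fintype.ofFinite I
    rw [Nat.card_pi] at h1
    obtain ⟨i, -, hi⟩ := (hq.prime.dvd_finsetProd_iff _).mp h1
    haveI := Fact.mk i.2.1
    obtain ⟨n, hn'⟩ := (hgrp i).exists_card_eq
    exact i.2.2.2 ((Nat.prime_dvd_prime_iff_eq hq i.2.1).mp (hq.dvd_of_dvd_pow (hn' ▸ hi)) ▸ hqπ)
  · have hinj : Function.Injective (f.comp H.subtype) := by
      rw [← MonoidHom.ker_eq_bot_iff, eq_bot_iff]
      intro x hx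
      have hx' : (x : D) ∈ H ⊓ Cfsg.piCore π D := ⟨x.2, hker hx⟩
      rw [hH, Subgroup.mem_bot] at hx'
      exact Subgroup.mem_bot.mpr (Subtype.ext hx')
    exact Group.nilpotent_of_mulEquiv (MonoidHom.ofInjective hinj).symm

variable {G : Type u} [Group G] [Finite G]

/-- The version inside an ambient group. -/
theorem exists_nilpotent_hall {π : Set ℕ} (X : Subgroup G)
    (h : ∀ p : ℕ, p.Prime → p ∉ π → Cfsg.HasNormalPComplement p ↥X) :
    (∀ q : ℕ, q.Prime → q ∈ π → ¬ q ∣ (Cfsg.piCoreOf π X).relIndex X) ∧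
      ∃ H : Subgroup G, Cfsg.IsPiHallOf {q | q.Prime ∧ q ∉ π} H X ∧ Group.IsNilpotent H := by
  obtain ⟨hidx, hnil⟩ := exists_kernel h
  set J := Cfsg.piCore π X with hJ
  have hrel : (Cfsg.piCoreOf π X).relIndex X = J.index := by
    rw [Cfsg.piCoreOf, Subgroup.relIndex, Subgroup.subgroupOf,
      Subgroup.comap_map_eq_self_of_injective X.subtype_injective]
  have hcop : (Nat.card J).Coprime J.index :=
    Nat.coprime_of_dvd fun q hq h1 h2 => hidx q hq (piNat_card_piCore π q hq h1) h2
  obtain ⟨H₀, hc⟩ := Subgroup.exists_right_complement'_of_coprime hcop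
  refine ⟨fun q hq hqπ => hrel ▸ hidx q hq hqπ, H₀.map X.subtype,
    ⟨Subgroup.map_subtype_le _, fun q hq hd => ⟨hq, fun hqπ => ?_⟩, fun q hq hqπ hd => ?_⟩, ?_⟩
  · rw [Subgroup.card_map_of_injective X.subtype_injective, ← hc.symm.index_eq_card] at hd
    exact hidx q hq hqπ hd
  · rw [Subgroup.relIndex, Subgroup.subgroupOf,
      Subgroup.comap_map_eq_self_of_injective X.subtype_injective, hc.index_eq_card] at hd
    exact hqπ.2 (piNat_card_piCore π q hq hd)
  · have := hnil H₀ (by rw [inf_comm]; exact hc.disjoint.eq_bot)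
    exact Group.nilpotent_of_mulEquiv (Subgroup.equivMapOfInjective H₀ X.subtype X.subtype_injective)

end CfsgLib.OddOrder.NilHall
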