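import Mathlib
import Cfsg.Agent.Lib.OddOrder.Sigma10Local
import Cfsg.Agent.Lib.OddOrder.PLengthOne
import Cfsg.Agent.Lib.Coprime.Commutator

/-!
# BG 10.6: proper subgroups have `p`-length one

The solvable signalizer functor theorem and BG 3.6 are parameters.
-/

set_option autoImplicit false

namespace CfsgLib.OddOrder.Sigma10

open Subgroup CfsgLib.OddOrder CfsgLib.OddOrder.Transitivity
open scoped commutatorElement

universe u

/-- BG 3.6 for the proper subgroups of `G`. -/
def PropThreeSix (G : Type u) [Group G] : Prop :=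
  ∀ M : Subgroup G, M ≠ ⊤ → ∀ (H R R₀ : Subgroup ↥M) [H.Normal],
    (Nat.card H).Coprime H.index → Subgroup.IsComplement' H R → R₀ ≤ R → (Nat.card R₀).Prime →
    IsZGroup ↥(H ⊓ Subgroup.centralizer (R₀ : Set ↥M)) → ∀ p : ℕ, p.Prime →
    Cfsg.PLengthLE p 1 ↥⁅H, R⁆

/-- A normal subgroup inside the derived group with a complement is its commutator with it. -/
theorem commutator_eq_of_le_derived {K : Type*} [Group K] [Finite K] [Group.IsSolvable K]
    {A R : Subgroup K} [A.Normal] (hc : Subgroup.IsComplement' A R) (hA : A ≤ commutator K) :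
    ⁅A, R⁆ = A := by
  set N := ⁅A, R⁆ with hN
  have hNA : N ≤ A := Subgroup.commutator_le_left A R
  have hNn : N.Normal := Subgroup.normalizer_eq_top_iff.mp (top_le_iff.mp (by
    rw [← hc.sup_eq_top]
    exact sup_le (Coprime.le_normalizer_commutator_left A R) (Coprime.le_normalizer_commutator_right A R)))
  set U := R ⊔ (⁅A, A⁆ ⊔ N) with hU
  have hAU : A ≤ Subgroup.normalizer (U : Set K) := by
    refine Subgroup.le_normalizer_iff.2 fun a ha x hx => ?_
    have h1 : U ≤ U.comap (MulAut.conj a).toMonoidHom := by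
      refine sup_le (fun r hr => ?_) (fun y hy => ?_)
      · show a * r * a⁻¹ ∈ U
        have e : a * r * a⁻¹ = ⁅a, r⁆ * r := by rw [commutatorElement_def]; group
        rw [e]
        exact mul_mem (le_sup_right.trans (le_sup_right : _ ≤ U) (Subgroup.commutator_mem_commutator ha hr))
          ((le_sup_left : R ≤ U) hr)
      · exact (le_sup_right : _ ≤ U) (Subgroup.Normal.conj_mem inferInstance y hy a)
    exact h1 hx
  have hUn : U.Normal := Subgroup.normalizer_eq_top_iff.mp (top_le_iff.mp (by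
    rw [← hc.sup_eq_top]
    exact sup_le hAU (le_sup_left.trans Subgroup.le_normalizer)))
  have hcomm : commutator K ≤ U := by
    rw [commutator_def, Subgroup.commutator_le]
    intro x _ y _
    rw [← QuotientGroup.eq_one_iff, ← QuotientGroup.mk'_apply, map_commutatorElement,
      commutatorElement_eq_one_iff_mul_comm]
    have hsurj : ∀ z : K, ∃ a ∈ A, QuotientGroup.mk' U z = QuotientGroup.mk' U a := fun z => by
      obtain ⟨a, ha, r, hr, rfl⟩ := Subgroup.mem_sup_of_normal_left.1 (hc.sup_eq_top.ge (Subgroup.mem_top z))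
      refine ⟨a, ha, ?_⟩
      rw [map_mul, show QuotientGroup.mk' U r = 1 from (QuotientGroup.eq_one_iff r).2
        ((le_sup_left : R ≤ U) hr), mul_one]
    obtain ⟨a, ha, hxa⟩ := hsurj x
    obtain ⟨b, hb, hyb⟩ := hsurj y
    rw [hxa, hyb, ← commutatorElement_eq_one_iff_mul_comm, ← map_commutatorElement,
      QuotientGroup.mk'_apply, QuotientGroup.eq_one_iff]
    exact le_sup_left.trans (le_sup_right : _ ≤ U) (Subgroup.commutator_mem_commutator ha hb)
  have hle : A ≤ ⁅A, A⁆ ⊔ N := by
    intro a ha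
    obtain ⟨r, hr, n, hn, rfl⟩ := Subgroup.mem_sup_of_normal_right.1 (hcomm (hA ha))
    have hnA : n ∈ A := sup_le (Subgroup.commutator_le_left A A) hNA hn
    have hrA : r ∈ A ⊓ R := ⟨by simpa using mul_mem ha (inv_mem hnA), hr⟩
    rw [hc.disjoint.eq_bot, Subgroup.mem_bot] at hrA
    simpa [hrA] using hn
  refine le_antisymm hNA ?_
  set f := QuotientGroup.mk' N with hf
  have h2 := Subgroup.map_mono (f := f) hle
  rw [Subgroup.map_sup, Subgroup.map_commutator, QuotientGroup.map_mk'_self, sup_bot_eq] at h2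
  have := Group.isSolvable_of_surjective (QuotientGroup.mk'_surjective N)
  have h3 : A.map f = ⊥ := by
    by_contra hne
    exact not_le_of_gt (Group.IsSolvable.commutator_lt_of_ne_bot hne) h2
  simpa [hf] using (Subgroup.map_eq_bot_iff A).mp h3

variable {G : Type u} [Group G] [Finite G] (hG : Cfsg.IsMinSimpleOddOrder G)
  {M : Subgroup G} (hM : IsCoatom M)

include hG hM in
/-- `M_π ≤ M'` and `M_π` is a normal Hall subgroup for `α(M) ⊆ π ⊆ σ(M)`. -/
theorem piCore_le_commutator {π : Set ℕ} (hα : Cfsg.alpha M ⊆ π) (hπ : π ⊆ Cfsg.sigma M) :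
    Cfsg.piCore π M ≤ commutator M ∧ ∀ q : ℕ, q.Prime → q ∈ π → ¬ q ∣ (Cfsg.piCore π M).index := by
  constructor
  · set A := Cfsg.piCore π M with hA
    have hdvd : Nat.card A ∣ Nat.card ↥(A ⊓ commutator M) := by
      rw [Nat.dvd_iff_prime_pow_dvd_dvd]
      intro q k hq hd
      rcases Nat.eq_zero_or_pos k with rfl | hk
      · simp
      have := Fact.mk hq
      have hqπ : q ∈ π := piNat_card_piCore π q hq ((dvd_pow_self q hk.ne').trans hd)
      obtain ⟨T⟩ : Nonempty (Sylow q M) := inferInstance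
      have hR := sylowOf_map T
      have h1 := sylow_le_piCore hG hM hα hqπ (hπ hqπ) hR
      have h2 : ((T : Subgroup M).map M.subtype) ≤ (commutator M).map M.subtype := by
        rw [Subgroup.map_subtype_commutator]
        exact le_derived hG hM (hπ hqπ) hR
      refine (T.pow_dvd_card_of_pow_dvd_card (hd.trans (Subgroup.card_subgroup_dvd_card A))).trans
        (Subgroup.card_dvd_of_le (le_inf ?_ ?_))
      · exact (Subgroup.map_le_map_iff_of_injective M.subtype_injective).mp h1
      · exact (Subgroup.map_le_map_iff_of_injective M.subtype_injective).mp h2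
    exact inf_eq_left.mp (Subgroup.eq_of_le_of_card_ge inf_le_left (Nat.le_of_dvd Nat.card_pos hdvd))
  · intro q hq hqπ hd
    have := Fact.mk hq
    obtain ⟨T⟩ : Nonempty (Sylow q M) := inferInstance
    exact T.not_dvd_index (hd.trans (Subgroup.index_dvd_of_le
      ((Subgroup.map_le_map_iff_of_injective M.subtype_injective).mp
        (sylow_le_piCore hG hM hα hqπ (hπ hqπ) (sylowOf_map T)))))

include hG in
/-- **BG 10.6**: every proper subgroup has `p`-length one. -/
theorem pLengthLE_one (h36 : PropThreeSix G) (p : ℕ) [hp : Fact p.Prime] {H : Subgroup G} (hH : H ≠ ⊤) :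
    Cfsg.PLengthLE p 1 H := by
  obtain ⟨M, hM, hHM⟩ := exists_isCoatom_ge hH
  refine PLengthOne.of_le hHM ?_
  have := minSimple_solvable hG hM.1
  by_cases hpM : p ∣ Nat.card M
  swap
  · exact PLengthOne.of_series (K := ⊤) (N := ⊤) (by rw [Subgroup.card_top]
                                                     exact (hp.out.coprime_iff_not_dvd.mpr hpM).symm)
      ⟨0, by simp⟩ (by simp [hp.out.ne_one])
  by_cases hr : Cfsg.PRankLE p 2 M
  · exact PLengthOne.of_index (hp.out.coprime_iff_not_dvd.mp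
      (OddOrder41.odd_solvable_rank_two_structure (minSimple_odd hG M) p hpM hr).2.2.2.2.2.symm)
  have hpα : p ∈ Cfsg.alpha M := ⟨hp.out, hr⟩
  set A := Cfsg.piCore (Cfsg.alpha M) M with hA
  obtain ⟨hAc, hAi⟩ := piCore_le_commutator hG hM subset_rfl (alpha_subset_sigma hG hM)
  obtain ⟨hSc, hSi⟩ := piCore_le_commutator hG hM (alpha_subset_sigma hG hM) subset_rfl
  have hcop : (Nat.card A).Coprime A.index :=
    Nat.coprime_of_dvd fun q hq h1 h2 => hAi q hq (piNat_card_piCore _ q hq h1) h2
  obtain ⟨R, hc⟩ := Subgroup.exists_right_complement'_of_coprime hcop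
  -- a prime outside `σ(M)`
  have hMne : Nontrivial M := M.nontrivial_iff_ne_bot.mpr (isCoatom_ne_bot hG hM)
  have hlt : commutator M < ⊤ := Group.IsSolvable.commutator_lt_top_of_nontrivial M
  have hSne : (Cfsg.piCore (Cfsg.sigma M) M).index ≠ 1 := fun h =>
    hlt.ne (top_le_iff.mp ((Subgroup.index_eq_one.mp h).ge.trans hSc))
  obtain ⟨q, hq, hqd⟩ := Nat.exists_prime_and_dvd hSne
  have := Fact.mk hq
  have hqσ : q ∉ Cfsg.sigma M := fun h => hSi q hq h hqd
  have hqM : q ∣ Nat.card M := hqd.trans (Subgroup.index_dvd_card _)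
  have hqA : ¬ q ∣ Nat.card A := fun h =>
    not_mem_alpha_of_not_mem_sigma hG hM hqσ (piNat_card_piCore _ q hq h)
  obtain ⟨T⟩ : Nonempty (Sylow q R) := inferInstance
  obtain ⟨U, hU⟩ := (T.isPGroup'.map R.subtype).exists_le_sylow
  have hUR : (T : Subgroup R).map R.subtype = (U : Subgroup M) := by
    refine Subgroup.eq_of_le_of_card_ge hU (Nat.le_of_dvd Nat.card_pos ?_)
    rw [Subgroup.card_map_of_injective R.subtype_injective, T.card_eq_multiplicity, U.card_eq_multiplicity,
      ← hc.card_mul_card, Nat.factorization_mul Nat.card_pos.ne' Nat.card_pos.ne', Finsupp.add_apply,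
      Nat.factorization_eq_zero_of_not_dvd hqA, zero_add]
  obtain ⟨x, hxU, -, hxo, hz, -⟩ := exists_central_zgroup hG hM hqM hqσ (sylowOf_map U)
  obtain ⟨y, hy, rfl⟩ := hxU
  have hyR : y ∈ R := Subgroup.map_subtype_le _ (hUR.ge hy)
  have hyo : Nat.card (Subgroup.zpowers y) = q := by
    rw [Nat.card_zpowers]
    exact (Subgroup.orderOf_coe y).symm.trans hxo
  have hzy : IsZGroup ↥(A ⊓ Subgroup.centralizer ((Subgroup.zpowers y : Subgroup M) : Set M)) := by
    have hle : (A ⊓ Subgroup.centralizer ((Subgroup.zpowers y : Subgroup M) : Set M)).map M.subtype ≤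
        Cfsg.alphaCore M ⊓ Subgroup.centralizer ({(y : G)} : Set G) := by
      rintro _ ⟨a, ⟨ha, hac⟩, rfl⟩
      exact ⟨⟨a, ha, rfl⟩, Subgroup.mem_centralizer_singleton_iff.mpr
        (congrArg Subtype.val (Subgroup.mem_centralizer_iff.mp hac y (Subgroup.mem_zpowers y))).symm⟩
    have : IsZGroup ↥(Cfsg.alphaCore M ⊓ Subgroup.centralizer ({(y : G)} : Set G)) := hz
    exact IsZGroup.of_injective (G' := ↥(Cfsg.alphaCore M ⊓ Subgroup.centralizer ({(y : G)} : Set G)))
      (f := (Subgroup.inclusion hle).comp (Subgroup.equivMapOfInjective _ _ M.subtype_injective).toMonoidHom)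
      ((Subgroup.inclusion_injective hle).comp (MulEquiv.injective _))
  have h := h36 M hM.1 A R (Subgroup.zpowers y) hcop hc (Subgroup.zpowers_le.mpr hyR) (hyo ▸ hq) hzy p hp.out
  rw [commutator_eq_of_le_derived hc hAc] at h
  exact PLengthOne.of_normal_subgroup A (hAi p hp.out hpα) h

end CfsgLib.OddOrder.Sigma10
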