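import Mathlib
import Cfsg.Agent.Lib.Coprime.SchurZassenhaus
import Cfsg.Agent.Lib.OddOrder.TransitivityCriteria

/-!
# Coprime subgroups of a supplement of a normal subgroup (BG 1.17), and p-length one
-/

set_option autoImplicit false

namespace CfsgLib.OddOrder.Supplement

open Subgroup
open scoped commutatorElement

variable {G : Type*} [Group G] [Finite G]

theorem inf_commutator {K U H : Subgroup G} [K.Normal] (hKU : K ⊔ U = ⊤) (hH : H ≤ U)
    (hcop : (Nat.card H).Coprime (Nat.card K)) : H ⊓ commutator G = H ⊓ ⁅U, U⁆ := by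
  refine le_antisymm (fun x hx => ⟨hx.1, ?_⟩)
    (inf_le_inf le_rfl (by rw [commutator_def]; exact Subgroup.commutator_mono le_top le_top))
  have hmap : U.map (QuotientGroup.mk' K) = ⊤ := by
    rw [← Subgroup.map_top_of_surjective (QuotientGroup.mk' K) (QuotientGroup.mk'_surjective K),
      ← hKU, Subgroup.map_sup, QuotientGroup.map_mk'_self, bot_sup_eq]
  have h1 : QuotientGroup.mk' K x ∈ (⁅U, U⁆ : Subgroup G).map (QuotientGroup.mk' K) := by
    rw [Subgroup.map_commutator, hmap]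
    have h := Subgroup.mem_map_of_mem (QuotientGroup.mk' K) hx.2
    rw [commutator_def, Subgroup.map_commutator,
      Subgroup.map_top_of_surjective _ (QuotientGroup.mk'_surjective K)] at h
    exact h
  obtain ⟨u, hu, hux⟩ := Subgroup.mem_map.1 h1
  have hk : u⁻¹ * x ∈ K := QuotientGroup.eq.1 hux
  have huU : u ∈ U := Subgroup.commutator_le_self U hu
  have hkU : u⁻¹ * x ∈ U := mul_mem (inv_mem huU) (hH hx.1)
  let φ : U →* Abelianization U := Abelianization.of
  have hu' : φ ⟨u, huU⟩ = 1 := by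
    rw [← MonoidHom.mem_ker, Abelianization.ker_of]
    obtain ⟨v, hv, hvu⟩ := Subgroup.mem_map.1 ((Subgroup.map_subtype_commutator U).ge hu)
    exact (Subtype.ext hvu : v = ⟨u, huU⟩) ▸ hv
  have hx1 : φ ⟨x, hH hx.1⟩ = 1 := by
    have he : φ ⟨x, hH hx.1⟩ = φ ⟨u⁻¹ * x, hkU⟩ := by
      rw [show (⟨u⁻¹ * x, hkU⟩ : U) = ⟨u, huU⟩⁻¹ * ⟨x, hH hx.1⟩ from rfl, map_mul, map_inv, hu',
        inv_one, one_mul]
    have d1 : orderOf (φ ⟨x, hH hx.1⟩) ∣ Nat.card H := by
      refine (orderOf_map_dvd φ _).trans ?_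
      rw [Subgroup.orderOf_mk]
      exact Subgroup.orderOf_dvd_natCard H hx.1
    have d2 : orderOf (φ ⟨x, hH hx.1⟩) ∣ Nat.card K := by
      rw [he]
      refine (orderOf_map_dvd φ _).trans ?_
      rw [Subgroup.orderOf_mk]
      exact Subgroup.orderOf_dvd_natCard K hk
    exact orderOf_eq_one_iff.1 (Nat.eq_one_of_dvd_coprimes hcop d1 d2)
  rw [← MonoidHom.mem_ker, Abelianization.ker_of] at hx1
  exact Subgroup.map_subtype_commutator U ▸ Subgroup.mem_map_of_mem U.subtype hx1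

/-- If a conjugate of `H` lies in `U` then the conjugating element is `u * c`. -/
theorem exists_factor [Group.IsSolvable G] {K U H : Subgroup G} [K.Normal] (hKU : K ⊔ U = ⊤)
    (hH : H ≤ U) (hcop : (Nat.card H).Coprime (Nat.card K)) {g : G}
    (hg : ∀ h ∈ H, g * h * g⁻¹ ∈ U) :
    ∃ u ∈ U, ∃ c ∈ K ⊓ Subgroup.centralizer (H : Set G), g = u * c := by
  have hmem : g ∈ U ⊔ K := by rw [sup_comm, hKU]; trivial
  obtain ⟨u₀, hu₀, k, hk, rfl⟩ := Subgroup.mem_sup_of_normal_right.1 hmem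
  have hkH : ∀ h ∈ H, k * h * k⁻¹ ∈ U := fun h hh => by
    have := mul_mem (mul_mem (inv_mem hu₀) (hg h hh)) hu₀
    simpa [mul_assoc] using this
  have hKH : ∀ h ∈ H, k * h * k⁻¹ * h⁻¹ ∈ K ⊓ U := fun h hh => Subgroup.mem_inf.2 ⟨by
    rw [show k * h * k⁻¹ * h⁻¹ = k * (h * k⁻¹ * h⁻¹) by group]
    exact mul_mem hk (Subgroup.Normal.conj_mem inferInstance _ (inv_mem hk) h),
    mul_mem (hkH h hh) (inv_mem (hH hh))⟩
  let W : Subgroup G := H ⊔ (K ⊓ U)
  have hWU : W ≤ U := sup_le hH inf_le_right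
  have hUN : U ≤ Subgroup.normalizer ((K ⊓ U : Subgroup G) : Set G) := fun u hu => by
    rw [Subgroup.mem_normalizer_iff]
    intro x
    constructor
    · intro hx
      obtain ⟨hx1, hx2⟩ := Subgroup.mem_inf.1 hx
      exact Subgroup.mem_inf.2 ⟨Subgroup.Normal.conj_mem inferInstance x hx1 u,
        mul_mem (mul_mem hu hx2) (inv_mem hu)⟩
    · intro hx
      obtain ⟨hx1, hx2⟩ := Subgroup.mem_inf.1 hx
      have h1 := Subgroup.Normal.conj_mem (inferInstance : K.Normal) _ hx1 u⁻¹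
      have h2 := mul_mem (mul_mem (inv_mem hu) hx2) hu
      exact Subgroup.mem_inf.2 ⟨by simpa [mul_assoc] using h1, by simpa [mul_assoc] using h2⟩
  have hnorm := hWU.trans hUN
  let N : Subgroup W := (K ⊓ U).subgroupOf W
  haveI hN : N.Normal := Subgroup.normal_subgroupOf_of_le_normalizer hnorm
  let H' : Subgroup G := H.map (MulAut.conj k).toMonoidHom
  have hH'W : H' ≤ W := by
    rintro _ ⟨h, hh, rfl⟩
    have e : k * h * k⁻¹ = (k * h * k⁻¹ * h⁻¹) * h := by group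
    show k * h * k⁻¹ ∈ W
    rw [e]
    exact mul_mem (mem_sup_right (hKH h hh)) (mem_sup_left hh)
  have hcopN : (Nat.card H).Coprime (Nat.card ↥(K ⊓ U)) :=
    Nat.Coprime.coprime_dvd_right (Subgroup.card_dvd_of_le inf_le_left) hcop
  have hcardN : Nat.card N = Nat.card ↥(K ⊓ U) := CfsgLib.Coprime.card_subgroupOf le_sup_right
  have hindex : N.index = Nat.card H := by
    have hW : Nat.card W = Nat.card H * Nat.card ↥(K ⊓ U) :=
      CfsgLib.Coprime.card_sup_of_disjoint (hH.trans hUN)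
        (Subgroup.inf_eq_bot_of_coprime hcopN.symm)
    have := Subgroup.card_mul_index N
    rw [hW, hcardN, mul_comm (Nat.card H)] at this
    exact Nat.eq_of_mul_eq_mul_left Nat.card_pos this
  obtain ⟨v, hv, hvH⟩ := CfsgLib.Coprime.conj_complement_of_card N
    (by rw [hindex, hcardN]; exact hcopN.symm) (Or.inl inferInstance)
    (H'.subgroupOf W) (H.subgroupOf W)
    (by rw [hindex, CfsgLib.Coprime.card_subgroupOf hH'W]
        exact (Nat.card_congr (H.equivMapOfInjective _ (MulAut.conj k).injective).toEquiv).symm)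
    (by rw [hindex, CfsgLib.Coprime.card_subgroupOf le_sup_left])
  have hvK : (v : G) ∈ K ⊓ U := Subgroup.mem_subgroupOf.1 hv
  refine ⟨u₀ * (v : G)⁻¹, mul_mem hu₀ (inv_mem hvK.2), (v : G) * k,
    ⟨mul_mem hvK.1 hk, ?_⟩, by group⟩
  show (v : G) * k ∈ Subgroup.centralizer (H : Set G)
  rw [Subgroup.mem_centralizer_iff]
  intro h hh
  have h1 : (v : G) * k * h * ((v : G) * k)⁻¹ ∈ H := by
    have h2 : (⟨k * h * k⁻¹, hH'W ⟨h, hh, rfl⟩⟩ : W) ∈ H'.subgroupOf W :=
      Subgroup.mem_subgroupOf.2 ⟨h, hh, rfl⟩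
    have h3 : v * ⟨k * h * k⁻¹, hH'W ⟨h, hh, rfl⟩⟩ * v⁻¹ ∈ H.subgroupOf W := by
      rw [← hvH]
      exact Subgroup.smul_mem_pointwise_smul _ _ _ h2
    have h4 := Subgroup.mem_subgroupOf.1 h3
    rw [show (v : G) * k * h * ((v : G) * k)⁻¹ = (v : G) * (k * h * k⁻¹) * (v : G)⁻¹ by group]
    exact h4
  have h5 : (v : G) * k * h * ((v : G) * k)⁻¹ * h⁻¹ ∈ H ⊓ K := by
    refine Subgroup.mem_inf.2 ⟨mul_mem h1 (inv_mem hh), ?_⟩
    rw [show (v : G) * k * h * ((v : G) * k)⁻¹ * h⁻¹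
      = (v : G) * k * (h * ((v : G) * k)⁻¹ * h⁻¹) by group]
    exact mul_mem (mul_mem hvK.1 hk)
      (Subgroup.Normal.conj_mem inferInstance _ (inv_mem (mul_mem hvK.1 hk)) h)
  rw [Subgroup.inf_eq_bot_of_coprime hcop, Subgroup.mem_bot, mul_inv_eq_one, mul_inv_eq_iff_eq_mul] at h5
  exact h5.symm

theorem normalizer_eq [Group.IsSolvable G] {K U H : Subgroup G} [K.Normal] (hKU : K ⊔ U = ⊤)
    (hH : H ≤ U) (hcop : (Nat.card H).Coprime (Nat.card K)) :
    Subgroup.normalizer (H : Set G)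
      = (K ⊓ Subgroup.centralizer (H : Set G)) ⊔ (U ⊓ Subgroup.normalizer (H : Set G)) := by
  have hcn := Subgroup.centralizer_le_normalizer (H : Set G)
  refine le_antisymm (fun g hg => ?_) (sup_le (inf_le_right.trans hcn) inf_le_right)
  obtain ⟨u, hu, c, hc, rfl⟩ := exists_factor hKU hH hcop (g := g)
    fun h hh => hH ((Subgroup.mem_normalizer_iff.1 hg h).1 hh)
  refine mul_mem (mem_sup_right ⟨hu, ?_⟩) (mem_sup_left hc)
  have := mul_mem hg (inv_mem (hcn hc.2))
  simpa using this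

section pLengthOne

variable {p : ℕ} [Fact p.Prime]

/-- In a group of `p`-length one, `O_{p'}(G) S` is normal. -/
theorem normal_core_sup_sylow (hpl : Cfsg.PLengthLE p 1 G) (S : Sylow p G) :
    (Cfsg.pPrimeCore p G ⊔ (S : Subgroup G)).Normal := by
  let f := QuotientGroup.mk' (Cfsg.pPrimeCore p G)
  let Sb := S.mapSurjective (f := f) (QuotientGroup.mk'_surjective _)
  have hR : Cfsg.pCore p (G ⧸ Cfsg.pPrimeCore p G) = (Sb : Subgroup _) := by
    have hle := PCore.pCore_le_sylow Sb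
    refine le_antisymm hle ?_
    rw [← Subgroup.relIndex_eq_one]
    have hd : (Cfsg.pCore p (G ⧸ Cfsg.pPrimeCore p G)).relIndex (Sb : Subgroup _) ∣
        (Cfsg.pCore p (G ⧸ Cfsg.pPrimeCore p G)).index := Subgroup.relIndex_dvd_index_of_normal _ _
    obtain ⟨n, hn⟩ := Sb.2.exists_card_eq
    have hd2 : (Cfsg.pCore p (G ⧸ Cfsg.pPrimeCore p G)).relIndex (Sb : Subgroup _) ∣ p ^ n :=
      hn ▸ Subgroup.relIndex_dvd_card _ _
    exact Nat.eq_one_of_dvd_coprimes
      (((Fact.out : p.Prime).coprime_iff_not_dvd.2 (Criteria.pLengthOne_index hpl)).pow_left n) hd2 hd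
  have hn : ((Sb : Subgroup _).comap f).Normal := by
    rw [← hR]; infer_instance
  have e : (Sb : Subgroup _).comap f = Cfsg.pPrimeCore p G ⊔ (S : Subgroup G) := by
    show ((S : Subgroup G).map f).comap f = _
    rw [Subgroup.comap_map_eq, QuotientGroup.ker_mk', sup_comm]
  rwa [e] at hn

theorem coprime_core {Q : Subgroup G} (hQ : IsPGroup p Q) :
    (Nat.card Q).Coprime (Nat.card (Cfsg.pPrimeCore p G)) := by
  obtain ⟨n, hn⟩ := hQ.exists_card_eq
  rw [hn]
  exact (PCore.pPrimeCore_coprime (p := p) (G := G)).symm.pow_left n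

theorem core_sup_normalizer (hpl : Cfsg.PLengthLE p 1 G) (S : Sylow p G) :
    Cfsg.pPrimeCore p G ⊔ Subgroup.normalizer ((S : Subgroup G) : Set G) = ⊤ := by
  haveI := normal_core_sup_sylow hpl S
  rw [eq_top_iff, ← Sylow.normalizer_sup_eq_top' S (le_sup_right : (S : Subgroup G) ≤ Cfsg.pPrimeCore p G ⊔ S)]
  exact sup_le le_sup_right (sup_le le_sup_left (Subgroup.le_normalizer.trans le_sup_right))

theorem sylow_le_commutator_normalizer (hpl : Cfsg.PLengthLE p 1 G) (S : Sylow p G)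
    (h : (S : Subgroup G) ≤ commutator G) :
    (S : Subgroup G) ≤ ⁅Subgroup.normalizer ((S : Subgroup G) : Set G), Subgroup.normalizer ((S : Subgroup G) : Set G)⁆ := by
  have := inf_commutator (core_sup_normalizer hpl S) Subgroup.le_normalizer (coprime_core S.2)
  rw [inf_eq_left.2 h] at this
  exact inf_eq_left.1 this.symm

theorem exists_normalizer_mul_centralizer [Group.IsSolvable G] (hpl : Cfsg.PLengthLE p 1 G)
    (S : Sylow p G) {Y : Set G} {x : G} (hY : Y ⊆ (S : Subgroup G))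
    (hxY : ∀ y ∈ Y, x * y * x⁻¹ ∈ (S : Subgroup G)) :
    ∃ g ∈ Subgroup.normalizer ((S : Subgroup G) : Set G), ∃ c ∈ Subgroup.centralizer Y, g * c = x := by
  have hHS : Subgroup.closure Y ≤ (S : Subgroup G) := (Subgroup.closure_le _).2 hY
  have hx : Subgroup.closure Y ≤ (S : Subgroup G).comap (MulAut.conj x).toMonoidHom :=
    (Subgroup.closure_le _).2 hxY
  obtain ⟨u, hu, c, hc, rfl⟩ := exists_factor (core_sup_normalizer hpl S)
    (hHS.trans Subgroup.le_normalizer) (coprime_core (S.2.to_le hHS)) (g := x)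
    fun h hh => Subgroup.le_normalizer (hx hh)
  exact ⟨u, hu, c, Subgroup.centralizer_le Subgroup.subset_closure hc.2, rfl⟩

theorem exists_centralizing_conj_le (hpl : Cfsg.PLengthLE p 1 G) (S : Sylow p G) {Q : Subgroup G}
    (hQ : IsPGroup p Q) :
    ∃ x ∈ Subgroup.centralizer ((Q ⊓ (S : Subgroup G) : Subgroup G) : Set G),
      Q.map (MulAut.conj x).toMonoidHom ≤ (S : Subgroup G) := by
  obtain ⟨T, hT⟩ := hQ.exists_le_sylow
  obtain ⟨g, hg⟩ := MulAction.exists_smul_eq G S T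
  have hmem : g ∈ Cfsg.pPrimeCore p G ⊔ Subgroup.normalizer ((S : Subgroup G) : Set G) := by
    rw [core_sup_normalizer hpl S]; trivial
  obtain ⟨k, hk, n, hn, rfl⟩ := Subgroup.mem_sup_of_normal_left.1 hmem
  rw [mul_smul, Sylow.smul_eq_iff_mem_normalizer.2 hn] at hg
  have hQS : ∀ r ∈ Q, k⁻¹ * r * k ∈ (S : Subgroup G) := by
    intro r hr
    have h2 := hT hr
    rw [← hg, Sylow.coe_subgroup_smul, Subgroup.mem_pointwise_smul_iff_inv_smul_mem] at h2
    simpa [MulAut.conj_apply] using h2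
  refine ⟨k⁻¹, ?_, ?_⟩
  · rw [Subgroup.mem_centralizer_iff]
    intro r hr
    have h3 : r⁻¹ * (k⁻¹ * r * k) ∈ (S : Subgroup G) ⊓ Cfsg.pPrimeCore p G := by
      refine Subgroup.mem_inf.2 ⟨mul_mem (inv_mem hr.2) (hQS r hr.1), ?_⟩
      rw [show r⁻¹ * (k⁻¹ * r * k) = r⁻¹ * k⁻¹ * r⁻¹⁻¹ * k by group]
      exact mul_mem (Subgroup.Normal.conj_mem inferInstance _ (inv_mem hk) r⁻¹) hk
    rw [Subgroup.inf_eq_bot_of_coprime (coprime_core S.2), Subgroup.mem_bot, inv_mul_eq_one] at h3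
    calc r * k⁻¹ = k⁻¹ * r * k * k⁻¹ := by rw [← h3]
      _ = k⁻¹ * r := mul_inv_cancel_right _ _
  · rintro _ ⟨r, hr, rfl⟩
    simpa [MulAut.conj_apply] using hQS r hr

end pLengthOne

end CfsgLib.OddOrder.Supplement
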