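import Mathlib
import Cfsg.Agent.Lib.OddOrder.Sigma10PLength
import Cfsg.Agent.Lib.OddOrder.Supplement
import Cfsg.Agent.Lib.OddOrder.ZJFusion

/-!
# BG 10.7: the normalizer of a Sylow subgroup controls strong fusion

That proper subgroups have `p`-length one is a parameter (`Sigma10.pLengthLE_one`).
-/

set_option autoImplicit false

namespace CfsgLib.OddOrder.Sigma10

open Subgroup CfsgLib.OddOrder CfsgLib.OddOrder.Transitivity

universe u

variable {G : Type u} [Group G] [Finite G] {p : ℕ} [hp : Fact p.Prime]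
  (hG : Cfsg.IsMinSimpleOddOrder G) (hpl : ∀ H : Subgroup G, H ≠ ⊤ → Cfsg.PLengthLE p 1 H)

include hG in
theorem zj_normalizer_ne_top (P : Sylow p G) (hP : (P : Subgroup G) ≠ ⊥) :
    Subgroup.normalizer (PLocal.zj 0 (P : Subgroup G) : Set G) ≠ ⊤ :=
  minSimple_normalizer_ne_top hG (zj_ne_bot P.isPGroup' hP)
    (fun h => minSimple_pgroup_ne_top hG P.isPGroup' (top_le_iff.mp (h ▸ PLocal.zj_le 0 _)))

include hG hpl in
/-- `N(P)` controls strong fusion in `P`. -/
theorem exists_normalizer_conj (P : Sylow p G) {D : Subgroup G} (hD : D ≤ (P : Subgroup G)) {g : G}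
    (hg : cj g D ≤ (P : Subgroup G)) :
    ∃ y ∈ Subgroup.normalizer ((P : Subgroup G) : Set G), ∀ a ∈ D, y * a * y⁻¹ = g * a * g⁻¹ := by
  by_cases hP : (P : Subgroup G) = ⊥
  · refine ⟨1, Subgroup.one_mem _, fun a ha => ?_⟩
    have : a = 1 := Subgroup.mem_bot.mp (hP ▸ hD ha)
    simp [this]
  have hp2 := Uniq.prime_ne_two hG P.isPGroup' hP
  obtain ⟨n, hn, hna⟩ := ZJFusion.exists_conj hG hp2 P hD hg
  have hLtop := zj_normalizer_ne_top hG P hP
  set L := Subgroup.normalizer (PLocal.zj 0 (P : Subgroup G) : Set G) with hL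
  have := minSimple_solvable hG hLtop
  have hPL : (P : Subgroup G) ≤ L := PLocal.le_normalizer_zj 0 _
  obtain ⟨x, hx, c, hc, hxc⟩ := Supplement.exists_normalizer_mul_centralizer (hpl L hLtop) (P.subtype hPL)
    (Y := {a : L | (a : G) ∈ D}) (x := ⟨n, hn⟩)
    (fun a ha => by rw [Sylow.coe_subtype, SetLike.mem_coe, Subgroup.mem_subgroupOf]; exact hD ha)
    (fun a ha => by
      rw [Sylow.coe_subtype, Subgroup.mem_subgroupOf]
      show n * (a : G) * n⁻¹ ∈ (P : Subgroup G)
      rw [hna _ ha]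
      exact hg ⟨a, ha, rfl⟩)
  refine ⟨x, ?_, fun a ha => ?_⟩
  · rw [Sylow.coe_subtype] at hx
    have h := Subgroup.le_normalizer_map (H := (P : Subgroup G).subgroupOf L) L.subtype ⟨x, hx, rfl⟩
    rwa [Subgroup.map_subgroupOf_eq_of_le hPL] at h
  · have hca : (a : G) * c = c * a :=
      congrArg Subtype.val (Subgroup.mem_centralizer_iff.mp hc ⟨a, hPL (hD ha)⟩ ha)
    have hxn : (x : G) * c = n := congrArg Subtype.val hxc
    rw [← hna a ha, ← hxn]
    calc (x : G) * a * (x : G)⁻¹ = x * (a * c) * (c : G)⁻¹ * (x : G)⁻¹ := by group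
      _ = (x : G) * c * a * ((x : G) * c)⁻¹ := by rw [hca]; group

omit [Finite G] hp in
theorem cj_eq_of_forall {D : Subgroup G} {g y : G} (h : ∀ a ∈ D, y * a * y⁻¹ = g * a * g⁻¹) :
    cj g D = cj y D := by
  ext z
  constructor <;> rintro ⟨a, ha, rfl⟩ <;> exact ⟨a, ha, by simp [h a ha]⟩

include hG hpl in
/-- Every subgroup of `P` is fully normalized. -/
theorem relIndex_inf_normalizer (P : Sylow p G) {Q : Subgroup G} (hQ : Q ≤ (P : Subgroup G)) :
    ¬ p ∣ ((P : Subgroup G) ⊓ Subgroup.normalizer (Q : Set G)).relIndex (Subgroup.normalizer (Q : Set G)) := by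
  set N := Subgroup.normalizer (Q : Set G) with hN
  obtain ⟨S, hS, hle⟩ := exists_sylowOf_ge (Q := (P : Subgroup G) ⊓ N) (M := N) inf_le_right
    (P.isPGroup'.to_le inf_le_left)
  obtain ⟨T, hT⟩ := hS.2.1.exists_le_sylow
  obtain ⟨h, hh⟩ := MulAction.exists_smul_eq G T P
  have hhS : cj h S ≤ P := by
    rw [← hh, Sylow.coe_subgroup_smul]
    exact Subgroup.map_mono hT
  have hQS : Q ≤ S := (le_inf hQ Subgroup.le_normalizer).trans hle
  obtain ⟨y, hy, hya⟩ := exists_normalizer_conj hG hpl P hQ ((cj_mono hQS).trans hhS)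
  have hcN : y⁻¹ * h ∈ N := by
    refine Subgroup.centralizer_le_normalizer (Q : Set G) (Subgroup.mem_centralizer_iff.mpr fun a ha => ?_)
    have e := hya a ha
    calc a * (y⁻¹ * h) = y⁻¹ * (y * a * y⁻¹) * h := by group
      _ = y⁻¹ * h * a := by rw [e]; group
  have h1 : cj (y⁻¹ * h) S ≤ (P : Subgroup G) ⊓ N := by
    refine le_inf ?_ ((cj_mono hS.1).trans (cj_eq_of_mem_normalizer (Subgroup.le_normalizer hcN)).le)
    rw [← cj_mul]
    exact (cj_mono hhS).trans (cj_eq_of_mem_normalizer (Subgroup.inv_mem _ hy)).le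
  have hPS : (P : Subgroup G) ⊓ N = S := by
    refine Subgroup.eq_of_le_of_card_ge hle ?_
    have h2 := Subgroup.card_le_of_le h1
    rwa [card_cj] at h2
  rw [hPS]
  obtain ⟨U, hU⟩ := hS.toSylow
  rw [← hU, Subgroup.relIndex, Subgroup.subgroupOf, Subgroup.comap_map_eq_self_of_injective N.subtype_injective]
  exact U.not_dvd_index

include hG hpl in
/-- A subgroup of `P` normalized by `N(P)` is weakly closed. -/
theorem normalizer_le_of_weaklyClosed (P : Sylow p G) {R Q : Subgroup G} (hR : IsPGroup p R)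
    (hQ : Q ≤ (P : Subgroup G) ⊓ R)
    (hN : Subgroup.normalizer ((P : Subgroup G) : Set G) ≤ Subgroup.normalizer (Q : Set G)) :
    Subgroup.normalizer (R : Set G) ≤ Subgroup.normalizer (Q : Set G) := by
  have hclosed : ∀ g : G, cj g Q ≤ (P : Subgroup G) → cj g Q = Q := fun g hg => by
    obtain ⟨y, hy, hya⟩ := exists_normalizer_conj hG hpl P (hQ.trans inf_le_left) hg
    rw [cj_eq_of_forall hya, cj_eq_of_mem_normalizer (hN hy)]
  obtain ⟨T, hT⟩ := hR.exists_le_sylow
  obtain ⟨h, hh⟩ := MulAction.exists_smul_eq G T P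
  have hhR : cj h R ≤ P := by
    rw [← hh, Sylow.coe_subgroup_smul]
    exact Subgroup.map_mono hT
  intro n hn
  refine mem_normalizer_of_cj_eq ?_
  have h1 : cj h Q = Q := hclosed h ((cj_mono (hQ.trans inf_le_right)).trans hhR)
  have h2 : cj (h * n) Q = Q := hclosed _ (by
    refine le_trans ?_ hhR
    rw [← cj_mul]
    exact cj_mono ((cj_mono (hQ.trans inf_le_right)).trans (cj_eq_of_mem_normalizer hn).le))
  refine cj_inj (g := h) ?_
  rw [cj_mul, h2, h1]

include hG hpl in
/-- **BG 10.7 (a)**: `P = [P, V] ≤ N(P)'` for a complement `V` of `P` in `N(P)`. -/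
theorem sylow_eq_commutator (P : Sylow p G) {V : Subgroup G}
    (hV : Cfsg.IsComplIn (P : Subgroup G) V (Subgroup.normalizer ((P : Subgroup G) : Set G))) :
    (P : Subgroup G) = ⁅(P : Subgroup G), V⁆ ∧
      (P : Subgroup G) ≤ ⁅Subgroup.normalizer ((P : Subgroup G) : Set G), Subgroup.normalizer ((P : Subgroup G) : Set G)⁆ := by
  by_cases hP : (P : Subgroup G) = ⊥
  · exact ⟨by rw [hP, Subgroup.commutator_bot_left], by rw [hP]; exact bot_le⟩
  have hp2 := Uniq.prime_ne_two hG P.isPGroup' hP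
  have hLtop := zj_normalizer_ne_top hG P hP
  set L := Subgroup.normalizer (PLocal.zj 0 (P : Subgroup G) : Set G) with hL
  set N := Subgroup.normalizer ((P : Subgroup G) : Set G) with hN
  have hPL : (P : Subgroup G) ≤ L := PLocal.le_normalizer_zj 0 _
  have h1 : ((P.subtype hPL : Sylow p L) : Subgroup L) ≤ commutator L := by
    rw [Sylow.coe_subtype]
    intro x hx
    have h2 : (x : G) ∈ (commutator L).map L.subtype := by
      rw [Subgroup.map_subtype_commutator]
      exact ZJFusion.le_commutator_normalizer_zj hG hp2 P hx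
    obtain ⟨y, hy, hyx⟩ := h2
    exact Subtype.coe_injective hyx ▸ hy
  have h3 := Subgroup.map_mono (f := L.subtype)
    (Supplement.sylow_le_commutator_normalizer (hpl L hLtop) (P.subtype hPL) h1)
  rw [Sylow.coe_subtype, Subgroup.map_subgroupOf_eq_of_le hPL, Subgroup.map_commutator] at h3
  have hNP : (Subgroup.normalizer (((P : Subgroup G).subgroupOf L : Subgroup L) : Set L)).map L.subtype ≤ N := by
    have h4 := Subgroup.le_normalizer_map (H := (P : Subgroup G).subgroupOf L) L.subtype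
    rwa [Subgroup.map_subgroupOf_eq_of_le hPL] at h4
  have hPN : (P : Subgroup G) ≤ ⁅N, N⁆ := h3.trans (Subgroup.commutator_mono hNP hNP)
  refine ⟨?_, hPN⟩
  obtain ⟨hPle, hVle, hinf, hfac⟩ := hV
  have hNtop : N ≠ ⊤ := minSimple_normalizer_ne_top hG hP (minSimple_pgroup_ne_top hG P.isPGroup')
  have := minSimple_solvable hG hNtop
  have : ((P : Subgroup G).subgroupOf N).Normal :=
    (Subgroup.normal_subgroupOf_iff_le_normalizer hPle).mpr le_rfl
  have hc : Subgroup.IsComplement' ((P : Subgroup G).subgroupOf N) (V.subgroupOf N) := by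
    refine Subgroup.isComplement'_of_disjoint_and_mul_eq_univ ?_ (Set.eq_univ_of_forall fun m => ?_)
    · rw [disjoint_iff, eq_bot_iff]
      intro x hx
      exact Subgroup.mem_bot.mpr (Subtype.ext (Subgroup.mem_bot.mp (hinf ▸ (show (x : G) ∈ (P : Subgroup G) ⊓ V from hx))))
    · obtain ⟨a, ha, b, hb, he⟩ := hfac m m.2
      exact ⟨⟨a, hPle ha⟩, ha, ⟨b, hVle hb⟩, hb, Subtype.ext he.symm⟩
  have h5 : (P : Subgroup G).subgroupOf N ≤ commutator N := by
    intro x hx
    have h2 : (x : G) ∈ (commutator N).map N.subtype := by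
      rw [Subgroup.map_subtype_commutator]
      exact hPN hx
    obtain ⟨y, hy, hyx⟩ := h2
    exact Subtype.coe_injective hyx ▸ hy
  have h6 := congrArg (Subgroup.map N.subtype) (commutator_eq_of_le_derived hc h5)
  rw [Subgroup.map_commutator, Subgroup.map_subgroupOf_eq_of_le hPle,
    Subgroup.map_subgroupOf_eq_of_le hVle] at h6
  exact h6.symm

end CfsgLib.OddOrder.Sigma10
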