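import Mathlib
import Cfsg.Agent.Lib.OddOrder.Sigma10Fusion
import Cfsg.Agent.Lib.OddOrder.Narrow
import Cfsg.Agent.Lib.OddOrder.NilpotentHall

/-!
# BG 10.8: the set `β(M)`

The solvable signalizer functor theorem, `p`-length one of proper subgroups and BG 5.5 are
parameters.
-/

set_option autoImplicit false
set_option linter.style.haveILetI false

namespace CfsgLib.OddOrder.Sigma10

open Subgroup CfsgLib.OddOrder CfsgLib.OddOrder.Transitivity

universe u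

/-- BG 5.5 for the proper subgroups of `G`. -/
def PropFiveFive (G : Type u) [Group G] : Prop :=
  ∀ M : Subgroup G, M ≠ ⊤ → ∀ p : ℕ, p.Prime → p ∣ Nat.card M → ∀ S : Sylow p M,
    Cfsg.IsNarrow p ↥(S : Subgroup M) →
    (¬ Cfsg.PRankLE p 2 ↥(S : Subgroup M) → Cfsg.PLengthLE p 1 M) →
      (∀ q : ℕ, q.Prime → q ∣ (Cfsg.pPrimeCore p ↥M).index → q ≤ p) ∧
        Cfsg.HasNormalPComplement p ↥(commutator ↥M)

theorem isNarrow_congr {R S : Type u} [Group R] [Group S] {p : ℕ} (e : R ≃* S)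
    (h : Cfsg.IsNarrow p R) : Cfsg.IsNarrow p S := by
  rcases h with h | ⟨R₀, R₁, h0, hc, hinf, hcomm, hsup⟩
  · exact Or.inl ((PRankLE.congr e).mp h)
  refine Or.inr ⟨R₀.map e.toMonoidHom, R₁.map e.toMonoidHom, ?_, ?_, ?_, ?_, ?_⟩
  · rw [Subgroup.card_map_of_injective e.injective, h0]
  · exact isCyclic_of_surjective (e.subgroupMap R₁).toMonoidHom (e.subgroupMap R₁).surjective
  · rw [← Subgroup.map_inf R₀ R₁ _ e.injective, hinf, Subgroup.map_bot]
  · rintro _ ⟨a, ha, rfl⟩ _ ⟨b, hb, rfl⟩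
    show e a * e b = e b * e a
    rw [← map_mul, ← map_mul, hcomm a ha b hb]
  · rw [← Subgroup.map_sup, hsup]
    ext x
    simp only [Subgroup.mem_centralizer_iff, Subgroup.mem_map]
    constructor
    · rintro ⟨y, hy, rfl⟩ _ ⟨a, ha, rfl⟩
      show e a * e y = e y * e a
      rw [← map_mul, ← map_mul, hy a ha]
    · intro hx
      refine ⟨e.symm x, fun a ha => e.injective ?_, e.apply_symm_apply x⟩
      rw [map_mul, map_mul, e.apply_symm_apply]
      exact hx (e a) ⟨a, ha, rfl⟩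

variable {G : Type u} [Group G] [Finite G]

theorem isNarrow_of_not_ideal (hG : Cfsg.IsMinSimpleOddOrder G) {p : ℕ} [hp : Fact p.Prime]
    (hr : ¬ Cfsg.PRankLE p 2 G) (hni : ¬ Cfsg.IsIdealPrime p G) (P : Sylow p G) :
    Cfsg.IsNarrow p ↥(P : Subgroup G) := by
  have h : ∃ (P₀ : Sylow p G) (A : Subgroup G), A ≤ (P₀ : Subgroup G) ∧ Cfsg.IsElementaryAbelian p A ∧
      Nat.card A = p ^ 2 ∧
      ∀ B : Subgroup G, B ≤ (P₀ : Subgroup G) → Cfsg.IsElementaryAbelian p B → ¬ A < B := by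
    by_contra hcon
    push Not at hcon
    exact hni ⟨hp.out, hr, hcon⟩
  obtain ⟨P₀, A, hAP, hAe, hA2, hmax⟩ := h
  have hne : (P₀ : Subgroup G) ≠ ⊥ := fun h => by
    have h2 := Subgroup.card_le_of_le (hAP.trans h.le)
    rw [hA2, Subgroup.card_bot] at h2
    exact absurd h2 (not_le.mpr (Nat.one_lt_pow two_ne_zero hp.out.one_lt))
  refine isNarrow_congr (Sylow.equiv P₀ P) (Narrow.isNarrow_of_maximal_sq
    (Uniq.prime_ne_two hG P₀.isPGroup' hne) P₀.isPGroup' hAP hAe hA2 fun x hx hxp hxc => ?_)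
  by_contra hxA
  refine hmax (A ⊔ Subgroup.zpowers x) (sup_le hAP (Subgroup.zpowers_le.mpr hx))
    (elemAb_sup_zpowers hAe hxp hxc) (lt_of_le_of_ne le_sup_left fun h => hxA ?_)
  exact h.ge ((le_sup_right : Subgroup.zpowers x ≤ A ⊔ Subgroup.zpowers x) (Subgroup.mem_zpowers x))

variable (hG : Cfsg.IsMinSimpleOddOrder G) {M : Subgroup G} (hM : IsCoatom M)

include hG hM in
theorem isNarrow_of_not_beta {p : ℕ} [hp : Fact p.Prime] (hpβ : p ∉ Cfsg.beta M) (S : Sylow p M) :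
    Cfsg.IsNarrow p ↥(S : Subgroup M) := by
  by_cases hr : Cfsg.PRankLE p 2 M
  · exact Or.inl (PRankLE.subgroup _ hr)
  have hpα : p ∈ Cfsg.alpha M := ⟨hp.out, hr⟩
  obtain ⟨P, hP⟩ := exists_sylow_of_mem_sigma (alpha_subset_sigma hG hM hpα) (sylowOf_map S)
  refine isNarrow_congr ((MulEquiv.subgroupCongr hP).trans
    (Subgroup.equivMapOfInjective _ M.subtype M.subtype_injective).symm) ?_
  exact isNarrow_of_not_ideal hG (fun h => hr (PRankLE.subgroup M h)) (fun h => hpβ ⟨hpα, h⟩) P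

variable (hpl : ∀ (p : ℕ) [Fact p.Prime] (H : Subgroup G), H ≠ ⊤ → Cfsg.PLengthLE p 1 H)
  (h55 : PropFiveFive G)

include hG hM hpl h55 in
theorem derived_complement {p : ℕ} (hp : p.Prime) (hpβ : p ∉ Cfsg.beta M) :
    Cfsg.HasNormalPComplement p ↥⁅M, M⁆ ∧
      (p ∣ Nat.card M → ∀ q : ℕ, q.Prime → q ∣ (Cfsg.pPrimeCore p ↥M).index → q ≤ p) := by
  have := Fact.mk hp
  have e : ↥(commutator M) ≃* ↥⁅M, M⁆ :=
    (Subgroup.equivMapOfInjective _ M.subtype M.subtype_injective).trans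
      (MulEquiv.subgroupCongr (Subgroup.map_subtype_commutator M))
  by_cases hpM : p ∣ Nat.card M
  · obtain ⟨S⟩ : Nonempty (Sylow p M) := inferInstance
    obtain ⟨h1, h2⟩ := h55 M hM.1 p hp hpM S (isNarrow_of_not_beta hG hM hpβ S)
      (fun _ => hpl p M hM.1)
    exact ⟨Transfer.hasNormalPComplement_of_mulEquiv e h2, fun _ => h1⟩
  · refine ⟨Transfer.hasNormalPComplement_iff.mpr fun hd => hpM ?_, fun h => absurd h hpM⟩
    exact hd.trans ((Subgroup.card_subgroup_dvd_card _).trans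
      (Subgroup.card_dvd_of_le (Subgroup.commutator_le_self M)))

include hG hM hpl h55 in
/-- **BG 10.8**. -/
theorem betaCore_hall :
    Cfsg.IsPiHallOf (Cfsg.beta M) (Cfsg.piCoreOf (Cfsg.beta M) M) M ∧
      Cfsg.IsPiHall (Cfsg.beta M) (Cfsg.piCoreOf (Cfsg.beta M) M) ∧
      (∃ H : Subgroup G, Cfsg.IsPiHallOf {q | q.Prime ∧ q ∉ Cfsg.beta M} H ⁅M, M⁆ ∧ Group.IsNilpotent H) ∧
      (∃ H : Subgroup G, Cfsg.IsPiHallOf {q | q.Prime ∧ q ∉ Cfsg.beta M} H (Cfsg.sigmaCore M) ∧ Group.IsNilpotent H) ∧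
      ∀ p : ℕ, p.Prime → p ∣ Nat.card M → p ∉ Cfsg.beta M →
        Cfsg.HasNormalPComplement p ↥⁅M, M⁆ ∧ Cfsg.HasNormalPComplement p ↥(Cfsg.sigmaCore M) ∧
        ∀ q : ℕ, q.Prime → q ∣ (Cfsg.pPrimeCore p ↥M).index → q ≤ p := by
  have hβσ : Cfsg.beta M ⊆ Cfsg.sigma M := fun q hq => alpha_subset_sigma hG hM hq.1
  have hSD : Cfsg.sigmaCore M ≤ ⁅M, M⁆ := by
    rw [← Subgroup.map_subtype_commutator]
    exact Subgroup.map_mono (piCore_le_commutator hG hM (alpha_subset_sigma hG hM) subset_rfl).1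
  have hnpcS : ∀ p : ℕ, p.Prime → p ∉ Cfsg.beta M → Cfsg.HasNormalPComplement p ↥(Cfsg.sigmaCore M) :=
    fun p hp hpβ => haveI := Fact.mk hp
      Transfer.hasNormalPComplement_of_injective (Subgroup.inclusion hSD) (Subgroup.inclusion_injective hSD)
        (derived_complement hG hM hpl h55 hp hpβ).1
  obtain ⟨hD, hHD⟩ := NilHall.exists_nilpotent_hall ⁅M, M⁆
    (fun p hp hpβ => (derived_complement hG hM hpl h55 hp hpβ).1)
  obtain ⟨-, hHS⟩ := NilHall.exists_nilpotent_hall (Cfsg.sigmaCore M) hnpcS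
  set J := Cfsg.piCoreOf (Cfsg.beta M) ⁅M, M⁆ with hJ
  have hJM : J ≤ M := (piCoreOf_le _ _).trans (Subgroup.commutator_le_self M)
  have hDn : M ≤ Subgroup.normalizer ((⁅M, M⁆ : Subgroup G) : Set G) :=
    Coprime.le_normalizer_commutator_left M M
  have hJn : M ≤ Subgroup.normalizer (J : Set G) := hDn.trans (normalizer_le_normalizer_piCoreOf _ _)
  have hidx : ∀ q : ℕ, q.Prime → q ∈ Cfsg.beta M → ¬ q ∣ J.index := fun q hq hqβ hd => by
    have := Fact.mk hq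
    obtain ⟨T⟩ : Nonempty (Sylow q M) := inferInstance
    obtain ⟨P, hP⟩ := exists_sylow_of_mem_sigma (hβσ hqβ) (sylowOf_map T)
    rw [← Subgroup.relIndex_mul_index (piCoreOf_le (Cfsg.beta M) ⁅M, M⁆)] at hd
    rcases hq.dvd_mul.mp hd with h | h
    · exact hD q hq hqβ h
    · exact P.not_dvd_index (h.trans (Subgroup.index_dvd_of_le
        (hP ▸ le_derived hG hM (hβσ hqβ) (sylowOf_map T))))
  have hJhall : Cfsg.IsPiHallOf (Cfsg.beta M) J M :=
    ⟨hJM, piNat_card_piCoreOf _ _, fun q hq hqβ hd => hidx q hq hqβ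
      (hd.trans (Subgroup.relIndex_dvd_index_of_le hJM))⟩
  rw [← eq_piCoreOf_of_isPiHallOf hJhall hJn]
  exact ⟨hJhall, ⟨piNat_card_piCoreOf _ _, hidx⟩, hHD, hHS, fun p hp hpM hpβ =>
    ⟨(derived_complement hG hM hpl h55 hp hpβ).1, hnpcS p hp hpβ,
      (derived_complement hG hM hpl h55 hp hpβ).2 hpM⟩⟩

end CfsgLib.OddOrder.Sigma10
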