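import Mathlib
import Cfsg.Agent.Lib.OddOrder.NarrowStructure
import Cfsg.Agent.Lib.OddOrder.Sigma10Beta
import Cfsg.Agent.Lib.OddOrder.PLengthOne
import Cfsg.Agent.Lib.OddOrder41.RankTwoStructure
import Cfsg.Agent.Lib.OddOrder41.BlackburnAction

/-!
# BG 5.5, 5.6: operators on narrow `p`-groups, solvable groups with a narrow Sylow subgroup
-/

set_option autoImplicit false

namespace CfsgLib.OddOrder.Narrow

open Subgroup CfsgLib.OddOrder
open scoped commutatorElement

universe u

section Sections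

variable {R : Type*} [Group R] {p : ℕ} [hp : Fact p.Prime] {A : Type*} [Group A]

/-- Commutators and `(p - 1)`-th powers of operators act trivially on invariant sections of order
dividing `p`. -/
theorem section_trivial [Finite R] (φ : A →* MulAut R) {N D : Subgroup R} [(D.subgroupOf N).Normal]
    (hN : ∀ a, ∀ x ∈ N, φ a x ∈ N) (hD : ∀ a, ∀ x ∈ D, φ a x ∈ D) (hDN : D.relIndex N ∣ p)
    {a : A} (ha : a ∈ commutator A ∨ ∃ b, a = b ^ (p - 1)) {x : R} (hx : x ∈ N) :
    x⁻¹ * φ a x ∈ D := by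
  classical
  let res : A →* MulAut N :=
    { toFun := fun a =>
        { toFun := fun x => ⟨φ a x, hN a x x.2⟩
          invFun := fun x => ⟨φ a⁻¹ x, hN a⁻¹ x x.2⟩
          left_inv := fun x => Subtype.ext (by simp)
          right_inv := fun x => Subtype.ext (by simp)
          map_mul' := fun x y => Subtype.ext (by simp) }
      map_one' := by ext x; simp
      map_mul' := fun a b => by ext x; simp }
  have hmap : ∀ a, (D.subgroupOf N).map ((res a : ↥N ≃* ↥N) : ↥N →* ↥N) = D.subgroupOf N := by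
    intro a
    ext y
    constructor
    · rintro ⟨x, hx, rfl⟩
      exact hD a x hx
    · intro hy
      exact ⟨res a⁻¹ y, hD a⁻¹ y hy, Subtype.ext (by simp [res])⟩
  let χ : A →* MulAut (↥N ⧸ D.subgroupOf N) :=
    { toFun := fun a => QuotientGroup.congr _ _ (res a) (hmap a)
      map_one' := by
        ext q
        obtain ⟨x, rfl⟩ := QuotientGroup.mk'_surjective (D.subgroupOf N) q
        simp
      map_mul' := fun a b => by
        ext q
        obtain ⟨x, rfl⟩ := QuotientGroup.mk'_surjective (D.subgroupOf N) q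
        simp }
  have hc : Nat.card (↥N ⧸ D.subgroupOf N) ∣ p := by
    rw [← Subgroup.index_eq_card]; exact hDN
  have hcyc : IsCyclic (↥N ⧸ D.subgroupOf N) := by
    rcases (Nat.dvd_prime hp.out).mp hc with h | h
    · have := (Nat.card_eq_one_iff_unique.mp h).1
      infer_instance
    · exact isCyclic_of_prime_card h
  have e := IsCyclic.mulAutMulEquiv (↥N ⧸ D.subgroupOf N)
  have hone : χ a = 1 := by
    rcases ha with ha | ⟨b, rfl⟩
    · have h1 : (commutator A).map χ = ⊥ := by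
        rw [commutator_def, Subgroup.map_commutator, eq_bot_iff, Subgroup.commutator_le]
        intro u _ v _
        rw [Subgroup.mem_bot, commutatorElement_eq_one_iff_mul_comm]
        exact e.injective (by rw [map_mul, map_mul, mul_comm])
      exact Subgroup.mem_bot.mp (h1 ▸ Subgroup.mem_map_of_mem χ ha)
    · rw [map_pow, ← orderOf_dvd_iff_pow_eq_one]
      refine (orderOf_dvd_natCard (χ b)).trans ?_
      rw [IsCyclic.card_mulAut]
      rcases (Nat.dvd_prime hp.out).mp hc with h | h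
      · rw [h, Nat.totient_one]; exact one_dvd _
      · rw [h, Nat.totient_prime hp.out]
  have h2 : QuotientGroup.mk' (D.subgroupOf N) (res a ⟨x, hx⟩) = QuotientGroup.mk' (D.subgroupOf N) ⟨x, hx⟩ := by
    have := DFunLike.congr_fun hone (QuotientGroup.mk' (D.subgroupOf N) ⟨x, hx⟩)
    simpa [χ] using this
  rw [QuotientGroup.mk'_apply, QuotientGroup.mk'_apply, eq_comm, QuotientGroup.eq] at h2
  exact h2

omit hp in
/-- An automorphism of order prime to `p` fixing `D` and the coset `x D` fixes `x`. -/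
theorem fix_of_step (hR : IsPGroup p R) {ψ : MulAut R} (hcop : (orderOf ψ).Coprime p) {x : R}
    (hd : ψ (x⁻¹ * ψ x) = x⁻¹ * ψ x) : ψ x = x := by
  set d := x⁻¹ * ψ x with hdd
  have key : ∀ n : ℕ, (ψ ^ n) x = x * d ^ n := by
    intro n
    induction n with
    | zero => simp
    | succ n ih =>
      rw [pow_succ', MulAut.mul_apply, ih, map_mul, map_pow, hd, pow_succ', ← mul_assoc]
      congr 1
      rw [hdd, mul_inv_cancel_left]
  have h1 := key (orderOf ψ)
  rw [pow_orderOf_eq_one, MulAut.one_apply, left_eq_mul] at h1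
  obtain ⟨k, hk⟩ := hR d
  have h2 : d = 1 := by
    rw [← orderOf_eq_one_iff]
    exact Nat.eq_one_of_dvd_coprimes (hcop.pow_right k) (orderOf_dvd_of_pow_eq_one h1)
      (orderOf_dvd_of_pow_eq_one hk)
  calc ψ x = x * d := by rw [hdd, mul_inv_cancel_left]
    _ = x := by rw [h2, mul_one]

variable [Finite R] (hp2 : p ≠ 2) (hR : IsPGroup p R) {E : Subgroup R}
  (hE : Cfsg.IsElementaryAbelian p E)
  (hmax : ∀ B : Subgroup R, Cfsg.IsElementaryAbelian p B → E ≤ B → B = E)

include hE hmax hR in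
/-- In `C(W)`, a normal subgroup of exponent `p` exceeds its commutator with `R` by at most `p`. -/
theorem relIndex_commutator_dvd {W : Subgroup R} {z e : R} (hL : Layer p E W z e) {N : Subgroup R}
    [N.Normal] (hNe : ∀ x ∈ N, x ^ p = 1) (hNT : N ≤ Subgroup.centralizer (W : Set R)) :
    ⁅N, (⊤ : Subgroup R)⁆.relIndex N ∣ p := by
  set D := ⁅N, (⊤ : Subgroup R)⁆ with hD
  have hDN : D ≤ N := Subgroup.commutator_le_left N ⊤
  set C := (Subgroup.centralizer ({e} : Set R)).subgroupOf N with hC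
  have hCc : Nat.card C ≤ p := by
    rw [hC, ← Subgroup.card_map_of_injective N.subtype_injective, ← hL.order_z, ← Nat.card_zpowers]
    refine Subgroup.card_le_of_le ?_
    rintro _ ⟨x, hx, rfl⟩
    refine hL.inf_le ⟨mem_of_maximal hE hmax (hNe x x.2) (Subgroup.mem_centralizer_iff.mpr fun y hy => ?_),
      hNT x.2⟩
    have hle : Subgroup.zpowers z ⊔ Subgroup.zpowers e ≤ Subgroup.centralizer ({(x : R)} : Set R) :=
      sup_le (Subgroup.zpowers_le.mpr (Subgroup.mem_centralizer_singleton_iff.mpr (hL.central x).symm))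
        (Subgroup.zpowers_le.mpr (Subgroup.mem_centralizer_singleton_iff.mpr
          (Subgroup.mem_centralizer_singleton_iff.mp (Subgroup.mem_subgroupOf.mp hx)).symm))
    rw [SetLike.mem_coe, hL.gen] at hy
    exact Subgroup.mem_centralizer_singleton_iff.mp (hle hy)
  -- `x C ↦ ⁅x, e⁆` is injective into `D`
  have hle : C.index ≤ Nat.card D := by
    rw [Subgroup.index]
    let g : ↥N ⧸ C → D := fun q => ⟨⁅((q.out : ↥N) : R), e⁆,
      Subgroup.commutator_mem_commutator (q.out : ↥N).2 (Subgroup.mem_top e)⟩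
    refine Nat.card_le_card_of_injective g fun q₁ q₂ h => ?_
    have h' : ⁅((q₁.out : ↥N) : R), e⁆ = ⁅((q₂.out : ↥N) : R), e⁆ := congrArg Subtype.val h
    set a : R := ((q₁.out : ↥N) : R)
    set b : R := ((q₂.out : ↥N) : R)
    rw [← QuotientGroup.out_eq' q₁, ← QuotientGroup.out_eq' q₂, QuotientGroup.eq]
    refine Subgroup.mem_centralizer_singleton_iff.mpr ?_
    have h2 : a * e * a⁻¹ = b * e * b⁻¹ := by
      rw [commutatorElement_def, commutatorElement_def] at h'
      exact mul_right_cancel h'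
    show a⁻¹ * b * e = e * (a⁻¹ * b)
    calc a⁻¹ * b * e = a⁻¹ * (b * e * b⁻¹) * b := by group
      _ = a⁻¹ * (a * e * a⁻¹) * b := by rw [h2]
      _ = e * (a⁻¹ * b) := by group
  have h1 : Nat.card D * D.relIndex N = Nat.card N := card_mul_relIndex_of_le hDN
  have h2 : D.relIndex N ≤ p := by
    refine Nat.le_of_mul_le_mul_left ?_ (Nat.card_pos (α := D))
    rw [h1, ← Subgroup.card_mul_index C, mul_comm (Nat.card D) p]
    exact Nat.mul_le_mul hCc hle
  obtain ⟨n, hn⟩ := (hR.to_subgroup N).exists_card_eq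
  obtain ⟨k, -, hk⟩ := (Nat.dvd_prime_pow hp.out).mp (hn ▸ Dvd.intro_left _ h1)
  rw [hk] at h2 ⊢
  refine (pow_dvd_pow p ((Nat.pow_le_pow_iff_right hp.out.one_lt).mp (h2.trans (pow_one p).ge))).trans ?_
  rw [pow_one]

omit hp [Finite R] in
theorem eq_bot_of_commutator_top [Group.IsNilpotent R] {N : Subgroup R}
    (h : N ≤ ⁅N, (⊤ : Subgroup R)⁆) : N = ⊥ := by
  obtain ⟨n, hn⟩ := Subgroup.nilpotent_iff_lowerCentralSeries.mp ‹Group.IsNilpotent R›
  rw [eq_bot_iff, ← hn]
  clear hn
  induction n with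
  | zero => exact le_top
  | succ n ih => exact h.trans (Subgroup.commutator_mono ih le_rfl)

include hE hmax hR in
/-- Such an operator, of order prime to `p`, fixes normal invariant subgroups of exponent `p` of `C(W)`. -/
theorem fixes_in_centralizer {W : Subgroup R} {z e : R} (hL : Layer p E W z e) (φ : A →* MulAut R) {a : A}
    (ha : a ∈ commutator A ∨ ∃ b, a = b ^ (p - 1)) (hcop : (orderOf (φ a)).Coprime p) :
    ∀ N : Subgroup R, N.Normal → (∀ x ∈ N, x ^ p = 1) → N ≤ Subgroup.centralizer (W : Set R) →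
      (∀ b, ∀ x ∈ N, φ b x ∈ N) → ∀ x ∈ N, φ a x = x := by
  intro N
  induction' hn : Nat.card N using Nat.strong_induction_on with n ih generalizing N
  intro hNn hNe hNT hNi x hx
  have := hR.isNilpotent
  set D := ⁅N, (⊤ : Subgroup R)⁆ with hD
  have hDN : D ≤ N := Subgroup.commutator_le_left N ⊤
  by_cases hNb : N = ⊥
  · rw [hNb, Subgroup.mem_bot] at hx
    rw [hx, map_one]
  have hlt : Nat.card D < n := hn ▸ lt_of_le_of_ne (Subgroup.card_le_of_le hDN) fun h =>
    hNb (eq_bot_of_commutator_top (Subgroup.eq_of_le_of_card_ge hDN h.ge).ge)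
  have hDi : ∀ b, ∀ y ∈ D, φ b y ∈ D := by
    intro b y hy
    have h1 : D.map (φ b).toMonoidHom ≤ D := by
      rw [hD, Subgroup.map_commutator]
      refine Subgroup.commutator_mono ?_ le_top
      rintro _ ⟨w, hw, rfl⟩
      exact hNi b w hw
    exact h1 ⟨y, hy, rfl⟩
  have hDn : D.Normal := by rw [hD]; infer_instance
  refine fix_of_step hR hcop (ih _ hlt D rfl hDn (fun y hy => hNe y (hDN hy)) (hDN.trans hNT) hDi _ ?_)
  exact section_trivial φ hNi hDi (relIndex_commutator_dvd hR hE hmax hL hNe hNT) ha hx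

end Sections

section Operators

variable {G : Type u} [Group G] [Finite G] {p : ℕ} [hp : Fact p.Prime]

/-- BG 5.5: commutators and `(p - 1)`-th powers of operators of order prime to `p` fix a narrow
`p`-group of rank at least three. -/
theorem narrow_fixes (hp2 : p ≠ 2) (R A : Subgroup G) (hR : IsPGroup p R) (hr : ¬ Cfsg.PRankLE p 2 R)
    (hn : Cfsg.IsNarrow p R) (hA : A ≤ Subgroup.normalizer (R : Set G)) {a : A}
    (ha : a ∈ commutator A ∨ ∃ b, a = b ^ (p - 1)) (hcop : (orderOf (a : G)).Coprime p) :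
    ∀ r ∈ R, (a : G) * r = r * a := by
  classical
  obtain ⟨E, hE, hE2, hmax⟩ := exists_maximal_sq hR hr hn
  obtain ⟨z, e, hL⟩ := exists_layer hp2 hR hr hE hE2 hmax
  set W := CubeUnique.omegaTwo p (hp.out.odd_of_ne_two hp2) R with hW
  obtain ⟨C, hCc, hCC, hC1, -⟩ := CfsgLib.PGroup.exists_critical hR
  let Q : Subgroup R :=
    { carrier := {x | x ∈ C ∧ x ^ p = 1}
      one_mem' := ⟨C.one_mem, one_pow p⟩
      mul_mem' := fun {x y} hx hy => ⟨C.mul_mem hx.1 hy.1, by
        have hc : ⁅(⟨y, hy.1⟩ : C), ⟨x, hx.1⟩⁆ ∈ Subgroup.center C := by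
          rw [Subgroup.mem_center_iff]
          intro c
          exact Subtype.ext (Subgroup.mem_centralizer_iff.mp (hC1 y x hx.1).2 c c.2)
        simpa using congrArg Subtype.val (CfsgLib.PGroup.mul_pow_eq_one_of_central (x := (⟨x, hx.1⟩ : C))
          (hp.out.odd_of_ne_two hp2) hc (Subtype.ext (by simpa using hx.2))
          (Subtype.ext (by simpa using hy.2)))⟩
      inv_mem' := fun hx => ⟨C.inv_mem hx.1, by rw [inv_pow, hx.2, inv_one]⟩ }
  let φ := OddOrder41.conjHom R A hA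
  have hQi : ∀ b, ∀ x ∈ Q, φ b x ∈ Q := fun b x hx => ⟨by
    have h := hx.1
    rw [← hCc.fixed (φ b)] at h
    exact h, by rw [← map_pow, hx.2, map_one]⟩
  have hQn : Q.Normal := ⟨fun x hx g => ⟨(inferInstance : C.Normal).conj_mem x hx.1 g,
    by rw [conj_pow, hx.2, mul_one, mul_inv_cancel]⟩⟩
  have hTc : (Subgroup.centralizer (W : Set R)).Characteristic := by
    have := CubeUnique.omegaTwo_characteristic (R := R) (hp.out.odd_of_ne_two hp2)
    infer_instance
  set N := Q ⊓ Subgroup.centralizer (W : Set R) with hN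
  have hNi : ∀ b, ∀ x ∈ N, φ b x ∈ N := fun b x hx => ⟨hQi b x hx.1, by
    have h := hx.2
    rw [← hTc.fixed (φ b)] at h
    exact h⟩
  have hcop' : (orderOf (φ a)).Coprime p :=
    hcop.coprime_dvd_left ((orderOf_map_dvd φ a).trans (Subgroup.orderOf_coe a).symm.dvd)
  have hNn : N.Normal := inferInstance
  have hfixN := fixes_in_centralizer hR hE hmax hL φ ha hcop' N hNn (fun x hx => hx.1.2) inf_le_right hNi
  have hidx : N.relIndex Q ∣ p := by
    rw [hN, Subgroup.inf_relIndex_left]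
    exact (Subgroup.relIndex_dvd_index_of_normal _ Q).trans hL.index.dvd
  have hfixQ : ∀ x ∈ Q, φ a x = x := fun x hx =>
    fix_of_step hR hcop' (hfixN _ (section_trivial φ hQi hNi hidx ha hx))
  intro r hr'
  refine OddOrder41.fixes_of_fixes_self_centralizing R hR a (hA a.2) hcop C hCC ?_ r hr'
  intro c hc
  refine OddOrder41.fixes_of_fixes_exponent_p hp2 (a : G) hcop _ (C.map R.subtype) rfl
    (hR.to_le (Subgroup.map_subtype_le C)) ?_ ?_ (c : G) ⟨c, hc, rfl⟩
  · rintro _ ⟨x, hx, rfl⟩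
    rw [← hCc.fixed (φ a)] at hx
    exact ⟨_, hx, rfl⟩
  · rintro _ ⟨x, hx, rfl⟩ hxp
    have h := congrArg Subtype.val (hfixQ x ⟨hx, Subtype.ext hxp⟩)
    simp only [φ, OddOrder41.conjHom_apply] at h
    exact mul_inv_eq_iff_eq_mul.mp h

/-- A group with `p`-elements in its derived group only has `G/O_p(G)` abelian of order prime to `p`. -/
theorem pCore_index_coprime {A : Type*} [Group A] [Finite A] (h : IsPGroup p ↥(commutator A)) :
    commutator A ≤ Cfsg.pCore p A ∧ ((Cfsg.pCore p A).index).Coprime p := by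
  refine ⟨PCore.le_pCore inferInstance h, ?_⟩
  obtain ⟨P⟩ : Nonempty (Sylow p A) := inferInstance
  have hle : commutator A ≤ (P : Subgroup A) :=
    Transitivity.normal_pgroup_le_sylow (M := commutator A) h P
  have hn : (P : Subgroup A).Normal := ⟨fun x hx g => by
    have h1 : g * x * g⁻¹ = ⁅g, x⁆ * x := by rw [commutatorElement_def]; group
    rw [h1]
    exact mul_mem (hle (Subgroup.commutator_mem_commutator (Subgroup.mem_top g) (Subgroup.mem_top x))) hx⟩
  rw [Nat.coprime_comm, Nat.Prime.coprime_iff_not_dvd hp.out]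
  exact fun hd => P.not_dvd_index (hd.trans (Subgroup.index_dvd_of_le (PCore.le_pCore hn P.isPGroup')))

/-- BG 5.5 (b). -/
theorem operator_order_dvd (hp2 : p ≠ 2) (R A : Subgroup G) (hR : IsPGroup p R) (hn : Cfsg.IsNarrow p R)
    (hA : A ≤ Subgroup.normalizer (R : Set G)) (hfaith : A ⊓ Subgroup.centralizer (R : Set G) = ⊥)
    (hr : ¬ Cfsg.PRankLE p 2 R) : ∀ a ∈ A, (orderOf a).Coprime p → orderOf a ∣ p - 1 := by
  intro a ha hcop
  rw [orderOf_dvd_iff_pow_eq_one]
  have h : a ^ (p - 1) ∈ A ⊓ Subgroup.centralizer (R : Set G) :=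
    ⟨pow_mem ha _, Subgroup.mem_centralizer_iff.mpr fun r hr' => (narrow_fixes hp2 R A hR hr hn hA
      (a := ⟨a, ha⟩ ^ (p - 1)) (Or.inr ⟨_, rfl⟩)
      (hcop.coprime_dvd_left (orderOf_pow_dvd _)) r hr').symm⟩
  rwa [hfaith, Subgroup.mem_bot] at h

/-- BG 5.5 (a). -/
theorem derived_isPGroup (hp2 : p ≠ 2) (R A : Subgroup G) (hR : IsPGroup p R) (hn : Cfsg.IsNarrow p R)
    (hA : A ≤ Subgroup.normalizer (R : Set G)) (hAs : Group.IsSolvable A) (hAodd : Odd (Nat.card A))
    (hfaith : A ⊓ Subgroup.centralizer (R : Set G) = ⊥) : IsPGroup p ↥(commutator A) := by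
  by_cases hr : Cfsg.PRankLE p 2 R
  · have h := OddOrder41.derived_isPGroup_of_rank_two hp2 R A hR hr hA hAs hAodd hfaith
    exact h.of_equiv ((Subgroup.equivMapOfInjective _ A.subtype A.subtype_injective).trans
      (MulEquiv.subgroupCongr (Subgroup.map_subtype_commutator A))).symm
  rw [IsPGroup.iff_orderOf]
  intro x
  obtain ⟨k, m, hpm, hx⟩ := Nat.exists_eq_pow_mul_and_not_dvd (orderOf_pos x).ne' p hp.out.ne_one
  refine ⟨k, ?_⟩
  have hord : orderOf (x ^ p ^ k) = m := by
    rw [orderOf_pow' _ (pow_ne_zero _ hp.out.ne_zero), hx, Nat.gcd_eq_right (Dvd.intro m rfl),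
      Nat.mul_div_cancel_left _ (pow_pos hp.out.pos k)]
  have hcop : (orderOf (((x ^ p ^ k : ↥(commutator A)) : A) : G)).Coprime p := by
    rw [Subgroup.orderOf_coe, Subgroup.orderOf_coe, hord]
    exact ((Nat.Prime.coprime_iff_not_dvd hp.out).mpr hpm).symm
  have h : (((x ^ p ^ k : ↥(commutator A)) : A) : G) ∈ A ⊓ Subgroup.centralizer (R : Set G) :=
    ⟨((x ^ p ^ k : ↥(commutator A)) : A).2, Subgroup.mem_centralizer_iff.mpr fun r hr' =>
      (narrow_fixes hp2 R A hR hr hn hA (Or.inl (x ^ p ^ k : ↥(commutator A)).2) hcop r hr').symm⟩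
  rw [hfaith, Subgroup.mem_bot] at h
  have h1 : m = 1 := by
    rw [← hord, orderOf_eq_one_iff]
    exact Subtype.ext (Subtype.ext h)
  rw [hx, h1, mul_one]

omit [Finite G] in
/-- An operator group of prime order `q` not dividing `p (p - 1)` and nontrivial on a `p`-group of rank
two has `2 q ∣ p + 1`. -/
theorem two_mul_dvd_succ [Finite G] (hp2 : p ≠ 2) {q : ℕ} [hq : Fact q.Prime] (hq2 : q ≠ 2)
    (hqp : ¬ q ∣ p * (p - 1)) (R A : Subgroup G) (hR : IsPGroup p R) (hr : Cfsg.PRankLE p 2 R)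
    (hA : A ≤ Subgroup.normalizer (R : Set G)) (hAc : Nat.card A = q)
    (hne : ¬ A ≤ Subgroup.centralizer (R : Set G)) : 2 * q ∣ p + 1 := by
  obtain ⟨Q, φ, hWexp, hW, hfix⟩ := OddOrder41.rank_two_small_quotient hp2 R A hR hr hA
  have : Finite (Abelianization Q) := Quotient.finite _
  let : MulAction A (Abelianization Q) := MulAction.compHom (Abelianization Q) φ
  have hP : IsPGroup q A := IsPGroup.of_card (n := 1) (by rw [hAc, pow_one])
  let F : Subgroup (Abelianization Q) :=
    { carrier := MulAction.fixedPoints A (Abelianization Q)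
      one_mem' := fun b => show φ b 1 = 1 from map_one _
      mul_mem' := fun {x y} hx hy b => show φ b (x * y) = x * y by
        rw [map_mul]; exact congrArg₂ (· * ·) (hx b) (hy b)
      inv_mem' := fun {x} hx b => show φ b x⁻¹ = x⁻¹ by rw [map_inv]; exact congrArg (·⁻¹) (hx b) }
  have hmod : Nat.card (Abelianization Q) ≡ Nat.card F [MOD q] := hP.card_modEq_card_fixedPoints _
  have hWp : IsPGroup p (Abelianization Q) := fun w => ⟨1, by rw [pow_one]; exact hWexp w⟩
  have hFne : F ≠ ⊤ := fun htop => hne fun a ha => Subgroup.mem_centralizer_iff.mpr fun r hr' => by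
    refine (hfix ⟨a, ha⟩ ?_ (MulEquiv.ext fun w => (htop.ge (Subgroup.mem_top w)) ⟨a, ha⟩) r hr').symm
    refine Nat.Coprime.coprime_dvd_left (hAc ▸ Subgroup.orderOf_dvd_natCard A ha) ?_
    exact (Nat.coprime_primes hq.out hp.out).mpr fun h => hqp (h ▸ dvd_mul_right q _)
  obtain ⟨i, hi⟩ := IsPGroup.iff_card.mp (hWp.to_subgroup F)
  obtain ⟨j, hj⟩ := IsPGroup.iff_card.mp hWp
  have hij : i < j := by
    rw [← Nat.pow_lt_pow_iff_right hp.out.one_lt, ← hi, ← hj]
    exact lt_of_le_of_ne (Subgroup.card_le_card_group F) fun h => hFne (Subgroup.eq_top_of_card_eq F h)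
  have hj2 : j ≤ 2 := (Nat.pow_le_pow_iff_right hp.out.one_lt).mp (hj ▸ hW)
  rw [hi, hj] at hmod
  have hd : q ∣ p ^ j - p ^ i :=
    (Nat.modEq_iff_dvd' (Nat.pow_le_pow_right hp.out.pos hij.le)).mp hmod.symm
  have hodd := hp.out.odd_of_ne_two hp2
  have hq1 : q ∣ p + 1 := by
    interval_cases j <;> interval_cases i
    · exact absurd ((by simpa using hd : q ∣ p - 1)) fun h => hqp (h.trans (dvd_mul_left _ p))
    · have h : q ∣ (p + 1) * (p - 1) := by rw [← Nat.sq_sub_sq]; simpa using hd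
      exact (hq.out.dvd_mul.mp h).resolve_right fun h => hqp (h.trans (dvd_mul_left _ p))
    · exact absurd (by rw [Nat.mul_sub, mul_one, ← pow_two]; simpa using hd) hqp
  exact ((Nat.coprime_primes Nat.prime_two hq.out).mpr hq2.symm).mul_dvd_of_dvd_of_dvd
    (even_iff_two_dvd.mp hodd.add_one) hq1

omit [Finite G] in
/-- BG 5.5 (c), second part. -/
theorem card_eq_cube [Finite G] (hp2 : p ≠ 2) {q : ℕ} [hq : Fact q.Prime] (hq2 : q ≠ 2)
    (hqp : ¬ q ∣ p * (p - 1)) (R A : Subgroup G) (hR : IsPGroup p R) (hr : Cfsg.PRankLE p 2 R)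
    (hA : A ≤ Subgroup.normalizer (R : Set G)) (hAc : Nat.card A = q) (hRA : ⁅R, A⁆ = R)
    (hna : ¬ IsMulCommutative R) : Nat.card R = p ^ 3 := by
  have hqne : q ≠ p := fun h => hqp (h ▸ dvd_mul_right q _)
  have hR1 : R ≠ ⊥ := fun h => hna (by subst h; infer_instance)
  have hcop : (Nat.card A).Coprime p := hAc ▸ (Nat.coprime_primes hq.out hp.out).mpr hqne
  obtain ⟨-, h | ⟨R₁, R₂, hsup, hcomm, -, hcard, hexp, hcyc, hom⟩⟩ :=
    OddOrder41.rank_two_moved_structure hp2 R A hR hR1 hr hA hcop (hAc ▸ hq.out.odd_of_ne_two hq2) hRA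
  · exact absurd h hna
  have hR₁R : R₁ ≤ R := hsup ▸ le_sup_left
  have hR₂R : R₂ ≤ R := hsup ▸ le_sup_right
  have hn : R₂ ≤ Subgroup.normalizer (R₁ : Set G) := fun x hx =>
    Subgroup.centralizer_le_normalizer _ (Subgroup.mem_centralizer_iff.mpr fun a ha => hcomm a ha x hx)
  have hexp' : ∀ x ∈ R₁, x ^ p = 1 := fun x hx => by
    have := Monoid.pow_exponent_eq_one (⟨x, hx⟩ : R₁)
    rw [hexp] at this
    exact congrArg Subtype.val this
  -- `R₁` consists of the elements of order dividing `p`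
  have hΩ : ∀ x ∈ R, x ^ p = 1 → x ∈ R₁ := by
    intro x hx hxp
    obtain ⟨b, hb, a, ha, rfl⟩ := Coprime.exists_mul_of_mem_sup hn (sup_comm R₁ R₂ ▸ hsup.ge hx)
    have hc : Commute b a := (hcomm a ha b hb).symm
    rw [hc.mul_pow, hexp' a ha, mul_one] at hxp
    refine mul_mem (Subgroup.commutator_le_self R₁ (hom.le (Subgroup.subset_closure ⟨hb, hxp⟩))) ha
  have hR₁A : ∀ b : A, ∀ x : R, (x : G) ∈ R₁ → (OddOrder41.conjHom R A hA b x : G) ∈ R₁ := fun b x hx => by
    refine hΩ _ (OddOrder41.conjHom R A hA b x).2 ?_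
    rw [OddOrder41.conjHom_apply, conj_pow, hexp' x hx]
    simp
  set N := R₁.subgroupOf R with hN
  have hNn : N.Normal := (Subgroup.normal_subgroupOf_iff_le_normalizer hR₁R).mpr
    (hsup ▸ sup_le Subgroup.le_normalizer hn)
  have hcycQ : IsCyclic (↥R ⧸ N) := by
    refine isCyclic_of_surjective ((QuotientGroup.mk' N).comp (Subgroup.inclusion hR₂R)) fun y => ?_
    obtain ⟨⟨x, hx⟩, rfl⟩ := QuotientGroup.mk'_surjective N y
    obtain ⟨b, hb, a, ha, rfl⟩ := Coprime.exists_mul_of_mem_sup hn (sup_comm R₁ R₂ ▸ hsup.ge hx)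
    refine ⟨⟨b, hb⟩, ?_⟩
    simp only [MonoidHom.comp_apply, QuotientGroup.mk'_apply]
    rw [QuotientGroup.eq, hN, Subgroup.mem_subgroupOf]
    simpa using ha
  have hmap : ∀ b : A, N.map ((OddOrder41.conjHom R A hA b : ↥R ≃* ↥R) : ↥R →* ↥R) = N := by
    intro b
    ext y
    constructor
    · rintro ⟨x, hx, rfl⟩
      exact hR₁A b x hx
    · intro hy
      exact ⟨OddOrder41.conjHom R A hA b⁻¹ y, hR₁A b⁻¹ y hy, by simp⟩
  let χ : A →* MulAut (↥R ⧸ N) :=
    { toFun := fun b => QuotientGroup.congr _ _ (OddOrder41.conjHom R A hA b) (hmap b)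
      map_one' := by
        ext y
        obtain ⟨x, rfl⟩ := QuotientGroup.mk'_surjective N y
        simp
      map_mul' := fun a b => by
        ext y
        obtain ⟨x, rfl⟩ := QuotientGroup.mk'_surjective N y
        simp }
  obtain ⟨m, hm⟩ := (hR.to_quotient N).exists_card_eq
  have hqt : q.Coprime (Nat.card (↥R ⧸ N)).totient := by
    rw [hm]
    rcases Nat.eq_zero_or_pos m with rfl | hm0
    · simp
    rw [Nat.totient_prime_pow hp.out hm0]
    exact Nat.Coprime.mul_right (Nat.Coprime.pow_right _ ((Nat.coprime_primes hq.out hp.out).mpr hqne))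
      ((Nat.Prime.coprime_iff_not_dvd hq.out).mpr fun h => hqp (h.trans (dvd_mul_left _ p)))
  have htriv : ∀ b : A, χ b = 1 := fun b => orderOf_eq_one_iff.mp (Nat.eq_one_of_dvd_coprimes hqt
    ((orderOf_map_dvd χ b).trans (hAc ▸ orderOf_dvd_natCard b))
    (IsCyclic.card_mulAut (↥R ⧸ N) ▸ orderOf_dvd_natCard (χ b)))
  have hle : ⁅R, A⁆ ≤ R₁ := by
    rw [Subgroup.commutator_le]
    intro r hr' a ha
    have h := DFunLike.congr_fun (htriv ⟨a, ha⟩) (QuotientGroup.mk' N (⟨r, hr'⟩ : R)⁻¹)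
    simp only [χ, MonoidHom.coe_mk, OneHom.coe_mk, MulAut.one_apply, QuotientGroup.mk'_apply,
      QuotientGroup.congr_mk] at h
    rw [eq_comm, QuotientGroup.eq, hN, Subgroup.mem_subgroupOf] at h
    simpa [commutatorElement_def, mul_assoc] using h
  rw [hRA] at hle
  rw [← hcard, le_antisymm hle hR₁R]

end Operators

/-- BG 5.6. -/
theorem narrow_sylow_structure {G : Type u} [Group G] [Finite G] [Group.IsSolvable G] (hodd : Odd (Nat.card G))
    (p : ℕ) [hp : Fact p.Prime] (hpG : p ∣ Nat.card G) (S : Sylow p G)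
    (hS : Cfsg.IsNarrow p ↥(S : Subgroup G))
    (hpl : ¬ Cfsg.PRankLE p 2 ↥(S : Subgroup G) → Cfsg.PLengthLE p 1 G) :
    (∀ q : ℕ, q.Prime → q ∣ (Cfsg.pPrimeCore p G).index → q ≤ p) ∧
      ((p = 3 ∨ ∀ q : ℕ, q.Prime → q ∣ Nat.card G → p ≤ q) → Cfsg.HasNormalPComplement p G) ∧
      Cfsg.HasNormalPComplement p ↥(commutator G) ∧
      (∀ L : Subgroup ↥(commutator G), (Nat.card L).Coprime p → L ≤ Cfsg.pPrimeCore p ↥(commutator G)) ∧
      commutator G ≤ Cfsg.pPrimePCore p G ∧ ((Cfsg.pPrimePCore p G).index).Coprime p := by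
  have hp2 : p ≠ 2 := by
    rintro rfl
    exact Nat.not_odd_iff_even.mpr (even_iff_two_dvd.mpr hpG) hodd
  by_cases hr : Cfsg.PRankLE p 2 ↥(S : Subgroup G)
  · refine OddOrder41.odd_solvable_rank_two_structure hodd p hpG ?_
    exact (PRankLE.congr Subgroup.topEquiv).mp
      (Sigma10.pRankLE_of_sylowOf (sylowOf_of_sylow S le_top) hr)
  set N := Cfsg.pPrimeCore p G with hN
  have hNcop : (Nat.card N).Coprime p := CfsgLib.PCore.pPrimeCore_coprime
  have hNd : ¬ p ∣ Nat.card N := CfsgLib.PCore.not_dvd_card_pPrimeCore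
  have hoddq : Odd (Nat.card (G ⧸ N)) := hodd.of_dvd_nat (Subgroup.card_quotient_dvd_card N)
  set R := Cfsg.pCore p (G ⧸ N) with hR
  have hidx : (R.index).Coprime p := by
    have h := PLengthOne.index_eq (hpl hr)
    rw [Cfsg.pPrimePCore, Subgroup.index_comap_of_surjective _ (QuotientGroup.mk'_surjective _)] at h
    exact (hp.out.coprime_iff_not_dvd.mpr h).symm
  have hRp : IsPGroup p R := CfsgLib.PCore.pCore_isPGroup
  have hC : Subgroup.centralizer (R : Set (G ⧸ N)) ≤ R :=
    CfsgLib.PCore.centralizer_pCore_le CfsgLib.PCore.isPSolvable_of_isSolvable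
      CfsgLib.PCore.pPrimeCore_quotient_pPrimeCore
  let P := S.mapSurjective (QuotientGroup.mk'_surjective N)
  have hRP : R = (P : Subgroup (G ⧸ N)) := by
    refine Subgroup.eq_of_le_of_card_ge (CfsgLib.PCore.pCore_le_sylow P) ?_
    have hd : Nat.card (P : Subgroup (G ⧸ N)) ∣ Nat.card R := by
      obtain ⟨n, hn⟩ := P.isPGroup'.exists_card_eq
      refine Nat.Coprime.dvd_of_dvd_mul_right (hn ▸ (hidx.symm.pow_left n)) ?_
      rw [Subgroup.card_mul_index]
      exact Subgroup.card_subgroup_dvd_card _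
    exact Nat.le_of_dvd Nat.card_pos hd
  have e : ↥(S : Subgroup G) ≃* R := by
    refine (MulEquiv.ofBijective ((QuotientGroup.mk' N).subgroupMap (S : Subgroup G))
      ⟨?_, (QuotientGroup.mk' N).subgroupMap_surjective _⟩).trans (MulEquiv.subgroupCongr ?_)
    · rw [injective_iff_map_eq_one]
      intro x hx
      have h1 : (x : G) ∈ (S : Subgroup G) ⊓ N :=
        ⟨x.2, (QuotientGroup.eq_one_iff _).mp (congrArg Subtype.val hx)⟩
      rw [CfsgLib.PCore.inf_eq_bot_of_isPGroup_coprime S.isPGroup' hNcop, Subgroup.mem_bot] at h1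
      exact Subtype.ext h1
    · rw [hRP]; rfl
  have hRn : Cfsg.IsNarrow p R := Sigma10.isNarrow_congr e hS
  have hRr : ¬ Cfsg.PRankLE p 2 R := fun h => hr ((PRankLE.congr e).mpr h)
  have hAn : (⊤ : Subgroup (G ⧸ N)) ≤ Subgroup.normalizer (R : Set (G ⧸ N)) := by
    rw [Subgroup.normalizer_eq_top R]
  have hfix1 : ∀ g : G ⧸ N, (orderOf g).Coprime p → (∀ r ∈ R, g * r = r * g) → g = 1 := by
    intro g hg hfix
    exact Criteria.eq_one_of_pgroup_of_coprime hRp (Y := Subgroup.zpowers g)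
      (by rw [Nat.card_zpowers]; exact hg)
      (hC (Subgroup.mem_centralizer_iff.mpr fun r hr' => (hfix r hr').symm)) (Subgroup.mem_zpowers g)
  have hle : ∀ q : ℕ, q.Prime → q ∣ Nat.card (G ⧸ N) → q ≤ p := by
    intro q hq hqd
    rcases eq_or_ne q p with rfl | hqp
    · exact le_rfl
    have := Fact.mk hq
    obtain ⟨g, hg⟩ := exists_prime_orderOf_dvd_card' q hqd
    have hcop : (orderOf g).Coprime p := hg ▸ (Nat.coprime_primes hq hp.out).mpr hqp
    have hpow : g ^ (p - 1) = 1 := hfix1 _ (hcop.coprime_dvd_left (orderOf_pow_dvd _)) fun r hr' =>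
      narrow_fixes hp2 R ⊤ hRp hRr hRn hAn
        (a := (⟨g, Subgroup.mem_top g⟩ : (⊤ : Subgroup (G ⧸ N))) ^ (p - 1)) (Or.inr ⟨_, rfl⟩)
        (hcop.coprime_dvd_left (orderOf_pow_dvd _)) r hr'
    have h := Nat.le_of_dvd (by have := hp.out.two_le; omega)
      (hg ▸ orderOf_dvd_of_pow_eq_one hpow : q ∣ p - 1)
    omega
  have hder : commutator (G ⧸ N) ≤ R := by
    refine CfsgLib.PCore.le_pCore inferInstance ?_
    rw [IsPGroup.iff_orderOf]
    intro x
    obtain ⟨k, m, hpm, hx⟩ := Nat.exists_eq_pow_mul_and_not_dvd (orderOf_pos (x : G ⧸ N)).ne' p hp.out.ne_one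
    refine ⟨k, ?_⟩
    have hord : orderOf ((x : G ⧸ N) ^ p ^ k) = m := by
      rw [orderOf_pow' _ (pow_ne_zero _ hp.out.ne_zero), hx, Nat.gcd_eq_right (Dvd.intro m rfl),
        Nat.mul_div_cancel_left _ (pow_pos hp.out.pos k)]
    have hcop : (orderOf ((x : G ⧸ N) ^ p ^ k)).Coprime p := by
      rw [hord]; exact ((Nat.Prime.coprime_iff_not_dvd hp.out).mpr hpm).symm
    have hmem : (x : G ⧸ N) ^ p ^ k ∈ (commutator ↥(⊤ : Subgroup (G ⧸ N))).map (⊤ : Subgroup (G ⧸ N)).subtype := by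
      rw [Subgroup.map_subtype_commutator, ← _root_.commutator_def]; exact pow_mem x.2 _
    obtain ⟨y, hy, hye⟩ := hmem
    rw [Subgroup.coe_subtype] at hye
    have h1 := hfix1 _ hcop fun r hr' => by
      rw [← hye]
      exact narrow_fixes hp2 R ⊤ hRp hRr hRn hAn (Or.inl hy) (by rw [hye]; exact hcop) r hr'
    rw [← Subgroup.orderOf_coe, hx]
    have : m = 1 := by rw [← hord, h1, orderOf_one]
    rw [this, mul_one]
  -- transfer to `G`
  have hle' : ∀ q : ℕ, q.Prime → q ∣ N.index → q ≤ p := fun q hq hd =>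
    hle q hq (by rwa [← Subgroup.index_eq_card])
  have hder' : commutator G ≤ Cfsg.pPrimePCore p G := by
    intro x hx
    show QuotientGroup.mk' N x ∈ Cfsg.pCore p (G ⧸ N)
    apply hder
    have h1 : (commutator G).map (QuotientGroup.mk' N) ≤ commutator (G ⧸ N) := by
      rw [_root_.commutator_def, Subgroup.map_commutator, _root_.commutator_def]
      exact Subgroup.commutator_mono le_top le_top
    exact h1 ⟨x, hx, rfl⟩
  have hNn : (N.subgroupOf (commutator G)).Normal := inferInstance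
  have hq' : IsPGroup p (↥(commutator G) ⧸ N.subgroupOf (commutator G)) := by
    intro y
    obtain ⟨x, rfl⟩ := QuotientGroup.mk'_surjective (N.subgroupOf (commutator G)) y
    obtain ⟨k, hk⟩ := CfsgLib.PCore.pCore_isPGroup (G := G ⧸ N) (p := p) ⟨_, hder' x.2⟩
    refine ⟨k, ?_⟩
    rw [← map_pow]
    refine (QuotientGroup.eq_one_iff _).mpr ?_
    rw [Subgroup.mem_subgroupOf, SubgroupClass.coe_pow, ← QuotientGroup.eq_one_iff]
    simpa using congrArg Subtype.val hk
  have hN'd : ¬ p ∣ Nat.card (N.subgroupOf (commutator G)) := by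
    intro hd
    refine hNd (hd.trans ?_)
    rw [← Subgroup.card_map_of_injective (commutator G).subtype_injective]
    exact Subgroup.card_dvd_of_le (by rw [Subgroup.subgroupOf_map_subtype]; exact inf_le_left)
  refine ⟨hle', ?_, ?_, ?_, hder', ?_⟩
  · intro hsmall
    refine CfsgLib.Transfer.hasNormalPComplement_of_coprime N hNd ?_
    refine IsPGroup.of_card (n := (Nat.card (G ⧸ N)).primeFactorsList.length)
      (Nat.eq_prime_pow_of_unique_prime_dvd Nat.card_pos.ne' ?_)
    intro q hq hqd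
    have h1 := hle q hq hqd
    have hq2 : q ≠ 2 := by
      rintro rfl
      exact Nat.not_odd_iff_even.mpr (even_iff_two_dvd.mpr hqd) hoddq
    rcases hsmall with rfl | hmin
    · have := hq.two_le; omega
    · have := hmin q hq (hqd.trans (Subgroup.card_quotient_dvd_card N)); omega
  · exact CfsgLib.Transfer.hasNormalPComplement_of_coprime _ hN'd hq'
  · intro L hL
    refine le_trans ?_ (CfsgLib.PCore.le_pPrimeCore_of_not_dvd hNn hN'd)
    intro x hx
    rw [← QuotientGroup.eq_one_iff]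
    obtain ⟨k, hk⟩ := IsPGroup.iff_orderOf.mp hq' (x : ↥(commutator G) ⧸ N.subgroupOf (commutator G))
    have h1 : orderOf (x : ↥(commutator G) ⧸ N.subgroupOf (commutator G)) ∣ Nat.card L :=
      (orderOf_map_dvd (QuotientGroup.mk' _) x).trans (by simpa using orderOf_dvd_natCard (⟨x, hx⟩ : L))
    exact orderOf_eq_one_iff.mp
      (Nat.eq_one_of_dvd_coprimes (Nat.Coprime.pow_right k hL) h1 (hk ▸ dvd_rfl))
  · rw [Cfsg.pPrimePCore, Subgroup.index_comap_of_surjective _ (QuotientGroup.mk'_surjective _)]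
    exact hidx

end CfsgLib.OddOrder.Narrow
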