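import Mathlib
import Cfsg.Agent.Lib.OddOrder.Sigma10PLength
import Cfsg.Agent.Lib.OddOrder.NarrowOperators
import Cfsg.Agent.Lib.OddOrder41.ZGroupPLength

/-!
# BG 10.6 and the auxiliary hypotheses of 10.8, unconditionally
-/

set_option autoImplicit false

namespace CfsgLib.OddOrder.Sigma10

open Subgroup CfsgLib.OddOrder

universe u

variable {G : Type u} [Group G] [Finite G]

/-- BG 3.6 for the proper subgroups of a minimal simple group of odd order. -/
theorem propThreeSix (hG : Cfsg.IsMinSimpleOddOrder G) : PropThreeSix G := by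
  intro M hM H R R₀ _ hcop hc hR₀ hR₀p hZ p hp
  have := Fact.mk hp
  have := minSimple_solvable hG hM
  exact OddOrder41.ZGroupPLength.holds (p := p) _ (minSimple_odd hG M) H R R₀
    Subgroup.le_normalizer_of_normal rfl (by rw [← hc.symm.index_eq_card]; exact hcop) hR₀ hR₀p hZ

/-- BG 5.6 for the proper subgroups of a minimal simple group of odd order. -/
theorem propFiveFive (hG : Cfsg.IsMinSimpleOddOrder G) : PropFiveFive G := by
  intro M hM p hp hpM S hS hpl
  have := Fact.mk hp
  have := minSimple_solvable hG hM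
  obtain ⟨h1, -, h3, -⟩ := Narrow.narrow_sylow_structure (minSimple_odd hG M) p hpM S hS hpl
  exact ⟨h1, h3⟩

/-- BG 10.6. -/
theorem pLengthLE_one_proper (hG : Cfsg.IsMinSimpleOddOrder G) (p : ℕ) [Fact p.Prime] :
    ∀ H : Subgroup G, H ≠ ⊤ → Cfsg.PLengthLE p 1 H :=
  fun _ hH => pLengthLE_one hG (propThreeSix hG) p hH

end CfsgLib.OddOrder.Sigma10
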