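import Mathlib
import Cfsg.Agent.Lib.OddOrder.Sigma10Fusion
import Cfsg.Agent.Lib.OddOrder41.BlackburnAction

/-!
# BG 10.7 (b): Sylow subgroups of rank two of a minimal simple group of odd order
-/

set_option autoImplicit false

namespace CfsgLib.OddOrder.Sigma10

open Subgroup CfsgLib.OddOrder CfsgLib.OddOrder.Transitivity
open scoped commutatorElement

universe u

variable {G : Type u} [Group G] [Finite G] {p : ℕ} [hp : Fact p.Prime]

/-- The center of a nonabelian group of order `p ^ 3` has order `p`. -/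
theorem card_inf_centralizer_self {R : Subgroup G} (hR : Nat.card R = p ^ 3) (hn : ¬ IsMulCommutative R) :
    Nat.card ↥(R ⊓ Subgroup.centralizer (R : Set G)) = p := by
  have hmap : (Subgroup.center R).map R.subtype = R ⊓ Subgroup.centralizer (R : Set G) := by
    ext x
    constructor
    · rintro ⟨y, hy, rfl⟩
      exact ⟨y.2, Subgroup.mem_centralizer_iff.mpr fun r hr =>
        congrArg Subtype.val (Subgroup.mem_center_iff.mp hy ⟨r, hr⟩)⟩
    · exact fun hx => ⟨⟨x, hx.1⟩, Subgroup.mem_center_iff.mpr fun r =>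
        Subtype.ext (Subgroup.mem_centralizer_iff.mp hx.2 r r.2), rfl⟩
  rw [← hmap, Subgroup.card_map_of_injective R.subtype_injective]
  have hRp : IsPGroup p R := IsPGroup.of_card hR
  have : Nontrivial R := Finite.one_lt_card_iff_nontrivial.mp (hR ▸ Nat.one_lt_pow three_ne_zero hp.out.one_lt)
  have := hRp.center_nontrivial
  obtain ⟨k, hk, hkc⟩ := (hRp.to_subgroup (Subgroup.center R)).nontrivial_iff_card.mp this
  have hmul := (Subgroup.center R).card_mul_index
  rw [hkc, hR] at hmul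
  obtain ⟨j, -, hj⟩ := (Nat.dvd_prime_pow hp.out).mp (Dvd.intro_left _ hmul)
  have hkj : k + j = 3 := Nat.pow_right_injective hp.out.two_le (show p ^ (k + j) = p ^ 3 by rw [pow_add, ← hj]; exact hmul)
  have hj2 : 2 ≤ j := by
    by_contra hlt
    have : IsCyclic (↥R ⧸ Subgroup.center R) := isCyclic_of_card_dvd_prime (p := p) (by
      rw [← Subgroup.index_eq_card, hj]
      exact (pow_dvd_pow p (by omega : j ≤ 1)).trans (pow_one p).dvd)
    exact hn (MonoidHom.isMulCommutative_of_isCyclic_of_ker_le_center (QuotientGroup.mk' (Subgroup.center R))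
      (by rw [QuotientGroup.ker_mk']))
  rw [hkc, show k = 1 by omega, pow_one]

/-- A Sylow subgroup of rank two is abelian or a central product of the extraspecial group of
exponent `p` and a cyclic group. -/
theorem rank_two_structure (hG : Cfsg.IsMinSimpleOddOrder G)
    (hpl : ∀ H : Subgroup G, H ≠ ⊤ → Cfsg.PLengthLE p 1 H) (P : Sylow p G)
    (hr : Cfsg.PRankLE p 2 (P : Subgroup G)) :
    IsMulCommutative (P : Subgroup G) ∨ ∃ P₁ P₂ : Subgroup G, P₁ ⊔ P₂ = (P : Subgroup G) ∧
        (∀ a ∈ P₁, ∀ b ∈ P₂, a * b = b * a) ∧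
        ¬ IsMulCommutative P₁ ∧ Nat.card P₁ = p ^ 3 ∧ Monoid.exponent P₁ = p ∧ IsCyclic P₂ ∧
        Subgroup.closure {x : G | x ∈ P₂ ∧ x ^ p = 1} = P₁ ⊓ Subgroup.centralizer (P₁ : Set G) := by
  by_cases hP : (P : Subgroup G) = ⊥
  · left; rw [hP]; infer_instance
  set N := Subgroup.normalizer ((P : Subgroup G) : Set G) with hN
  have : ((P : Subgroup G).subgroupOf N).Normal :=
    (Subgroup.normal_subgroupOf_iff_le_normalizer Subgroup.le_normalizer).mpr le_rfl
  have hcop : (Nat.card ((P : Subgroup G).subgroupOf N)).Coprime ((P : Subgroup G).subgroupOf N).index := by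
    have := (P.subtype (Subgroup.le_normalizer : (P : Subgroup G) ≤ N)).card_coprime_index
    rwa [Sylow.coe_subtype] at this
  obtain ⟨V', hc⟩ := Subgroup.exists_right_complement'_of_coprime hcop
  set V := V'.map N.subtype with hV
  have hVN : V ≤ N := Subgroup.map_subtype_le V'
  have hcompl : Cfsg.IsComplIn (P : Subgroup G) V N := by
    refine ⟨Subgroup.le_normalizer, hVN, ?_, fun m hm => ?_⟩
    · rw [eq_bot_iff]
      rintro x ⟨hxP, ⟨y, hy, rfl⟩⟩
      have hy1 : y ∈ ((P : Subgroup G).subgroupOf N) ⊓ V' := ⟨hxP, hy⟩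
      rw [hc.disjoint.eq_bot, Subgroup.mem_bot] at hy1
      rw [hy1]; exact Subgroup.one_mem _
    · obtain ⟨a, ha, b, hb, he⟩ := Subgroup.mem_sup_of_normal_left.1 (hc.sup_eq_top.ge (Subgroup.mem_top (⟨m, hm⟩ : N)))
      exact ⟨a, ha, b, ⟨b, hb, rfl⟩, congrArg Subtype.val he.symm⟩
  have hcard : Nat.card V = ((P : Subgroup G).subgroupOf N).index := by
    rw [hV, Subgroup.card_map_of_injective N.subtype_injective, hc.symm.index_eq_card.symm]
  have hVcop : (Nat.card V).Coprime p := by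
    rw [hcard]
    have h := (P.subtype (Subgroup.le_normalizer : (P : Subgroup G) ≤ N)).not_dvd_index
    rw [Sylow.coe_subtype] at h
    exact (hp.out.coprime_iff_not_dvd.mpr h).symm
  have hPV : ⁅(P : Subgroup G), V⁆ = (P : Subgroup G) := (sylow_eq_commutator hG hpl P hcompl).1.symm
  have hp2 : p ≠ 2 := Uniq.prime_ne_two hG P.isPGroup' hP
  have hodd : Odd (Nat.card V) := minSimple_odd hG V
  obtain ⟨-, h⟩ := OddOrder41.rank_two_moved_structure hp2 (P : Subgroup G) V
    P.isPGroup' hP hr hVN hVcop hodd hPV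
  rcases h with h | ⟨R₁, R₂, hsup, hcomm, hn, hR₁, hexp, hcyc, hΩ⟩
  · exact Or.inl h
  refine Or.inr ⟨R₁, R₂, hsup, hcomm, hn, hR₁, hexp, hcyc, ?_⟩
  have hle : ⁅R₁, R₁⁆ ≤ R₁ ⊓ Subgroup.centralizer (R₁ : Set G) := by
    refine le_inf (Subgroup.commutator_le_self R₁) ?_
    rw [← hΩ, Subgroup.closure_le]
    exact fun x hx => Subgroup.mem_centralizer_iff.mpr fun a ha => hcomm a ha x hx.1
  have hne : ⁅R₁, R₁⁆ ≠ ⊥ := fun h => hn ⟨⟨fun a b => Subtype.ext
    (commutatorElement_eq_one_iff_mul_comm.mp (Subgroup.mem_bot.mp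
      (h ▸ Subgroup.commutator_mem_commutator a.2 b.2)))⟩⟩
  rw [hΩ]
  refine Subgroup.eq_of_le_of_card_ge hle ?_
  rw [card_inf_centralizer_self hR₁ hn]
  have h1 := (Nat.dvd_prime hp.out).mp ((card_inf_centralizer_self hR₁ hn) ▸ Subgroup.card_dvd_of_le hle)
  exact (h1.resolve_left fun h => hne (Subgroup.card_eq_one.mp h)).ge

end CfsgLib.OddOrder.Sigma10
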