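import Cfsg.Agent.Lib.OddOrder41.DimTwo
import Mathlib.LinearAlgebra.Charpoly.Basic
import Mathlib.LinearAlgebra.Eigenspace.Minpoly
import Mathlib.LinearAlgebra.Matrix.ToLin
import Mathlib.FieldTheory.IsAlgClosed.AlgebraicClosure
import Mathlib.RingTheory.Nilpotent.Basic

/-!
Two quadratic unipotent elements of a solvable group of odd order: `ρ (a⁻¹ * b) - 1` is nilpotent.
-/

set_option autoImplicit false

namespace CfsgLib.OddOrder.QuadraticPair

theorem isNilpotent_of_prod {R : Type*} [Ring R] {A B : R} (hA : A * A = 0) (hB : B * B = 0)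
    (h : IsNilpotent (A * B)) : IsNilpotent (B - A - A * B) := by
  obtain ⟨k, hk⟩ := h
  set S := A * B + B * A with hS
  have h1 : A * B * (B * A) = 0 := by rw [mul_assoc, ← mul_assoc B B A, hB, zero_mul, mul_zero]
  have h2 : B * A * (A * B) = 0 := by rw [mul_assoc, ← mul_assoc A A B, hA, zero_mul, mul_zero]
  have hBA : IsNilpotent (B * A) := by
    refine ⟨k + 1, ?_⟩
    have hmove : ∀ j : ℕ, (B * A) ^ (j + 1) = B * (A * B) ^ j * A := by
      intro j
      induction j with
      | zero => simp
      | succ j ih => rw [pow_succ, ih, pow_succ (A * B)]; noncomm_ring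
    rw [hmove, hk, mul_zero, zero_mul]
  have hcomm : Commute (A * B) (B * A) := by rw [Commute, SemiconjBy, h1, h2]
  have hSn : IsNilpotent S := hcomm.isNilpotent_add ⟨k, hk⟩ hBA
  have hSA : Commute S A := by
    show S * A = A * S
    simp only [hS, add_mul, mul_add, ← mul_assoc, hA, zero_mul, mul_zero, zero_add, add_zero]
    rw [mul_assoc B A A, hA, mul_zero, add_zero]
  have hSB : Commute S B := by
    show S * B = B * S
    simp only [hS, add_mul, mul_add, ← mul_assoc, hB, zero_mul, mul_zero, zero_add, add_zero]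
    rw [mul_assoc A B B, hB, mul_zero, zero_add]
  have hSN : Commute S (B - A - A * B) := (hSB.sub_right hSA).sub_right (hSA.mul_right hSB)
  have e : (B - A - A * B) * (B - A - A * B) = -(S * (1 + (B - A - A * B))) := by
    have e1 : A * (A * B) = 0 := by rw [← mul_assoc, hA, zero_mul]
    have e2 : A * B * B = 0 := by rw [mul_assoc, hB, mul_zero]
    have e3 : B * A * A = 0 := by rw [mul_assoc, hA, mul_zero]
    calc (B - A - A * B) * (B - A - A * B)
        = B * B - B * A - B * A * B - A * B + A * A + A * (A * B) - A * B * B + A * B * A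
            + A * B * (A * B) := by noncomm_ring
      _ = -(A * B + B * A) - B * A * B + A * B * A + A * B * (A * B) := by
          rw [hB, hA, e1, e2]; abel
      _ = -(A * B + B * A) - (A * B * B + B * A * B) + (A * B * A + B * A * A)
            + (A * B * (A * B) + B * A * (A * B)) := by rw [e2, e3, h2]; abel
      _ = -(S * (1 + (B - A - A * B))) := by rw [hS]; noncomm_ring
  have hsq : IsNilpotent ((B - A - A * B) ^ 2) := by
    rw [pow_two, e]
    exact (((Commute.one_right S).add_right hSN).isNilpotent_mul_right hSn).neg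
  obtain ⟨j, hj⟩ := hsq
  exact ⟨2 * j, by rw [pow_mul, hj]⟩

variable {K W : Type*} [Field K] [IsAlgClosed K] [AddCommGroup W] [Module K W] [FiniteDimensional K W]

theorem exists_ne_zero_eigen {T : Module.End K W} (hT : ¬ IsNilpotent T) :
    ∃ μ : K, μ ≠ 0 ∧ ∃ w : W, w ≠ 0 ∧ T w = μ • w := by
  by_contra! hne
  refine hT ?_
  refine ⟨Module.finrank K W, ?_⟩
  have haev := LinearMap.aeval_self_charpoly T
  have hall : ∀ r ∈ T.charpoly.roots, r = 0 := by
    intro r hr
    by_contra hr0
    have hev : Module.End.HasEigenvalue T r := by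
      rw [Module.End.hasEigenvalue_iff_isRoot_charpoly]
      exact Polynomial.isRoot_of_mem_roots hr
    obtain ⟨w, hw⟩ := hev.exists_hasEigenvector
    exact hne r hr0 w hw.2 hw.apply_eq_smul
  have hsplit := (IsAlgClosed.splits T.charpoly).eq_prod_roots_of_monic T.charpoly_monic
  have hcard : T.charpoly.roots.card = Module.finrank K W := by
    rw [← (IsAlgClosed.splits T.charpoly).natDegree_eq_card_roots, LinearMap.charpoly_natDegree]
  rw [hsplit, Multiset.eq_replicate_card.mpr hall, Multiset.map_replicate, Multiset.prod_replicate,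
    hcard] at haev
  simpa using haev

omit [IsAlgClosed K] in
theorem plane_contradiction (h2 : (2 : K) ≠ 0) {H : Type*} [Group H] [Finite H] [Group.IsSolvable H]
    (hodd : Odd (Nat.card H)) (ρ : H →* Module.End K W) {a b : H} {v w : W} {μ : K} (hμ : μ ≠ 0)
    (hv : v ≠ 0) (hav : ρ a v = v) (haw : ρ a w = w + μ • v) (hbv : ρ b v = v + w) (hbw : ρ b w = w) :
    False := by
  have hind : ∀ c : K, w ≠ c • v := by
    intro c hc
    rw [hc, map_smul, hav] at haw
    have : μ • v = 0 := by linear_combination (norm := module) -haw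
    exact (smul_ne_zero hμ hv) this
  set P := Submodule.span K ({v, w} : Set W) with hP
  have hv' : v ∈ P := Submodule.subset_span (Set.mem_insert _ _)
  have hw' : w ∈ P := Submodule.subset_span (Set.mem_insert_of_mem _ rfl)
  have hstab : ∀ h ∈ Subgroup.closure ({a, b} : Set H), ∀ z ∈ P, ρ h z ∈ P := by
    intro h hh
    rw [← SetLike.mem_coe, ← Subgroup.coe_toSubmonoid, Subgroup.closure_toSubmonoid_of_finite] at hh
    induction hh using Submonoid.closure_induction with
    | mem x hx =>
      have hsub : P ≤ P.comap (ρ x) := by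
        rw [hP, Submodule.span_le]
        rcases hx with rfl | rfl
        · rintro z (rfl | rfl)
          · simpa [hav] using hv'
          · simpa [haw] using P.add_mem hw' (P.smul_mem μ hv')
        · rintro z (rfl | rfl)
          · simpa [hbv] using P.add_mem hv' hw'
          · simpa [hbw] using hw'
      exact fun z hz => hsub hz
    | one => intro z hz; simpa using hz
    | mul x y _ _ hx hy => intro z hz; rw [map_mul]; exact hx _ (hy z hz)
  set H' := Subgroup.closure ({a, b} : Set H)
  let σ : H' →* Module.End K P :=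
    { toFun := fun h => (ρ h).restrict (hstab h h.2)
      map_one' := by ext z; simp
      map_mul' := fun x y => by ext z; simp }
  have hd : Module.finrank K P = 2 := by
    have hli : LinearIndependent K ![v, w] := LinearIndependent.pair_iff.mpr
      fun s t h => CfsgLib.OddOrder41.plane_coord_unique hv hind h
    have := finrank_span_eq_card hli
    rwa [Matrix.range_cons, Matrix.range_cons, Matrix.range_empty, Set.union_empty, Set.singleton_union,
      Fintype.card_fin] at this
  let I := σ.toHomUnits.range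
  have hIodd : Odd (Nat.card I) := by
    refine Odd.of_dvd_nat (hodd.of_dvd_nat (Subgroup.card_subgroup_dvd_card H')) ?_
    exact Subgroup.card_range_dvd _
  haveI : Finite I := Nat.finite_of_card_ne_zero hIodd.pos.ne'
  haveI : Group.IsSolvable I := solvable_of_surjective σ.toHomUnits.rangeRestrict_surjective
  let τ : I →* Module.End K P := (Units.coeHom _).comp I.subtype
  have hτ : Function.Injective τ := Units.val_injective.comp Subtype.val_injective
  let a' : I := σ.toHomUnits.rangeRestrict ⟨a, Subgroup.subset_closure (Set.mem_insert _ _)⟩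
  let b' : I := σ.toHomUnits.rangeRestrict ⟨b, Subgroup.subset_closure (Set.mem_insert_of_mem _ rfl)⟩
  have ha' : ∀ z : P, ((τ a' z : P) : W) = ρ a z := fun z => rfl
  have hb' : ∀ z : P, ((τ b' z : P) : W) = ρ b z := fun z => rfl
  rcases CfsgLib.OddOrder41.odd_plane_comm_or_eigen h2 hd hIodd τ hτ with hc | ⟨u, hu, hev⟩
  · have e := congrArg (fun f : Module.End K P => ((f ⟨v, hv'⟩ : P) : W))
      (congrArg τ (hc a' b'))
    simp only [map_mul, Module.End.mul_apply, ha', hb', hav, hbv, map_add, haw] at e
    exact smul_ne_zero hμ hv (by linear_combination (norm := module) e)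
  · obtain ⟨x, y, hxy⟩ := Submodule.mem_span_pair.mp u.2
    obtain ⟨c, hc⟩ := hev a'
    obtain ⟨d, hd'⟩ := hev b'
    have ec : ρ a u = c • (u : W) := by rw [← ha']; exact congrArg Subtype.val hc
    have ed : ρ b u = d • (u : W) := by rw [← hb']; exact congrArg Subtype.val hd'
    rw [← hxy] at ec ed
    simp only [map_add, map_smul, hav, haw, hbv, hbw] at ec ed
    obtain ⟨e1, e2⟩ := CfsgLib.OddOrder41.plane_coord_unique hv hind
      (x := x + y * μ - c * x) (y := y - c * y) (by linear_combination (norm := module) ec)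
    obtain ⟨e3, e4⟩ := CfsgLib.OddOrder41.plane_coord_unique hv hind
      (x := x - d * x) (y := x + y - d * y) (by linear_combination (norm := module) ed)
    have hy0 : y = 0 := by
      by_contra hy
      have hc1 : c = 1 := (mul_left_eq_self₀.mp (by linear_combination -e2 : c * y = y)).resolve_right hy
      rw [hc1] at e1
      exact mul_ne_zero hy hμ (by linear_combination e1)
    have hx0 : x = 0 := by rw [hy0] at e4; linear_combination e4
    exact hu (Subtype.ext (by rw [← hxy, hx0, hy0]; simp))

omit [IsAlgClosed K] [Module K W] [FiniteDimensional K W] in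
theorem inv_eq_two_sub {H R : Type*} [Group H] [Ring R] (ρ : H →* R) {a : H}
    (ha : (ρ a - 1) * (ρ a - 1) = 0) : ρ a⁻¹ = 2 - ρ a := by
  have hone : ρ a⁻¹ * ρ a = 1 := by rw [← map_mul, inv_mul_cancel, map_one]
  calc ρ a⁻¹ = ρ a⁻¹ * (ρ a * (2 - ρ a) + (ρ a - 1) * (ρ a - 1)) := by
        rw [show ρ a * (2 - ρ a) + (ρ a - 1) * (ρ a - 1) = 1 by noncomm_ring, mul_one]
    _ = 2 - ρ a := by rw [ha, add_zero, ← mul_assoc, hone, one_mul]

theorem isNilpotent_quotient_closed (h2 : (2 : K) ≠ 0) {H : Type*} [Group H] [Finite H]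
    [Group.IsSolvable H] (hodd : Odd (Nat.card H)) (ρ : H →* Module.End K W) {a b : H}
    (ha : (ρ a - 1) * (ρ a - 1) = 0) (hb : (ρ b - 1) * (ρ b - 1) = 0) :
    IsNilpotent (ρ (a⁻¹ * b) - 1) := by
  have e : ρ (a⁻¹ * b) - 1 = (ρ b - 1) - (ρ a - 1) - (ρ a - 1) * (ρ b - 1) := by
    rw [map_mul, inv_eq_two_sub ρ ha]
    noncomm_ring
  rw [e]
  refine isNilpotent_of_prod ha hb ?_
  by_contra hT
  obtain ⟨μ, hμ, v, hv, hTv⟩ := exists_ne_zero_eigen hT
  have hAv : (ρ a - (1 : Module.End K W)) v = 0 := by
    have := congrArg (ρ a - (1 : Module.End K W)) hTv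
    rw [map_smul, ← Module.End.mul_apply, ← mul_assoc, ha, zero_mul, LinearMap.zero_apply] at this
    exact (smul_eq_zero.mp this.symm).resolve_left hμ
  refine plane_contradiction h2 hodd ρ (a := a) (b := b) (w := (ρ b - (1 : Module.End K W)) v) hμ hv ?_ ?_ ?_ ?_
  · simpa [sub_eq_zero] using hAv
  · have : (ρ a - (1 : Module.End K W)) ((ρ b - (1 : Module.End K W)) v) = μ • v := hTv
    rw [← this]; simp
  · simp
  · have : (ρ b - (1 : Module.End K W)) ((ρ b - (1 : Module.End K W)) v) = 0 := by rw [← Module.End.mul_apply, hb, LinearMap.zero_apply]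
    rw [LinearMap.sub_apply, Module.End.one_apply, sub_eq_zero] at this
    exact this

omit [IsAlgClosed K] in
/-- Two quadratic unipotent elements `a`, `b` of a solvable group of odd order: `a⁻¹ * b` is unipotent. -/
theorem isNilpotent_quotient {H : Type*} [Group H] [Finite H] [Group.IsSolvable H]
    (hodd : Odd (Nat.card H)) (h2 : (2 : K) ≠ 0) (ρ : H →* Module.End K W) {a b : H}
    (ha : (ρ a - 1) * (ρ a - 1) = 0) (hb : (ρ b - 1) * (ρ b - 1) = 0) :
    IsNilpotent (ρ (a⁻¹ * b) - 1) := by
  classical
  let bas := Module.finBasis K W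
  let φ : Module.End K W →+* Module.End (AlgebraicClosure K) (Fin (Module.finrank K W) → AlgebraicClosure K) :=
    (Matrix.toLinAlgEquiv' (R := AlgebraicClosure K)).toAlgHom.toRingHom.comp
      ((algebraMap K (AlgebraicClosure K)).mapMatrix.comp (LinearMap.toMatrixAlgEquiv bas).toAlgHom.toRingHom)
  have hφ : Function.Injective φ :=
    (Matrix.toLinAlgEquiv' (R := AlgebraicClosure K)).injective.comp
      ((Matrix.map_injective (algebraMap K (AlgebraicClosure K)).injective).comp
        (LinearMap.toMatrixAlgEquiv bas).injective)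
  have h2' : (2 : AlgebraicClosure K) ≠ 0 := by
    rw [← map_ofNat (algebraMap K (AlgebraicClosure K)) 2]
    exact (map_ne_zero _).mpr h2
  have hq : ∀ c : H, (ρ c - 1) * (ρ c - 1) = 0 →
      ((φ.toMonoidHom.comp ρ) c - 1) * ((φ.toMonoidHom.comp ρ) c - 1) = 0 := by
    intro c hc
    have := congrArg φ hc
    rwa [map_mul, map_sub, map_one, map_zero] at this
  have := isNilpotent_quotient_closed h2' hodd (φ.toMonoidHom.comp ρ) (hq a ha) (hq b hb)
  rw [← IsNilpotent.map_iff hφ]
  rwa [map_sub, map_one]

end CfsgLib.OddOrder.QuadraticPair
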