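import Cfsg.Agent.Lib.PLocal.ZJ
import Cfsg.Agent.Lib.PGroup.Frattini

/-!
`Z(J(S))` (whole centre, elementary abelian version of `J`) is normal in a `p`-stable group with
`C(O_p) ≤ O_p`.
-/

set_option autoImplicit false

namespace CfsgLib.OddOrder.CenterJNormal

open CfsgLib.PLocal
open scoped commutatorElement

variable {G : Type*} [Group G] [Finite G] {p : ℕ} [hp : Fact p.Prime]

/-- `B ∩ Z(J(S))` is normal for every normal `p`-subgroup `B`. -/
theorem inf_centerJ_normal (hp2 : p ≠ 2)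
    (hst : ∀ (P : Subgroup G) [P.Normal], IsPGroup p P → Cfsg.IsPStableOn p P) (S : Sylow p G)
    (B : Subgroup G) [B.Normal] (hB : IsPGroup p B) : (B ⊓ centerJ p (S : Subgroup G)).Normal := by
  suffices key : ∀ n, ∀ B : Subgroup G, B.Normal → IsPGroup p B → Nat.card B = n →
      (B ⊓ centerJ p (S : Subgroup G)).Normal from key _ B inferInstance hB rfl
  intro n
  induction n using Nat.strong_induction_on with
  | _ n ih =>
  intro B hBn hB hcard
  subst hcard
  set W := centerJ p (S : Subgroup G) with hW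
  have hWS : (S : Subgroup G) ≤ Subgroup.normalizer (W : Set G) :=
    Subgroup.le_normalizer.trans (normalizer_le_normalizer_centerJ p _)
  have small : ∀ B' : Subgroup G, B'.Normal → B' < B → (B' ⊓ W).Normal := fun B' hn hlt =>
    ih _ (lt_of_not_ge fun h => hlt.ne (Subgroup.eq_of_le_of_card_ge hlt.le h)) B' hn
      (hB.to_le hlt.le) rfl
  by_contra hnot
  have hBS : B ≤ (S : Subgroup G) :=
    (CfsgLib.PCore.le_pCore hBn hB).trans (CfsgLib.PCore.pCore_le_sylow S)
  have hSB : (S : Subgroup G) ≤ Subgroup.normalizer (B : Set G) := fun x _ => by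
    rw [Subgroup.normalizer_eq_top B]; trivial
  -- `B` is the normal closure of `B ⊓ W`
  have hcl : ∀ M : Subgroup G, M.Normal → B ⊓ W ≤ M → B ≤ M := by
    intro M hM hle
    by_contra hnle
    apply hnot
    have hlt : M ⊓ B < B := lt_of_le_of_ne inf_le_right fun h => hnle (h ▸ inf_le_left)
    have := small (M ⊓ B) inferInstance hlt
    rwa [inf_assoc, inf_eq_right.mpr hle] at this
  have hBne : B ≠ ⊥ := by
    rintro rfl
    apply hnot
    rw [bot_inf_eq]
    infer_instance
  -- the derived subgroup lies in `W`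
  have hder : ⁅B, B⁆ < B := by
    haveI : Group.IsNilpotent B := hB.isNilpotent
    haveI : Nontrivial B := (Subgroup.nontrivial_iff_ne_bot B).mpr hBne
    refine lt_of_le_of_ne B.commutator_le_self fun h => ?_
    have h1 : commutator B < ⊤ := IsSolvable.commutator_lt_top_of_nontrivial B
    apply h1.ne
    apply Subgroup.map_injective B.subtype_injective
    rw [Subgroup.map_subtype_commutator, map_subtype_top, h]
  haveI hKn : (⁅B, B⁆ ⊓ W).Normal := small _ inferInstance hder
  have hK : ⁅B, B⁆ ≤ ⁅B, B⁆ ⊓ W := by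
    set K := ⁅B, B⁆ ⊓ W with hKdef
    set q := QuotientGroup.mk' K with hq
    haveI : (B.map q).Normal := hBn.map q (QuotientGroup.mk'_surjective K)
    have h1 : B ≤ (Subgroup.centralizer ((B.map q : Subgroup (G ⧸ K)) : Set (G ⧸ K))).comap q := by
      refine hcl _ inferInstance ?_
      intro x hx
      obtain ⟨hxB, hxZ⟩ := Subgroup.mem_inf.mp hx
      rw [Subgroup.mem_comap, Subgroup.mem_centralizer_iff]
      rintro _ ⟨y, hy, rfl⟩
      rw [← map_mul, ← map_mul, hq, QuotientGroup.mk'_apply, QuotientGroup.mk'_apply,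
        QuotientGroup.eq]
      refine Subgroup.mem_inf.mpr ⟨?_, ?_⟩
      · have := Subgroup.commutator_mem_commutator (inv_mem hxB) (inv_mem hy) (H₁ := B) (H₂ := B)
        simpa [commutatorElement_def, mul_assoc] using this
      · have h2 : y⁻¹ * x * y ∈ W := inv_conj_mem_of_mem_normalizer (hWS (hBS hy)) hxZ
        have := mul_mem (inv_mem hxZ) h2
        simpa [mul_assoc] using this
    rw [Subgroup.commutator_le]
    intro x hx y hy
    have h2 : q y * q x = q x * q y := Subgroup.mem_centralizer_iff.mp (h1 hx) (q y) ⟨y, hy, rfl⟩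
    have h3 : q ⁅x, y⁆ = 1 := by
      rw [map_commutatorElement, commutatorElement_eq_one_iff_mul_comm]
      exact h2.symm
    exact (QuotientGroup.eq_one_iff _).mp h3
  have hB'W : ⁅B, B⁆ ≤ W := hK.trans inf_le_right
  -- normal subgroups inside `W` are centralized by `B`
  have hcentW : ∀ N : Subgroup G, N.Normal → N ≤ W → B ≤ Subgroup.centralizer (N : Set G) := by
    intro N hN hNW
    haveI := hN
    refine hcl _ inferInstance fun x hx => Subgroup.mem_centralizer_iff.mpr fun y hy => ?_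
    exact centralizes_centerJ hx.2 ((hNW hy).1)
  have hB'c : ∀ x ∈ B, ∀ y ∈ B, ∀ z ∈ B, Commute z ⁅x, y⁆ := fun x hx y hy z hz =>
    (Subgroup.mem_centralizer_iff.mp (hcentW _ inferInstance hB'W hz) _
      (Subgroup.commutator_mem_commutator hx hy)).symm
  -- `p`-th powers of `B` lie in a normal subgroup inside `W`
  set Φ := (frattini B).map B.subtype with hΦ
  have hΦn : Φ.Normal := ConjAct.normal_of_characteristic_of_normal
  have hΦlt : Φ < B := by
    haveI : Nontrivial B := (Subgroup.nontrivial_iff_ne_bot B).mpr hBne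
    refine lt_of_le_of_ne (Subgroup.map_subtype_le _) fun h => ?_
    refine CfsgLib.PGroup.frattini_ne_top (P := B) (Subgroup.map_injective B.subtype_injective ?_)
    rw [map_subtype_top]; exact h
  haveI hNn : (Φ ⊓ W).Normal := small Φ hΦn hΦlt
  have hNc := hcentW (Φ ⊓ W) hNn inf_le_right
  set K := ⁅B, B⁆ with hKK
  -- products and powers
  have hB'p : ∀ x ∈ B, ∀ y ∈ B, ⁅x, y⁆ ^ p = 1 := by
    -- commutators of `B` have exponent `p` because the generators have central `p`-th powers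
    set s : Set G := {x | ∃ w ∈ B ⊓ W, ∃ g : G, x = g * w * g⁻¹} with hs
    have hsB : s ⊆ (B : Set G) := by
      rintro _ ⟨w, hw, g, rfl⟩
      exact hBn.conj_mem w hw.1 g
    have hBs : B ≤ Subgroup.closure s := by
      refine hcl _ ⟨fun n hn g => ?_⟩ fun w hw => Subgroup.subset_closure ⟨w, hw, 1, by simp⟩
      induction hn using Subgroup.closure_induction with
      | mem x hx =>
        obtain ⟨w, hw, h, rfl⟩ := hx
        exact Subgroup.subset_closure ⟨w, hw, g * h, by group⟩
      | one => simp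
      | mul a b _ _ iha ihb => simpa [mul_assoc] using mul_mem iha ihb
      | inv a _ iha => simpa [mul_assoc] using inv_mem iha
    have hscent : ∀ x ∈ s, ∀ z ∈ B, Commute (x ^ p) z := by
      rintro _ ⟨w, hw, g, rfl⟩ z hz
      have h1 : w ^ p ∈ Φ ⊓ W := by
        refine ⟨⟨(⟨w, hw.1⟩ : B) ^ p, CfsgLib.PGroup.pow_mem_frattini hB _, by simp⟩, W.pow_mem hw.2 p⟩
      have h2 : g * w ^ p * g⁻¹ ∈ Φ ⊓ W := hNn.conj_mem _ h1 g
      rw [conj_pow]
      exact (Subgroup.mem_centralizer_iff.mp (hNc hz) _ h2)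
    -- exponent-`p` elements commuting with `B`
    have hgen : ∀ a ∈ s, ∀ z ∈ B, ⁅a, z⁆ ^ p = 1 := by
      intro a ha z hz
      have hc : Commute ⁅a, z⁆ a := (hB'c a (hsB ha) z hz a (hsB ha)).symm
      have hq : ∀ m : ℕ, ⁅a ^ m, z⁆ = ⁅a, z⁆ ^ m := by
        intro m
        induction m with
        | zero => simp
        | succ m ihm =>
          calc ⁅a ^ (m + 1), z⁆ = a * ⁅a ^ m, z⁆ * a⁻¹ * ⁅a, z⁆ := by
                simp only [commutatorElement_def, pow_succ']; group
            _ = ⁅a, z⁆ ^ m * ⁅a, z⁆ := by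
                rw [ihm, ((hc.pow_left m).symm).eq, mul_inv_cancel_right]
            _ = ⁅a, z⁆ ^ (m + 1) := (pow_succ _ m).symm
      rw [← hq p]
      exact commutatorElement_eq_one_iff_commute.mpr (hscent a ha z hz)
    intro x hx y hy
    have hstep : ∀ u ∈ Subgroup.closure s, u ∈ B ∧ ⁅u, y⁆ ^ p = 1 := by
      intro u hu
      induction hu using Subgroup.closure_induction with
      | mem u hu => exact ⟨hsB hu, hgen u hu y hy⟩
      | one => exact ⟨B.one_mem, by simp⟩
      | mul a b _ _ iha ihb =>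
        refine ⟨mul_mem iha.1 ihb.1, ?_⟩
        have h1 := hB'c b ihb.1 y hy a iha.1
        have e : ⁅a * b, y⁆ = ⁅b, y⁆ * ⁅a, y⁆ := by
          calc ⁅a * b, y⁆ = a * ⁅b, y⁆ * a⁻¹ * ⁅a, y⁆ := by simp only [commutatorElement_def]; group
            _ = _ := by rw [h1.eq, mul_inv_cancel_right]
        have h2 : Commute ⁅b, y⁆ ⁅a, y⁆ :=
          hB'c a iha.1 y hy ⁅b, y⁆ (hder.le (Subgroup.commutator_mem_commutator ihb.1 hy))
        rw [e, h2.mul_pow, iha.2, ihb.2, one_mul]
      | inv a _ iha =>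
        refine ⟨inv_mem iha.1, ?_⟩
        have e : ⁅a⁻¹, y⁆ = ⁅a, y⁆⁻¹ := by
          have h1 := (hB'c a iha.1 y hy a⁻¹ (inv_mem iha.1)).inv_right
          calc ⁅a⁻¹, y⁆ = a⁻¹ * ⁅a, y⁆⁻¹ * a⁻¹⁻¹ := by simp only [commutatorElement_def]; group
            _ = _ := by rw [h1.eq, mul_inv_cancel_right]
        rw [e, inv_pow, iha.2, inv_one]
    exact (hstep x (hBs hx)).2
  have hmulpow : ∀ u ∈ B, ∀ v ∈ B, (u * v) ^ p = u ^ p * v ^ p := by
    intro u hu v hv
    have hz : ∀ w ∈ B, ⁅v⁻¹, u⁻¹⁆ * w = w * ⁅v⁻¹, u⁻¹⁆ := fun w hw =>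
      (hB'c v⁻¹ (inv_mem hv) u⁻¹ (inv_mem hu) w hw).eq.symm
    rw [mul_pow_of_commutator (hz u hu) (hz v hv) (by simp only [commutatorElement_def]; group)]
    obtain ⟨m, hm⟩ := hp.out.dvd_choose_self (by norm_num : (2 : ℕ) ≠ 0)
      (lt_of_le_of_ne hp.out.two_le (Ne.symm hp2))
    rw [hm, pow_mul, hB'p _ (inv_mem hv) _ (inv_mem hu), one_pow, mul_one]
  -- `p`-th powers lie in `Φ ⊓ W`
  have hpowW : ∀ b ∈ B, b ^ p ∈ Φ ⊓ W := by
    let P2 : Subgroup G :=
      { carrier := {b | b ∈ B ∧ b ^ p ∈ Φ ⊓ W}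
        one_mem' := ⟨B.one_mem, by simp⟩
        mul_mem' := fun {a b} ha hb => ⟨mul_mem ha.1 hb.1, by
          rw [hmulpow a ha.1 b hb.1]; exact mul_mem ha.2 hb.2⟩
        inv_mem' := fun {a} ha => ⟨inv_mem ha.1, by rw [inv_pow]; exact inv_mem ha.2⟩ }
    have hP2n : P2.Normal := ⟨fun n hn g => ⟨hBn.conj_mem n hn.1 g, by
      rw [conj_pow]; exact hNn.conj_mem _ hn.2 g⟩⟩
    intro b hb
    refine (hcl P2 hP2n (fun w hw => ⟨hw.1, ?_⟩) hb).2
    exact ⟨⟨(⟨w, hw.1⟩ : B) ^ p, CfsgLib.PGroup.pow_mem_frattini hB _, by simp⟩, W.pow_mem hw.2 p⟩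
  -- a maximal member normalized by `B`
  obtain ⟨A₀, hA₀⟩ := exists_isMaxElemIn p (S : Subgroup G)
  have hB'A : ∀ A, IsMaxElemIn p (S : Subgroup G) A → K ≤ A := by
    intro A hA
    rw [hKK, Subgroup.commutator_le]
    intro x hx y hy
    have h1 : ⁅x, y⁆ ∈ B := hder.le (Subgroup.commutator_mem_commutator hx hy)
    exact hA.mem_of_centralizes_thompson (hBS h1) (hB'p x hx y hy)
      (hB'W (Subgroup.commutator_mem_commutator hx hy)).2
  obtain ⟨A₁, hA₁, hBA₁⟩ : ∃ A, IsMaxElemIn p (S : Subgroup G) A ∧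
      B ≤ Subgroup.normalizer (A : Set G) := by
    by_cases h : B ≤ A₀
    · exact ⟨A₀, hA₀, h.trans Subgroup.le_normalizer⟩
    · obtain ⟨A, h1, -, -, h4⟩ := exists_maxElemIn_normalized S.isPGroup' le_rfl
        Subgroup.le_normalizer hBS hSB hA₀ (hB'A A₀ hA₀)
        (fun h2 => absurd h2 hp2) (Or.inr rfl) h
      exact ⟨A, h1, h4⟩
  set D := stabD p B with hD
  set L := (S : Subgroup G) ⊓ D with hL
  have hstB := hst B hB
  have hA₁L : A₁ ≤ L := le_inf hA₁.le (by haveI := hA₁.elem.1; exact le_stabD_of_normalizes hstB hBA₁)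
  have hJL : thompson p L ≤ thompson p (S : Subgroup G) := thompson_le_iff.mpr fun A hA =>
    (hA₁.of_card_le (hA.le.trans inf_le_left) hA.elem (hA.2.2 A₁ hA₁L hA₁.elem)).le_thompson
  -- intersections with `N(L)`-invariant subgroups are normal
  have hnorm : ∀ X : Subgroup G, Subgroup.normalizer (L : Set G) ≤ Subgroup.normalizer (X : Set G) →
      (B ⊓ X).Normal := by
    intro X hX
    rw [← Subgroup.normalizer_eq_top_iff, eq_top_iff, ← centralizer_sup_normalizer_stabD B S]
    refine sup_le ?_ ?_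
    · intro c hc
      refine Subgroup.mem_normalizer_iff.mpr fun x => ?_
      constructor
      · intro hx
        rwa [show c * x * c⁻¹ = x by
          rw [← Subgroup.mem_centralizer_iff.mp hc x hx.1, mul_inv_cancel_right]]
      · intro hx
        have h1 : c * x * c⁻¹ ∈ B := hx.1
        have h2 := Subgroup.mem_centralizer_iff.mp hc _ h1
        have h3 : x = c * x * c⁻¹ := by
          calc x = c⁻¹ * (c * x * c⁻¹ * c) := by group
            _ = c⁻¹ * (c * (c * x * c⁻¹)) := by rw [h2]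
            _ = c * x * c⁻¹ := by group
        rwa [h3]
    · intro n hn
      exact CfsgLib.Techniques.mem_normalizer_inf (by rw [Subgroup.normalizer_eq_top B]; trivial)
        (hX hn)
  have hBcent : B ≤ Subgroup.centralizer (thompson p L : Set G) := by
    refine le_trans (hcl _ (hnorm _ ?_) fun x hx => ⟨hx.1, ?_⟩) inf_le_right
    · exact (normalizer_le_normalizer_thompson p L).trans
        (CfsgLib.Techniques.normalizer_le_normalizer_centralizer _)
    · exact Subgroup.centralizer_le hJL hx.2.2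
  -- the elements of order `p` of `B`
  let Ω : Subgroup G :=
    { carrier := {b | b ∈ B ∧ b ^ p = 1}
      one_mem' := ⟨B.one_mem, one_pow p⟩
      mul_mem' := fun {a b} ha hb => ⟨mul_mem ha.1 hb.1, by rw [hmulpow a ha.1 b hb.1, ha.2, hb.2, one_mul]⟩
      inv_mem' := fun {a} ha => ⟨inv_mem ha.1, by rw [inv_pow, ha.2, inv_one]⟩ }
  have hΩn : Ω.Normal := ⟨fun n hn g => ⟨hBn.conj_mem n hn.1 g, by rw [conj_pow, hn.2]; simp⟩⟩
  have hΩp : IsPGroup p Ω := hB.to_le fun x hx => hx.1
  have hΩS : Ω ≤ (S : Subgroup G) := fun x hx => hBS hx.1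
  have hΩmem : ∀ A, IsMaxElemIn p (S : Subgroup G) A → A ≤ L → Ω ≤ A := by
    intro A hA hAL x hx
    exact hA.mem_of_centralizes (hBS hx.1) hx.2 fun a ha =>
      Subgroup.mem_centralizer_iff.mp (hBcent hx.1) a
        ((hA.restrict inf_le_left hAL).le_thompson ha)
  have hΩc : IsMulCommutative Ω :=
    (elemAb_of_le hA₁.elem (hΩmem A₁ hA₁ hA₁L)).1
  have hall : ∀ A, IsMaxElemIn p (S : Subgroup G) A → A ≤ L := by
    by_contra h
    push Not at h
    classical
    obtain ⟨A, ⟨hA, hAL⟩, hmax⟩ := Set.exists_max_image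
      {A : Subgroup G | IsMaxElemIn p (S : Subgroup G) A ∧ ¬ A ≤ L}
      (fun A => Nat.card (A ⊓ Ω : Subgroup G)) (Set.toFinite _) h
    haveI := hA.elem.1
    have hΩA : Ω ≤ Subgroup.normalizer (A : Set G) := by
      by_contra hnN
      obtain ⟨A', h1, -, h3, h4, -⟩ := exists_maxElemIn_replacement S.isPGroup' le_rfl
        Subgroup.le_normalizer hΩS (fun x _ => by rw [Subgroup.normalizer_eq_top Ω]; trivial) hA
        (by rw [Subgroup.commutator_self_eq_bot_iff.mpr hΩc]; exact bot_le)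
        (fun h2 => absurd h2 hp2) (Or.inr rfl) hnN
      by_cases hA'L : A' ≤ L
      · exact h4.ne (inf_eq_right.mpr (hΩmem A' h1 hA'L))
      · exact h3.ne (Subgroup.eq_of_le_of_card_ge h3.le (hmax A' ⟨h1, hA'L⟩))
    apply hAL
    refine le_inf hA.le fun a ha => ?_
    have haΩ : a ∈ stabD p Ω := le_stabD_of_normalizes (hst Ω hΩp) hΩA ha
    -- `a` is trivial on `B / Ω`
    set E₀ := (Subgroup.centralizer ((B.map (QuotientGroup.mk' Ω) : Subgroup (G ⧸ Ω)) : Set (G ⧸ Ω))).comap
      (QuotientGroup.mk' Ω) with hE₀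
    haveI : (B.map (QuotientGroup.mk' Ω)).Normal := hBn.map _ (QuotientGroup.mk'_surjective Ω)
    have hE₀mem : ∀ g, g ∈ E₀ ↔ ∀ b ∈ B, ⁅g, b⁆ ∈ Ω := by
      intro g
      rw [hE₀, Subgroup.mem_comap, Subgroup.mem_centralizer_iff]
      constructor
      · intro h b hb
        have h2 := h _ ⟨b, hb, rfl⟩
        refine (QuotientGroup.eq_one_iff _).mp ?_
        show QuotientGroup.mk' Ω ⁅g, b⁆ = 1
        rw [map_commutatorElement, commutatorElement_eq_one_iff_mul_comm]
        exact h2.symm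
      · rintro h _ ⟨b, hb, rfl⟩
        have h2 : QuotientGroup.mk' Ω ⁅g, b⁆ = 1 := (QuotientGroup.eq_one_iff _).mpr (h b hb)
        rw [map_commutatorElement, commutatorElement_eq_one_iff_mul_comm] at h2
        exact h2.symm
    have haE₀ : a ∈ E₀ := by
      rw [hE₀mem]
      intro b hb
      have hab : a * b * a⁻¹ ∈ B := hBn.conj_mem b hb a
      refine ⟨?_, ?_⟩
      · rw [commutatorElement_def]; exact mul_mem hab (inv_mem hb)
      · have hc : a * b ^ p = b ^ p * a := centralizes_centerJ (hpowW b hb).2 (hA.le_thompson ha)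
        rw [commutatorElement_def, hmulpow _ hab _ (inv_mem hb), conj_pow, hc, mul_inv_cancel_right,
          inv_pow, mul_inv_cancel]
    haveI := stabD_normal p Ω
    haveI hEn : (E₀ ⊓ stabD p Ω).Normal := inferInstance
    have hmap : (E₀ ⊓ stabD p Ω).map (QuotientGroup.mk' (Subgroup.centralizer (B : Set G)))
        ≤ Cfsg.pCore p (G ⧸ Subgroup.centralizer (B : Set G)) := by
      refine CfsgLib.PCore.le_pCore (hEn.map _ (QuotientGroup.mk'_surjective _)) ?_
      rintro ⟨_, g, hg, rfl⟩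
      obtain ⟨m, hm⟩ := (CfsgLib.PCore.pCore_isPGroup (p := p)
        (G := G ⧸ Subgroup.centralizer (Ω : Set G))) ⟨_, hg.2⟩
      refine ⟨m + 1, Subtype.ext ?_⟩
      simp only [SubmonoidClass.coe_pow, OneMemClass.coe_one]
      rw [← map_pow]
      refine (QuotientGroup.eq_one_iff _).mpr ?_
      have hu : g ^ p ^ m ∈ Subgroup.centralizer (Ω : Set G) := by
        have := congrArg Subtype.val hm
        simp only [SubmonoidClass.coe_pow, OneMemClass.coe_one] at this
        exact (QuotientGroup.eq_one_iff _).mp this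
      have hu0 : g ^ p ^ m ∈ E₀ := E₀.pow_mem hg.1 _
      rw [pow_succ, pow_mul]
      set u := g ^ p ^ m
      refine Subgroup.mem_centralizer_iff.mpr fun b hb => ?_
      have hc : ⁅u, b⁆ ∈ Ω := (hE₀mem u).mp hu0 b hb
      have hcu : ⁅u, b⁆ * u = u * ⁅u, b⁆ := Subgroup.mem_centralizer_iff.mp hu _ hc
      have key : ∀ j : ℕ, u ^ j * b * (u ^ j)⁻¹ = ⁅u, b⁆ ^ j * b := by
        intro j
        induction j with
        | zero => simp
        | succ j ihj =>
          calc u ^ (j + 1) * b * (u ^ (j + 1))⁻¹ = u * (u ^ j * b * (u ^ j)⁻¹) * u⁻¹ := by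
                rw [pow_succ']; group
            _ = (u * ⁅u, b⁆ ^ j * u⁻¹) * (u * b * u⁻¹) := by rw [ihj]; group
            _ = ⁅u, b⁆ ^ j * (⁅u, b⁆ * b) := by
                rw [← ((show Commute ⁅u, b⁆ u from hcu).pow_left j).eq, mul_inv_cancel_right,
                  commutatorElement_def]
                group
            _ = ⁅u, b⁆ ^ (j + 1) * b := by rw [pow_succ]; group
      have h5 := key p
      rw [hc.2, one_mul] at h5
      exact (mul_inv_eq_iff_eq_mul.mp h5).symm
    exact hmap ⟨a, ⟨haE₀, haΩ⟩, rfl⟩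
  apply hnot
  have hJeq : thompson p L = thompson p (S : Subgroup G) := le_antisymm hJL
    (thompson_le_iff.mpr fun A hA => (hA.restrict inf_le_left (hall A hA)).le_thompson)
  have hWL : centerJ p L = W := by rw [hW]; unfold centerJ; rw [hJeq]
  rw [← hWL]
  exact hnorm _ (normalizer_le_normalizer_centerJ p L)

/-- `Z(J(S))` is normal. -/
theorem centerJ_normal (hp2 : p ≠ 2)
    (hc : Subgroup.centralizer (Cfsg.pCore p G : Set G) ≤ Cfsg.pCore p G)
    (hst : ∀ (P : Subgroup G) [P.Normal], IsPGroup p P → Cfsg.IsPStableOn p P) (S : Sylow p G) :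
    (centerJ p (S : Subgroup G)).Normal := by
  haveI := centerJ_isMulCommutative p (S : Subgroup G)
  have hle : centerJ p (S : Subgroup G) ≤ Cfsg.pCore p G := by
    refine (le_stabD_of_normalizes (hst _ CfsgLib.PCore.pCore_isPGroup)
      ((CfsgLib.PCore.pCore_le_sylow S).trans
        (Subgroup.le_normalizer.trans (normalizer_le_normalizer_centerJ p _)))).trans ?_
    exact CfsgLib.PCore.le_pCore (stabD_normal p _)
      (stabD_isPGroup (CfsgLib.PCore.pCore_isPGroup.to_le hc))
  have h := inf_centerJ_normal hp2 hst S (Cfsg.pCore p G) CfsgLib.PCore.pCore_isPGroup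
  rwa [inf_eq_right.mpr hle] at h

end CfsgLib.OddOrder.CenterJNormal

namespace CfsgLib.OddOrder.CenterJNormal

open CfsgLib.PLocal

variable {G : Type*} [Group G]

theorem centerJ_map_of_injOn {H : Type*} [Group H] {e : ℕ} (f : G →* H) (P : Subgroup G)
    (hf : Function.Injective (f.comp P.subtype)) : centerJ e (P.map f) = (centerJ e P).map f := by
  have h1 := centerJ_map (e := e) P.subtype_injective (⊤ : Subgroup P)
  have h2 := centerJ_map (e := e) hf (⊤ : Subgroup P)
  rw [map_subtype_top] at h1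
  rw [← Subgroup.map_map, map_subtype_top, ← Subgroup.map_map, ← h1] at h2
  exact h2

end CfsgLib.OddOrder.CenterJNormal
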