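import Cfsg.Prelude.Def_OddOrderChar
import Mathlib.GroupTheory.OrderOfElement
import Mathlib.Data.Nat.ChineseRemainder

/-!
Elementary consequences of the Dade hypothesis: `H a` consists of the elements of `C(a)` of order coprime
to `#C_L(a)`, and `a` is a power of every element of `a * H a`.
-/

set_option autoImplicit false

namespace CfsgLib.OddOrder.DadeBasic

set_option linter.unusedSectionVars false

variable {G : Type*} [Group G] [Finite G] {A : Set G} {L : Subgroup G} {H : G → Subgroup G}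

theorem self_mem_inf (hD : Cfsg.DadeHypothesis A L H) {a : G} (ha : a ∈ A) :
    a ∈ L ⊓ Subgroup.centralizer ({a} : Set G) :=
  ⟨hD.subset ha, by simp [Subgroup.mem_centralizer_iff]⟩

theorem orderOf_coprime (hD : Cfsg.DadeHypothesis A L H) {a b : G} (ha : a ∈ A) (hb : b ∈ A)
    {u : G} (hu : u ∈ H a) : Nat.Coprime (orderOf u) (orderOf b) :=
  ((hD.coprime a ha b hb).coprime_dvd_left (Subgroup.orderOf_dvd_natCard _ hu)).coprime_dvd_right
    (Subgroup.orderOf_dvd_natCard _ (self_mem_inf hD hb))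

theorem commute_of_mem (hD : Cfsg.DadeHypothesis A L H) {a : G} (ha : a ∈ A) {u : G}
    (hu : u ∈ H a) : a * u = u * a :=
  Subgroup.mem_centralizer_iff.mp (hD.le_centralizer a ha hu) a (by simp)

/-- One exponent picks out the `A`-parts of both `a * u` and `b * v`. -/
theorem exists_pow (hD : Cfsg.DadeHypothesis A L H) {a b : G} (ha : a ∈ A) (hb : b ∈ A)
    {u v : G} (hu : u ∈ H a) (hv : v ∈ H b) : ∃ k : ℕ, (a * u) ^ k = a ∧ (b * v) ^ k = b := by
  have hco : Nat.Coprime (Nat.lcm (orderOf a) (orderOf b)) (Nat.lcm (orderOf u) (orderOf v)) := by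
    have h1 := (orderOf_coprime hD ha ha hu).symm
    have h2 := (orderOf_coprime hD ha hb hu).symm
    have h3 := (orderOf_coprime hD hb ha hv).symm
    have h4 := (orderOf_coprime hD hb hb hv).symm
    have h5 : Nat.Coprime (orderOf a * orderOf b) (orderOf u * orderOf v) :=
      Nat.Coprime.mul_left (Nat.Coprime.mul_right h1 h3) (Nat.Coprime.mul_right h2 h4)
    exact (h5.coprime_dvd_left (Nat.lcm_dvd_mul _ _)).coprime_dvd_right (Nat.lcm_dvd_mul _ _)
  obtain ⟨k, hk1, hk2⟩ := Nat.chineseRemainder hco 1 0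
  refine ⟨k, ?_, ?_⟩
  · have e1 : a ^ k = a := by
      have := pow_eq_pow_iff_modEq.mpr (hk1.of_dvd (Nat.dvd_lcm_left (orderOf a) (orderOf b)))
      simpa using this
    have e2 : u ^ k = 1 := by
      have := pow_eq_pow_iff_modEq.mpr (hk2.of_dvd (Nat.dvd_lcm_left (orderOf u) (orderOf v)))
      simpa using this
    rw [(show Commute a u from commute_of_mem hD ha hu).mul_pow, e1, e2, mul_one]
  · have e1 : b ^ k = b := by
      have := pow_eq_pow_iff_modEq.mpr (hk1.of_dvd (Nat.dvd_lcm_right (orderOf a) (orderOf b)))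
      simpa using this
    have e2 : v ^ k = 1 := by
      have := pow_eq_pow_iff_modEq.mpr (hk2.of_dvd (Nat.dvd_lcm_right (orderOf u) (orderOf v)))
      simpa using this
    rw [(show Commute b v from commute_of_mem hD hb hv).mul_pow, e1, e2, mul_one]

/-- An element of `C(a)` of order coprime to `#C_L(a)` lies in `H a`. -/
theorem mem_of_coprime (hD : Cfsg.DadeHypothesis A L H) {a : G} (ha : a ∈ A) {w : G}
    (hw : w ∈ Subgroup.centralizer ({a} : Set G))
    (hc : Nat.Coprime (orderOf w) (Nat.card ↥(L ⊓ Subgroup.centralizer ({a} : Set G)))) : w ∈ H a := by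
  set C := Subgroup.centralizer ({a} : Set G) with hC
  set N := (H a).subgroupOf C with hN
  have hn : N.Normal := ⟨fun n hn c => by
    simpa [hN, Subgroup.mem_subgroupOf] using
      hD.conj_mem_H a ha c c.2 n (by simpa [hN, Subgroup.mem_subgroupOf] using hn)⟩
  have hS : N ⊔ (L ⊓ C).subgroupOf C = ⊤ := by
    rw [hN, ← Subgroup.subgroupOf_sup (hD.le_centralizer a ha) inf_le_right, hD.sup_eq a ha]
    exact Subgroup.subgroupOf_self C
  have hwm : (⟨w, hw⟩ : C) ∈ N ⊔ (L ⊓ C).subgroupOf C := by rw [hS]; trivial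
  obtain ⟨u, hu, c, hc', e⟩ := Subgroup.mem_sup_of_normal_left.mp hwm
  have eq : QuotientGroup.mk' N c = QuotientGroup.mk' N ⟨w, hw⟩ := by
    rw [← e, map_mul, show QuotientGroup.mk' N u = 1 from (QuotientGroup.eq_one_iff u).mpr hu, one_mul]
  have d1 : orderOf (QuotientGroup.mk' N ⟨w, hw⟩) ∣ orderOf w := by
    refine (orderOf_map_dvd _ _).trans ?_
    rw [← Subgroup.orderOf_coe]
  have d2 : orderOf (QuotientGroup.mk' N ⟨w, hw⟩) ∣ Nat.card ↥(L ⊓ C) := by
    rw [← eq]
    refine (orderOf_map_dvd _ _).trans ?_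
    rw [← Subgroup.orderOf_coe]
    exact Subgroup.orderOf_dvd_natCard _ (by simpa [Subgroup.mem_subgroupOf] using hc')
  have h1 : QuotientGroup.mk' N (⟨w, hw⟩ : C) = 1 := orderOf_eq_one_iff.mp
    (Nat.eq_one_of_dvd_coprimes hc d1 d2)
  exact Subgroup.mem_subgroupOf.mp ((QuotientGroup.eq_one_iff (⟨w, hw⟩ : C)).mp h1)

end CfsgLib.OddOrder.DadeBasic
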