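import Mathlib

/-!
# BG Appendix C: inversion of norm-one pairs in the final configuration

`H = P U` is a copy of `F ⋊ (norm-one group)`, the prime-field line `sp` normalizes an abelian
`p'`-group `Q` and a `Q`-conjugate `T` of that line normalizes `U`.  The set of norm-one pairs is then
closed under inversion.
-/

set_option autoImplicit false

namespace CfsgLib.OddOrder.FinalField

open Finset

variable {p : ℕ} [hp : Fact p.Prime] {G : Type*} [Group G] {F : Type*} [Field F] [Finite F]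
  [Algebra (ZMod p) F]

/-- The configuration. -/
structure Cfg (p : ℕ) [Fact p.Prime] (G F : Type*) [Group G] [Field F] [Algebra (ZMod p) F] where
  U : Subgroup G
  Q : Subgroup G
  v : F → G
  ψ : G → F
  y : G
  v_add : ∀ a b, v (a + b) = v a * v b
  v_inj : Function.Injective v
  conj : ∀ u ∈ U, ∀ c, u * v c * u⁻¹ = v (ψ u * c)
  ψ_mul : ∀ u ∈ U, ∀ w ∈ U, ψ (u * w) = ψ u * ψ w
  ψ_one : ψ 1 = 1
  ψ_inj : Set.InjOn ψ (U : Set G)
  dec : ∀ c : F, c ≠ 0 → ∃ i : ZMod p, i ≠ 0 ∧ ∃ u ∈ U, c = algebraMap (ZMod p) F i * ψ u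
  frob_fix : ∀ u ∈ U, ψ u ^ p = ψ u → u = 1
  nontriv : ∃ u ∈ U, u ≠ 1
  two_ne : p ≠ 2
  Q_comm : ∀ a ∈ Q, ∀ b ∈ Q, a * b = b * a
  Q_pow : ∀ a ∈ Q, a ^ p = 1 → a = 1
  y_mem : y ∈ Q
  sp_norm : ∀ i : ZMod p, v (algebraMap (ZMod p) F i) ∈ Subgroup.normalizer (Q : Set G)
  t_norm : ∀ i : ZMod p, y * v (algebraMap (ZMod p) F i) * y⁻¹ ∈ Subgroup.normalizer (U : Set G)

namespace Cfg

variable (C : Cfg p G F)

local notation "ι" => algebraMap (ZMod p) F

/-- The prime-field line. -/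
def sp (i : ZMod p) : G := C.v (ι i)

/-- Its conjugate, normalizing `U`. -/
def T (i : ZMod p) : G := C.y * C.sp i * C.y⁻¹

/-- `T k`-conjugates of `P`. -/
def S (k : ZMod p) (c : F) : G := C.T k * C.v c * (C.T k)⁻¹

/-- The twisted character. -/
def al (k : ZMod p) (u : G) : F := C.ψ (C.T (-k) * u * C.T k)

theorem v_zero : C.v 0 = 1 := by
  have h := C.v_add 0 0
  rwa [add_zero, right_eq_mul] at h

theorem v_neg (c : F) : C.v (-c) = (C.v c)⁻¹ := by
  refine eq_inv_of_mul_eq_one_left ?_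
  rw [← C.v_add, neg_add_cancel, C.v_zero]

theorem v_nsmul (c : F) (n : ℕ) : C.v (n • c) = C.v c ^ n := by
  induction n with
  | zero => rw [zero_smul, C.v_zero, pow_zero]
  | succ n ih => rw [add_smul, one_smul, C.v_add, ih, pow_succ]

theorem v_scalar (i : ZMod p) (c : F) : C.v (ι i * c) = C.v c ^ i.val := by
  rw [← C.v_nsmul, nsmul_eq_mul, ← map_natCast (algebraMap (ZMod p) F), ZMod.natCast_zmod_val]

theorem v_pow_p (c : F) : C.v c ^ p = 1 := by
  rw [← C.v_nsmul, nsmul_eq_mul, ← map_natCast (algebraMap (ZMod p) F), ZMod.natCast_self, map_zero,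
    zero_mul, C.v_zero]

theorem sp_add (i j : ZMod p) : C.sp (i + j) = C.sp i * C.sp j := by
  rw [sp, sp, sp, map_add, C.v_add]

theorem sp_zero : C.sp 0 = 1 := by rw [sp, map_zero, C.v_zero]

theorem sp_neg (i : ZMod p) : C.sp (-i) = (C.sp i)⁻¹ := by rw [sp, sp, map_neg, C.v_neg]

theorem T_add (i j : ZMod p) : C.T (i + j) = C.T i * C.T j := by
  rw [T, T, T, sp_add]; group

theorem T_zero : C.T 0 = 1 := by rw [T, sp_zero]; group

theorem T_neg (i : ZMod p) : C.T (-i) = (C.T i)⁻¹ := by rw [T, T, sp_neg]; group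

theorem T_mem (i : ZMod p) : C.T i ∈ Subgroup.normalizer (C.U : Set G) := C.t_norm i

theorem T_conj_mem (k : ZMod p) {u : G} (hu : u ∈ C.U) : C.T (-k) * u * C.T k ∈ C.U := by
  have h := (Subgroup.mem_normalizer_iff.mp (C.T_mem (-k)) u).mp hu
  rwa [C.T_neg k, inv_inv, ← C.T_neg k] at h

theorem ψ_ne {u : G} (hu : u ∈ C.U) : C.ψ u ≠ 0 := fun h => by
  have h1 := C.ψ_mul u hu u⁻¹ (inv_mem hu)
  rw [h, zero_mul, mul_inv_cancel, C.ψ_one] at h1
  exact one_ne_zero h1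

theorem ψ_inv {u : G} (hu : u ∈ C.U) : C.ψ u⁻¹ = (C.ψ u)⁻¹ := by
  refine eq_inv_of_mul_eq_one_left ?_
  rw [← C.ψ_mul _ (inv_mem hu) _ hu, inv_mul_cancel, C.ψ_one]

theorem ψ_pow {u : G} (hu : u ∈ C.U) (n : ℕ) : C.ψ (u ^ n) = C.ψ u ^ n := by
  induction n with
  | zero => rw [pow_zero, pow_zero, C.ψ_one]
  | succ n ih => rw [pow_succ, C.ψ_mul _ (pow_mem hu n) _ hu, ih, pow_succ]

theorem eq_one_of_ψ_eq {u : G} (hu : u ∈ C.U) {i : ZMod p} (h : C.ψ u = ι i) : u = 1 :=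
  C.frob_fix u hu (by rw [h, ← map_pow, ZMod.pow_card])

theorem eq_one_of_mem_U {c : F} {u : G} (hu : u ∈ C.U) (h : C.v c = u) : u = 1 ∧ c = 0 := by
  have h1 : ∀ d, u * C.v d * u⁻¹ = C.v d := fun d => by
    rw [← h, ← C.v_neg, ← C.v_add, ← C.v_add]
    congr 1; ring
  have h2 := C.v_inj ((C.conj u hu 1).symm.trans (h1 1))
  rw [mul_one] at h2
  have h3 : u = 1 := C.eq_one_of_ψ_eq hu (i := 1) (by rw [h2, map_one])
  exact ⟨h3, C.v_inj (by rw [h, h3, C.v_zero])⟩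

/-! ### The complementary calculus in `Q` -/

theorem conjQ_mem (k : ZMod p) (a : C.Q) : C.sp k * a * (C.sp k)⁻¹ ∈ C.Q :=
  (Subgroup.mem_normalizer_iff.mp (C.sp_norm k) _).mp a.2

/-- The action of the line on `Q`, additively written. -/
def act (k : ZMod p) : Additive C.Q → Additive C.Q := fun a =>
  Additive.ofMul ⟨C.sp k * (a.toMul : C.Q) * (C.sp k)⁻¹, C.conjQ_mem k a.toMul⟩

/-- The value in `G`. -/
def kap (a : Additive C.Q) : G := ((a.toMul : C.Q) : G)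

theorem kap_add (a b : Additive C.Q) : C.kap (a + b) = C.kap a * C.kap b := rfl

theorem kap_neg (a : Additive C.Q) : C.kap (-a) = (C.kap a)⁻¹ := rfl

theorem kap_mem (a : Additive C.Q) : C.kap a ∈ C.Q := (a.toMul : C.Q).2

theorem kap_inj {a b : Additive C.Q} (h : C.kap a = C.kap b) : a = b := Subtype.ext h

theorem kap_act (k : ZMod p) (a : Additive C.Q) :
    C.kap (C.act k a) = C.sp k * C.kap a * (C.sp k)⁻¹ := rfl

theorem act_add (k : ZMod p) (a b : Additive C.Q) : C.act k (a + b) = C.act k a + C.act k b := by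
  refine C.kap_inj ?_
  rw [kap_act, kap_add, kap_add, kap_act, kap_act]; group

theorem act_sub (k : ZMod p) (a b : Additive C.Q) : C.act k (a - b) = C.act k a - C.act k b := by
  refine C.kap_inj ?_
  rw [sub_eq_add_neg, sub_eq_add_neg, kap_act, kap_add, kap_add, kap_neg, kap_neg, kap_act, kap_act]
  group

theorem kap_comm (a b : Additive C.Q) : C.kap a * C.kap b = C.kap b * C.kap a :=
  C.Q_comm _ (C.kap_mem a) _ (C.kap_mem b)

theorem eq_of_comm (a b : Additive C.Q) : a + b = b + a := C.kap_inj (C.kap_comm a b)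

/-- `σ^i y`. -/
def e (i : ZMod p) : Additive C.Q := C.act i (Additive.ofMul ⟨C.y, C.y_mem⟩)

theorem kap_e (i : ZMod p) : C.kap (C.e i) = C.sp i * C.y * (C.sp i)⁻¹ := rfl

theorem act_e (k i : ZMod p) : C.act k (C.e i) = C.e (k + i) := by
  refine C.kap_inj ?_
  rw [kap_act, kap_e, kap_e, sp_add]; group

theorem T_eq (i : ZMod p) : C.T i = C.kap (C.e 0) * (C.kap (C.e i))⁻¹ * C.sp i := by
  rw [kap_e, kap_e, sp_zero, T]; group

/-- The hexagon. -/
theorem hexagon (i j : ZMod p) :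
    C.T (j - i) * C.sp (-j) * C.T i = C.sp (-i) * C.T j * C.sp (i - j) := by
  have move : ∀ k l : ZMod p, C.sp k * C.kap (C.e l) = C.kap (C.e (k + l)) * C.sp k := fun k l => by
    rw [← C.act_e, kap_act]; group
  have move' : ∀ k l : ZMod p,
      C.sp k * (C.kap (C.e l))⁻¹ = (C.kap (C.e (k + l)))⁻¹ * C.sp k := fun k l => by
    rw [← C.act_e, kap_act]; group
  calc C.T (j - i) * C.sp (-j) * C.T i
      = C.kap (C.e 0) * (C.kap (C.e (j - i)))⁻¹ * (C.sp (j - i + -j) * C.kap (C.e 0)) *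
          (C.kap (C.e i))⁻¹ * C.sp i := by rw [T_eq, T_eq, sp_add]; group
    _ = C.kap (C.e 0) * (C.kap (C.e (j - i)))⁻¹ * C.kap (C.e (-i)) *
          (C.sp (-i) * (C.kap (C.e i))⁻¹) * C.sp i := by
        rw [move, show j - i + -j + 0 = -i by ring, show j - i + -j = -i by ring]; group
    _ = C.kap (C.e 0) * (C.kap (C.e (j - i)))⁻¹ * C.kap (C.e (-i)) * (C.kap (C.e 0))⁻¹ := by
        rw [move', neg_add_cancel, sp_neg]; group
    _ = C.kap (C.e 0 + -C.e (j - i) + C.e (-i) + -C.e 0) := by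
        simp only [kap_add, kap_neg]
    _ = C.kap (C.e (-i) + -C.e (j - i)) := by
        congr 1
        rw [C.eq_of_comm (C.e 0), add_assoc (-C.e (j - i)), C.eq_of_comm (C.e 0) (C.e (-i)),
          add_assoc, add_assoc, add_neg_cancel, add_zero, C.eq_of_comm]
    _ = C.sp (-i) * C.T j * C.sp (i - j) := by
        have h0 : C.sp (i - j) = (C.sp j)⁻¹ * C.sp i := by
          rw [← sp_neg, ← sp_add]; congr 1; ring
        rw [kap_add, kap_neg, T_eq, h0,
          show C.sp (-i) * (C.kap (C.e 0) * (C.kap (C.e j))⁻¹ * C.sp j) * ((C.sp j)⁻¹ * C.sp i)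
            = (C.sp (-i) * C.kap (C.e 0)) * (C.kap (C.e j))⁻¹ * C.sp i by group,
          move, add_zero, mul_assoc (C.kap (C.e (-i))), move', show -i + j = j - i by ring,
          sp_neg]
        group


/-- A fixed element with telescoping shape is trivial. -/
theorem eq_zero_of_fixed {z : Additive C.Q} (hfix : C.act 1 z = z) {a b c d : ZMod p}
    (hz : z = C.e a - C.e b + (C.e c - C.e d)) : z = 0 := by
  let _ : AddCommGroup (Additive C.Q) :=
    { (inferInstance : AddGroup (Additive C.Q)) with add_comm := C.eq_of_comm }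
  have hall : ∀ n : ℕ, C.act (n : ZMod p) z = z := by
    intro n
    induction n with
    | zero => refine C.kap_inj ?_; rw [kap_act, Nat.cast_zero, sp_zero]; group
    | succ n ih =>
      refine C.kap_inj ?_
      have h1 := congrArg C.kap hfix
      have h2 := congrArg C.kap ih
      rw [kap_act] at h1 h2
      rw [kap_act, Nat.cast_succ, sp_add]
      calc C.sp (n : ZMod p) * C.sp 1 * C.kap z * (C.sp (n : ZMod p) * C.sp 1)⁻¹
          = C.sp (n : ZMod p) * (C.sp 1 * C.kap z * (C.sp 1)⁻¹) * (C.sp (n : ZMod p))⁻¹ := by group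
        _ = C.kap z := by rw [h1, h2]
  have hsum : ∑ k : ZMod p, C.act k z = p • z := by
    rw [Finset.sum_congr rfl (fun k _ => show C.act k z = z by rw [← ZMod.natCast_zmod_val k]; exact hall _),
      Finset.sum_const, Finset.card_univ, ZMod.card]
  have hzero : ∑ k : ZMod p, C.act k z = 0 := by
    have hsh : ∀ c : ZMod p, ∑ k : ZMod p, C.e (k + c) = ∑ k : ZMod p, C.e k := fun c =>
      Fintype.sum_equiv (Equiv.addRight c) _ _ (fun _ => rfl)
    simp only [hz, C.act_add, C.act_sub, C.act_e, Finset.sum_add_distrib, Finset.sum_sub_distrib, hsh,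
      sub_self, add_zero]
  have h : C.kap (p • z) = 1 := by rw [← hsum, hzero]; rfl
  exact C.kap_inj (C.Q_pow _ (C.kap_mem z) h)

/-! ### Conjugates of `P` -/

theorem S_add (k : ZMod p) (a b : F) : C.S k (a + b) = C.S k a * C.S k b := by
  rw [S, S, S, C.v_add]; group

theorem S_neg (k : ZMod p) (a : F) : C.S k (-a) = (C.S k a)⁻¹ := by rw [S, S, C.v_neg]; group

theorem S_zero_index (c : F) : C.S 0 c = C.v c := by rw [S, T_zero]; group

theorem S_shift (m k : ZMod p) (c : F) : C.T m * C.S k c * (C.T m)⁻¹ = C.S (m + k) c := by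
  rw [S, S, T_add]; group

theorem S_inj {k : ZMod p} {a b : F} (h : C.S k a = C.S k b) : a = b := by
  rw [S, S] at h
  exact C.v_inj (mul_left_cancel (mul_right_cancel h))

theorem conj_S {u : G} (hu : u ∈ C.U) (k : ZMod p) (c : F) :
    u * C.S k c * u⁻¹ = C.S k (C.al k u * c) := by
  rw [S, S, al, ← C.conj _ (C.T_conj_mem k hu), C.T_neg]; group

theorem al_pow {u : G} (hu : u ∈ C.U) (k : ZMod p) (n : ℕ) : C.al k (u ^ n) = C.al k u ^ n := by
  rw [al, al, ← C.ψ_pow (C.T_conj_mem k hu), C.T_neg]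
  congr 1
  have h := conj_pow (i := n) (a := (C.T k)⁻¹) (b := u)
  rw [inv_inv] at h
  exact h.symm

theorem sp_expand (n j : ZMod p) : C.sp n = C.S (j + n) (ι (-j)) * C.S j (ι (j + n)) := by
  have h := C.hexagon (-n) j
  rw [sub_neg_eq_add, neg_neg] at h
  have hT : (C.T (j + n))⁻¹ * C.T j = C.T (-n) := by
    rw [← C.T_neg, ← C.T_add]; congr 1; ring
  show C.sp n = C.T (j + n) * C.sp (-j) * (C.T (j + n))⁻¹ * (C.T j * C.sp (j + n) * (C.T j)⁻¹)
  rw [show C.T (j + n) * C.sp (-j) * (C.T (j + n))⁻¹ * (C.T j * C.sp (j + n) * (C.T j)⁻¹)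
      = C.T (j + n) * C.sp (-j) * ((C.T (j + n))⁻¹ * C.T j) * C.sp (j + n) * (C.T j)⁻¹ by group,
    hT, h, mul_assoc (C.sp n * C.T j), ← C.sp_add, show -n - j + (j + n) = 0 by ring, C.sp_zero]
  group

/-! ### Intersections -/

theorem u_eq_one_of_pow {x : F} {u : G} (hu : u ∈ C.U) (h : (C.v x * u) ^ p = 1) : u = 1 := by
  have hchar : CharP F p := charP_of_injective_ringHom (algebraMap (ZMod p) F).injective p
  have hm : ∀ m : ℕ, ∃ d, (C.v x * u) ^ m = C.v d * u ^ m := by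
    intro m
    induction m with
    | zero => exact ⟨0, by rw [pow_zero, pow_zero, C.v_zero, one_mul]⟩
    | succ m ih =>
      obtain ⟨d, hd⟩ := ih
      refine ⟨d + C.ψ (u ^ m) * x, ?_⟩
      rw [pow_succ, hd, C.v_add, ← C.conj _ (pow_mem hu m), pow_succ]
      group
  obtain ⟨d, hd⟩ := hm p
  rw [h] at hd
  have h1 := (C.eq_one_of_mem_U (c := -d) (pow_mem hu p) (by
    rw [C.v_neg]; exact inv_eq_of_mul_eq_one_right hd.symm)).1
  have h2 : C.ψ u ^ p = 1 := by rw [← C.ψ_pow hu, h1, C.ψ_one]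
  have h3 : (C.ψ u - 1) ^ p = 0 := by rw [sub_pow_char, one_pow, h2, sub_self]
  exact C.eq_one_of_ψ_eq hu (i := 1) (by rw [map_one]; exact sub_eq_zero.mp (eq_zero_of_pow_eq_zero h3))

theorem sp_conj_u {u : G} (hu : u ∈ C.U) (i : ZMod p) :
    C.sp i * u * (C.sp i)⁻¹ = C.v (ι i * (1 - C.ψ u)) * u := by
  have h : C.v (ι i * (1 - C.ψ u)) = C.sp i * (u * (C.sp i)⁻¹ * u⁻¹) := by
    rw [sp, ← C.v_neg, C.conj u hu, ← C.v_add]; congr 1; ring
  rw [h]; group

theorem sp_norm_U {i : ZMod p} (h : C.sp i ∈ Subgroup.normalizer (C.U : Set G)) : i = 0 := by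
  obtain ⟨u, hu, hu1⟩ := C.nontriv
  have h1 := (Subgroup.mem_normalizer_iff.mp h u).mp hu
  rw [C.sp_conj_u hu] at h1
  have h2 := (C.eq_one_of_mem_U (by simpa using mul_mem h1 (inv_mem hu)) rfl).2
  rcases mul_eq_zero.mp h2 with h3 | h3
  · exact (map_eq_zero _).mp h3
  · exact absurd (C.eq_one_of_ψ_eq hu (i := 1) (by rw [map_one]; exact (sub_eq_zero.mp h3).symm)) hu1

/-- Conjugates of `P` by nontrivial elements of `T` meet `P` trivially. -/
theorem disjoint {B : ZMod p} (hB : B ≠ 0) {c x : F} (h : C.S B c = C.v x) : c = 0 := by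
  by_contra hc
  have hx : x ≠ 0 := fun h0 => by
    rw [h0, C.v_zero, S, mul_inv_eq_one, mul_eq_left, ← C.v_zero] at h
    exact hc (C.v_inj h)
  have hall : ∀ d : F, ∃ c', C.S B c' = C.v d := by
    intro d
    rcases eq_or_ne d 0 with rfl | hd
    · exact ⟨0, by rw [S, C.v_zero]; group⟩
    obtain ⟨i, -, u, hu, hi⟩ := C.dec (d / x) (div_ne_zero hd hx)
    refine ⟨ι i * (C.al B u * c), ?_⟩
    have h1 : C.v d = C.v (ι i * (C.ψ u * x)) := by
      rw [← mul_assoc, ← hi, div_mul_cancel₀ _ hx]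
    rw [h1, C.v_scalar, ← C.conj u hu, ← h, C.conj_S hu, S, S, C.v_scalar, conj_pow]
  choose m hm using hall
  have hmi : Function.Injective m := fun a b hab => C.v_inj (by rw [← hm a, ← hm b, hab])
  have hP : ∀ c' : F, ∃ d, C.S B c' = C.v d := fun c' => by
    obtain ⟨d, hd⟩ := (Finite.injective_iff_surjective.mp hmi) c'
    exact ⟨d, hd ▸ hm d⟩
  have hk : ∀ n : ℕ, ∀ c' : F, ∃ d, C.S ((n : ZMod p) * B) c' = C.v d := by
    intro n
    induction n with
    | zero => intro c'; exact ⟨c', by rw [Nat.cast_zero, zero_mul, C.S_zero_index]⟩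
    | succ n ih =>
      intro c'
      obtain ⟨d, hd⟩ := ih c'
      obtain ⟨d', hd'⟩ := hP d
      refine ⟨d', ?_⟩
      rw [Nat.cast_succ, add_mul, one_mul, add_comm, ← C.S_shift, hd, ← hd', S]
  obtain ⟨d, hd⟩ := hk (B⁻¹).val (ι 1)
  rw [ZMod.natCast_zmod_val, inv_mul_cancel₀ hB] at hd
  let _ : AddCommGroup (Additive C.Q) :=
    { (inferInstance : AddGroup (Additive C.Q)) with add_comm := C.eq_of_comm }
  set z := C.e 0 - C.e 1 with hz
  have hkz : C.kap z = C.T 1 * (C.sp 1)⁻¹ := by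
    rw [hz, sub_eq_add_neg, kap_add, kap_neg, T_eq]; group
  have h1 : C.kap z * C.sp 1 * (C.kap z)⁻¹ = C.v d := by
    rw [hkz, ← hd, S, sp]; group
  -- `z` commutes with the line
  have hcomm : C.v d * (C.sp 1)⁻¹ = 1 := by
    refine C.Q_pow _ ?_ (by rw [sp, ← C.v_neg, ← C.v_add, C.v_pow_p])
    rw [← h1, mul_assoc _ (C.kap z)⁻¹, mul_assoc]
    refine mul_mem (C.kap_mem z) ?_
    rw [← mul_assoc, ← kap_neg, ← kap_act]
    exact C.kap_mem _
  have hfix : C.act 1 z = z := C.kap_inj (by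
    rw [kap_act]
    rw [mul_inv_eq_one] at hcomm
    rw [hcomm] at h1
    calc C.sp 1 * C.kap z * (C.sp 1)⁻¹
        = (C.kap z * C.sp 1 * (C.kap z)⁻¹) * C.kap z * (C.sp 1)⁻¹ := by rw [h1]
      _ = C.kap z := by group)
  have hz0 := C.eq_zero_of_fixed hfix (a := 0) (b := 1) (c := 0) (d := 0) (by rw [hz]; abel)
  have hT : C.T 1 = C.sp 1 := by
    rw [hz0] at hkz
    exact (mul_inv_eq_one.mp hkz.symm)
  exact one_ne_zero (C.sp_norm_U (hT ▸ C.T_mem 1))

/-- `s^A t^B s^C` does not normalize `U`. -/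
theorem not_norm {A B D : ZMod p} (hB : B ≠ 0)
    (h : C.sp A * C.T B * C.sp D ∈ Subgroup.normalizer (C.U : Set G)) : D = 0 := by
  obtain ⟨u, hu, hu1⟩ := C.nontriv
  have hu' := (Subgroup.mem_normalizer_iff.mp h u).mp hu
  set u' := C.sp A * C.T B * C.sp D * u * (C.sp A * C.T B * C.sp D)⁻¹ with hu'd
  set c := ι D * (1 - C.ψ u) with hc
  have hτ : C.T B * u * (C.T B)⁻¹ ∈ C.U := (Subgroup.mem_normalizer_iff.mp (C.T_mem B) u).mp hu
  have e1 : C.S B c = C.sp (-A) * u' * (C.sp (-A))⁻¹ * (C.T B * u * (C.T B)⁻¹)⁻¹ := by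
    have hv : C.v c = C.sp D * u * (C.sp D)⁻¹ * u⁻¹ := by rw [hc, C.sp_conj_u hu, mul_inv_cancel_right]
    rw [hu'd, C.sp_neg, S, hv]
    group
  rw [C.sp_conj_u hu' (-A), mul_assoc] at e1
  have h2 : (C.S B c) ^ p = 1 := by rw [S, conj_pow, C.v_pow_p]; group
  rw [e1] at h2
  have h3 := C.u_eq_one_of_pow (mul_mem hu' (inv_mem hτ)) h2
  rw [h3, mul_one] at e1
  rcases mul_eq_zero.mp (C.disjoint hB e1) with h4 | h4
  · exact (map_eq_zero _).mp h4
  · exact absurd (C.eq_one_of_ψ_eq hu (i := 1) (by rw [map_one]; exact (sub_eq_zero.mp h4).symm)) hu1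

/-- The only triangle with exponents `(1,-1)` in pure powers is the hexagon. -/
theorem pure {n₀ n₁ n₂ : ZMod p} (hn₂ : n₂ ≠ 0)
    (h : C.sp n₀ = C.S 1 (ι n₁) * C.S (-1) (ι n₂)) : n₁ = 1 := by
  let _ : AddCommGroup (Additive C.Q) :=
    { (inferInstance : AddGroup (Additive C.Q)) with add_comm := C.eq_of_comm }
  have hTf : ∀ i : ZMod p, C.T i = C.kap (C.e 0 - C.e i) * C.sp i := fun i => by
    rw [C.T_eq, sub_eq_add_neg, kap_add, kap_neg]
  have hmv : ∀ (k : ZMod p) (a : Additive C.Q), C.sp k * C.kap a = C.kap (C.act k a) * C.sp k :=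
    fun k a => by rw [kap_act]; group
  set R := C.e 0 - C.e 1 + (C.e (n₁ + 1) - C.e (n₁ - 1)) + (C.e (n₁ + n₂ - 1) - C.e (n₁ + n₂)) with hR
  have hS : C.S 1 (ι n₁) * C.S (-1) (ι n₂) = C.kap R * C.sp (n₁ + n₂) := by
    calc C.S 1 (ι n₁) * C.S (-1) (ι n₂)
        = C.T 1 * C.sp n₁ * C.T (-2) * C.sp n₂ * C.T 1 := by
          show C.T 1 * C.sp n₁ * (C.T 1)⁻¹ * (C.T (-1) * C.sp n₂ * (C.T (-1))⁻¹) = _
          rw [← C.T_neg 1, ← C.T_neg (-1), neg_neg, show (-2 : ZMod p) = -1 + -1 by ring, C.T_add]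
          group
      _ = C.kap (C.e 0 - C.e 1) * (C.sp (1 + n₁) * C.kap (C.e 0 - C.e (-2))) * C.sp (-2 + n₂) *
            C.kap (C.e 0 - C.e 1) * C.sp 1 := by
          rw [hTf, hTf, C.sp_add 1 n₁, C.sp_add (-2) n₂]; simp only [mul_assoc]
      _ = C.kap (C.e 0 - C.e 1 + (C.e (n₁ + 1) - C.e (n₁ - 1))) *
            (C.sp (n₁ + n₂ - 1) * C.kap (C.e 0 - C.e 1)) * C.sp 1 := by
          rw [hmv, C.act_sub, C.act_e, C.act_e, add_zero, show 1 + n₁ + -2 = n₁ - 1 by ring,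
            add_comm (1 : ZMod p) n₁, kap_add,
            show n₁ + n₂ - 1 = (n₁ + 1) + (-2 + n₂) by ring, C.sp_add (n₁ + 1) (-2 + n₂)]
          simp only [mul_assoc]
      _ = C.kap R * C.sp (n₁ + n₂) := by
          rw [hmv, C.act_sub, C.act_e, C.act_e, add_zero, show n₁ + n₂ - 1 + 1 = n₁ + n₂ by ring,
            hR, kap_add (C := C) (C.e 0 - C.e 1 + (C.e (n₁ + 1) - C.e (n₁ - 1)))]
          conv_rhs => rw [show n₁ + n₂ = (n₁ + n₂ - 1) + 1 by ring, C.sp_add]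
          rw [kap_add]
          simp only [mul_assoc, sub_add_cancel]
  rw [hS] at h
  have hkR : C.kap R = C.sp (n₀ - (n₁ + n₂)) := by
    rw [sub_eq_add_neg n₀ (n₁ + n₂), C.sp_add, C.sp_neg, h]; group
  have hR0 : R = 0 := C.kap_inj (C.Q_pow _ (C.kap_mem R) (by rw [hkR]; exact C.v_pow_p _))
  set m := n₁ - 1 with hm
  set z := C.e 0 - C.e n₁ + (C.e (m + n₂) - C.e m) with hz
  have hz0 : z = 0 := by
    refine C.eq_zero_of_fixed ?_ (a := 0) (b := n₁) (c := m + n₂) (d := m) hz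
    rw [← sub_eq_zero]
    have : C.act 1 z - z = -R := by
      rw [hz, hR, C.act_add, C.act_sub, C.act_sub, C.act_e, C.act_e, C.act_e, C.act_e, hm, add_zero,
        show (1 : ZMod p) + n₁ = n₁ + 1 by ring, show 1 + (n₁ - 1 + n₂) = n₁ + n₂ by ring,
        show 1 + (n₁ - 1) = n₁ by ring, show n₁ - 1 + n₂ = n₁ + n₂ - 1 by ring]
      abel
    rw [this, hR0, neg_zero]
  have hX : C.T n₁ = C.sp m * C.T n₂ * C.sp (1 - n₂) := by
    have h1 : C.sp m * C.T n₂ * C.sp (1 - n₂) = C.kap (C.e m - C.e (m + n₂)) * C.sp n₁ := by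
      rw [hTf, ← mul_assoc, hmv, C.act_sub, C.act_e, C.act_e, add_zero, mul_assoc, mul_assoc,
        ← C.sp_add, ← C.sp_add, hm, show n₁ - 1 + (n₂ + (1 - n₂)) = n₁ by ring]
    rw [h1, hTf]
    congr 2
    rw [← sub_eq_zero, ← hz0, hz]
    abel
  have hn2 : n₂ = 1 := by
    have := C.not_norm hn₂ (hX ▸ C.T_mem n₁)
    exact (sub_eq_zero.mp this).symm
  rw [hn2, sub_self, C.sp_zero, mul_one] at hX
  have hmz : C.sp m ∈ Subgroup.normalizer (C.U : Set G) := by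
    rw [show C.sp m = C.T n₁ * (C.T 1)⁻¹ by rw [hX]; group]
    exact mul_mem (C.T_mem _) (inv_mem (C.T_mem _))
  exact sub_eq_zero.mp (C.sp_norm_U hmz)

/-! ### Norm-one pairs -/

/-- The three vectors attached to a pair. -/
def vW (u w : G) : F := 3 * C.al 2 u - C.al 2 w
/-- Left vector. -/
def vF (u : G) : F := 2 * C.al 3 u - 1
/-- Right vector. -/
def vG (w : G) : F := 3 - 2 * C.al 1 w

theorem triangle {u w : G} (hu : u ∈ C.U) (hw : w ∈ C.U) (h : C.ψ u + C.ψ w = 2) :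
    C.v (C.vW u w) = C.S 1 (C.vF u) * C.S (-1) (C.vG w) := by
  have hexp : ∀ {x : G}, x ∈ C.U → ∀ j : ZMod p,
      C.v (C.ψ x) = C.S (j + 1) (C.al (j + 1) x * ι (-j)) * C.S j (C.al j x * ι (j + 1)) := by
    intro x hx j
    calc C.v (C.ψ x) = x * C.sp 1 * x⁻¹ := by rw [sp, map_one, C.conj x hx, mul_one]
      _ = (x * C.S (j + 1) (ι (-j)) * x⁻¹) * (x * C.S j (ι (j + 1)) * x⁻¹) := by
          rw [C.sp_expand 1 j]; group
      _ = _ := by rw [C.conj_S hx, C.conj_S hx]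
  have ha := hexp hu 2
  have hb := hexp hw 1
  have h2 : C.v 2 = C.sp 2 := by rw [sp, map_ofNat]
  have key := C.sp_expand 2 1
  rw [← h2, ← h, C.v_add, ha, hb] at key
  rw [show (2 : ZMod p) + 1 = 3 by ring, show (1 : ZMod p) + 1 = 2 by ring] at key
  rw [show (1 : ZMod p) + 2 = 3 by ring] at key
  set A := C.S 3 (C.al 3 u * ι (-2)) with hA
  set B := C.S 2 (C.al 2 u * ι 3) with hB
  set B' := C.S 2 (C.al 2 w * ι (-1)) with hB'
  set D := C.S 1 (C.al 1 w * ι 2) with hD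
  have hmid : B * B' = A⁻¹ * C.S 3 (ι (-1)) * (C.S 1 (ι 3) * D⁻¹) := by
    calc B * B' = A⁻¹ * (A * B * (B' * D)) * D⁻¹ := by group
      _ = _ := by rw [key]; group
  rw [hA, hB, hB', hD, ← C.S_neg, ← C.S_neg, ← C.S_add, ← C.S_add, ← C.S_add] at hmid
  simp only [map_neg, map_ofNat, map_one] at hmid
  rw [show C.al 2 u * 3 + C.al 2 w * -1 = C.vW u w by rw [vW]; ring,
    show -(C.al 3 u * -2) + -1 = C.vF u by rw [vF]; ring,
    show 3 + -(C.al 1 w * 2) = C.vG w by rw [vG]; ring] at hmid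
  have hs := congrArg (fun g => C.T (-2) * g * (C.T (-2))⁻¹) hmid
  rw [show C.T (-2) * (C.S 3 (C.vF u) * C.S 1 (C.vG w)) * (C.T (-2))⁻¹ =
      (C.T (-2) * C.S 3 (C.vF u) * (C.T (-2))⁻¹) * (C.T (-2) * C.S 1 (C.vG w) * (C.T (-2))⁻¹) by group]
    at hs
  rw [C.S_shift, C.S_shift, C.S_shift, neg_add_cancel, C.S_zero_index,
    show (-2 : ZMod p) + 3 = 1 by ring, show (-2 : ZMod p) + 1 = -1 by ring] at hs
  exact hs

omit [Finite F] in
theorem two_zmod_ne (h : p ≠ 2) : (2 : ZMod p) ≠ 0 := by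
  rw [show (2 : ZMod p) = ((2 : ℕ) : ZMod p) by norm_num, Ne, ZMod.natCast_eq_zero_iff]
  exact fun hd => h ((Nat.prime_dvd_prime_iff_eq (Fact.out : p.Prime) Nat.prime_two).mp hd)

theorem vF_ne {u : G} (hu : u ∈ C.U) : C.vF u ≠ 0 := by
  intro h
  have h2 := two_zmod_ne C.two_ne
  have hz := C.T_conj_mem 3 hu
  have he : C.al 3 u = ι (2⁻¹) := by
    rw [map_inv₀, map_ofNat]
    exact eq_inv_of_mul_eq_one_left (by rw [vF, sub_eq_zero] at h; rw [mul_comm]; exact h)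
  have h1 := C.eq_one_of_ψ_eq hz he
  rw [al, h1, C.ψ_one] at he
  have h3 : (1 : ZMod p) = 2⁻¹ := (algebraMap (ZMod p) F).injective (by rw [map_one]; exact he)
  have h4 : (2 : ZMod p) = 1 := by simpa using congrArg Inv.inv h3.symm
  exact one_ne_zero (show (1 : ZMod p) = 0 by linear_combination h4)

theorem vG_ne {w : G} (hw : w ∈ C.U) : C.vG w ≠ 0 := by
  intro h
  have h2 := two_zmod_ne C.two_ne
  have hz := C.T_conj_mem 1 hw
  have hF2 : (2 : F) ≠ 0 := by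
    rw [← map_ofNat (algebraMap (ZMod p) F) 2]
    exact (map_ne_zero _).mpr h2
  have he : C.al 1 w = ι (3 * 2⁻¹) := by
    rw [map_mul, map_inv₀, map_ofNat, map_ofNat, eq_mul_inv_iff_mul_eq₀ hF2]
    rw [vG] at h
    linear_combination -h
  have h1 := C.eq_one_of_ψ_eq hz he
  rw [al, h1, C.ψ_one] at he
  have h3 : (1 : ZMod p) = 3 * 2⁻¹ := (algebraMap (ZMod p) F).injective (by rw [map_one]; exact he)
  rw [eq_mul_inv_iff_mul_eq₀ h2] at h3
  exact one_ne_zero (show (1 : ZMod p) = 0 by linear_combination -h3)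

theorem vW_ne {u w : G} (hu : u ∈ C.U) (hw : w ∈ C.U) : C.vW u w ≠ 0 := by
  intro h
  have hu2 := C.T_conj_mem 2 hu
  have hw2 := C.T_conj_mem 2 hw
  rw [vW, sub_eq_zero] at h
  have he : C.ψ (C.T (-2) * w * C.T 2 * (C.T (-2) * u * C.T 2)⁻¹) = ι 3 := by
    rw [C.ψ_mul _ hw2 _ (inv_mem hu2), C.ψ_inv hu2, map_ofNat]
    show C.al 2 w * (C.al 2 u)⁻¹ = 3
    rw [← h, mul_assoc, mul_inv_cancel₀ (show C.al 2 u ≠ 0 from C.ψ_ne hu2), mul_one]
  have h1 := C.eq_one_of_ψ_eq (mul_mem hw2 (inv_mem hu2)) he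
  rw [h1, C.ψ_one, ← map_one (algebraMap (ZMod p) F)] at he
  have h3 : (1 : ZMod p) = 3 := (algebraMap (ZMod p) F).injective he
  exact two_zmod_ne C.two_ne (by linear_combination -h3)

/-- A norm-one pair. -/
def Pair (u : G) : Prop := u ∈ C.U ∧ ∃ w ∈ C.U, C.ψ u + C.ψ w = 2

theorem step {u : G} (h : C.Pair u) : C.Pair (C.T (-3) * u * C.T 3)⁻¹ := by
  obtain ⟨hu, w, hw, hsum⟩ := h
  have hchar : CharP F p := charP_of_injective_ringHom (algebraMap (ZMod p) F).injective p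
  obtain ⟨i₀, -, u₀, hu₀, hW⟩ := C.dec _ (C.vW_ne hu hw)
  obtain ⟨i₁, hi₁, u₁, hu₁, hF⟩ := C.dec _ (C.vF_ne hu)
  obtain ⟨i₂, hi₂, u₂, hu₂, hG⟩ := C.dec _ (C.vG_ne hw)
  -- normalised triangle
  have hnorm : ∀ (a b c0 : G) (x z : F), a ∈ C.U → b ∈ C.U → c0 ∈ C.U → x = C.vF a → z = C.vG b →
      C.ψ a + C.ψ b = 2 → C.vW a b = ι i₀ * C.ψ c0 →
      C.sp i₀ = C.S 1 (C.al 1 c0⁻¹ * x) * C.S (-1) (C.al (-1) c0⁻¹ * z) := by
    intro a b c0 x z ha hb hc0 hx hz hab hW'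
    have ht := C.triangle ha hb hab
    rw [← hx, ← hz, hW', mul_comm (ι i₀) (C.ψ c0), ← C.conj c0 hc0] at ht
    calc C.sp i₀ = c0⁻¹ * (c0 * C.v (ι i₀) * c0⁻¹) * c0⁻¹⁻¹ := by rw [sp]; group
      _ = (c0⁻¹ * C.S 1 x * c0⁻¹⁻¹) * (c0⁻¹ * C.S (-1) z * c0⁻¹⁻¹) := by rw [ht]; group
      _ = _ := by rw [C.conj_S (inv_mem hc0), C.conj_S (inv_mem hc0)]
  have h1 := hnorm u w u₀ _ _ hu hw hu₀ rfl rfl hsum hW
  -- the same for the Frobenius image
  have h2two : (2 : F) ^ p = 2 := by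
    rw [← map_ofNat (algebraMap (ZMod p) F) 2, ← map_pow, ZMod.pow_card]
  have h3three : (3 : F) ^ p = 3 := by
    rw [← map_ofNat (algebraMap (ZMod p) F) 3, ← map_pow, ZMod.pow_card]
  have hsum' : C.ψ (u ^ p) + C.ψ (w ^ p) = 2 := by
    rw [C.ψ_pow hu, C.ψ_pow hw, ← add_pow_char, hsum, h2two]
  have hι : ∀ i : ZMod p, (ι i) ^ p = ι i := fun i => by rw [← map_pow, ZMod.pow_card]
  have h2 := hnorm (u ^ p) (w ^ p) (u₀ ^ p) (C.vF u ^ p) (C.vG w ^ p) (pow_mem hu p) (pow_mem hw p)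
    (pow_mem hu₀ p)
    (by rw [vF, vF, C.al_pow hu, sub_pow_char, mul_pow, h2two, one_pow])
    (by rw [vG, vG, C.al_pow hw, sub_pow_char, mul_pow, h2two, h3three]) hsum'
    (by
      rw [C.ψ_pow hu₀]
      calc C.vW (u ^ p) (w ^ p) = C.vW u w ^ p := by
            rw [vW, vW, C.al_pow hu, C.al_pow hw, sub_pow_char, mul_pow, h3three]
        _ = _ := by rw [hW, mul_pow, hι])
  rw [← inv_pow, C.al_pow (inv_mem hu₀), C.al_pow (inv_mem hu₀), ← mul_pow, ← mul_pow] at h2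
  set x := C.al 1 u₀⁻¹ * C.vF u with hx
  set z := C.al (-1) u₀⁻¹ * C.vG w with hz
  have he := h1.symm.trans h2
  have hdiff : C.S 1 (-(x ^ p) + x) = C.S (-1) (z ^ p + -z) := by
    rw [C.S_add, C.S_add, C.S_neg, C.S_neg]
    calc (C.S 1 (x ^ p))⁻¹ * C.S 1 x
        = (C.S 1 (x ^ p))⁻¹ * (C.S 1 x * C.S (-1) z) * (C.S (-1) z)⁻¹ := by group
      _ = _ := by rw [he]; group
  have h11 : (1 : ZMod p) + 1 ≠ 0 := by
    rw [show (1 : ZMod p) + 1 = 2 by ring]; exact two_zmod_ne C.two_ne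
  have hshift := congrArg (fun g => C.T 1 * g * (C.T 1)⁻¹) hdiff
  simp only [C.S_shift, add_neg_cancel, C.S_zero_index] at hshift
  have hxp : x ^ p = x := (neg_add_eq_zero.mp (C.disjoint h11 hshift))
  have hzp : z ^ p = z := by
    have hx0 : -(x ^ p) + x = 0 := by rw [hxp, neg_add_cancel]
    rw [hx0, S, C.v_zero] at hdiff
    have : C.S (-1) (z ^ p + -z) = C.S (-1) 0 := by rw [← hdiff, S, C.v_zero]; group
    exact add_neg_eq_zero.mp (C.S_inj this)
  have hclear : ∀ (k : ZMod p) (i : ZMod p) (a : G) (d : F), i ≠ 0 → a ∈ C.U → d = ι i * C.ψ a →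
      (C.al k u₀⁻¹ * d) ^ p = C.al k u₀⁻¹ * d → C.al k u₀⁻¹ * d = ι i := by
    intro k i a d hi ha hd hfix
    have hk := C.T_conj_mem k (inv_mem hu₀)
    have hr : C.al k u₀⁻¹ * d = ι i * C.ψ (C.T (-k) * u₀⁻¹ * C.T k * a) := by
      rw [hd, C.ψ_mul _ hk _ ha, al]; ring
    rw [hr, mul_pow, hι] at hfix
    rw [hr, C.frob_fix _ (mul_mem hk ha) (mul_left_cancel₀ ((map_ne_zero _).mpr hi) hfix), C.ψ_one,
      mul_one]
  have hxι := hclear 1 i₁ u₁ _ hi₁ hu₁ hF hxp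
  have hzι := hclear (-1) i₂ u₂ _ hi₂ hu₂ hG hzp
  rw [← hx] at hxι
  rw [← hz] at hzι
  rw [hxι, hzι] at h1
  have hone := C.pure hi₂ h1
  rw [hone, map_one, one_mul, vF] at hF
  set zz := C.T (-3) * u * C.T 3 with hzz
  have hzU : zz ∈ C.U := C.T_conj_mem 3 hu
  refine ⟨inv_mem hzU, u₁ * zz⁻¹, mul_mem hu₁ (inv_mem hzU), ?_⟩
  have hne := C.ψ_ne hzU
  rw [C.ψ_mul _ hu₁ _ (inv_mem hzU), C.ψ_inv hzU, ← hF,
    show C.al 3 u = C.ψ zz from rfl]
  field_simp
  ring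

/-- The set of norm-one pairs is closed under inversion. -/
theorem pair_inv {u : G} (h : C.Pair u) : C.Pair u⁻¹ := by
  have htwo : ∀ {x : G}, C.Pair x → C.Pair (C.T (-6) * x * C.T 6) := by
    intro x hx
    have h2 := C.step (C.step hx)
    have e : (C.T (-3) * (C.T (-3) * x * C.T 3)⁻¹ * C.T 3)⁻¹ = C.T (-6) * x * C.T 6 := by
      rw [show (-6 : ZMod p) = -3 + -3 by ring, show (6 : ZMod p) = 3 + 3 by ring, C.T_add, C.T_add,
        C.T_neg]
      simp only [mul_inv_rev, inv_inv, mul_assoc]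
    rwa [e] at h2
  have hm : ∀ m : ℕ, C.Pair (C.T (-(6 * m : ZMod p)) * u * C.T (6 * m)) := by
    intro m
    induction m with
    | zero => simpa [C.T_zero] using h
    | succ m ih =>
      have := htwo ih
      rw [Nat.cast_succ, show (6 : ZMod p) * ((m : ZMod p) + 1) = 6 * m + 6 by ring,
        show -((6 : ZMod p) * (m : ZMod p) + 6) = -6 + -(6 * (m : ZMod p)) by ring, C.T_add, C.T_add]
      convert this using 1
      group
  obtain ⟨m, hmo⟩ := (Fact.out : p.Prime).odd_of_ne_two C.two_ne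
  have h6 : (6 : ZMod p) * (m : ZMod p) = -3 := by
    have h0 : ((2 * m + 1 : ℕ) : ZMod p) = 0 := by rw [← hmo, ZMod.natCast_self]
    push_cast at h0
    linear_combination (3 : ZMod p) * h0
  have h1 := hm m
  rw [h6, neg_neg] at h1
  have h2 := C.step h1
  have e : (C.T (-3) * (C.T 3 * u * C.T (-3)) * C.T 3)⁻¹ = u⁻¹ := by
    rw [C.T_neg]; group
  rwa [e] at h2

end Cfg

end CfsgLib.OddOrder.FinalField
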