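import Mathlib
import Cfsg.Agent.Lib.Coprime.Commutator
import Cfsg.Agent.Lib.PLocal.Constraint
import Cfsg.Agent.Lib.OddOrder.TransitivityCriteria

/-!
# Invariant `p'`-subgroups of a `p`-constrained group lie in the `p'`-core

If the abelian `p`-subgroup `A` contains the elements of order `p` of its centralizer (`p` odd), or all
`p`-elements of it (`p = 2`, Sylow 2-subgroups of class at most 2), then every `A`-invariant
`p'`-subgroup lies in `O_{p'}`.
-/

set_option autoImplicit false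
set_option linter.style.haveILetI false

namespace CfsgLib.OddOrder.InvariantCore

open Subgroup
open scoped commutatorElement

/-! ### Baer's trick -/

section baer

variable {W : Type*} [Group W]

theorem comm_mul_left (hc : ∀ x y z : W, Commute ⁅x, y⁆ z) (x y z : W) :
    ⁅x * y, z⁆ = ⁅x, z⁆ * ⁅y, z⁆ := by
  have e : ⁅x * y, z⁆ = x * ⁅y, z⁆ * x⁻¹ * ⁅x, z⁆ := by simp only [commutatorElement_def]; group
  rw [e, ← (hc y z x).eq, mul_inv_cancel_right]
  exact (hc y z _).eq

theorem comm_mul_right (hc : ∀ x y z : W, Commute ⁅x, y⁆ z) (x y z : W) :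
    ⁅x, y * z⁆ = ⁅x, y⁆ * ⁅x, z⁆ := by
  have e : ⁅x, y * z⁆ = ⁅x, y⁆ * (y * ⁅x, z⁆ * y⁻¹) := by simp only [commutatorElement_def]; group
  rw [e, ← (hc x z y).eq, mul_inv_cancel_right]

/-- A class two group in which commutators have square roots. -/
structure Half (W : Type*) [Group W] where
  central : ∀ x y z : W, Commute ⁅x, y⁆ z
  h : ℕ
  half : ∀ x y : W, ⁅x, y⁆ ^ (2 * h) = ⁅x, y⁆

/-- The abelian group attached to a class two group by Baer's trick. -/
def Baer (_D : Half W) : Type _ := W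

variable (D : Half W)

/-- The Baer sum. -/
def baerOp (x y : W) : W := x * y * ⁅y, x⁆ ^ D.h

theorem baerOp_assoc (x y z : W) :
    baerOp D (baerOp D x y) z = baerOp D x (baerOp D y z) := by
  have hz : ∀ a b c : W, ∀ n : ℕ, ⁅c, ⁅a, b⁆ ^ n⁆ = 1 := fun a b c n =>
    commutatorElement_eq_one_iff_commute.2 ((D.central a b c).pow_left n).symm
  have hz' : ∀ a b c : W, ∀ n : ℕ, ⁅⁅a, b⁆ ^ n, c⁆ = 1 := fun a b c n =>
    commutatorElement_eq_one_iff_commute.2 ((D.central a b c).pow_left n)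
  simp only [baerOp]
  rw [comm_mul_right D.central z (x * y), comm_mul_right D.central z x y, hz,
    comm_mul_left D.central (y * z), comm_mul_left D.central y z x, hz', mul_one, mul_one,
    (D.central z x ⁅z, y⁆).mul_pow, (D.central y x ⁅z, x⁆).mul_pow]
  have c1 : Commute (⁅y, x⁆ ^ D.h) z := (D.central y x z).pow_left _
  have c2 : Commute (⁅z, y⁆ ^ D.h) (⁅y, x⁆ ^ D.h * ⁅z, x⁆ ^ D.h) :=
    (D.central z y _).pow_left _
  calc x * y * ⁅y, x⁆ ^ D.h * z * (⁅z, x⁆ ^ D.h * ⁅z, y⁆ ^ D.h)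
      = x * y * (⁅y, x⁆ ^ D.h * z) * (⁅z, x⁆ ^ D.h * ⁅z, y⁆ ^ D.h) := by group
    _ = x * y * z * (⁅y, x⁆ ^ D.h * ⁅z, x⁆ ^ D.h * ⁅z, y⁆ ^ D.h) := by rw [c1.eq]; group
    _ = x * y * z * (⁅z, y⁆ ^ D.h * (⁅y, x⁆ ^ D.h * ⁅z, x⁆ ^ D.h)) := by rw [c2.eq]
    _ = x * (y * z * ⁅z, y⁆ ^ D.h) * (⁅y, x⁆ ^ D.h * ⁅z, x⁆ ^ D.h) := by group

theorem baerOp_comm (x y : W) : baerOp D x y = baerOp D y x := by
  simp only [baerOp]
  have e1 : ⁅x, y⁆ = ⁅y, x⁆⁻¹ := (commutatorElement_inv y x).symm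
  have e2 : y * x = ⁅y, x⁆ * (x * y) := by simp only [commutatorElement_def]; group
  have e3 : ⁅y, x⁆ * (⁅y, x⁆ ^ D.h)⁻¹ = ⁅y, x⁆ ^ D.h := by
    rw [mul_inv_eq_iff_eq_mul, ← pow_add, ← two_mul, D.half]
  rw [e1, inv_pow, e2]
  calc x * y * ⁅y, x⁆ ^ D.h = x * y * (⁅y, x⁆ * (⁅y, x⁆ ^ D.h)⁻¹) := by rw [e3]
    _ = (x * y * ⁅y, x⁆) * (⁅y, x⁆ ^ D.h)⁻¹ := (mul_assoc _ _ _).symm
    _ = ⁅y, x⁆ * (x * y) * (⁅y, x⁆ ^ D.h)⁻¹ := by rw [(D.central y x (x * y)).eq]

theorem baerOp_one_left (x : W) : baerOp D 1 x = x := by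
  rw [baerOp, commutatorElement_one_right, one_pow, one_mul, mul_one]

theorem baerOp_one_right (x : W) : baerOp D x 1 = x := by
  rw [baerOp, commutatorElement_one_left, one_pow, mul_one, mul_one]

theorem baerOp_inv (x : W) : baerOp D x⁻¹ x = 1 := by
  rw [baerOp, commutatorElement_eq_one_iff_commute.2 ((Commute.refl x).inv_right), one_pow,
    inv_mul_cancel, mul_one]

instance instCommGroupBaer : CommGroup (Baer D) where
  mul := (baerOp D : W → W → W)
  mul_assoc := baerOp_assoc D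
  one := (1 : W)
  one_mul := baerOp_one_left D
  mul_one := baerOp_one_right D
  inv := (fun x => x⁻¹ : W → W)
  inv_mul_cancel := baerOp_inv D
  mul_comm := baerOp_comm D

instance instFiniteBaer [Finite W] : Finite (Baer D) := inferInstanceAs (Finite W)

/-- The underlying element. -/
def val (x : Baer D) : W := x

/-- An element as an element of the Baer group. -/
def mk (x : W) : Baer D := x

theorem val_mk (x : W) : val D (mk D x) = x := rfl

theorem val_injective : Function.Injective (val D) := fun _ _ h => h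

theorem val_one : val D 1 = 1 := rfl

theorem val_mul (x y : Baer D) : val D (x * y) = baerOp D (val D x) (val D y) := rfl

theorem val_inv (x : Baer D) : val D x⁻¹ = (val D x)⁻¹ := rfl

theorem val_pow (x : Baer D) (n : ℕ) : val D (x ^ n) = val D x ^ n := by
  induction n with
  | zero => rw [pow_zero, pow_zero, val_one]
  | succ n ih =>
    rw [pow_succ, val_mul, ih, baerOp,
      commutatorElement_eq_one_iff_commute.2 ((Commute.refl (val D x)).pow_right n), one_pow,
      mul_one, pow_succ]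

/-- An endomorphism of the group is one of the Baer group. -/
def baerMap (f : W →* W) : Baer D →* Baer D :=
  MonoidHom.mk' (fun x => mk D (f (val D x))) fun x y => val_injective D (by
    show f (baerOp D (val D x) (val D y)) = baerOp D (f (val D x)) (f (val D y))
    simp only [baerOp, map_mul, map_pow, map_commutatorElement])

theorem val_baerMap (f : W →* W) (x : Baer D) : val D (baerMap D f x) = f (val D x) := rfl

end baer

/-! ### The action lemma -/

variable {G : Type*} [Group G] [Finite G] {p : ℕ} [hp : Fact p.Prime]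

/-- Conjugation on a normalized subgroup. -/
def cjHom (W : Subgroup G) (g : G) (hg : g ∈ Subgroup.normalizer (W : Set G)) : W →* W :=
  MonoidHom.mk' (fun w => ⟨g * w * g⁻¹, (Subgroup.mem_normalizer_iff.1 hg w).1 w.2⟩)
    fun u v => Subtype.ext (by simp [mul_assoc])

omit [Finite G] in
theorem cjHom_coe (W : Subgroup G) (g : G) (hg : g ∈ Subgroup.normalizer (W : Set G)) (w : W) :
    (cjHom W g hg w : G) = g * w * g⁻¹ := rfl

/-- Class two case, `p` odd. -/
theorem fix_class_two (hp2 : p ≠ 2) {W A Y : Subgroup G} (hW : IsPGroup p W)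
    (hc : ∀ x y z : W, Commute ⁅x, y⁆ z) (hA : IsPGroup p A)
    (hAW : A ≤ Subgroup.normalizer (W : Set G)) (hYW : Y ≤ Subgroup.normalizer (W : Set G))
    (hAY : A ≤ Subgroup.normalizer (Y : Set G)) (hY : (Nat.card Y).Coprime p)
    (hfix : ∀ x ∈ W, orderOf x = p → x ∈ Subgroup.centralizer (A : Set G) →
      x ∈ Subgroup.centralizer (Y : Set G)) :
    Y ≤ Subgroup.centralizer (W : Set G) := by
  classical
  obtain ⟨k, hk⟩ := hW.exists_card_eq
  have hhalf : 2 * ((p ^ k + 1) / 2) = p ^ k + 1 := by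
    obtain ⟨r, hr⟩ := (hp.out.odd_of_ne_two hp2).pow (n := k)
    omega
  let D : Half W :=
    { central := hc
      h := (p ^ k + 1) / 2
      half := fun x y => by rw [hhalf, pow_succ, ← hk, pow_card_eq_one', one_mul] }
  haveI : Fintype Y := Fintype.ofFinite _
  have hcomp : ∀ (g g' : G) (hg : g ∈ Subgroup.normalizer (W : Set G))
      (hg' : g' ∈ Subgroup.normalizer (W : Set G)) (hgg : g * g' ∈ Subgroup.normalizer (W : Set G))
      (x : Baer D), baerMap D (cjHom W g hg) (baerMap D (cjHom W g' hg') x)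
        = baerMap D (cjHom W (g * g') hgg) x := by
    intro g g' hg hg' hgg x
    apply val_injective D
    apply Subtype.ext
    rw [val_baerMap, val_baerMap, val_baerMap, cjHom_coe, cjHom_coe, cjHom_coe]
    group
  have hcongr : ∀ (g g' : G) (hg : g ∈ Subgroup.normalizer (W : Set G))
      (hg' : g' ∈ Subgroup.normalizer (W : Set G)) (x : Baer D), g = g' →
      baerMap D (cjHom W g hg) x = baerMap D (cjHom W g' hg') x := by
    rintro g g' hg hg' x rfl
    rfl
  let act : Y → (Baer D →* Baer D) := fun y => baerMap D (cjHom W y (hYW y.2))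
  let N : Baer D →* Baer D := MonoidHom.mk' (fun x => ∏ y : Y, act y x) fun x y => by
    rw [← Finset.prod_mul_distrib]
    exact Finset.prod_congr rfl fun _ _ => map_mul _ _ _
  have hNy : ∀ (y : Y) (x : Baer D), N (act y x) = N x := by
    intro y x
    refine Fintype.prod_bijective (fun z => z * y) (Group.mulRight_bijective y) _ _ fun z => ?_
    exact hcomp _ _ _ _ (hYW (z * y).2) x
  let α : A → (Baer D →* Baer D) := fun a => baerMap D (cjHom W a (hAW a.2))
  have hNa : ∀ (a : A) (x : Baer D), N (α a x) = α a (N x) := by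
    intro a x
    show ∏ y : Y, act y (α a x) = α a (∏ y : Y, act y x)
    rw [map_prod]
    symm
    refine Fintype.prod_bijective (fun y : Y => (⟨(a : G) * y * (a : G)⁻¹,
        (Subgroup.mem_normalizer_iff.1 (hAY a.2) y).1 y.2⟩ : Y))
      (Finite.injective_iff_bijective.1 fun u v h => Subtype.ext (by
        simpa using congrArg Subtype.val h)) _ _ fun y => ?_
    show α a (act y x) = _
    have h1 := hcomp _ _ (hAW a.2) (hYW y.2) (mul_mem (hAW a.2) (hYW y.2)) x
    refine h1.trans ?_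
    refine Eq.trans ?_ (hcomp _ _ _ (hAW a.2) (mul_mem (hYW ((Subgroup.mem_normalizer_iff.1 (hAY a.2) y).1 y.2)) (hAW a.2)) x).symm
    exact hcongr _ _ _ _ x (by group)
  intro y hy
  rw [Subgroup.mem_centralizer_iff]
  intro w hw
  by_contra hne
  let v : Baer D := act ⟨y, hy⟩ (mk D ⟨w, hw⟩) * (mk D ⟨w, hw⟩)⁻¹
  have hv : v ∈ N.ker := by
    rw [MonoidHom.mem_ker, map_mul, map_inv, hNy, mul_inv_cancel]
  have hv1 : v ≠ 1 := by
    intro h
    apply hne
    have h2 := congrArg (fun t => ((val D t : W) : G)) (mul_inv_eq_one.1 h)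
    simp only [act, val_baerMap, val_mk, cjHom_coe] at h2
    exact (mul_inv_eq_iff_eq_mul.1 h2).symm
  -- `A` acts on the kernel
  letI act' : MulAction A N.ker :=
    { smul := fun a x => ⟨α a x, by rw [MonoidHom.mem_ker, hNa, MonoidHom.mem_ker.1 x.2, map_one]⟩
      one_smul := fun x => Subtype.ext (val_injective D (Subtype.ext (by
        show ((1 : A) : G) * _ * ((1 : A) : G)⁻¹ = _
        simp [val])))
      mul_smul := fun a b x => Subtype.ext (hcomp _ _ _ _ _ x.1).symm }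
  have hdvd : p ∣ Nat.card N.ker := by
    have h1 : Nat.card N.ker ∣ p ^ k := by
      rw [← hk]
      exact (Subgroup.card_subgroup_dvd_card N.ker)
    obtain ⟨j, -, hj⟩ := (Nat.dvd_prime_pow hp.out).1 h1
    rcases Nat.eq_zero_or_pos j with rfl | hj0
    · exfalso
      rw [pow_zero, Subgroup.card_eq_one] at hj
      exact hv1 (by simpa [hj] using hv)
    · rw [hj]; exact dvd_pow_self p hj0.ne'
  have h1fix : (1 : N.ker) ∈ MulAction.fixedPoints A N.ker := fun a => Subtype.ext (map_one (α a))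
  obtain ⟨b, hb, hb1⟩ := hA.exists_fixed_point_of_prime_dvd_card_of_fixed_point N.ker hdvd h1fix
  -- a power of order `p`
  set bw : W := val D (b : Baer D) with hbw
  have hbw1 : bw ≠ 1 := fun h => hb1 (Subtype.ext (val_injective D (h.trans (val_one D).symm)).symm)
  obtain ⟨j, -, hj⟩ := (Nat.dvd_prime_pow hp.out).1 (hk ▸ orderOf_dvd_natCard bw)
  have hj0 : j ≠ 0 := fun h => hbw1 (orderOf_eq_one_iff.1 (by rw [hj, h, pow_zero]))
  set c : W := bw ^ (p ^ (j - 1)) with hc'
  have hco : orderOf (c : G) = p := by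
    rw [Subgroup.orderOf_coe, hc', orderOf_pow_of_dvd (pow_ne_zero _ hp.out.ne_zero)
      (hj ▸ pow_dvd_pow p (Nat.sub_le j 1)), hj, Nat.pow_div (Nat.sub_le j 1) hp.out.pos,
      show j - (j - 1) = 1 by omega, pow_one]
  have hcA : (c : G) ∈ Subgroup.centralizer (A : Set G) := by
    rw [Subgroup.mem_centralizer_iff]
    intro a ha
    have h2 := congrArg (fun t : N.ker => ((val D (t : Baer D) : W) : G)) (hb ⟨a, ha⟩)
    have h3 : a * (bw : G) * a⁻¹ = bw := h2
    have h4 : Commute a (bw : G) := mul_inv_eq_iff_eq_mul.1 h3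
    rw [hc', Subgroup.coe_pow]
    exact (h4.pow_right _).eq
  have hcY := hfix c c.2 hco hcA
  let cb : Baer D := mk D c
  have hcb : cb ∈ N.ker := by
    have : cb = (b : Baer D) ^ (p ^ (j - 1)) := val_injective D (by rw [val_pow]; rfl)
    rw [this]
    exact pow_mem b.2 _
  have hNc : N cb = cb ^ Nat.card Y := by
    show ∏ z : Y, act z cb = _
    rw [Nat.card_eq_fintype_card, ← Finset.card_univ, ← Finset.prod_const]
    refine Finset.prod_congr rfl fun z _ => val_injective D (Subtype.ext ?_)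
    rw [val_baerMap, cjHom_coe]
    show (z : G) * (c : G) * (z : G)⁻¹ = c
    rw [Subgroup.mem_centralizer_iff.1 hcY z z.2, mul_inv_cancel_right]
  have h5 : c ^ Nat.card Y = 1 := by
    have := congrArg (val D) (hNc.symm.trans (MonoidHom.mem_ker.1 hcb))
    rwa [val_pow, val_one] at this
  have h6 : orderOf (c : G) ∣ Nat.card Y := by
    rw [Subgroup.orderOf_coe]; exact orderOf_dvd_of_pow_eq_one h5
  rw [hco] at h6
  exact (hp.out.coprime_iff_not_dvd.1 hY.symm) h6

omit [Finite G] hp in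
theorem le_normalizer_commutator {A W Y : Subgroup G} (hAW : A ≤ Subgroup.normalizer (W : Set G))
    (hAY : A ≤ Subgroup.normalizer (Y : Set G)) :
    A ≤ Subgroup.normalizer ((⁅W, Y⁆ : Subgroup G) : Set G) := by
  intro a ha
  refine Transitivity.mem_normalizer_of_cj_eq ?_
  show (⁅W, Y⁆ : Subgroup G).map (MulAut.conj a).toMonoidHom = _
  rw [Subgroup.map_commutator]
  congr 1
  · exact Transitivity.cj_eq_of_mem_normalizer (hAW ha)
  · exact Transitivity.cj_eq_of_mem_normalizer (hAY ha)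

/-- `p` odd. -/
theorem centralizes_of_odd (hp2 : p ≠ 2) {A Y : Subgroup G} (hA : IsPGroup p A)
    (hAY : A ≤ Subgroup.normalizer (Y : Set G)) (hY : (Nat.card Y).Coprime p) :
    ∀ W : Subgroup G, IsPGroup p W → A ≤ Subgroup.normalizer (W : Set G) →
      Y ≤ Subgroup.normalizer (W : Set G) →
      (∀ x ∈ W, orderOf x = p → x ∈ Subgroup.centralizer (A : Set G) →
        x ∈ Subgroup.centralizer (Y : Set G)) →
      Y ≤ Subgroup.centralizer (W : Set G) := by
  intro W
  induction hn : Nat.card W using Nat.strong_induction_on generalizing W with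
  | _ n ih =>
  intro hW hAW hYW hfix
  subst hn
  have hcop : (Nat.card Y).Coprime (Nat.card W) := by
    obtain ⟨k, hk⟩ := hW.exists_card_eq
    rw [hk]; exact hY.pow_right k
  have hlt : ∀ V : Subgroup G, V ≤ W → V ≠ W → Nat.card V < Nat.card W := fun V h1 h2 =>
    lt_of_le_of_ne (Subgroup.card_le_of_le h1) fun e => h2 (Subgroup.eq_of_le_of_card_ge h1 e.ge)
  have hC : ⁅W, Y⁆ ≤ W := CfsgLib.Coprime.commutator_le_of_normalizes hYW
  by_cases hWY : ⁅W, Y⁆ = W
  · by_cases hW1 : W = ⊥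
    · subst hW1
      intro y _
      simp [Subgroup.mem_centralizer_iff]
    have hder : ⁅W, W⁆ ≠ W := by
      intro h
      haveI : Nontrivial W := (Subgroup.nontrivial_iff_ne_bot W).2 hW1
      haveI : Group.IsNilpotent W := hW.isNilpotent
      refine (Group.IsSolvable.commutator_lt_top_of_nontrivial W).ne ?_
      rw [eq_top_iff]
      intro x _
      have hx : (x : G) ∈ (_root_.commutator W).map W.subtype := by
        rw [Subgroup.map_subtype_commutator, h]; exact x.2
      obtain ⟨z, hz, hzx⟩ := Subgroup.mem_map.1 hx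
      exact (Subtype.ext hzx : z = x) ▸ hz
    have hle : ⁅W, W⁆ ≤ W := Subgroup.commutator_le_self W
    have hYW' : Y ≤ Subgroup.normalizer ((⁅W, W⁆ : Subgroup G) : Set G) :=
      le_normalizer_commutator hYW hYW
    have hAW' : A ≤ Subgroup.normalizer ((⁅W, W⁆ : Subgroup G) : Set G) :=
      le_normalizer_commutator hAW hAW
    have hYd : Y ≤ Subgroup.centralizer ((⁅W, W⁆ : Subgroup G) : Set G) :=
      ih _ (hlt _ hle hder) _ rfl (hW.to_le hle) hAW' hYW' fun x hx => hfix x (hle hx)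
    have h3 : ⁅⁅W, Y⁆, ⁅W, W⁆⁆ = ⊥ := by
      refine Subgroup.commutator_commutator_eq_bot_of_rotate ?_ ?_
      · rw [Subgroup.commutator_eq_bot_iff_le_centralizer.2 hYd, Subgroup.commutator_bot_left]
      · rw [Subgroup.commutator_eq_bot_iff_le_centralizer]
        refine le_trans ?_ (Subgroup.le_centralizer_iff.1 hYd)
        exact (Subgroup.commutator_mono hle le_rfl)
    rw [hWY, Subgroup.commutator_eq_bot_iff_le_centralizer] at h3
    refine fix_class_two hp2 hW (fun x y z => ?_) hA hAW hYW hAY hY hfix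
    apply Subtype.ext
    exact Subgroup.mem_centralizer_iff.1 (h3 z.2) _ (Subgroup.commutator_mem_commutator x.2 y.2)
  · have h1 : Y ≤ Subgroup.centralizer ((⁅W, Y⁆ : Subgroup G) : Set G) :=
      ih _ (hlt _ hC hWY) _ rfl (hW.to_le hC) (le_normalizer_commutator hAW hAY)
        (CfsgLib.Coprime.le_normalizer_commutator_right W Y) fun x hx => hfix x (hC hx)
    rw [Subgroup.le_centralizer_iff, ← Subgroup.commutator_eq_bot_iff_le_centralizer]
    haveI : Group.IsNilpotent W := hW.isNilpotent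
    exact CfsgLib.Coprime.commutator_eq_bot_of_commutator_commutator_eq_bot Y W hYW hcop
      (Or.inr inferInstance)
      (by rw [Subgroup.commutator_eq_bot_iff_le_centralizer]; exact Subgroup.le_centralizer_iff.1 h1)

omit [Finite G] hp in
theorem conj_fix_iter {y w f : G} (h1 : y * w * y⁻¹ = f * w) (h2 : Commute y f) (n : ℕ) :
    y ^ n * w * (y ^ n)⁻¹ = f ^ n * w := by
  induction n with
  | zero => simp
  | succ n ih =>
    calc y ^ (n + 1) * w * (y ^ (n + 1))⁻¹ = y * (y ^ n * w * (y ^ n)⁻¹) * y⁻¹ := by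
          rw [pow_succ']; group
      _ = (y * f ^ n) * w * y⁻¹ := by rw [ih]; group
      _ = f ^ n * (y * w * y⁻¹) := by rw [(h2.pow_right n).eq]; group
      _ = f ^ (n + 1) * w := by rw [h1, pow_succ]; group

/-- Class two case, any prime. -/
theorem centralizes_of_class_two {W A Y : Subgroup G} (hW : IsPGroup p W)
    (hAW : A ≤ Subgroup.normalizer (W : Set G)) (hYW : Y ≤ Subgroup.normalizer (W : Set G))
    (hAY : A ≤ Subgroup.normalizer (Y : Set G)) (hY : (Nat.card Y).Coprime p)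
    (hc : ∀ a ∈ A, ∀ w ∈ W, ∀ z ∈ (W : Set G) ∪ (A : Set G), Commute ⁅a, w⁆ z)
    (hfix : ∀ x ∈ W, x ∈ Subgroup.centralizer (A : Set G) → x ∈ Subgroup.centralizer (Y : Set G)) :
    Y ≤ Subgroup.centralizer (W : Set G) := by
  have hmemW : ∀ a ∈ A, ∀ w ∈ W, ⁅a, w⁆ ∈ W := fun a ha w hw => by
    rw [commutatorElement_def]
    exact mul_mem ((Subgroup.mem_normalizer_iff.1 (hAW ha) w).1 hw) (inv_mem hw)
  have hY' : ∀ a ∈ A, ∀ w ∈ W, ⁅a, w⁆ ∈ Subgroup.centralizer (Y : Set G) := fun a ha w hw =>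
    hfix _ (hmemW a ha w hw) (Subgroup.mem_centralizer_iff.2 fun b hb =>
      (hc a ha w hw b (Or.inr hb)).eq.symm)
  have hinv : ∀ a ∈ A, ∀ w ∈ W, ∀ y ∈ Y, ⁅a, y * w * y⁻¹⁆ = ⁅a, w⁆ := by
    intro a ha w hw y hy
    have hu : y * w * y⁻¹ ∈ W := (Subgroup.mem_normalizer_iff.1 (hYW hy) w).1 hw
    have hy' : a * y * a⁻¹ ∈ Y := (Subgroup.mem_normalizer_iff.1 (hAY ha) y).1 hy
    have hy0 : y⁻¹ * (a * y * a⁻¹) ∈ Y := mul_mem (inv_mem hy) hy'
    set f := ⁅a, w⁆⁻¹ * ⁅a, y * w * y⁻¹⁆ with hf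
    have hfY : f ∈ Subgroup.centralizer (Y : Set G) :=
      mul_mem (inv_mem (hY' a ha w hw)) (hY' a ha _ hu)
    have hfW : f ∈ W := mul_mem (inv_mem (hmemW a ha w hw)) (hmemW a ha _ hu)
    have e1 : (y⁻¹ * (a * y * a⁻¹)) * w * (y⁻¹ * (a * y * a⁻¹))⁻¹ = f * w := by
      have hc1 := Subgroup.mem_centralizer_iff.1 (inv_mem (hY' a ha w hw)) _ hy'
      have hc2 := Subgroup.mem_centralizer_iff.1 hfY y⁻¹ (inv_mem hy)
      have s1 : (a * y * a⁻¹) * w * (a * y * a⁻¹)⁻¹ = f * (y * w * y⁻¹) := by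
        calc (a * y * a⁻¹) * w * (a * y * a⁻¹)⁻¹
            = (a * y * a⁻¹ * ⁅a, w⁆⁻¹) * (a * w * a⁻¹) * (a * y * a⁻¹)⁻¹ := by
              simp only [commutatorElement_def]; group
          _ = ⁅a, w⁆⁻¹ * (a * (y * w * y⁻¹) * a⁻¹) := by rw [hc1]; group
          _ = _ := by rw [hf]; simp only [commutatorElement_def]; group
      calc (y⁻¹ * (a * y * a⁻¹)) * w * (y⁻¹ * (a * y * a⁻¹))⁻¹
          = y⁻¹ * ((a * y * a⁻¹) * w * (a * y * a⁻¹)⁻¹) * y := by group
        _ = (y⁻¹ * f) * (y * w * y⁻¹) * y := by rw [s1]; group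
        _ = f * w := by rw [hc2]; group
    have hcom : Commute (y⁻¹ * (a * y * a⁻¹)) f := Subgroup.mem_centralizer_iff.1 hfY _ hy0
    have h2 := conj_fix_iter e1 hcom (Nat.card Y)
    have hy0n : (y⁻¹ * (a * y * a⁻¹)) ^ Nat.card Y = 1 :=
      congrArg Subtype.val (pow_card_eq_one' (x := (⟨_, hy0⟩ : Y)))
    rw [hy0n, one_mul, inv_one, mul_one, right_eq_mul] at h2
    have hf1 : f = 1 := by
      obtain ⟨k, hk⟩ := hW.exists_card_eq
      refine orderOf_eq_one_iff.1 (Nat.eq_one_of_dvd_coprimes (hY.pow_right k)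
        (orderOf_dvd_of_pow_eq_one h2) ?_)
      rw [← hk]; exact Subgroup.orderOf_dvd_natCard W hfW
    exact (inv_mul_eq_one.1 (hf ▸ hf1)).symm
  have hcom : ⁅W, Y⁆ ≤ Subgroup.centralizer (A : Set G) := by
    rw [Subgroup.commutator_le]
    intro w hw y hy
    rw [Subgroup.mem_centralizer_iff]
    intro a ha
    have hu : y * w⁻¹ * y⁻¹ ∈ W := (Subgroup.mem_normalizer_iff.1 (hYW hy) _).1 (inv_mem hw)
    show a * ⁅w, y⁆ = ⁅w, y⁆ * a
    rw [← commutatorElement_eq_one_iff_mul_comm,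
      show ⁅w, y⁆ = w * (y * w⁻¹ * y⁻¹) by simp only [commutatorElement_def]; group]
    have e : ∀ u ∈ W, ∀ v ∈ W, ⁅a, u * v⁆ = ⁅a, u⁆ * ⁅a, v⁆ := by
      intro u hu v hv
      have e : ⁅a, u * v⁆ = ⁅a, u⁆ * (u * ⁅a, v⁆ * u⁻¹) := by simp only [commutatorElement_def]; group
      rw [e, ← (hc a ha v hv u (Or.inl hu)).eq, mul_inv_cancel_right]
    rw [e w hw _ hu, hinv a ha _ (inv_mem hw) y hy, ← e w hw _ (inv_mem hw), mul_inv_cancel,
      commutatorElement_one_right]
  have hCW : ⁅W, Y⁆ ≤ W := CfsgLib.Coprime.commutator_le_of_normalizes hYW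
  rw [Subgroup.le_centralizer_iff, ← Subgroup.commutator_eq_bot_iff_le_centralizer]
  haveI : Group.IsNilpotent W := hW.isNilpotent
  refine CfsgLib.Coprime.commutator_eq_bot_of_commutator_commutator_eq_bot Y W hYW ?_
    (Or.inr inferInstance) ?_
  · obtain ⟨k, hk⟩ := hW.exists_card_eq
    rw [hk]; exact hY.pow_right k
  · rw [Subgroup.commutator_eq_bot_iff_le_centralizer]
    exact fun x hx => hfix x (hCW hx) (hcom hx)

/-! ### Lifting and the main theorem -/

/-- A `p`-subgroup of a quotient by a `p'`-group lifts over a given one. -/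
theorem exists_pgroup_lift {K : Subgroup G} [K.Normal] (hK : (Nat.card K).Coprime p) {A : Subgroup G}
    (hA : IsPGroup p A) {S : Subgroup (G ⧸ K)} (hS : IsPGroup p S)
    (hAS : A.map (QuotientGroup.mk' K) ≤ S) :
    ∃ T : Subgroup G, IsPGroup p T ∧ A ≤ T ∧ T.map (QuotientGroup.mk' K) = S := by
  set f := QuotientGroup.mk' K with hf
  let M := S.comap f
  have hAM : A ≤ M := fun a ha => hAS ⟨a, ha, rfl⟩
  obtain ⟨T, hT⟩ := (hA.comap_subtype : IsPGroup p (A.subgroupOf M)).exists_le_sylow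
  refine ⟨(T : Subgroup M).map M.subtype, T.2.map _, fun a ha => ⟨⟨a, hAM ha⟩, hT ha, rfl⟩, ?_⟩
  let g : M →* S := (f.comp M.subtype).codRestrict S fun m => m.2
  have hg : Function.Surjective g := by
    rintro ⟨s, hs⟩
    obtain ⟨x, rfl⟩ := QuotientGroup.mk'_surjective K s
    exact ⟨⟨x, hs⟩, rfl⟩
  let T' := T.mapSurjective hg
  have htop : (T' : Subgroup S) = ⊤ :=
    (T'.is_maximal' (hS.to_subgroup ⊤) le_top).symm
  refine le_antisymm ?_ fun s hs => ?_
  · rintro _ ⟨_, ⟨t, -, rfl⟩, rfl⟩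
    exact t.2
  · have : (⟨s, hs⟩ : S) ∈ (T : Subgroup M).map g := by
      change _ ∈ (T' : Subgroup S)
      rw [htop]; trivial
    obtain ⟨t, ht, e⟩ := this
    exact ⟨t, ⟨t, ht, rfl⟩, congrArg Subtype.val e⟩

/-- **Main lemma.** -/
theorem le_pPrimeCore (hX : Cfsg.IsPConstrained p G) {A : Subgroup G}
    (hAp : IsPGroup p A)
    (hcase : (p ≠ 2 ∧ ∀ x ∈ Subgroup.centralizer (A : Set G), orderOf x = p → x ∈ A) ∨
      ((∀ x ∈ Subgroup.centralizer (A : Set G), IsPGroup p (Subgroup.zpowers x) → x ∈ A) ∧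
        ∀ S : Subgroup G, IsPGroup p S → ∀ a ∈ S, ∀ b ∈ S, ∀ c ∈ S, Commute ⁅a, b⁆ c))
    {Y : Subgroup G} (hY : (Nat.card Y).Coprime p) (hAY : A ≤ Subgroup.normalizer (Y : Set G)) :
    Y ≤ Cfsg.pPrimeCore p G := by
  set K := Cfsg.pPrimeCore p G with hKdef
  haveI hKn : K.Normal := Cfsg.pPrimeCore_normal p G
  have hK : (Nat.card K).Coprime p := PCore.pPrimeCore_coprime
  set f := QuotientGroup.mk' K with hf
  have hchar := PLocal.isPConstrained_iff.1 hX
  set R := Cfsg.pCore p (G ⧸ K) with hR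
  haveI hRn : R.Normal := Cfsg.pCore_normal p _
  have hRp : IsPGroup p R := PCore.pCore_isPGroup
  have hAY' : A.map f ≤ Subgroup.normalizer ((Y.map f : Subgroup (G ⧸ K)) : Set (G ⧸ K)) :=
    (Subgroup.map_mono hAY).trans (Subgroup.le_normalizer_map f)
  have hAR : A.map f ≤ Subgroup.normalizer (R : Set (G ⧸ K)) := by
    rw [Subgroup.normalizer_eq_top R]; exact le_top
  have hYR : Y.map f ≤ Subgroup.normalizer (R : Set (G ⧸ K)) := by
    rw [Subgroup.normalizer_eq_top R]; exact le_top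
  have hYb : (Nat.card (Y.map f)).Coprime p := Criteria.coprime_map f hY
  -- elements of `R ∩ A` centralize the image of `Y`
  have hRA : ∀ x ∈ R, x ∈ A.map f →
      x ∈ Subgroup.centralizer ((Y.map f : Subgroup (G ⧸ K)) : Set (G ⧸ K)) := by
    intro x hx hxA
    rw [Subgroup.mem_centralizer_iff]
    intro y hy
    have h1 : y * x * y⁻¹ * x⁻¹ ∈ R := mul_mem (hRn.conj_mem x hx y) (inv_mem hx)
    have h2 : y * x * y⁻¹ * x⁻¹ ∈ Y.map f := by
      rw [show y * x * y⁻¹ * x⁻¹ = y * (x * y⁻¹ * x⁻¹) by group]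
      exact mul_mem hy ((Subgroup.mem_normalizer_iff.1 (hAY' hxA) _).1 (inv_mem hy))
    have h3 := Criteria.eq_one_of_pgroup_of_coprime hRp hYb h1 h2
    rwa [mul_inv_eq_one, mul_inv_eq_iff_eq_mul] at h3
  -- lifting of centralizing `p`-elements
  have hlift : ∀ x : G ⧸ K, IsPGroup p (Subgroup.zpowers x) →
      x ∈ Subgroup.centralizer ((A.map f : Subgroup (G ⧸ K)) : Set (G ⧸ K)) →
      ∃ t ∈ Subgroup.centralizer (A : Set G), f t = x ∧ orderOf t = orderOf x ∧
        IsPGroup p (Subgroup.zpowers t) := by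
    intro x hxp hxc
    have hS : IsPGroup p ↥(Subgroup.zpowers x ⊔ A.map f) :=
      IsPGroup.to_sup_of_normal_right' hxp (hAp.map f)
        ((Subgroup.zpowers_le.2 hxc).trans (Subgroup.centralizer_le_normalizer _))
    obtain ⟨T, hTp, hAT, hTS⟩ := exists_pgroup_lift hK hAp hS le_sup_right
    obtain ⟨t, ht, htx⟩ : x ∈ T.map f := hTS.ge (mem_sup_left (Subgroup.mem_zpowers x))
    refine ⟨t, Subgroup.mem_centralizer_iff.2 fun a ha => ?_, htx, ?_,
      hTp.to_le (Subgroup.zpowers_le.2 ht)⟩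
    · refine Criteria.eq_of_map_eq (K := K) hTp hK (mul_mem (hAT ha) ht) (mul_mem ht (hAT ha)) ?_
      show f (a * t) = f (t * a)
      rw [map_mul, map_mul, htx]
      exact Subgroup.mem_centralizer_iff.1 hxc _ ⟨a, ha, rfl⟩
    · refine Nat.dvd_antisymm ?_ (htx ▸ orderOf_map_dvd f t)
      refine orderOf_dvd_of_pow_eq_one ?_
      refine Criteria.eq_of_map_eq (K := K) hTp hK (pow_mem ht _) (one_mem _) ?_
      show f (t ^ orderOf x) = f 1
      rw [map_pow, htx, pow_orderOf_eq_one, map_one]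
  have hYC : Y.map f ≤ Subgroup.centralizer (R : Set (G ⧸ K)) := by
    rcases hcase with ⟨hp2, hΩ⟩ | ⟨hfull, hcl⟩
    · refine centralizes_of_odd hp2 (hAp.map f) hAY' hYb R hRp hAR hYR fun x hx hxo hxc => ?_
      obtain ⟨t, ht, htx, hto, -⟩ := hlift x
        (IsPGroup.of_card (n := 1) (by rw [Nat.card_zpowers, hxo, pow_one])) hxc
      exact hRA x hx ⟨t, hΩ t ht (hto.trans hxo), htx⟩
    · refine centralizes_of_class_two hRp hAR hYR hAY' hYb ?_ fun x hx hxc => ?_
      · have hS : IsPGroup p ↥(A.map f ⊔ R) :=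
          IsPGroup.to_sup_of_normal_right' (hAp.map f) hRp hAR
        obtain ⟨T, hTp, -, hTS⟩ := exists_pgroup_lift hK hAp hS le_sup_left
        intro a ha w hw z hz
        obtain ⟨a', ha', rfl⟩ : a ∈ T.map f := hTS.ge (mem_sup_left ha)
        obtain ⟨w', hw', rfl⟩ : w ∈ T.map f := hTS.ge (mem_sup_right hw)
        obtain ⟨z', hz', rfl⟩ : z ∈ T.map f := hTS.ge (by
          rcases hz with hz | hz
          · exact mem_sup_right hz
          · exact mem_sup_left hz)
        rw [← map_commutatorElement]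
        exact (hcl T hTp a' ha' w' hw' z' hz').map f
      · obtain ⟨t, ht, htx, -, htp⟩ := hlift x (hRp.to_le (Subgroup.zpowers_le.2 hx)) hxc
        exact hRA x hx ⟨t, hfull t ht htp, htx⟩
  refine Criteria.le_core_of_map_eq_bot (eq_bot_iff.2 fun y hy => ?_)
  exact Criteria.eq_one_of_pgroup_of_coprime hRp hYb (hchar (hYC hy)) hy

end CfsgLib.OddOrder.InvariantCore
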