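import Mathlib
import Cfsg.Agent.Lib.OddOrder41.RankTwoAction
import Cfsg.Agent.Lib.OddOrder41.Coprime
import Cfsg.Agent.Lib.OddOrder.Transitivity
import Cfsg.Agent.Lib.Coprime.Commutator

/-!
# Solvable groups of odd order acting on a narrow `p`-group

If `R` is a `p`-group (`p` odd) with an element `x` whose centralizer has at most `p²` elements of
order dividing `p`, then every `p'`-element of the derived subgroup of a solvable group of odd order
acting on `R` centralizes `R`.
-/

set_option autoImplicit false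

namespace CfsgLib.OddOrder.NarrowAction

open Subgroup CfsgLib CfsgLib.OddOrder
open scoped commutatorElement

variable {G : Type*} [Group G] [Finite G] {p : ℕ} [hp : Fact p.Prime]

omit hp in
/-- An exponent `p` subgroup detecting all coprime operators, invariant under all operators. -/
theorem exists_detecting [Fact p.Prime] (hp2 : p ≠ 2) {R : Subgroup G} (hR : IsPGroup p R) :
    ∃ Q : Subgroup G, Q ≤ R ∧ (∀ q ∈ Q, q ^ p = 1) ∧
      Subgroup.normalizer (R : Set G) ≤ Subgroup.normalizer (Q : Set G) ∧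
      ∀ a ∈ Subgroup.normalizer (R : Set G), (orderOf a).Coprime p →
        (∀ q ∈ Q, a * q = q * a) → ∀ r ∈ R, a * r = r * a := by
  obtain ⟨C, hCc, hCC, hC1, hC2⟩ := CfsgLib.PGroup.exists_critical hR
  have hpodd : Odd p := (Fact.out : p.Prime).odd_of_ne_two hp2
  have hcenC : ∀ x ∈ C, ∀ y ∈ C, ∀ c ∈ C, ⁅x, y⁆ * c = c * ⁅x, y⁆ := fun x _ y hy c hc =>
    ((Subgroup.mem_centralizer_iff.mp (hC1 x y hy).2) c hc).symm
  have hmulpow : ∀ x ∈ C, ∀ y ∈ C, x ^ p = 1 → y ^ p = 1 → (x * y) ^ p = 1 := by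
    intro x hx y hy hxp hyp
    have hc : ⁅(⟨y, hy⟩ : C), ⟨x, hx⟩⁆ ∈ Subgroup.center C := by
      rw [Subgroup.mem_center_iff]
      intro c
      apply Subtype.ext
      exact (hcenC y hy x hx c c.2).symm
    have := CfsgLib.PGroup.mul_pow_eq_one_of_central (x := (⟨x, hx⟩ : C)) hpodd hc
      (Subtype.ext (by simpa using hxp)) (Subtype.ext (by simpa using hyp))
    simpa using congrArg Subtype.val this
  let Q₀ : Subgroup R :=
    { carrier := {x | x ∈ C ∧ x ^ p = 1}
      one_mem' := ⟨C.one_mem, one_pow p⟩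
      mul_mem' := fun ha hb => ⟨C.mul_mem ha.1 hb.1, hmulpow _ ha.1 _ hb.1 ha.2 hb.2⟩
      inv_mem' := fun ha => ⟨C.inv_mem ha.1, by rw [inv_pow, ha.2, inv_one]⟩ }
  have hC : ∀ a ∈ Subgroup.normalizer (R : Set G), ∀ g ∈ C.map R.subtype,
      a * g * a⁻¹ ∈ C.map R.subtype := by
    rintro a ha _ ⟨x, hx, rfl⟩
    have := hCc.fixed (OddOrder41.conjHom R (Subgroup.normalizer (R : Set G)) le_rfl ⟨a, ha⟩)
    rw [← this] at hx
    exact ⟨_, hx, rfl⟩
  refine ⟨Q₀.map R.subtype, Subgroup.map_subtype_le _, ?_, ?_, ?_⟩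
  · rintro _ ⟨x, hx, rfl⟩
    exact congrArg Subtype.val hx.2
  · intro a ha
    rw [Subgroup.mem_normalizer_iff]
    have key : ∀ b ∈ Subgroup.normalizer (R : Set G), ∀ g ∈ Q₀.map R.subtype,
        b * g * b⁻¹ ∈ Q₀.map R.subtype := by
      rintro b hb _ ⟨x, hx, rfl⟩
      obtain ⟨y, hy, hye⟩ := hC b hb _ ⟨x, hx.1, rfl⟩
      refine ⟨y, ⟨hy, Subtype.ext ?_⟩, hye⟩
      have hxp : (x : G) ^ p = 1 := congrArg Subtype.val hx.2
      show (y : G) ^ p = 1
      rw [show (y : G) = b * (x : G) * b⁻¹ from hye, conj_pow, hxp, mul_one, mul_inv_cancel]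
    refine fun g => ⟨key a ha g, fun hg => ?_⟩
    have := key a⁻¹ (inv_mem ha) _ hg
    simpa [mul_assoc] using this
  · intro a ha hcop hfix
    refine OddOrder41.fixes_of_fixes_self_centralizing R hR a ha hcop C hCC fun c hc => ?_
    refine OddOrder41.fixes_of_fixes_exponent_p hp2 a hcop _ (C.map R.subtype) rfl
      (hR.to_le (Subgroup.map_subtype_le C)) (hC a ha) ?_ (c : G) ⟨c, hc, rfl⟩
    rintro _ ⟨x, hx, rfl⟩ hxp
    exact hfix _ ⟨x, ⟨hx, Subtype.ext hxp⟩, rfl⟩

omit hp in
/-- The commutator map bounds `|U : [U,R]|` by the centralizer of a single element. -/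
theorem card_le_mul {U D : Subgroup G} {x : G} (hD : ∀ u ∈ U, ⁅u, x⁆ ∈ D) :
    Nat.card U ≤ Nat.card ↥(U ⊓ Subgroup.centralizer ({x} : Set G)) * Nat.card D := by
  set S := (U ⊓ Subgroup.centralizer ({x} : Set G)).subgroupOf U with hS
  have hcS : Nat.card S = Nat.card ↥(U ⊓ Subgroup.centralizer ({x} : Set G)) :=
    Nat.card_congr (Subgroup.subgroupOfEquivOfLe inf_le_left).toEquiv
  have hiff : ∀ a b : U, a⁻¹ * b ∈ S ↔ ⁅(a : G), x⁆ = ⁅(b : G), x⁆ := by
    intro a b
    rw [hS, Subgroup.mem_subgroupOf, Subgroup.mem_inf, Subgroup.mem_centralizer_singleton_iff,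
      commutatorElement_def, commutatorElement_def]
    constructor
    · rintro ⟨-, h⟩
      simp only [Subgroup.coe_mul, Subgroup.coe_inv] at h
      calc (a : G) * x * (a : G)⁻¹ * x⁻¹
          = (a : G) * (x * ((a : G)⁻¹ * b)) * ((a : G)⁻¹ * b)⁻¹ * (a : G)⁻¹ * x⁻¹ := by group
        _ = (a : G) * ((a : G)⁻¹ * b * x) * ((a : G)⁻¹ * b)⁻¹ * (a : G)⁻¹ * x⁻¹ := by rw [h]
        _ = (b : G) * x * (b : G)⁻¹ * x⁻¹ := by group
    · intro h
      refine ⟨(a⁻¹ * b : U).2, ?_⟩
      simp only [Subgroup.coe_mul, Subgroup.coe_inv]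
      have h' : (a : G) * x * (a : G)⁻¹ = (b : G) * x * (b : G)⁻¹ := mul_right_cancel h
      calc (a : G)⁻¹ * b * x = (a : G)⁻¹ * ((b : G) * x * (b : G)⁻¹) * b := by group
        _ = (a : G)⁻¹ * ((a : G) * x * (a : G)⁻¹) * b := by rw [h']
        _ = x * ((a : G)⁻¹ * b) := by group
  let f : U ⧸ S → D := fun u => Quotient.liftOn' u (fun a : U => (⟨⁅(a : G), x⁆, hD a a.2⟩ : D))
    (fun a b hab => Subtype.ext ((hiff a b).mp (QuotientGroup.leftRel_apply.mp hab)))
  have hf : Function.Injective f := by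
    intro u v
    induction u using QuotientGroup.induction_on
    induction v using QuotientGroup.induction_on
    intro h
    exact QuotientGroup.eq.mpr ((hiff _ _).mpr (congrArg Subtype.val h))
  rw [Subgroup.card_eq_card_quotient_mul_card_subgroup S, hcS, mul_comm]
  exact Nat.mul_le_mul_left _ (Nat.card_le_card_of_injective f hf)

/-- An element with few centralizing elements of order `p` makes coprime derived operators trivial. -/
theorem commutator_fixes_of_small_centralizer (hp2 : p ≠ 2) (R A : Subgroup G) (hR : IsPGroup p R)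
    {x : G} (hx : x ∈ R)
    (hsmall : ∀ D : Subgroup G, D ≤ R → D ≤ Subgroup.centralizer ({x} : Set G) →
      (∀ y ∈ D, y ^ p = 1) → Nat.card D ≤ p ^ 2)
    (hA : A ≤ Subgroup.normalizer (R : Set G)) (hAs : Group.IsSolvable A) (hAodd : Odd (Nat.card A)) :
    ∀ a ∈ ⁅A, A⁆, (orderOf a).Coprime p → ∀ r ∈ R, a * r = r * a := by
  intro a ha hcop
  have haA : a ∈ A :=
    (Subgroup.commutator_le.mpr fun g hg h hh =>
      A.mul_mem (A.mul_mem (A.mul_mem hg hh) (A.inv_mem hg)) (A.inv_mem hh)) ha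
  have ha' : (⟨a, haA⟩ : A) ∈ commutator A := by
    rw [← Subgroup.map_subtype_commutator] at ha
    obtain ⟨b, hb, hba⟩ := ha
    exact (Subtype.ext hba : b = ⟨a, haA⟩) ▸ hb
  obtain ⟨Q, hQR, hQexp, hNQ, hdet⟩ := exists_detecting hp2 hR
  refine hdet a (hA haA) hcop ?_
  suffices key : ∀ (n : ℕ) (U : Subgroup G), Nat.card U ≤ n → U ≤ R → (∀ y ∈ U, y ^ p = 1) →
      R ≤ Subgroup.normalizer (U : Set G) → A ≤ Subgroup.normalizer (U : Set G) →
      ∀ u ∈ U, a * u = u * a from
    key _ Q le_rfl hQR hQexp (Subgroup.le_normalizer.trans hNQ) (hA.trans hNQ)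
  intro n
  induction n with
  | zero => intro U hU; exact absurd hU (not_le.mpr Nat.card_pos)
  | succ n ih =>
    intro U hUn hUR hUexp hRU hAU
    by_cases hUbot : U = ⊥
    · intro u hu
      rw [hUbot, Subgroup.mem_bot] at hu
      simp [hu]
    set V := ⁅U, R⁆ with hV
    have hlt : V < U := Coprime.commutator_lt_of_isPGroup (hR.to_le hUR) hR hRU hUbot
    have hVU : V ≤ U := hlt.le
    have hRV : R ≤ Subgroup.normalizer (V : Set G) := Coprime.le_normalizer_commutator_right U R
    have hAV : A ≤ Subgroup.normalizer (V : Set G) := fun b hb => by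
      refine Transitivity.mem_normalizer_of_cj_eq ?_
      rw [hV, Transitivity.cj, Subgroup.map_commutator]
      exact congrArg₂ _ (Transitivity.cj_eq_of_mem_normalizer (hAU hb))
        (Transitivity.cj_eq_of_mem_normalizer (hA hb))
    have hVfix : ∀ v ∈ V, a * v = v * a :=
      ih V (Nat.lt_succ_iff.mp (lt_of_lt_of_le (Set.Finite.card_lt_card (Set.toFinite _) hlt) hUn))
        (hVU.trans hUR) (fun y hy => hUexp y (hVU hy)) hRV hAV
    -- the factor `U / V`
    set N : Subgroup U := V.subgroupOf U with hN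
    have hcomm : ∀ g h : U, ⁅g, h⁆ ∈ N := fun g h => Subgroup.mem_subgroupOf.mpr
      (Subgroup.commutator_mem_commutator g.2 (hUR h.2))
    have hNn : N.Normal :=
      (Subgroup.normal_subgroupOf_iff_le_normalizer hVU).mpr (hUR.trans hRV)
    let _ : CommGroup (U ⧸ N) :=
      { (inferInstance : Group (U ⧸ N)) with
        mul_comm := fun u v => by
          induction u using QuotientGroup.induction_on with
          | _ u =>
            induction v using QuotientGroup.induction_on with
            | _ v =>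
              refine commutatorElement_eq_one_iff_mul_comm.mp ?_
              exact (map_commutatorElement (QuotientGroup.mk' N) u v).symm.trans
                ((QuotientGroup.eq_one_iff _).mpr (hcomm u v)) }
    have hW : Nat.card (U ⧸ N) ≤ p ^ 2 := by
      have h1 := card_le_mul (U := U) (D := V) (x := x)
        (fun u hu => Subgroup.commutator_mem_commutator hu hx)
      have h2 := hsmall (U ⊓ Subgroup.centralizer ({x} : Set G)) (inf_le_left.trans hUR) inf_le_right
        (fun y hy => hUexp y hy.1)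
      rw [Subgroup.card_eq_card_quotient_mul_card_subgroup N,
        Nat.card_congr (Subgroup.subgroupOfEquivOfLe hVU).toEquiv] at h1
      exact Nat.le_of_mul_le_mul_right (h1.trans (Nat.mul_le_mul_right _ h2)) Nat.card_pos
    have hWexp : ∀ w : U ⧸ N, w ^ p = 1 := fun w => by
      induction w using QuotientGroup.induction_on with
      | _ u =>
        rw [← QuotientGroup.mk_pow, show u ^ p = 1 from Subtype.ext (hUexp u u.2), QuotientGroup.mk_one]
    have hmap : ∀ b : A, N.map (OddOrder41.conjHom U A hAU b).toMonoidHom = N := by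
      intro b
      ext y
      constructor
      · rintro ⟨z, hz, rfl⟩
        exact (Subgroup.mem_normalizer_iff.mp (hAV b.2) _).mp hz
      · intro hy
        refine ⟨(OddOrder41.conjHom U A hAU b).symm y, ?_, MulEquiv.apply_symm_apply _ _⟩
        show (b : G)⁻¹ * (y : G) * b ∈ V
        exact (Subgroup.mem_normalizer_iff''.mp (hAV b.2) _).mp hy
    let φ : A →* MulAut (U ⧸ N) :=
      { toFun := fun b => QuotientGroup.congr N N (OddOrder41.conjHom U A hAU b) (hmap b)
        map_one' := MulEquiv.ext fun w => by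
          induction w using QuotientGroup.induction_on with
          | _ u => show QuotientGroup.mk _ = _; rw [map_one]; rfl
        map_mul' := fun b c => MulEquiv.ext fun w => by
          induction w using QuotientGroup.induction_on with
          | _ u => show QuotientGroup.mk _ = _; rw [map_mul]; rfl }
    obtain ⟨k, hk⟩ := exists_pow_eq_self_of_coprime (x := a) hcop.symm
    have hφ : φ ⟨a, haA⟩ = 1 := by
      have h1 := OddOrder41.commutator_pow_acts_trivially hp2 hWexp hW hAodd φ _ ha'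
      have e : (⟨a, haA⟩ : A) = ((⟨a, haA⟩ : A) ^ p) ^ k := Subtype.ext (by simpa using hk.symm)
      rw [e, map_pow, h1, one_pow]
    intro u hu
    have hstep : u⁻¹ * (a * u * a⁻¹) ∈ V := by
      have h := congrArg (fun f : MulAut (U ⧸ N) => f (QuotientGroup.mk (⟨u, hu⟩ : U))) hφ
      have h' : (QuotientGroup.mk (OddOrder41.conjHom U A hAU ⟨a, haA⟩ ⟨u, hu⟩) : U ⧸ N) =
          QuotientGroup.mk (⟨u, hu⟩ : U) := h
      exact Subgroup.mem_subgroupOf.mp (QuotientGroup.eq.mp h'.symm)
    refine OddOrder41.fixes_of_step_fixed (H := V) ?_ hstep (by group) ?_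
    · obtain ⟨m, hm⟩ := (hR.to_le (hVU.trans hUR)).exists_card_eq
      rw [hm]
      exact hcop.pow_right m
    · rw [hVfix _ hstep, mul_inv_cancel_right]

omit [Finite G] in
theorem small_centralizer_of_narrow [Finite G] {R : Subgroup G} (hn : Cfsg.IsNarrow p R)
    (hr : ¬ Cfsg.PRankLE p 2 R) :
    ∃ x ∈ R, ∀ D : Subgroup G, D ≤ R → D ≤ Subgroup.centralizer ({x} : Set G) →
      (∀ y ∈ D, y ^ p = 1) → Nat.card D ≤ p ^ 2 := by
  classical
  rcases hn with h | ⟨R₀, R₁, h0, h1, -, hcomm, hsup⟩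
  · exact absurd h hr
  have : IsCyclic R₀ := isCyclic_of_prime_card h0
  obtain ⟨g, hg⟩ := IsCyclic.exists_generator (α := R₀)
  refine ⟨((g : R) : G), (g : R).2, fun D hDR hDc hDp => ?_⟩
  have hle : D.subgroupOf R ≤ R₀ ⊔ R₁ := by
    rw [hsup]
    intro d hd
    rw [Subgroup.mem_centralizer_iff]
    intro b hb
    obtain ⟨k, hk⟩ := Subgroup.mem_zpowers_iff.mp (hg ⟨b, hb⟩)
    have hb' : (g : R) ^ k = b := congrArg Subtype.val hk
    rw [← hb']
    refine (Commute.zpow_left (Subtype.ext ?_) k).eq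
    exact (Subgroup.mem_centralizer_singleton_iff.mp (hDc hd)).symm
  have hnorm : R₁ ≤ Subgroup.normalizer (R₀ : Set R) :=
    le_trans (fun b hb => Subgroup.mem_centralizer_iff.mpr fun a ha => hcomm a ha b hb)
      (Subgroup.centralizer_le_normalizer (R₀ : Set R))
  have hdec : ∀ d : D.subgroupOf R, ∃ a ∈ R₀, ∃ b : {b : R₁ // b ^ p = 1},
      a * ((b : R₁) : R) = d := by
    intro d
    have hd : (d : R) ∈ ((R₀ ⊔ R₁ : Subgroup R) : Set R) := hle d.2
    rw [Subgroup.coe_mul_of_right_le_normalizer_left R₀ R₁ hnorm] at hd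
    obtain ⟨a, ha, b, hb, hab⟩ := Set.mem_mul.mp hd
    refine ⟨a, ha, ⟨⟨b, hb⟩, Subtype.ext ?_⟩, hab⟩
    have hap : a ^ p = 1 := by
      have := pow_card_eq_one' (x := (⟨a, ha⟩ : R₀))
      rw [h0] at this
      exact congrArg Subtype.val this
    have hdp : (d : R) ^ p = 1 := Subtype.ext (hDp _ d.2)
    rw [← hab, Commute.mul_pow (hcomm a ha b hb), hap, one_mul] at hdp
    exact hdp
  choose a ha b hb using hdec
  have hinj : Function.Injective (fun d => ((⟨a d, ha d⟩ : R₀), b d)) := fun d e h => by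
    simp only [Prod.mk.injEq, Subtype.mk.injEq] at h
    exact Subtype.ext (by rw [← hb d, ← hb e, h.1, h.2])
  have hb1 : Nat.card {b : R₁ // b ^ p = 1} ≤ p := by
    have := Fintype.ofFinite R₁
    rw [Nat.card_eq_fintype_card, Fintype.card_subtype]
    exact IsCyclic.card_pow_eq_one_le hp.out.pos
  calc Nat.card D = Nat.card (D.subgroupOf R) :=
        (Nat.card_congr (Subgroup.subgroupOfEquivOfLe hDR).toEquiv).symm
    _ ≤ Nat.card (R₀ × {b : R₁ // b ^ p = 1}) := Nat.card_le_card_of_injective _ hinj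
    _ ≤ p ^ 2 := by rw [Nat.card_prod, h0, sq]; exact Nat.mul_le_mul_left _ hb1

/-- BG 5.5 core: `p'`-elements of `A'` centralize a narrow `p`-group normalized by `A`. -/
theorem narrow_commutator_fixes (hp2 : p ≠ 2) (R A : Subgroup G) (hR : IsPGroup p R)
    (hn : Cfsg.IsNarrow p R) (hA : A ≤ Subgroup.normalizer (R : Set G)) (hAs : Group.IsSolvable A)
    (hAodd : Odd (Nat.card A)) :
    ∀ a ∈ ⁅A, A⁆, (orderOf a).Coprime p → ∀ r ∈ R, a * r = r * a := by
  by_cases hr : Cfsg.PRankLE p 2 R
  · exact OddOrder41.rank_two_commutator_fixes hp2 R A hR hr hA hAs hAodd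
  obtain ⟨x, hx, hsmall⟩ := small_centralizer_of_narrow hn hr
  exact commutator_fixes_of_small_centralizer hp2 R A hR hx hsmall hA hAs hAodd

end CfsgLib.OddOrder.NarrowAction
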