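import Mathlib.FieldTheory.Finite.GaloisField
import Mathlib.FieldTheory.Finite.Trace
import Mathlib.RingTheory.Norm.Basic

/-!
The set `{a | N a = 1 ∧ N (2 - a) = 1}` in `GF(p^q)`: closed under inversion forces `p ≤ q` as soon as it has
an element other than `1` (BG Appendix C).
-/

set_option autoImplicit false

namespace CfsgLib.OddOrder.NormPair

open Polynomial

variable (p q : ℕ) [Fact p.Prime]

/-- The norm-one pairs. -/
def pairSet : Set (GaloisField p q) :=
  {a | Algebra.norm (ZMod p) a = 1 ∧ Algebra.norm (ZMod p) (2 - a) = 1}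

theorem norm_one_sub_nat_mul {a : GaloisField p q} (ha : a ∈ pairSet p q)
    (hinv : ∀ b ∈ pairSet p q, b⁻¹ ∈ pairSet p q) (n : ℕ) :
    Algebra.norm (ZMod p) (1 - (n : GaloisField p q) * (a - 1)) = 1 ∧
      ∃ b ∈ pairSet p q, b * (1 - (n : GaloisField p q) * (a - 1)) = 1 - ((n : GaloisField p q) - 1) * (a - 1) := by
  induction n with
  | zero => exact ⟨by simp, a, ha, by push_cast; ring⟩
  | succ n ih =>
    obtain ⟨hn, b, hb, e⟩ := ih
    have e2 : (2 - b) * (1 - (n : GaloisField p q) * (a - 1))
        = 1 - ((n : GaloisField p q) + 1) * (a - 1) := by linear_combination -e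
    have hnext : Algebra.norm (ZMod p) (1 - ((n : GaloisField p q) + 1) * (a - 1)) = 1 := by
      rw [← e2, map_mul, hb.2, hn, one_mul]
    have hb' : (2 - b) ∈ pairSet p q := ⟨hb.2, by rw [sub_sub_cancel]; exact hb.1⟩
    have hne : (2 - b) ≠ 0 := by
      intro h0
      have := hb.2
      rw [h0, Algebra.norm_zero] at this
      exact zero_ne_one this
    refine ⟨by push_cast; exact hnext, (2 - b)⁻¹, hinv _ hb', ?_⟩
    push_cast
    rw [← e2, inv_mul_cancel_left₀ hne]
    ring

theorem le_of_inv_closed [Fact q.Prime] (hinv : ∀ b ∈ pairSet p q, b⁻¹ ∈ pairSet p q)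
    {a : GaloisField p q} (ha : a ∈ pairSet p q) (ha1 : a ≠ 1) : p ≤ q := by
  classical
  have hq0 : q ≠ 0 := (Fact.out : q.Prime).ne_zero
  set c := a - 1 with hc
  have hc0 : c ≠ 0 := sub_ne_zero.mpr ha1
  set P : (GaloisField p q)[X] :=
    ∏ σ : GaloisField p q ≃ₐ[ZMod p] GaloisField p q, (C (-σ c) * X + C 1) with hP
  have hne : ∀ σ : GaloisField p q ≃ₐ[ZMod p] GaloisField p q, -σ c ≠ 0 := fun σ => by simp [hc0]
  have hdeg : P.natDegree = q := by
    rw [hP, natDegree_prod _ _ (fun σ _ => ne_zero_of_natDegree_gt (n := 0) (by rw [natDegree_linear (hne σ)]; exact one_pos))]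
    rw [Finset.sum_congr rfl (fun σ _ => natDegree_linear (hne σ))]
    simp [← Nat.card_eq_fintype_card, IsGalois.card_aut_eq_finrank, GaloisField.finrank p hq0]
  have hQ : (P - C 1).natDegree = q := by rw [natDegree_sub_C, hdeg]
  have heval : ∀ k : ZMod p, (P - C 1).eval (algebraMap (ZMod p) (GaloisField p q) k) = 0 := by
    intro k
    have hk : algebraMap (ZMod p) (GaloisField p q) k = (k.val : GaloisField p q) := by
      conv_lhs => rw [← ZMod.natCast_zmod_val k]
      rw [map_natCast]
    rw [eval_sub, eval_C, sub_eq_zero, hP, eval_prod]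
    have h1 := (norm_one_sub_nat_mul p q ha hinv k.val).1
    have h2 := Algebra.norm_eq_prod_automorphisms (ZMod p) (1 - (k.val : GaloisField p q) * c)
    rw [← hc] at h1
    rw [h1, map_one] at h2
    refine Eq.trans ?_ h2.symm
    refine Finset.prod_congr rfl fun σ _ => ?_
    rw [hk]
    simp only [eval_add, eval_mul, eval_C, eval_X, eval_one, map_sub, map_one, map_mul, map_natCast]
    ring
  by_contra hlt
  have hz := eq_zero_of_natDegree_lt_card_of_eval_eq_zero (P - C 1)
    (algebraMap (ZMod p) (GaloisField p q)).injective heval (by rw [hQ, ZMod.card]; omega)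
  rw [hz, natDegree_zero] at hQ
  exact hq0 hQ.symm

end CfsgLib.OddOrder.NormPair
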