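import Mathlib

/-!
# Two norm-one pairs in `GF(p^q)` (BG Appendix C)

For `q = 3` an explicit cubic, for `q ≥ 5` a character sum estimate.
-/

set_option autoImplicit false

namespace CfsgLib.OddOrder.NormPairExists

open Finset
open scoped ComplexConjugate

variable {p : ℕ} [hp : Fact p.Prime] {F : Type*} [Field F] [Fintype F] [Algebra (ZMod p) F]

theorem finrank_eq {q : ℕ} (hF : Fintype.card F = p ^ q) : Module.finrank (ZMod p) F = q := by
  have h := Module.card_eq_pow_finrank (K := ZMod p) (V := F)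
  rw [hF, ZMod.card] at h
  exact (Nat.pow_right_injective hp.out.two_le h).symm

theorem norm_eq_pow {q : ℕ} (hF : Fintype.card F = p ^ q) (t : ZMod p) :
    Algebra.norm (ZMod p) (algebraMap (ZMod p) F t) = t ^ ((p ^ q - 1) / (p - 1)) := by
  refine (algebraMap (ZMod p) F).injective ?_
  rw [FiniteField.algebraMap_norm_eq_pow_sum, finrank_eq hF, Nat.card_zmod, map_pow,
    Nat.geomSum_eq hp.out.two_le]

section split

variable [DecidableEq F] {q : ℕ}

/-- The norm-one elements. -/
noncomputable def normOne (p : ℕ) [Fact p.Prime] (F : Type*) [Field F] [Fintype F] [DecidableEq F]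
    [Algebra (ZMod p) F] : Finset F :=
  Finset.univ.filter fun x => Algebra.norm (ZMod p) x = 1

theorem mem_normOne {x : F} : x ∈ normOne p F ↔ Algebra.norm (ZMod p) x = 1 := by
  simp [normOne]

theorem pow_injective (hA : Nat.Coprime ((p ^ q - 1) / (p - 1)) (p - 1)) :
    Function.Bijective fun t : (ZMod p)ˣ => t ^ ((p ^ q - 1) / (p - 1)) := by
  have h : (Nat.card (ZMod p)ˣ).Coprime ((p ^ q - 1) / (p - 1)) := by
    rw [Nat.card_eq_fintype_card, ZMod.card_units]
    exact hA.symm
  exact (powCoprime h).bijective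

theorem sum_nonzero {M : Type*} [AddCommMonoid M] (hF : Fintype.card F = p ^ q)
    (hA : Nat.Coprime ((p ^ q - 1) / (p - 1)) (p - 1)) (g : F → M) :
    ∑ c ∈ Finset.univ.erase (0 : F), g c
      = ∑ t : (ZMod p)ˣ, ∑ u ∈ normOne p F, g (algebraMap (ZMod p) F t * u) := by
  rw [← Finset.sum_product']
  symm
  refine Finset.sum_bij (fun x _ => algebraMap (ZMod p) F (x.1 : ZMod p) * x.2) ?_ ?_ ?_ ?_
  · rintro ⟨t, u⟩ h
    rw [Finset.mem_product, mem_normOne] at h
    refine Finset.mem_erase.2 ⟨mul_ne_zero ?_ ?_, Finset.mem_univ _⟩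
    · exact (map_ne_zero _).2 t.ne_zero
    · intro h0
      rw [show u = 0 from h0, Algebra.norm_zero] at h
      exact zero_ne_one h.2
  · rintro ⟨t, u⟩ h ⟨t', u'⟩ h' e
    rw [Finset.mem_product, mem_normOne] at h h'
    have hn := congrArg (Algebra.norm (ZMod p)) e
    simp only [map_mul, norm_eq_pow hF, h.2, h'.2, mul_one] at hn
    obtain rfl : t = t' := (pow_injective hA).injective (Units.ext (by simpa using hn))
    exact Prod.ext rfl (mul_left_cancel₀ ((map_ne_zero _).2 t.ne_zero) e)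
  · intro c hc
    have hc0 : c ≠ 0 := (Finset.mem_erase.1 hc).1
    have hN : Algebra.norm (ZMod p) c ≠ 0 := Algebra.norm_ne_zero_iff.2 hc0
    obtain ⟨t, ht⟩ := (pow_injective hA).surjective (Units.mk0 _ hN)
    have ht0 : algebraMap (ZMod p) F (t : ZMod p) ≠ 0 := (map_ne_zero _).2 t.ne_zero
    refine ⟨(t, (algebraMap (ZMod p) F (t : ZMod p))⁻¹ * c), ?_, mul_inv_cancel_left₀ ht0 c⟩
    rw [Finset.mem_product, mem_normOne]
    refine ⟨Finset.mem_univ _, mul_left_cancel₀ (t.ne_zero : (t : ZMod p) ≠ 0) ?_⟩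
    have e : Algebra.norm (ZMod p) (algebraMap (ZMod p) F (t : ZMod p))
        * Algebra.norm (ZMod p) ((algebraMap (ZMod p) F (t : ZMod p))⁻¹ * c) = Algebra.norm (ZMod p) c := by
      rw [← map_mul, mul_inv_cancel_left₀ ht0]
    have ht' : (t : ZMod p) ^ ((p ^ q - 1) / (p - 1)) = Algebra.norm (ZMod p) c := by
      simpa using congrArg Units.val ht
    rw [norm_eq_pow hF, ht'] at e
    rw [mul_one, show Algebra.norm (ZMod p) ((algebraMap (ZMod p) F (t : ZMod p))⁻¹ * c) = 1 from
      mul_left_cancel₀ hN (e.trans (mul_one _).symm), mul_one]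
  · intro x _
    rfl

theorem card_normOne (hF : Fintype.card F = p ^ q) (hA : Nat.Coprime ((p ^ q - 1) / (p - 1)) (p - 1)) :
    (normOne p F).card * (p - 1) + 1 = p ^ q := by
  have h := sum_nonzero hF hA (fun _ => (1 : ℕ))
  simp only [Finset.sum_const, smul_eq_mul, mul_one, Finset.card_univ, ZMod.card_units] at h
  rw [Finset.card_erase_of_mem (Finset.mem_univ _), Finset.card_univ, hF] at h
  rw [mul_comm, ← h]
  exact Nat.sub_add_cancel (Nat.one_le_pow _ _ hp.out.pos)

end split

theorem two_le_large {q : ℕ} (hp2 : p ≠ 2) (hq : 5 ≤ q) (hF : Fintype.card F = p ^ q)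
    (hA : Nat.Coprime ((p ^ q - 1) / (p - 1)) (p - 1)) :
    2 ≤ Set.ncard {a : F | Algebra.norm (ZMod p) a = 1 ∧ Algebra.norm (ZMod p) (2 - a) = 1} := by
  classical
  let U := normOne p F
  let A := U.filter fun u => 2 - u ∈ U
  have hset : {a : F | Algebra.norm (ZMod p) a = 1 ∧ Algebra.norm (ZMod p) (2 - a) = 1} = (A : Set F) := by
    ext a
    simp [A, U, mem_normOne]
  rw [hset, Set.ncard_coe_finset]
  by_contra hlt
  push Not at hlt
  let ψ : AddChar F ℂ := AddChar.FiniteField.primitiveChar_to_Complex F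
  have hψ : ψ.IsPrimitive := AddChar.FiniteField.primitiveChar_to_Complex_isPrimitive F
  let S : F → ℂ := fun c => ∑ u ∈ U, ψ (c * u)
  have hSU : ∀ c, ∀ w ∈ U, S (c * w) = S c := by
    intro c w hw
    have hw1 : Algebra.norm (ZMod p) w = 1 := mem_normOne.1 hw
    have hw0 : w ≠ 0 := fun h0 => by simp [h0] at hw1
    refine Finset.sum_bij (fun u _ => w * u) ?_ ?_ ?_ ?_
    · intro u hu
      rw [mem_normOne, map_mul, hw1, mem_normOne.1 hu, mul_one]
    · intro u _ u' _ e
      exact mul_left_cancel₀ hw0 e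
    · intro u hu
      refine ⟨w⁻¹ * u, ?_, mul_inv_cancel_left₀ hw0 u⟩
      rw [mem_normOne]
      have h1 : Algebra.norm (ZMod p) (w * (w⁻¹ * u)) = Algebra.norm (ZMod p) u := by
        rw [mul_inv_cancel_left₀ hw0]
      rwa [map_mul, hw1, one_mul, mem_normOne.1 hu] at h1
    · intro u _
      rw [mul_assoc]
  have horth : ∀ b : F, ∑ c : F, ψ (c * b) = if b = 0 then ((Fintype.card F : ℕ) : ℂ) else 0 := by
    intro b
    rw [AddChar.sum_mulShift b hψ]
    split_ifs <;> simp
  -- Parseval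
  have hpars : ∑ c : F, S c * conj (S c) = ((Fintype.card F : ℕ) : ℂ) * U.card := by
    calc ∑ c : F, S c * conj (S c) = ∑ c : F, ∑ u ∈ U, ∑ v ∈ U, ψ (c * (u - v)) := by
          refine Finset.sum_congr rfl fun c _ => ?_
          simp only [S, map_sum, Finset.sum_mul, Finset.mul_sum]
          try rw [Finset.sum_comm]
          refine Finset.sum_congr rfl fun u _ => Finset.sum_congr rfl fun v _ => ?_
          rw [← AddChar.map_neg_eq_conj, ← AddChar.map_add_eq_mul, ← sub_eq_add_neg, mul_sub]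
      _ = ∑ u ∈ U, ∑ v ∈ U, ∑ c : F, ψ (c * (u - v)) := by
          rw [Finset.sum_comm]
          exact Finset.sum_congr rfl fun u _ => Finset.sum_comm
      _ = ∑ u ∈ U, ((Fintype.card F : ℕ) : ℂ) := by
          refine Finset.sum_congr rfl fun u hu => ?_
          simp only [horth, sub_eq_zero]
          rw [Finset.sum_ite_eq, if_pos hu]
      _ = _ := by rw [Finset.sum_const, nsmul_eq_mul, mul_comm]
  have hcount : ∑ c : F, S c * S c * ψ (c * (-2)) = ((Fintype.card F : ℕ) : ℂ) * A.card := by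
    calc ∑ c : F, S c * S c * ψ (c * (-2)) = ∑ c : F, ∑ u ∈ U, ∑ v ∈ U, ψ (c * (u + v - 2)) := by
          refine Finset.sum_congr rfl fun c _ => ?_
          simp only [S, Finset.sum_mul, Finset.mul_sum]
          rw [Finset.sum_comm]
          refine Finset.sum_congr rfl fun u _ => Finset.sum_congr rfl fun v _ => ?_
          rw [← AddChar.map_add_eq_mul, ← AddChar.map_add_eq_mul]
          congr 1
          ring
      _ = ∑ u ∈ U, ∑ v ∈ U, ∑ c : F, ψ (c * (u + v - 2)) := by
          rw [Finset.sum_comm]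
          exact Finset.sum_congr rfl fun u _ => Finset.sum_comm
      _ = ∑ u ∈ U, if 2 - u ∈ U then ((Fintype.card F : ℕ) : ℂ) else 0 := by
          refine Finset.sum_congr rfl fun u _ => ?_
          have e : ∀ v : F, (u + v - 2 = 0) ↔ (2 - u = v) := fun v =>
            ⟨fun h => by linear_combination -h, fun h => by linear_combination -h⟩
          simp only [horth, e]
          rw [Finset.sum_ite_eq]
      _ = _ := by
          rw [← Finset.sum_filter, Finset.sum_const, nsmul_eq_mul, mul_comm]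
  -- split both sums along the cosets of the norm-one group
  let T : (ZMod p)ˣ → F := fun t => algebraMap (ZMod p) F (t : ZMod p)
  let Q : ℝ := (Fintype.card F : ℕ)
  let k : ℝ := U.card
  have hS0 : S 0 = (U.card : ℂ) := by simp [S]
  have hsq : (∑ t : (ZMod p)ˣ, ‖S (T t)‖ ^ 2) * k + k ^ 2 = Q * k := by
    have h1 : (∑ c : F, ‖S c‖ ^ 2) = Q * k := by
      have h2 : ((∑ c : F, ‖S c‖ ^ 2 : ℝ) : ℂ) = ((Q * k : ℝ) : ℂ) := by
        rw [Complex.ofReal_sum]
        simp only [Complex.ofReal_pow, ← Complex.mul_conj', hpars, Q, k, Complex.ofReal_mul,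
          Complex.ofReal_natCast]
      exact Complex.ofReal_injective h2
    rw [← Finset.add_sum_erase _ _ (Finset.mem_univ (0 : F)), sum_nonzero hF hA, hS0] at h1
    have h3 : ∀ t : (ZMod p)ˣ, ∑ u ∈ U, ‖S (T t * u)‖ ^ 2 = ‖S (T t)‖ ^ 2 * k := by
      intro t
      rw [Finset.sum_congr rfl (fun u hu => by rw [hSU (T t) u hu]), Finset.sum_const,
        nsmul_eq_mul, mul_comm]
    rw [Finset.sum_congr rfl (fun t _ => h3 t), Complex.norm_natCast, ← Finset.sum_mul] at h1
    linarith
  have hcard : U.card * (p - 1) + 1 = p ^ q := card_normOne hF hA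
  have hp1 : 1 < p := hp.out.one_lt
  have hk1 : 1 ≤ U.card := Finset.card_pos.2 ⟨1, mem_normOne.2 (map_one _)⟩
  have hk : (1 : ℝ) ≤ k := Nat.one_le_cast.2 hk1
  have hsum : ∑ t : (ZMod p)ˣ, ‖S (T t)‖ ^ 2 ≤ Q := by nlinarith
  have hQ0 : 0 ≤ Q := Nat.cast_nonneg _
  have hmax : ∀ t : (ZMod p)ˣ, ‖S (T t)‖ ≤ Real.sqrt Q := fun t =>
    Real.le_sqrt_of_sq_le ((Finset.single_le_sum (f := fun t => ‖S (T t)‖ ^ 2)
      (fun i _ => sq_nonneg _) (Finset.mem_univ t)).trans hsum)
  have htwo : (2 : ZMod p) ≠ 0 := by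
    rw [show (2 : ZMod p) = ((2 : ℕ) : ZMod p) by norm_cast, Ne, ZMod.natCast_eq_zero_iff]
    exact fun hd => hp2 ((Nat.prime_dvd_prime_iff_eq hp.out Nat.prime_two).1 hd)
  have hmain : k ^ 2 ≤ Q * A.card + Q * Real.sqrt Q := by
    have h1 := hcount
    rw [← Finset.add_sum_erase _ _ (Finset.mem_univ (0 : F)), sum_nonzero hF hA, hS0] at h1
    have h3 : ∀ t : (ZMod p)ˣ, ∑ u ∈ U, S (T t * u) * S (T t * u) * ψ (T t * u * (-2))
        = S (T t) * S (T t) * S (T (t * Units.mk0 (-2) (neg_ne_zero.2 htwo))) := by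
      intro t
      have e : T (t * Units.mk0 (-2) (neg_ne_zero.2 htwo)) = T t * (-2) := by
        simp [T, map_ofNat]
      rw [e]
      conv_rhs => rw [show S (T t * -2) = ∑ u ∈ U, ψ (T t * -2 * u) from rfl, Finset.mul_sum]
      refine Finset.sum_congr rfl fun u hu => ?_
      rw [hSU _ u hu, mul_right_comm (T t) u (-2)]
    rw [Finset.sum_congr rfl (fun t _ => h3 t)] at h1
    simp only [zero_mul, AddChar.map_zero_eq_one, mul_one] at h1
    have h4 : ((U.card : ℂ) * U.card) = ((Fintype.card F : ℕ) : ℂ) * A.card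
        - ∑ t : (ZMod p)ˣ, S (T t) * S (T t) * S (T (t * Units.mk0 (-2) (neg_ne_zero.2 htwo))) := by
      linear_combination h1
    have h5 := congrArg norm h4
    rw [norm_mul, Complex.norm_natCast] at h5
    have h6 : ‖∑ t : (ZMod p)ˣ, S (T t) * S (T t) * S (T (t * Units.mk0 (-2) (neg_ne_zero.2 htwo)))‖
        ≤ Q * Real.sqrt Q := by
      refine (norm_sum_le _ _).trans ?_
      calc _ ≤ ∑ t : (ZMod p)ˣ, ‖S (T t)‖ ^ 2 * Real.sqrt Q := Finset.sum_le_sum fun t _ => by
            rw [norm_mul, norm_mul, ← sq]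
            exact mul_le_mul_of_nonneg_left (hmax _) (sq_nonneg _)
        _ ≤ _ := by
            rw [← Finset.sum_mul]
            exact mul_le_mul_of_nonneg_right hsum (Real.sqrt_nonneg _)
    have h7 := norm_sub_le (((Fintype.card F : ℕ) : ℂ) * A.card)
      (∑ t : (ZMod p)ˣ, S (T t) * S (T t) * S (T (t * Units.mk0 (-2) (neg_ne_zero.2 htwo))))
    rw [← h5, norm_mul, Complex.norm_natCast, Complex.norm_natCast] at h7
    calc k ^ 2 = k * k := sq k
      _ ≤ _ := h7.trans (add_le_add le_rfl h6)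
  -- numerical contradiction
  have hA1 : (A.card : ℝ) ≤ 1 := by exact_mod_cast Nat.lt_succ_iff.1 hlt
  let s := Real.sqrt Q
  have hs2 : s ^ 2 = Q := Real.sq_sqrt hQ0
  have hQk : Q ≤ k * p := by
    have : p ^ q ≤ U.card * p := by
      have e : U.card * (p - 1) + U.card = U.card * p := by
        rw [← Nat.mul_succ]; congr 1; omega
      have := hcard
      have := hk1
      omega
    simp only [Q, k, hF]
    exact_mod_cast this
  have hp3 : (3 : ℝ) ≤ p := by
    have := hp.out.two_le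
    exact_mod_cast (show 3 ≤ p by omega)
  have hQ5 : (p : ℝ) ^ 5 ≤ Q := by
    simp only [Q, hF]
    push_cast
    exact pow_le_pow_right₀ (by linarith) hq
  have hQpos : 0 < Q := lt_of_lt_of_le (by positivity) hQ5
  have h8 : Q * Q ≤ (p : ℝ) ^ 2 * (Q * (1 + s)) := by
    calc Q * Q ≤ (k * p) * (k * p) := mul_le_mul hQk hQk hQ0 (by positivity)
      _ = (p : ℝ) ^ 2 * k ^ 2 := by ring
      _ ≤ (p : ℝ) ^ 2 * (Q * (1 + s)) := by
          refine mul_le_mul_of_nonneg_left (hmain.trans ?_) (sq_nonneg _)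
          have : Q * (A.card : ℝ) ≤ Q * 1 := mul_le_mul_of_nonneg_left hA1 hQ0
          show _ ≤ Q * (1 + Real.sqrt Q)
          linarith
  have h9 : s ^ 2 ≤ (p : ℝ) ^ 2 * (1 + s) := by
    rw [hs2]
    exact le_of_mul_le_mul_left (by linarith) hQpos
  have h10 : s ≤ (p : ℝ) ^ 2 + 1 := by nlinarith [Real.sqrt_nonneg Q]
  have h11 : s ^ 2 ≤ ((p : ℝ) ^ 2 + 1) ^ 2 := pow_le_pow_left₀ (Real.sqrt_nonneg Q) h10 2
  have h12 : 3 * (p : ℝ) ^ 4 ≤ Q := le_trans (by nlinarith [pow_nonneg (show (0:ℝ) ≤ p by linarith) 4]) hQ5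
  have hp9 : (9 : ℝ) ≤ (p : ℝ) ^ 2 := le_trans (by norm_num) (pow_le_pow_left₀ (by norm_num) hp3 2)
  nlinarith [mul_le_mul_of_nonneg_left hp9 (sq_nonneg (p : ℝ))]

section cubic

open Polynomial

omit [Fintype F] in
theorem norm_sub_gen (pb : PowerBasis (ZMod p) F) (c : ZMod p) :
    Algebra.norm (ZMod p) (algebraMap (ZMod p) F c - pb.gen) = (minpoly (ZMod p) pb.gen).eval c := by
  classical
  rw [Algebra.norm_eq_matrix_det pb.basis, map_sub, AlgHom.commutes, ← charpoly_leftMulMatrix pb,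
    Matrix.eval_charpoly]
  rfl

theorem two_le_three (hp2 : p ≠ 2) (hF : Fintype.card F = p ^ 3) :
    2 ≤ Set.ncard {a : F | Algebra.norm (ZMod p) a = 1 ∧ Algebra.norm (ZMod p) (2 - a) = 1} := by
  classical
  have htwo : (2 : ZMod p) ≠ 0 := by
    rw [show (2 : ZMod p) = ((2 : ℕ) : ZMod p) by norm_cast, Ne, ZMod.natCast_eq_zero_iff]
    exact fun hd => hp2 ((Nat.prime_dvd_prime_iff_eq hp.out Nat.prime_two).1 hd)
  -- a parameter for which the cubic has no root
  let g : ZMod p → ZMod p := fun x => (x ^ 3 - 3 * x - 1) / (x ^ 2 - 2 * x)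
  obtain ⟨a, ha⟩ : ∃ a : ZMod p, a ∉ (((Finset.univ : Finset (ZMod p)).erase 0).erase 2).image g := by
    by_contra h
    push Not at h
    have h1 : (Finset.univ : Finset (ZMod p)).card ≤ (((Finset.univ : Finset (ZMod p)).erase 0).erase 2).card :=
      (Finset.card_le_card fun x _ => h x).trans Finset.card_image_le
    rw [Finset.card_erase_of_mem (Finset.mem_erase.2 ⟨htwo, Finset.mem_univ _⟩),
      Finset.card_erase_of_mem (Finset.mem_univ _)] at h1
    have h2 : 0 < (Finset.univ : Finset (ZMod p)).card := Finset.card_pos.2 ⟨0, Finset.mem_univ _⟩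
    omega
  let f : (ZMod p)[X] := X ^ 3 - Polynomial.C a * X ^ 2 + Polynomial.C (2 * a - 3) * X - 1
  have heval : ∀ x, f.eval x = x ^ 3 - a * x ^ 2 + (2 * a - 3) * x - 1 := fun x => by simp [f]
  have hroot : ∀ x, f.eval x ≠ 0 := by
    intro x hx
    rw [heval] at hx
    by_cases h0 : x = 0
    · subst h0
      norm_num at hx
    by_cases h2 : x = 2
    · subst h2
      exact one_ne_zero (α := ZMod p) (by linear_combination hx)
    · refine ha (Finset.mem_image.2 ⟨x, by simp [h0, h2], ?_⟩)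
      show (x ^ 3 - 3 * x - 1) / (x ^ 2 - 2 * x) = a
      rw [div_eq_iff (by
        rw [show x ^ 2 - 2 * x = x * (x - 2) by ring]
        exact mul_ne_zero h0 (sub_ne_zero.2 h2))]
      linear_combination hx
  have hm : f.Monic := by simp only [f]; monicity!
  have hd : f.natDegree = 3 := by simp only [f]; compute_degree!
  have hirr : Irreducible f := by
    rw [hm.irreducible_iff_roots_eq_zero_of_degree_le_three (by omega) (by omega)]
    refine Multiset.eq_zero_of_forall_notMem fun x hx => ?_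
    exact hroot x (Polynomial.isRoot_of_mem_roots hx)
  haveI : Fact (Irreducible f) := ⟨hirr⟩
  let pb := AdjoinRoot.powerBasis hm.ne_zero
  haveI : Module.Finite (ZMod p) (AdjoinRoot f) := pb.finite
  haveI : Finite (AdjoinRoot f) := Module.finite_of_finite (ZMod p)
  have hcard : Nat.card (AdjoinRoot f) = p ^ 3 := by
    rw [Module.natCard_eq_pow_finrank (K := ZMod p), Nat.card_zmod, pb.finrank, AdjoinRoot.powerBasis_dim,
      hd]
  let e : AdjoinRoot f ≃ₐ[ZMod p] F := (GaloisField.algEquivGaloisField p 3 hcard).trans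
    (GaloisField.algEquivGaloisField p 3 (by rw [Nat.card_eq_fintype_card, hF])).symm
  let r := e (AdjoinRoot.root f)
  have hmin : minpoly (ZMod p) pb.gen = f := AdjoinRoot.minpoly_powerBasis_gen_of_monic hm
  have hN : ∀ c : ZMod p, Algebra.norm (ZMod p) (algebraMap (ZMod p) F c - r) = f.eval c := by
    intro c
    have h1 := norm_sub_gen pb c
    rw [hmin, AdjoinRoot.powerBasis_gen] at h1
    rw [← h1, show algebraMap (ZMod p) F c - r = e (algebraMap (ZMod p) _ c - AdjoinRoot.root f) from by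
      rw [map_sub, AlgEquiv.commutes]]
    exact Algebra.norm_eq_of_algEquiv e _
  have h1 := hN 0
  rw [map_zero, zero_sub, heval] at h1
  have h2 := hN 2
  rw [map_ofNat, heval] at h2
  have hfin : Module.finrank (ZMod p) F = 3 := finrank_eq hF
  have hr1 : Algebra.norm (ZMod p) r = 1 := by
    have hneg : Algebra.norm (ZMod p) (-r) = - Algebra.norm (ZMod p) r := by
      rw [← neg_one_mul r, map_mul,
        show (-1 : F) = algebraMap (ZMod p) F (-1) by rw [map_neg, map_one], Algebra.norm_algebraMap,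
        hfin]
      norm_num
    rw [hneg] at h1
    linear_combination -h1
  have hr2 : Algebra.norm (ZMod p) (2 - r) = 1 := by rw [h2]; ring
  refine (Set.one_lt_ncard (Set.toFinite _)).2 ⟨1, ⟨map_one _, by norm_num⟩, r, ⟨hr1, hr2⟩, ?_⟩
  intro h
  have h4 := hN 1
  rw [map_one, ← h, sub_self, Algebra.norm_zero] at h4
  exact hroot 1 h4.symm

end cubic

theorem two_le {q : ℕ} (hq : q.Prime) (hq2 : q ≠ 2) (hp2 : p ≠ 2) (hF : Fintype.card F = p ^ q)
    (hA : Nat.Coprime ((p ^ q - 1) / (p - 1)) (p - 1)) :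
    2 ≤ Set.ncard {a : F | Algebra.norm (ZMod p) a = 1 ∧ Algebra.norm (ZMod p) (2 - a) = 1} := by
  rcases eq_or_ne q 3 with rfl | h3
  · exact two_le_three hp2 hF
  · refine two_le_large hp2 ?_ hF hA
    have := hq.two_le
    rcases Nat.lt_or_ge q 5 with h | h
    · interval_cases q <;> simp_all +decide
    · exact h

end CfsgLib.OddOrder.NormPairExists
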