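import Cfsg.Agent.Lib.OddOrder.Quadratic
import Cfsg.Agent.Lib.PLocal.PStableQuot

/-! Solvable groups of odd order are `p`-stable on their normal `p`-subgroups. -/

set_option autoImplicit false

namespace CfsgLib.OddOrder.OddStable

theorem isPStableOn {G : Type*} [Group G] [Finite G] [Group.IsSolvable G] {p : ℕ} [Fact p.Prime]
    (hodd : Odd (Nat.card G)) (hp2 : p ≠ 2) (P : Subgroup G) [P.Normal] (hP : IsPGroup p P) :
    Cfsg.IsPStableOn p P := by
  refine CfsgLib.PLocal.isPStableOn_of_pElements hP fun a ⟨k, hk⟩ ha => ?_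
  exact CfsgLib.OddOrder.Quadratic.quadratic_map_le_pCore_of_normal hodd hp2 P (Subgroup.zpowers a) hP
    (IsPGroup.of_card (n := k) (by rw [Nat.card_zpowers, hk])) ha ⟨a, Subgroup.mem_zpowers a, rfl⟩

end CfsgLib.OddOrder.OddStable
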