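import Cfsg.Agent.Lib.OddOrder.PuigSeries
import Cfsg.Agent.Lib.OddOrder.Quadratic
import Cfsg.Agent.Lib.OddOrder.OddStable
import Cfsg.Agent.Lib.PLocal.Constraint

/-!
The Puig series of a subgroup computed inside the ambient group, and Puig's theorem for solvable groups of
odd order (BG Appendix B).
-/

set_option autoImplicit false

namespace CfsgLib.OddOrder.PuigRel

open Subgroup

variable {G H : Type*} [Group G] [Group H]

/-- `L_K(X)` inside `G`. -/
def stepIn (K X : Subgroup G) : Subgroup G :=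
  sSup {A : Subgroup G | A ≤ K ∧ IsMulCommutative A ∧ X ≤ normalizer (A : Set G)}

/-- `L_n(K)` inside `G`. -/
def seqIn (K : Subgroup G) : ℕ → Subgroup G
  | 0 => ⊥
  | n + 1 => stepIn K (seqIn K n)

/-- `L_*(K)` inside `G`. -/
def lowIn (K : Subgroup G) : Subgroup G := ⨆ n : ℕ, seqIn K (2 * n)

/-- `L(K)` inside `G`. -/
def upIn (K : Subgroup G) : Subgroup G := ⨅ n : ℕ, seqIn K (2 * n + 1)

/-- `Z(L(K))` inside `G`. -/
def zIn (K : Subgroup G) : Subgroup G := upIn K ⊓ centralizer (upIn K : Set G)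

theorem stepIn_le (K X : Subgroup G) : stepIn K X ≤ K := sSup_le fun _ h => h.1

theorem le_stepIn {K X A : Subgroup G} (h1 : A ≤ K) (h2 : IsMulCommutative A)
    (h3 : X ≤ normalizer (A : Set G)) : A ≤ stepIn K X := le_sSup ⟨h1, h2, h3⟩

theorem seqIn_succ (K : Subgroup G) (n : ℕ) : seqIn K (n + 1) = stepIn K (seqIn K n) := rfl

theorem seqIn_le (K : Subgroup G) : ∀ n, seqIn K n ≤ K
  | 0 => bot_le
  | n + 1 => stepIn_le K _

theorem map_le_normalizer_map_iff {f : G →* H} (hf : Function.Injective f) {X A : Subgroup G} :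
    X.map f ≤ normalizer ((A.map f : Subgroup H) : Set H) ↔ X ≤ normalizer (A : Set G) := by
  constructor
  · intro h x hx
    rw [mem_normalizer_iff]
    intro a
    have := mem_normalizer_iff.mp (h ⟨x, hx, rfl⟩) (f a)
    rwa [← map_inv, ← map_mul, ← map_mul, mem_map_iff_mem hf, mem_map_iff_mem hf] at this
  · exact fun h => (map_mono h).trans (le_normalizer_map f)

theorem stepIn_map {f : G →* H} (hf : Function.Injective f) (K X : Subgroup G) :
    stepIn (K.map f) (X.map f) = (stepIn K X).map f := by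
  apply le_antisymm
  · refine sSup_le fun A ⟨h1, h2, h3⟩ => ?_
    have hA : A = (A.comap f).map f := (map_comap_eq_self (h1.trans (map_le_range f K))).symm
    rw [hA] at h1 h3 ⊢
    refine map_mono (le_stepIn ((map_le_map_iff_of_injective hf).mp h1) ?_
      ((map_le_normalizer_map_iff hf).mp h3))
    refine ⟨⟨fun a b => Subtype.ext (hf ?_)⟩⟩
    simpa using congrArg Subtype.val (h2.is_comm.comm ⟨f a, a.2⟩ ⟨f b, b.2⟩)
  · rw [map_le_iff_le_comap]
    refine sSup_le fun A ⟨h1, h2, h3⟩ => ?_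
    rw [← map_le_iff_le_comap]
    haveI := h2
    exact le_stepIn (map_mono h1) (Subgroup.map_isMulCommutative A f) ((map_le_normalizer_map_iff hf).mpr h3)

theorem seqIn_map {f : G →* H} (hf : Function.Injective f) (K : Subgroup G) :
    ∀ n, seqIn (K.map f) n = (seqIn K n).map f
  | 0 => (map_bot f).symm
  | n + 1 => by rw [seqIn_succ, seqIn_succ, seqIn_map hf K n, stepIn_map hf]

theorem lowIn_map {f : G →* H} (hf : Function.Injective f) (K : Subgroup G) :
    lowIn (K.map f) = (lowIn K).map f := by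
  simp only [lowIn, Subgroup.map_iSup, seqIn_map hf]

theorem upIn_map {f : G →* H} (hf : Function.Injective f) (K : Subgroup G) :
    upIn (K.map f) = (upIn K).map f := by
  simp only [upIn, Subgroup.map_iInf f hf, seqIn_map hf]

theorem zIn_map {f : G →* H} (hf : Function.Injective f) (K : Subgroup G) :
    zIn (K.map f) = (zIn K).map f := by
  unfold zIn
  rw [upIn_map hf]
  ext x
  constructor
  · rintro ⟨⟨y, hy, rfl⟩, hc⟩
    refine ⟨y, ⟨hy, mem_centralizer_iff.mpr fun a ha => hf ?_⟩, rfl⟩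
    rw [map_mul, map_mul]
    exact mem_centralizer_iff.mp hc (f a) ⟨a, ha, rfl⟩
  · rintro ⟨y, ⟨hy, hc⟩, rfl⟩
    refine ⟨⟨y, hy, rfl⟩, mem_centralizer_iff.mpr ?_⟩
    rintro _ ⟨a, ha, rfl⟩
    rw [← map_mul, ← map_mul, mem_centralizer_iff.mp hc a ha]

theorem seqIn_top : ∀ n, seqIn (⊤ : Subgroup G) n = Cfsg.puigSeq G n
  | 0 => rfl
  | n + 1 => by
    rw [seqIn_succ, seqIn_top n]
    simp [stepIn, Cfsg.puigSeq, Cfsg.puigStep]

theorem map_subtype_top' (K : Subgroup G) : (⊤ : Subgroup K).map K.subtype = K := by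
  rw [← MonoidHom.range_eq_map, Subgroup.range_subtype]

theorem seqIn_eq (K : Subgroup G) (n : ℕ) : seqIn K n = (Cfsg.puigSeq ↥K n).map K.subtype := by
  rw [← seqIn_top, ← seqIn_map K.subtype_injective, map_subtype_top']

theorem lowIn_eq (K : Subgroup G) : lowIn K = (Cfsg.puigLower ↥K).map K.subtype := by
  simp only [lowIn, Cfsg.puigLower, Subgroup.map_iSup, seqIn_eq]

theorem upIn_eq (K : Subgroup G) : upIn K = (Cfsg.puigSubgroup ↥K).map K.subtype := by
  simp only [upIn, Cfsg.puigSubgroup, Subgroup.map_iInf _ K.subtype_injective, seqIn_eq]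

theorem zIn_eq (K : Subgroup G) : zIn K
    = ((center ↥(Cfsg.puigSubgroup ↥K)).map (Cfsg.puigSubgroup ↥K).subtype).map K.subtype := by
  unfold zIn
  rw [upIn_eq]
  ext x
  constructor
  · rintro ⟨⟨y, hy, rfl⟩, hc⟩
    refine ⟨y, ⟨⟨y, hy⟩, mem_center_iff.mpr fun a => ?_, rfl⟩, rfl⟩
    exact Subtype.ext (Subtype.ext (mem_centralizer_iff.mp hc ((a : K) : G) ⟨a, a.2, rfl⟩))
  · rintro ⟨_, ⟨y, hy, rfl⟩, rfl⟩
    refine ⟨⟨y, y.2, rfl⟩, mem_centralizer_iff.mpr ?_⟩
    rintro _ ⟨a, ha, rfl⟩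
    exact congrArg (fun z : Cfsg.puigSubgroup ↥K => ((z : K) : G)) (mem_center_iff.mp hy ⟨a, ha⟩)

theorem zIn_le (K : Subgroup G) : zIn K ≤ K := inf_le_left.trans ((iInf_le _ 0).trans (seqIn_le K 1))

variable [Finite G]

theorem lowIn_le_upIn (K : Subgroup G) : lowIn K ≤ upIn K := by
  rw [lowIn_eq, upIn_eq]; exact map_mono (PuigSeries.lower_le_upper K)

theorem stepIn_lowIn (K : Subgroup G) : stepIn K (lowIn K) = upIn K := by
  conv_lhs => arg 1; rw [← map_subtype_top' K]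
  rw [lowIn_eq, stepIn_map K.subtype_injective, upIn_eq, ← PuigSeries.step_lower]
  simp [stepIn, Cfsg.puigStep]

theorem stepIn_upIn (K : Subgroup G) : stepIn K (upIn K) = lowIn K := by
  conv_lhs => arg 1; rw [← map_subtype_top' K]
  rw [upIn_eq, stepIn_map K.subtype_injective, lowIn_eq, ← PuigSeries.step_upper]
  simp [stepIn, Cfsg.puigStep]

theorem seqIn_odd_one (K : Subgroup G) : seqIn K 1 = K := by
  rw [seqIn_eq, PuigSeries.puigSeq_one, map_subtype_top']

theorem centralizer_seqIn_le {p : ℕ} [Fact p.Prime] {K : Subgroup G} (hK : IsPGroup p K) {n : ℕ}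
    (hn : 0 < n) : K ⊓ centralizer (seqIn K n : Set G) ≤ seqIn K n := by
  rintro x ⟨hx, hc⟩
  rw [seqIn_eq] at hc ⊢
  refine ⟨⟨x, hx⟩, PuigSeries.centralizer_le' hK hn (mem_centralizer_iff.mpr fun a ha => ?_), rfl⟩
  exact Subtype.ext (mem_centralizer_iff.mp hc a ⟨a, ha, rfl⟩)

theorem centralizer_lowIn_le {p : ℕ} [Fact p.Prime] {K : Subgroup G} (hK : IsPGroup p K) :
    K ⊓ centralizer (lowIn K : Set G) ≤ lowIn K := by
  rintro x ⟨hx, hc⟩
  rw [lowIn_eq] at hc ⊢
  refine ⟨⟨x, hx⟩, PuigSeries.centralizer_lower_le hK (mem_centralizer_iff.mpr fun a ha => ?_), rfl⟩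
  exact Subtype.ext (mem_centralizer_iff.mp hc a ⟨a, ha, rfl⟩)

theorem centralizer_upIn_le {p : ℕ} [Fact p.Prime] {K : Subgroup G} (hK : IsPGroup p K) :
    K ⊓ centralizer (upIn K : Set G) ≤ upIn K := by
  rintro x ⟨hx, hc⟩
  rw [upIn_eq] at hc ⊢
  refine ⟨⟨x, hx⟩, PuigSeries.centralizer_upper_le hK (mem_centralizer_iff.mpr fun a ha => ?_), rfl⟩
  exact Subtype.ext (mem_centralizer_iff.mp hc a ⟨a, ha, rfl⟩)

/-- If `L(S) ≤ U ≤ S` then `L(U) = L(S)`. -/
theorem upIn_eq_of_le {U S : Subgroup G} (hU : U ≤ S) (hL : upIn S ≤ U) : upIn U = upIn S := by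
  have hlowU : ∀ n, seqIn S (2 * n) ≤ U := fun n =>
    ((le_iSup (fun j => seqIn S (2 * j)) n).trans (lowIn_le_upIn S)).trans hL
  have h1 : ∀ n, seqIn S (2 * n) ≤ seqIn U (2 * n) ∧ seqIn U (2 * n + 1) ≤ seqIn S (2 * n + 1) := by
    intro n
    induction n with
    | zero => exact ⟨le_rfl, by rw [seqIn_odd_one, seqIn_odd_one]; exact hU⟩
    | succ n ih =>
      have e : seqIn S (2 * (n + 1)) ≤ seqIn U (2 * (n + 1)) := by
        refine sSup_le fun A hA => le_stepIn ?_ hA.2.1 (ih.2.trans hA.2.2)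
        exact (le_stepIn hA.1 hA.2.1 hA.2.2).trans (hlowU (n + 1))
      exact ⟨e, sSup_le fun A hA => le_stepIn (hA.1.trans hU) hA.2.1 (e.trans hA.2.2)⟩
  have h2 : ∀ n, seqIn U (2 * n) ≤ lowIn S ∧ upIn S ≤ seqIn U (2 * n + 1) := by
    intro n
    induction n with
    | zero => exact ⟨bot_le, by rw [seqIn_odd_one]; exact hL⟩
    | succ n ih =>
      have e : seqIn U (2 * (n + 1)) ≤ lowIn S := by
        rw [← stepIn_upIn S]
        exact sSup_le fun A hA => le_stepIn (hA.1.trans hU) hA.2.1 (ih.2.trans hA.2.2)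
      refine ⟨e, ?_⟩
      conv_lhs => rw [← stepIn_lowIn S]
      refine sSup_le fun A hA => le_stepIn ?_ hA.2.1 (e.trans hA.2.2)
      refine le_trans ?_ hL
      rw [← stepIn_lowIn S]
      exact le_stepIn hA.1 hA.2.1 hA.2.2
  exact le_antisymm (le_iInf fun n => (iInf_le _ n).trans (h1 n).2) (le_iInf fun n => (h2 n).2)

theorem normalizer_le_normalizer_zIn (K : Subgroup G) :
    normalizer (K : Set G) ≤ normalizer (zIn K : Set G) := by
  intro n hn
  have h1 := zIn_map (f := (MulAut.conj n : G ≃* G).toMonoidHom) (MulAut.conj n).injective K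
  have h2 : K.map (MulAut.conj n : G ≃* G).toMonoidHom = K :=
    CfsgLib.PLocal.map_conj_eq_of_mem_normalizer hn
  rw [h2] at h1
  rw [mem_normalizer_iff]
  intro x
  conv_rhs => rw [h1]
  exact (mem_map_iff_mem (K := zIn K) (MulAut.conj n).injective).symm

variable {p : ℕ} [Fact p.Prime] [Group.IsSolvable G]

theorem centralizer_le_pCore (hO : Cfsg.pPrimeCore p G = ⊥) (P : Subgroup G) [P.Normal]
    (hPT : P ≤ Cfsg.pCore p G) (hC : Cfsg.pCore p G ⊓ centralizer (P : Set G) ≤ P) :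
    centralizer (P : Set G) ≤ Cfsg.pCore p G := by
  set C := centralizer (P : Set G)
  have h1 := CfsgLib.PCore.centralizer_pCore_le
    (CfsgLib.PCore.isPSolvable_of_isSolvable (p := p) (G := C)) (CfsgLib.PCore.pPrimeCore_eq_bot_of_normal C hO)
  have hcen : ∀ z ∈ Cfsg.pCore p C, ∀ c : C, c * z = z * c := by
    intro z hz c
    have hzT : (z : G) ∈ Cfsg.pCore p G := by
      have h2 : (Cfsg.pCore p C).map C.subtype ≤ Cfsg.pCore p G :=
        CfsgLib.PCore.le_pCore (ConjAct.normal_of_characteristic_of_normal)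
          (CfsgLib.PCore.pCore_isPGroup.map _)
      exact h2 ⟨z, hz, rfl⟩
    exact Subtype.ext (mem_centralizer_iff.mp c.2 _ (hC ⟨hzT, z.2⟩)).symm
  have h3 : (⊤ : Subgroup C) ≤ Cfsg.pCore p C :=
    le_trans (fun c _ => mem_centralizer_iff.mpr fun z hz => (hcen z hz c).symm) h1
  refine CfsgLib.PCore.le_pCore inferInstance ?_
  have := ((CfsgLib.PCore.pCore_isPGroup (p := p) (G := C)).to_le h3).map C.subtype
  rwa [map_subtype_top'] at this

theorem le_pCore_of_quad (hodd : Odd (Nat.card G)) (hp2 : p ≠ 2) (hO : Cfsg.pPrimeCore p G = ⊥)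
    (P : Subgroup G) [hPn : P.Normal] (hPT : P ≤ Cfsg.pCore p G)
    (hC : Cfsg.pCore p G ⊓ centralizer (P : Set G) ≤ P) (A : Subgroup G) (hAc : IsMulCommutative A)
    (hn : P ≤ normalizer (A : Set G)) : A ≤ Cfsg.pCore p G := by
  have hPp : IsPGroup p P := (CfsgLib.PCore.pCore_isPGroup).to_le hPT
  haveI := hAc
  refine (CfsgLib.PLocal.le_stabD_of_normalizes (CfsgLib.OddOrder.OddStable.isPStableOn hodd hp2 P hPp)
    hn).trans ?_
  exact CfsgLib.PCore.le_pCore (CfsgLib.PLocal.stabD_normal p P)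
    (CfsgLib.PLocal.stabD_isPGroup ((CfsgLib.PCore.pCore_isPGroup).to_le (centralizer_le_pCore hO P hPT hC)))

omit [Group.IsSolvable G] in
theorem seqIn_pCore_normal (n : ℕ) : (seqIn (Cfsg.pCore p G) n).Normal := by
  refine ⟨fun x hx g => ?_⟩
  have h2 : (Cfsg.pCore p G).map (MulAut.conj g : G ≃* G).toMonoidHom = Cfsg.pCore p G :=
    CfsgLib.PLocal.map_conj_eq_of_mem_normalizer (by rw [Subgroup.normalizer_eq_top]; trivial)
  have h1 := seqIn_map (f := (MulAut.conj g : G ≃* G).toMonoidHom) (MulAut.conj g).injective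
    (Cfsg.pCore p G) n
  rw [h2] at h1
  rw [h1]
  exact ⟨x, hx, rfl⟩

/-- `L_*(S) ≤ L_*(T)` and `L(T) ≤ L(S)` for `T = O_p(G)`. -/
theorem puig_sandwich (hodd : Odd (Nat.card G)) (hp2 : p ≠ 2) (hO : Cfsg.pPrimeCore p G = ⊥)
    (S : Sylow p G) : lowIn (S : Subgroup G) ≤ lowIn (Cfsg.pCore p G) ∧
      upIn (Cfsg.pCore p G) ≤ upIn (S : Subgroup G) := by
  set T := Cfsg.pCore p G
  have hTS : T ≤ (S : Subgroup G) := CfsgLib.PCore.pCore_le_sylow S
  have h : ∀ n, seqIn (S : Subgroup G) (2 * n) ≤ seqIn T (2 * n) ∧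
      seqIn T (2 * n + 1) ≤ seqIn (S : Subgroup G) (2 * n + 1) := by
    intro n
    induction n with
    | zero => exact ⟨le_rfl, by rw [seqIn_odd_one, seqIn_odd_one]; exact hTS⟩
    | succ n ih =>
      haveI := seqIn_pCore_normal (G := G) (p := p) (2 * n + 1)
      have e : seqIn (S : Subgroup G) (2 * (n + 1)) ≤ seqIn T (2 * (n + 1)) := by
        refine sSup_le fun A hA => le_stepIn ?_ hA.2.1 (ih.2.trans hA.2.2)
        exact le_pCore_of_quad hodd hp2 hO (seqIn T (2 * n + 1)) (seqIn_le T _)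
          (centralizer_seqIn_le CfsgLib.PCore.pCore_isPGroup (by omega)) A hA.2.1 (ih.2.trans hA.2.2)
      exact ⟨e, sSup_le fun A hA => le_stepIn (hA.1.trans hTS) hA.2.1 (e.trans hA.2.2)⟩
  exact ⟨iSup_le fun n => (h n).1.trans (le_iSup (fun j => seqIn T (2 * j)) n),
    le_iInf fun n => (iInf_le _ n).trans (h n).2⟩

/-- Puig's theorem. -/
theorem zIn_normal (hodd : Odd (Nat.card G)) (hp2 : p ≠ 2) (hO : Cfsg.pPrimeCore p G = ⊥)
    (S : Sylow p G) : (zIn (S : Subgroup G)).Normal := by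
  set T := Cfsg.pCore p G
  have hTS : T ≤ (S : Subgroup G) := CfsgLib.PCore.pCore_le_sylow S
  obtain ⟨hlow, hup⟩ := puig_sandwich hodd hp2 hO S
  haveI hupn : (upIn T).Normal := by
    refine Subgroup.normal_iInf_normal fun n => ?_
    exact seqIn_pCore_normal _
  have hupT : upIn T ≤ T := (iInf_le _ 0).trans (seqIn_le T _)
  have hCup := centralizer_le_pCore hO (upIn T) hupT (centralizer_upIn_le CfsgLib.PCore.pCore_isPGroup)
  -- `Z(L(S)) ≤ Z(L(T))`
  have hZ : zIn (S : Subgroup G) ≤ zIn T := by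
    intro x hx
    have hxc : x ∈ centralizer (upIn T : Set G) := centralizer_le hup hx.2
    exact ⟨centralizer_upIn_le CfsgLib.PCore.pCore_isPGroup ⟨hCup hxc, hxc⟩, hxc⟩
  set V := zIn T
  haveI hVn : V.Normal := Subgroup.normalizer_eq_top_iff.mp (top_le_iff.mp
    ((Subgroup.normalizer_eq_top (Cfsg.pCore p G)).ge.trans (normalizer_le_normalizer_zIn T)))
  have hVp : IsPGroup p V := CfsgLib.PCore.pCore_isPGroup.to_le (zIn_le T)
  set U := (S : Subgroup G) ⊓ CfsgLib.PLocal.stabD p V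
  have hVlow : V ≤ lowIn (S : Subgroup G) := by
    intro x hx
    refine centralizer_lowIn_le S.isPGroup' ⟨hTS (zIn_le T hx), ?_⟩
    exact centralizer_le (hlow.trans (lowIn_le_upIn T)) hx.2
  have hLU : upIn (S : Subgroup G) ≤ U := by
    rw [← stepIn_lowIn]
    refine sSup_le fun A hA => le_inf hA.1 ?_
    haveI := hA.2.1
    exact CfsgLib.PLocal.le_stabD_of_normalizes (CfsgLib.OddOrder.OddStable.isPStableOn hodd hp2 V hVp)
      (hVlow.trans hA.2.2)
  have hz : zIn U = zIn (S : Subgroup G) := by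
    unfold zIn; rw [upIn_eq_of_le inf_le_left hLU]
  rw [← Subgroup.normalizer_eq_top_iff, eq_top_iff, ← CfsgLib.PLocal.centralizer_sup_normalizer_stabD V S]
  refine sup_le (fun c hc => ?_) (hz ▸ normalizer_le_normalizer_zIn U)
  refine mem_normalizer_iff.mpr fun x => ⟨fun hx => ?_, fun hx => ?_⟩
  · rwa [show c * x * c⁻¹ = x by rw [← mem_centralizer_iff.mp hc x (hZ hx), mul_inv_cancel_right]]
  · have h2 := mem_centralizer_iff.mp hc _ (hZ hx)
    rwa [show x = c * x * c⁻¹ by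
      calc x = c⁻¹ * (c * x * c⁻¹ * c) := by group
        _ = c⁻¹ * (c * (c * x * c⁻¹)) := by rw [h2]
        _ = c * x * c⁻¹ := by group]

theorem zIn_map_of_injOn (f : G →* H) (P : Subgroup G) (hf : Function.Injective (f.comp P.subtype)) :
    zIn (P.map f) = (zIn P).map f := by
  have h1 := zIn_map P.subtype_injective (⊤ : Subgroup P)
  have h2 := zIn_map hf (⊤ : Subgroup P)
  rw [map_subtype_top'] at h1
  rw [← Subgroup.map_map, map_subtype_top', ← Subgroup.map_map, ← h1] at h2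
  exact h2

/-- `G = O_{p'}(G) N(Z(L(S)))`. -/
theorem sup_normalizer_zIn (hodd : Odd (Nat.card G)) (hp2 : p ≠ 2) (S : Sylow p G) :
    Cfsg.pPrimeCore p G ⊔ normalizer (zIn (S : Subgroup G) : Set G) = ⊤ := by
  set N := Cfsg.pPrimeCore p G
  set q := QuotientGroup.mk' N
  have hN : (Nat.card N).Coprime p := CfsgLib.PCore.pPrimeCore_coprime
  have hinj : Function.Injective (q.comp (S : Subgroup G).subtype) := by
    rw [injective_iff_map_eq_one]
    intro x hx
    exact Subtype.ext (CfsgLib.PLocal.eq_one_of_mem_pGroup_of_mem_coprime S.isPGroup'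
      hN x.2 ((QuotientGroup.eq_one_iff (x : G)).mp hx))
  have h := zIn_normal (G := G ⧸ N) (hodd.of_dvd_nat (Subgroup.card_quotient_dvd_card _)) hp2
    CfsgLib.PCore.pPrimeCore_quotient_pPrimeCore (S.mapSurjective (QuotientGroup.mk'_surjective N))
  rw [Sylow.coe_mapSurjective, zIn_map_of_injOn q _ hinj] at h
  refine top_le_iff.mp fun x _ => ?_
  obtain ⟨n, hn, hnx⟩ := CfsgLib.PLocal.exists_mul_mem_normalizer hN (S.isPGroup'.to_le (zIn_le _)) (x := x)
    fun y hy => by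
      rw [map_mul, map_mul, map_inv]
      exact h.conj_mem _ ⟨y, hy, rfl⟩ _
  simpa using Subgroup.mul_mem_sup (inv_mem hn) hnx

end CfsgLib.OddOrder.PuigRel
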