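import Mathlib
import Cfsg.Agent.Lib.OddOrder.Sigma10Main
import Cfsg.Agent.Lib.OddOrder.CubeUnique

/-!
# Auxiliary lemmas for BG §11: pairs of rank two in a maximal subgroup
-/

set_option autoImplicit false

namespace CfsgLib.OddOrder.Sigma11

open Subgroup CfsgLib.OddOrder CfsgLib.OddOrder.Transitivity
open scoped commutatorElement

universe u

variable {G : Type u} [Group G] [Finite G] {p : ℕ} [hp : Fact p.Prime]

/-- `X` lies in `M` and in no other maximal subgroup. -/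
def OnlyIn (M X : Subgroup G) : Prop :=
  X ≤ M ∧ ∀ L : Subgroup G, IsCoatom L → X ≤ L → L = M

omit hp in
theorem onlyIn_of_forall {M X : Subgroup G} (hX : X ≠ ⊤)
    (h : ∀ L : Subgroup G, IsCoatom L → X ≤ L → L = M) : OnlyIn M X := by
  obtain ⟨L, hL, hXL⟩ := exists_isCoatom_ge hX
  exact ⟨h L hL hXL ▸ hXL, h⟩

omit hp in
theorem onlyIn_of_inUnique {M W X : Subgroup G} (hU : Cfsg.InUniqueMaximal W) (hM : IsCoatom M)
    (hWM : W ≤ M) (hWX : W ≤ X) (hX : X ≠ ⊤) : OnlyIn M X :=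
  onlyIn_of_forall hX fun _ hL hXL => Uniq.InUniqueMaximal.eq hU hM hWM hL (hWX.trans hXL)

omit hp in
theorem OnlyIn.mono {M X Y : Subgroup G} (h : OnlyIn M X) (hXY : X ≤ Y) (hY : Y ≠ ⊤) : OnlyIn M Y :=
  onlyIn_of_forall hY fun L hL hYL => h.2 L hL (hXY.trans hYL)

omit hp in
theorem OnlyIn.cj_eq {M X : Subgroup G} (h : OnlyIn M X) (hM : IsCoatom M) {g : G}
    (hg : g ∈ Subgroup.normalizer (X : Set G)) : cj g M = M :=
  h.2 _ (isCoatom_map_conj hM g) ((cj_eq_of_mem_normalizer hg).ge.trans (cj_mono h.1))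

omit hp in
theorem OnlyIn.normalizer_le (hG : Cfsg.IsMinSimpleOddOrder G) {M X : Subgroup G} (h : OnlyIn M X)
    (hM : IsCoatom M) : Subgroup.normalizer (X : Set G) ≤ M := fun g hg =>
  (normalizer_self_eq_of_isCoatom hG hM).le (mem_normalizer_of_cj_eq (h.cj_eq hM hg))

omit hp in
theorem eq_of_inUnique {M L W : Subgroup G} (hU : Cfsg.InUniqueMaximal W) (hM : IsCoatom M)
    (hWM : W ≤ M) (hL : IsCoatom L) (hWL : W ≤ L) : L = M :=
  Uniq.InUniqueMaximal.eq hU hM hWM hL hWL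

omit hp in
theorem centralizer_zpowers (a : G) :
    Subgroup.centralizer (Subgroup.zpowers a : Set G) = Subgroup.centralizer ({a} : Set G) := by
  refine le_antisymm (Subgroup.centralizer_le (Set.singleton_subset_iff.mpr (Subgroup.mem_zpowers a)))
    fun x hx => Subgroup.mem_centralizer_iff.mpr ?_
  rintro _ ⟨i, rfl⟩
  exact (Commute.zpow_left (Subgroup.mem_centralizer_singleton_iff.mp hx).symm i).eq

omit [Finite G] in
theorem centralizer_le_of_mem_zpowers {a b : G} (ha : orderOf a = p) (hb : b ∈ Subgroup.zpowers a)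
    (hb1 : b ≠ 1) : Subgroup.centralizer ({b} : Set G) ≤ Subgroup.centralizer ({a} : Set G) :=
  fun x hx => Subgroup.mem_centralizer_singleton_iff.mpr
    (CubeUnique.commute_of_commute_mem_zpowers (CubeUnique.zpowers_eq_of_mem ha hb hb1)
      (Subgroup.mem_centralizer_singleton_iff.mp hx).symm).symm.eq

section Plane

variable {A : Subgroup G}

omit [Finite G] in
theorem le_centralizer_of_mem (hAe : Cfsg.IsElementaryAbelian p A) {a : G} (ha : a ∈ A) :
    A ≤ Subgroup.centralizer ({a} : Set G) := fun _ hx =>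
  Subgroup.mem_centralizer_singleton_iff.mpr (elemAb_commute hAe hx ha)

omit [Finite G] in
theorem orderOf_mem (hAe : Cfsg.IsElementaryAbelian p A) {a : G} (ha : a ∈ A) (ha1 : a ≠ 1) :
    orderOf a = p :=
  orderOf_eq_prime (hAe.2 a ha) ha1

theorem not_isCyclic_plane (hAe : Cfsg.IsElementaryAbelian p A) (hA2 : Nat.card A = p ^ 2) :
    ¬ IsCyclic A :=
  (elemAb_not_isCyclic_iff hAe).mpr hA2.ge

theorem not_rankLE_center (hAe : Cfsg.IsElementaryAbelian p A) (hA2 : Nat.card A = p ^ 2) :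
    ¬ Cfsg.RankLE 1 ↥(A ⊓ Subgroup.centralizer (A : Set G)) :=
  not_rankLE_subgroup_iff.mpr ⟨p, A, hp.out, le_inf le_rfl (fun x hx =>
    Subgroup.mem_centralizer_iff.mpr fun y hy => elemAb_commute hAe hy hx), hAe, hA2⟩

theorem eq_sup_zpowers (hAe : Cfsg.IsElementaryAbelian p A) (hA2 : Nat.card A = p ^ 2) {a b : G}
    (ha : a ∈ A) (ha1 : a ≠ 1) (hb : b ∈ A) (hab : b ∉ Subgroup.zpowers a) :
    Subgroup.zpowers a ⊔ Subgroup.zpowers b = A := by
  refine Subgroup.eq_of_le_of_card_ge (sup_le (Subgroup.zpowers_le.mpr ha) (Subgroup.zpowers_le.mpr hb)) ?_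
  rw [card_sup_zpowers_of_not_mem hAe (Subgroup.zpowers_le.mpr ha) hb hab, Nat.card_zpowers,
    orderOf_mem hAe ha ha1, hA2, pow_two]

theorem inf_centralizer_pair_le (hAe : Cfsg.IsElementaryAbelian p A) (hA2 : Nat.card A = p ^ 2) {a b : G}
    (ha : a ∈ A) (ha1 : a ≠ 1) (hb : b ∈ A) (hab : b ∉ Subgroup.zpowers a) :
    Subgroup.centralizer ({a} : Set G) ⊓ Subgroup.centralizer ({b} : Set G) ≤
      Subgroup.centralizer (A : Set G) := by
  conv_rhs => rw [← eq_sup_zpowers hAe hA2 ha ha1 hb hab]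
  rw [Subgroup.le_centralizer_iff]
  refine sup_le ?_ ?_ <;> rw [Subgroup.le_centralizer_iff, centralizer_zpowers]
  exacts [inf_le_left, inf_le_right]

/-- An element of `C(a)` not centralizing `A` is moved by every element outside `⟨a⟩`. -/
theorem moved_of_not_mem (hAe : Cfsg.IsElementaryAbelian p A) (hA2 : Nat.card A = p ^ 2) {a b v : G}
    (ha : a ∈ A) (ha1 : a ≠ 1) (hb : b ∈ A) (hab : b ∉ Subgroup.zpowers a)
    (hva : v ∈ Subgroup.centralizer ({a} : Set G)) (hvA : v ∉ Subgroup.centralizer (A : Set G)) :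
    b * v ≠ v * b := fun h =>
  hvA (inf_centralizer_pair_le hAe hA2 ha ha1 hb hab ⟨hva, Subgroup.mem_centralizer_singleton_iff.mpr h.symm⟩)

theorem exists_not_mem_zpowers (hAe : Cfsg.IsElementaryAbelian p A) (hA2 : Nat.card A = p ^ 2) (a : G) :
    ∃ b ∈ A, b ∉ Subgroup.zpowers a := by
  refine SetLike.not_le_iff_exists.mp fun h => not_isCyclic_plane hAe hA2 ?_
  exact isCyclic_of_injective (Subgroup.inclusion h) (Subgroup.inclusion_injective h)

/-- If the centralizers of all the elements of `A#` lie in `L` then `A` lies only in `L`. -/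
theorem eq_of_centralizers_le (hG : Cfsg.IsMinSimpleOddOrder G) (hAe : Cfsg.IsElementaryAbelian p A)
    (hA2 : Nat.card A = p ^ 2) {M L : Subgroup G} (hM : IsCoatom M) (hAM : A ≤ M) (hL : IsCoatom L)
    (h : ∀ b ∈ A, b ≠ 1 → Subgroup.centralizer ({b} : Set G) ≤ L) : L = M := by
  obtain ⟨b, hb, hb1⟩ := exists_not_mem_zpowers hAe hA2 1
  have hAL : A ≤ L := (le_centralizer_of_mem hAe hb).trans (h b hb fun h0 => hb1 (by rw [h0]; exact Subgroup.one_mem _))
  exact Uniq.InUniqueMaximal.eq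
    (Uniq.inUniqueMaximal_of_centralizers_le hG hL hAL hAe (not_isCyclic_plane hAe hA2) h) hM hAM hL hAL

/-- The lines outside `⟨a⟩` together with `⟨a⟩` cover `A`. -/
theorem eq_of_centralizers_le' (hG : Cfsg.IsMinSimpleOddOrder G) (hAe : Cfsg.IsElementaryAbelian p A)
    (hA2 : Nat.card A = p ^ 2) {M L : Subgroup G} (hM : IsCoatom M) (hAM : A ≤ M) (hL : IsCoatom L)
    {a : G} (ha : a ∈ A) (ha1 : a ≠ 1) (haL : Subgroup.centralizer ({a} : Set G) ≤ L)
    (h : ∀ b ∈ A, b ∉ Subgroup.zpowers a → Subgroup.centralizer ({b} : Set G) ≤ L) : L = M := by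
  refine eq_of_centralizers_le hG hAe hA2 hM hAM hL fun b hb hb1 => ?_
  by_cases hba : b ∈ Subgroup.zpowers a
  · exact (centralizer_le_of_mem_zpowers (orderOf_mem hAe ha ha1) hba hb1).trans haL
  · exact h b hb hba

end Plane

/-- A Frobenius group `V⟨b⟩` acting coprimely on `X`: `X ≤ M` if the fixed points of `V` and of `b` are. -/
theorem le_of_frobenius {q r : ℕ} [hq : Fact q.Prime] [hr : Fact r.Prime] (hrp : r ≠ p) (hrq : r ≠ q)
    (hqp : q ≠ p) {X V M : Subgroup G} (hX : IsPGroup r X) (hV : IsPGroup q V) {b : G}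
    (hb : orderOf b = p) (hbV : b ∈ Subgroup.normalizer (V : Set G))
    (hfpf : ∀ v ∈ V, b * v = v * b → v = 1)
    (hVX : V ≤ Subgroup.normalizer (X : Set G)) (hbX : b ∈ Subgroup.normalizer (X : Set G))
    (hVM : V ≤ Subgroup.normalizer (M : Set G)) (hbM : b ∈ Subgroup.normalizer (M : Set G))
    (hCv : X ⊓ Subgroup.centralizer (V : Set G) ≤ M)
    (hCb : X ⊓ Subgroup.centralizer ({b} : Set G) ≤ M) : X ≤ M := by
  set F := Subgroup.zpowers b with hF
  have hFc : Nat.card F = p := by rw [hF, Nat.card_zpowers, hb]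
  have hF1 : F ≠ ⊥ := fun h => hp.out.ne_one (by rw [← hFc, h, Subgroup.card_bot])
  obtain ⟨n, hn⟩ := hV.exists_card_eq
  have hcopVF : (Nat.card V).Coprime (Nat.card F) := by
    rw [hn, hFc]; exact ((Nat.coprime_primes hq.out hp.out).mpr hqp).pow_left n
  have hFV : F ≤ Subgroup.normalizer (V : Set G) := Subgroup.zpowers_le.mpr hbV
  have hfpf' : ∀ e ∈ F, e ≠ 1 → ∀ u ∈ V, e * u = u * e → u = 1 := fun e he he1 u hu heu =>
    hfpf u hu (CubeUnique.commute_of_commute_mem_zpowers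
      (CubeUnique.zpowers_eq_of_mem hb he he1) heu).eq
  have hnX : V ⊔ F ≤ Subgroup.normalizer (X : Set G) := sup_le hVX (Subgroup.zpowers_le.mpr hbX)
  have hnH : V ⊔ F ≤ Subgroup.normalizer ((X ⊓ M : Subgroup G) : Set G) :=
    (le_inf hnX (sup_le hVM (Subgroup.zpowers_le.mpr hbM))).trans
      Subgroup.inf_normalizer_le_normalizer_inf
  have hcop : ∀ H : Subgroup G, H ≤ X → (Nat.card H).Coprime (Nat.card ↥(V ⊔ F)) := by
    intro H hH
    obtain ⟨m, hm⟩ := hX.exists_card_eq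
    refine Nat.Coprime.coprime_dvd_left (Subgroup.card_dvd_of_le hH) ?_
    rw [hm]
    refine Nat.Coprime.pow_left _
      (Nat.Coprime.coprime_dvd_right (sup_comm V F ▸ Coprime.card_sup_dvd hFV) ?_)
    rw [hFc, hn]
    exact Nat.Coprime.mul_right ((Nat.coprime_primes hr.out hp.out).mpr hrp)
      (((Nat.coprime_primes hr.out hq.out).mpr hrq).pow_right n)
  have hXs : Group.IsSolvable X := by
    have := hX.isNilpotent
    infer_instance
  have e1 := OddOrder41.FixedFormula.fixed_formula V F hF1 hFV hcopVF hfpf' X hnX hXs (hcop X le_rfl)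
  have e2 := OddOrder41.FixedFormula.fixed_formula V F hF1 hFV hcopVF hfpf' (X ⊓ M) hnH
    (Group.isSolvable_of_isSolvable_injective (Subgroup.inclusion_injective inf_le_left))
    (hcop _ inf_le_left)
  have hinf : ∀ {Z : Subgroup G}, X ⊓ Z ≤ M → (X ⊓ M) ⊓ Z = X ⊓ Z := fun h =>
    le_antisymm (le_inf (inf_le_left.trans inf_le_left) inf_le_right)
      (le_inf (le_inf inf_le_left h) inf_le_right)
  have hCF : X ⊓ Subgroup.centralizer (F : Set G) ≤ M :=
    (inf_le_inf_left X (Subgroup.centralizer_le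
      (Set.singleton_subset_iff.mpr (Subgroup.mem_zpowers b)))).trans hCb
  rw [hinf hCF, hinf hCv,
    hinf ((inf_le_inf_left X (Subgroup.centralizer_le (SetLike.coe_subset_coe.mpr le_sup_left))).trans hCv),
    ← e1] at e2
  have h3 := Nat.eq_of_mul_eq_mul_left (Nat.pow_pos Nat.card_pos) e2
  exact inf_eq_left.mp (Subgroup.eq_of_le_of_card_ge inf_le_left h3.ge)

/-- A moved element of order prime to `r` forces rank three in an `r`-group it acts on. -/
theorem not_pRankLE_of_moved (hG : Cfsg.IsMinSimpleOddOrder G) {r q : ℕ} [hr : Fact r.Prime]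
    [hq : Fact q.Prime] (hrq : r ≠ q) {X : Subgroup G} (hX : IsPGroup r X) {v b : G}
    (hv : orderOf v = q) (hbv : b ∈ Subgroup.normalizer (Subgroup.zpowers v : Set G))
    (hne : b * v ≠ v * b) (hvX : v ∈ Subgroup.normalizer (X : Set G))
    (hbX : b ∈ Subgroup.normalizer (X : Set G))
    (hnc : ¬ X ≤ Subgroup.centralizer ({v} : Set G)) : ¬ Cfsg.PRankLE r 2 X := by
  intro hr2
  set H := Subgroup.zpowers v ⊔ Subgroup.zpowers b with hH
  have hv1 : v ≠ 1 := fun h => hne (by simp [h])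
  have hXne : X ≠ ⊥ := fun h => hnc (h ▸ bot_le)
  have hle : H ≤ Subgroup.normalizer (Subgroup.zpowers v : Set G) :=
    sup_le Subgroup.le_normalizer (Subgroup.zpowers_le.mpr hbv)
  have hvp : IsPGroup q (Subgroup.zpowers v) :=
    IsPGroup.of_card (n := 1) (by rw [Nat.card_zpowers, hv, pow_one])
  have hHs : Group.IsSolvable H := minSimple_solvable hG fun h =>
    minSimple_normalizer_ne_top hG (Subgroup.zpowers_ne_bot.mpr hv1)
      (minSimple_pgroup_ne_top hG hvp) (top_le_iff.mp (h ▸ hle))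
  set c := ⁅b, v⁆ with hc
  have hcH : c ∈ ⁅H, H⁆ := Subgroup.commutator_mem_commutator
    (le_sup_right (a := Subgroup.zpowers v) (Subgroup.mem_zpowers b))
    (le_sup_left (b := Subgroup.zpowers b) (Subgroup.mem_zpowers v))
  have hcv : c ∈ Subgroup.zpowers v := by
    rw [hc, commutatorElement_def]
    exact mul_mem ((Subgroup.mem_normalizer_iff.mp hbv v).mp (Subgroup.mem_zpowers v))
      (inv_mem (Subgroup.mem_zpowers v))
  have hc1 : c ≠ 1 := fun h => hne (commutatorElement_eq_one_iff_mul_comm.mp h)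
  have hco : (orderOf c).Coprime r := by
    refine Nat.Coprime.coprime_dvd_left (Subgroup.orderOf_dvd_natCard _ hcv) ?_
    rw [Nat.card_zpowers, hv]
    exact (Nat.coprime_primes hq.out hr.out).mpr hrq.symm
  have hfix := OddOrder41.rank_two_commutator_fixes (Uniq.prime_ne_two hG hX hXne) X H hX hr2
    (sup_le (Subgroup.zpowers_le.mpr hvX) (Subgroup.zpowers_le.mpr hbX)) hHs (minSimple_odd hG H)
    c hcH hco
  refine hnc fun x hx => Subgroup.mem_centralizer_singleton_iff.mpr ?_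
  exact (CubeUnique.commute_of_commute_mem_zpowers (CubeUnique.zpowers_eq_of_mem hv hcv hc1)
    (hfix x hx)).symm.eq

theorem zpowers_eq_of_cyclic {S : Subgroup G} (hS : IsCyclic S) {v w : G} (hv : v ∈ S)
    (hvo : orderOf v = p) (hw : w ∈ S) (hwp : w ^ p = 1) : w ∈ Subgroup.zpowers v := by
  refine CubeUnique.mem_zpowers_of_no_sq (inferInstance : IsMulCommutative S)
    (fun W hW hWe hWc => ?_) hv hvo hw hwp
  exact (elemAb_not_isCyclic_iff hWe).mpr hWc.ge
    (isCyclic_of_injective (Subgroup.inclusion hW) (Subgroup.inclusion_injective hW))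

/-- The normalizer of a nontrivial subgroup of a cyclic `p`-group normalizes its subgroup of order `p`. -/
theorem normalizer_le_of_cyclic {S Y : Subgroup G} (hS : IsCyclic S) (hSp : IsPGroup p S) (hYS : Y ≤ S)
    (hY : Y ≠ ⊥) {v : G} (hv : v ∈ S) (hvo : orderOf v = p) :
    Subgroup.normalizer (Y : Set G) ≤ Subgroup.normalizer (Subgroup.zpowers v : Set G) := by
  obtain ⟨w, hw⟩ := exists_prime_orderOf_dvd_card' (G := Y) p (Uniq.prime_dvd_card (hSp.to_le hYS) hY)
  have hwo : orderOf (w : G) = p := (Subgroup.orderOf_coe w).trans hw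
  have hw1 : (w : G) ≠ 1 := fun h => hp.out.ne_one (by rw [← hwo, h, orderOf_one])
  have hvY : v ∈ Y := Subgroup.zpowers_le.mpr w.2
    (CubeUnique.zpowers_eq_of_mem hvo
      (zpowers_eq_of_cyclic hS hv hvo (hYS w.2) (hwo ▸ pow_orderOf_eq_one _)) hw1)
  intro g hg
  refine mem_normalizer_of_cj_eq (Subgroup.eq_of_le_of_card_ge ?_ (card_cj g _).ge)
  rw [Transitivity.cj, MonoidHom.map_zpowers, Subgroup.zpowers_le]
  refine zpowers_eq_of_cyclic hS hv hvo (hYS ((Subgroup.mem_normalizer_iff.mp hg v).mp hvY)) ?_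
  change (g * v * g⁻¹) ^ p = 1
  rw [conj_pow, ← hvo, pow_orderOf_eq_one, mul_one, mul_inv_cancel]

omit hp in
/-- The Frattini argument. -/
theorem le_sup_normalizer {q : ℕ} [Fact q.Prime] {D H S : Subgroup G}
    (hHD : H ≤ Subgroup.normalizer (D : Set G)) (hS : SylowOf q S D) :
    H ≤ D ⊔ (Subgroup.normalizer (S : Set G) ⊓ (D ⊔ H)) := by
  intro h hh
  have hle : cj h S ≤ D := (cj_mono hS.1).trans (cj_eq_of_mem_normalizer (hHD hh)).le
  obtain ⟨d, hd, hle'⟩ := Sigma10.exists_conj_le hS hle (hS.2.1.map _)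
  rw [cj_mul] at hle'
  have hN : d * h ∈ Subgroup.normalizer (S : Set G) :=
    mem_normalizer_of_cj_eq (Subgroup.eq_of_le_of_card_ge hle' (card_cj _ S).ge)
  have h1 : h = d⁻¹ * (d * h) := (inv_mul_cancel_left d h).symm
  rw [h1]
  exact Subgroup.mul_mem_sup (inv_mem hd) ⟨hN, Subgroup.mul_mem_sup hd hh⟩

omit hp in
/-- A group containing one Sylow subgroup for each prime contains everything. -/
theorem le_of_sylows {Y D : Subgroup G}
    (h : ∀ q : ℕ, q.Prime → q ∣ Nat.card Y → ∃ S : Subgroup G, SylowOf q S Y ∧ S ≤ D) : Y ≤ D := by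
  have hdvd : Nat.card Y ∣ Nat.card ↥(Y ⊓ D) := by
    rw [Nat.dvd_iff_prime_pow_dvd_dvd]
    intro q k hq hd
    rcases Nat.eq_zero_or_pos k with rfl | hk
    · simp
    have := Fact.mk hq
    obtain ⟨S, hS, hSD⟩ := h q hq ((dvd_pow_self q hk.ne').trans hd)
    obtain ⟨T, hT⟩ := Sylow.exists_subgroup_card_pow_prime q hd
    have hTc : Nat.card (T.map Y.subtype) = q ^ k := by
      rw [Subgroup.card_map_of_injective Y.subtype_injective, hT]
    exact (hTc ▸ hS.card_dvd (Subgroup.map_subtype_le T) (IsPGroup.of_card hTc)).trans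
      (Subgroup.card_dvd_of_le (le_inf hS.1 hSD))
  exact inf_eq_left.mp (Subgroup.eq_of_le_of_card_ge inf_le_left (Nat.le_of_dvd Nat.card_pos hdvd))

omit hp in
theorem sylow_of_hall {π : Set ℕ} {H S : Subgroup G} (hH : Cfsg.IsPiHall π H) {q : ℕ} [hq : Fact q.Prime]
    (hqπ : q ∈ π) (hS : SylowOf q S H) : ∃ P : Sylow q G, (P : Subgroup G) = S := by
  obtain ⟨P, hP⟩ := hS.2.1.exists_le_sylow
  refine ⟨P, (Subgroup.eq_of_le_of_card_ge hP ?_).symm⟩
  obtain ⟨n, hn⟩ := P.isPGroup'.exists_card_eq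
  have hd : q ^ n ∣ Nat.card H := by
    refine (((Nat.Prime.coprime_iff_not_dvd hq.out).mpr (hH.2 q hq.out hqπ)).pow_left n).dvd_of_dvd_mul_right ?_
    rw [Subgroup.card_mul_index, ← hn]
    exact Subgroup.card_subgroup_dvd_card _
  obtain ⟨T, hT⟩ := Sylow.exists_subgroup_card_pow_prime q hd
  have hTc : Nat.card (T.map H.subtype) = q ^ n := by
    rw [Subgroup.card_map_of_injective H.subtype_injective, hT]
  rw [hn, ← hTc]
  exact Nat.le_of_dvd Nat.card_pos (hS.card_dvd (Subgroup.map_subtype_le T) (IsPGroup.of_card hTc))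

omit hp in
theorem exists_invariant_sylowOf {A L : Subgroup G} {q : ℕ} [Fact q.Prime]
    (hn : A ≤ Subgroup.normalizer (L : Set G)) (hcop : (Nat.card A).Coprime (Nat.card L))
    (hs : Group.IsSolvable L) {Y : Subgroup G} (hYL : Y ≤ L) (hYp : IsPGroup q Y)
    (hYn : A ≤ Subgroup.normalizer (Y : Set G)) :
    ∃ S : Subgroup G, SylowOf q S L ∧ A ≤ Subgroup.normalizer (S : Set G) ∧ Y ≤ S := by
  obtain ⟨S, hS, hYS⟩ := invariant_sylow_ge hn hcop hs hYL hYp hYn
  exact ⟨_, sylowOf_map S, hS, hYS⟩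

omit hp in
theorem exists_invariant_sylowOf' {A L : Subgroup G} {q : ℕ} [Fact q.Prime]
    (hn : A ≤ Subgroup.normalizer (L : Set G)) (hcop : (Nat.card A).Coprime (Nat.card L))
    (hs : Group.IsSolvable L) :
    ∃ S : Subgroup G, SylowOf q S L ∧ A ≤ Subgroup.normalizer (S : Set G) := by
  obtain ⟨S, hS, -⟩ := exists_invariant_sylow (q := q) hn hcop hs
  exact ⟨_, sylowOf_map S, hS⟩

omit hp in
/-- The centralized part of an invariant Sylow subgroup is a Sylow subgroup of the fixed points. -/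
theorem card_dvd_inf_centralizer {A L S Z : Subgroup G} {r : ℕ} [hr : Fact r.Prime]
    (hn : A ≤ Subgroup.normalizer (L : Set G)) (hcop : (Nat.card A).Coprime (Nat.card L))
    (hs : Group.IsSolvable L) (hS : SylowOf r S L) (hSn : A ≤ Subgroup.normalizer (S : Set G))
    (hZL : Z ≤ L) (hZC : Z ≤ Subgroup.centralizer (A : Set G)) (hZ : IsPGroup r Z) :
    Nat.card Z ∣ Nat.card ↥(S ⊓ Subgroup.centralizer (A : Set G)) := by
  have hZn : A ≤ Subgroup.normalizer (Z : Set G) :=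
    (Subgroup.le_centralizer_iff.mp hZC).trans (Subgroup.centralizer_le_normalizer (Z : Set G))
  obtain ⟨k, hk, S', hS'L, hS'p, -, h1, h2⟩ := invSylowConj A L r hr.out hn hcop hs S Z hS.1 hS.2.1 hSn
    hZL hZ hZn
  have he : cj k S = S' := Subgroup.eq_of_le_of_card_ge h1
    ((Nat.le_of_dvd Nat.card_pos (hS.card_dvd hS'L hS'p)).trans (card_cj k S).ge)
  refine (Subgroup.card_dvd_of_le (le_inf (h2.trans he.ge) hZC)).trans ?_
  refine dvd_trans ?_ (card_cj k _).dvd
  refine Subgroup.card_dvd_of_le ?_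
  rintro x ⟨⟨y, hy, rfl⟩, hxC⟩
  refine ⟨y, ⟨hy, ?_⟩, rfl⟩
  have h3 := Subgroup.mul_mem _ (Subgroup.mul_mem _ (Subgroup.inv_mem _ hk.2) hxC) hk.2
  simpa [mul_assoc] using h3

/-- Elements of order `p` centralizing `A` lie in `A` for `p ∉ α(M)`. -/
theorem omega_eq (hG : Cfsg.IsMinSimpleOddOrder G) {M A : Subgroup G} (hM : IsCoatom M)
    (hpα : p ∉ Cfsg.alpha M) (hAM : A ≤ M) (hAe : Cfsg.IsElementaryAbelian p A)
    (hA2 : Nat.card A = p ^ 2) :
    ∀ x ∈ Subgroup.centralizer (A : Set G), x ^ p = 1 ↔ x ∈ A := by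
  refine fun x hx => ⟨fun hxp => ?_, fun h => hAe.2 x h⟩
  have hB := elemAb_sup_zpowers hAe hxp hx
  by_cases hpσ : p ∈ Cfsg.sigma M
  · have hr : Cfsg.PRankLE p 2 M := by_contra fun h => hpα ⟨hp.out, h⟩
    obtain ⟨T⟩ : Nonempty (Sylow p M) := inferInstance
    obtain ⟨P₀, hP₀⟩ := Sigma10.exists_sylow_of_mem_sigma hpσ (sylowOf_map T)
    obtain ⟨P, hP⟩ := (isPGroup_of_elemAb hB).exists_le_sylow
    have hPr : Cfsg.PRankLE p 2 (P : Subgroup G) := (PRankLE.congr (P.equiv P₀)).mpr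
      (PRankLE.of_le (hP₀.le.trans (Subgroup.map_subtype_le _)) hr)
    exact Sigma10.mem_of_rankLE_two hAe hA2 (le_sup_left.trans hP) hPr
      (hP ((le_sup_right : Subgroup.zpowers x ≤ _) (Subgroup.mem_zpowers x))) hxp hx
  · exact (Sigma10.elemAb_sq_maximal hG hM hpσ hAM hAe hA2 hB le_sup_left).le
      ((le_sup_right : Subgroup.zpowers x ≤ _) (Subgroup.mem_zpowers x))

theorem transitivityHypothesis (hG : Cfsg.IsMinSimpleOddOrder G) {M A : Subgroup G} (hM : IsCoatom M)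
    (hpα : p ∉ Cfsg.alpha M) (hAM : A ≤ M) (hAe : Cfsg.IsElementaryAbelian p A)
    (hA2 : Nat.card A = p ^ 2) : Cfsg.TransitivityHypothesis A :=
  Criteria.hypothesis_of_omega hG
    ((hA2 ▸ dvd_pow_self p two_ne_zero : p ∣ Nat.card A).trans (Subgroup.card_subgroup_dvd_card A))
    (isPGroup_of_elemAb hAe) hAe.1 (omega_eq hG hM hpα hAM hAe hA2)
    (Sigma10.pLengthLE_one_proper hG p)

omit hp in
theorem max_of_sylow {A : Subgroup G} {q : ℕ} [Fact q.Prime] (Q : Sylow q G)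
    (hn : A ≤ Subgroup.normalizer ((Q : Subgroup G) : Set G)) :
    (Q : Subgroup G) ∈ Cfsg.maxInvSubgroups ⊤ A {q} :=
  ⟨mem_inv_iff.mpr ⟨Q.isPGroup', hn⟩, fun _ hR hle => Q.is_maximal' (mem_inv_iff.mp hR).1 hle⟩

end CfsgLib.OddOrder.Sigma11
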