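import Mathlib
import Cfsg.Agent.Lib.OddOrder.Sigma11Aux

/-!
# BG §11: pairs of rank two in a maximal subgroup with `M_α ≠ 1`

For `A` elementary abelian of order `p ^ 2` in `M`, `p ∉ α(M)`, the centralizer of `A` lies in `M`, and the
centralizer of an element of `A` fixing points of the layers of an invariant Sylow subgroup of `M_α` lies
only in `M`.
-/

set_option autoImplicit false

namespace CfsgLib.OddOrder.Sigma11

open Subgroup CfsgLib.OddOrder CfsgLib.OddOrder.Transitivity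

universe u

variable {G : Type u} [Group G] [Finite G]

/-- The data of `CubeUnique.exists_layer`. -/
structure AlphaLayer (q : ℕ) (Q T : Subgroup G) : Prop where
  le : T ≤ Q
  normal : Subgroup.normalizer (Q : Set G) ≤ Subgroup.normalizer (T : Set G)
  exp : ∀ x ∈ T, x ^ q = 1
  sq : ∃ W : Subgroup G, W ≤ T ∧ Cfsg.IsElementaryAbelian q W ∧ Nat.card W = q ^ 2
  sq_unique : ∀ W : Subgroup G, W ≤ T → Cfsg.IsElementaryAbelian q W → Nat.card W = q ^ 2 →
    Cfsg.InUniqueMaximal W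
  cover : ∀ X : Subgroup G, (X = T ∨ X = Q ⊓ Subgroup.centralizer (T : Set G)) →
    ∀ x ∈ X, x ^ q = 1 → x ≠ 1 → ∃ W : Subgroup G, Cfsg.IsElementaryAbelian q W ∧
      Nat.card W = q ^ 2 ∧ x ∈ W ∧ W ≤ Q ∧ Cfsg.InUniqueMaximal W

theorem exists_alphaLayer (hG : Cfsg.IsMinSimpleOddOrder G) {q : ℕ} [hq : Fact q.Prime] {Q : Subgroup G}
    (hQ : IsPGroup q Q) (hr : ¬ Cfsg.PRankLE q 2 Q) : ∃ T, AlphaLayer q Q T := by
  have hne : Q ≠ ⊥ := by
    rintro rfl
    exact hr (pRankLE_of_not_dvd 2 (by simp [hq.out.ne_one]))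
  obtain ⟨T, h1, h2, h3, h4, h5⟩ := CubeUnique.exists_layer hG (Uniq.prime_ne_two hG hQ hne) hQ hr
    fun X hXe hXc => CubeUnique.inUniqueMaximal_cube hG hXe hXc
  exact ⟨T, h1, h2, h3, h4, (h5 T (Or.inl rfl)).1, fun X hX => (h5 X hX).2⟩

/-- A Sylow subgroup accounts for the full prime power. -/
theorem sylowOf_cofactor {r : ℕ} [Fact r.Prime] {R K : Subgroup G} (hR : SylowOf r R K) :
    ∃ m, Nat.card K = Nat.card R * m ∧ ¬ r ∣ m := by
  obtain ⟨T, hT⟩ := hR.toSylow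
  refine ⟨(T : Subgroup K).index, ?_, T.not_dvd_index⟩
  rw [← Subgroup.card_mul_index (T : Subgroup K), ← hT, Subgroup.card_map_of_injective K.subtype_injective]

omit [Finite G] in
theorem oPrime_normalizer [Finite G] (q : ℕ) [Fact q.Prime] (K : Subgroup G) :
    Subgroup.normalizer (K : Set G) ≤ Subgroup.normalizer (oPrime q K : Set G) := by
  intro g hg
  refine mem_normalizer_of_cj_eq (Subgroup.eq_of_le_of_card_ge ?_ (card_cj g _).ge)
  have hgK : cj g K = K := cj_eq_of_mem_normalizer hg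
  refine le_oPrime ((cj_mono (oPrime_le K)).trans hgK.le) (fun x hx => mem_normalizer_of_cj_eq ?_)
    (by rw [card_cj]; exact oPrime_coprime K)
  have hx' : g⁻¹ * x * g ∈ K := mem_cj.mp (hgK.ge hx)
  rw [cj_mul, show x * g = g * (g⁻¹ * x * g) by group, ← cj_mul,
    cj_eq_of_mem_normalizer (oPrime_normal K hx')]

omit [Finite G] in
theorem inf_centralizer_cj_le {A Q : Subgroup G} {a k : G} (ha : a ∈ A)
    (hk : k ∈ Subgroup.centralizer (A : Set G)) :
    cj k Q ⊓ Subgroup.centralizer ({a} : Set G) ≤ cj k (Q ⊓ Subgroup.centralizer ({a} : Set G)) := by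
  rintro x ⟨hx, hxa⟩
  have hka : k ∈ Subgroup.centralizer ({a} : Set G) :=
    Subgroup.centralizer_le (Set.singleton_subset_iff.mpr ha) hk
  exact mem_cj.mpr ⟨mem_cj.mp hx,
    Subgroup.mul_mem _ (Subgroup.mul_mem _ (Subgroup.inv_mem _ hka) hxa) hka⟩

omit [Finite G] in
theorem isCyclic_cj {S : Subgroup G} (hS : IsCyclic S) (k : G) : IsCyclic ↥(cj k S) :=
  isCyclic_of_surjective (S.equivMapOfInjective _ (MulAut.conj k).injective).toMonoidHom
    (S.equivMapOfInjective _ (MulAut.conj k).injective).surjective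

section Core

variable {p : ℕ} [hp : Fact p.Prime] (hG : Cfsg.IsMinSimpleOddOrder G) {M A : Subgroup G}
  (hA : Cfsg.TransitivityHypothesis A) (hAe : Cfsg.IsElementaryAbelian p A) {q : ℕ} [hq : Fact q.Prime]

include hAe in
theorem coprime_A {n : ℕ} (hn : n.Coprime p) : (Nat.card A).Coprime n :=
  CubeUnique.coprime_card (isPGroup_of_elemAb hAe) hn

include hAe in
theorem not_dvd_A {r : ℕ} (hr : r.Prime) (hrp : r ≠ p) : ¬ r ∣ Nat.card A :=
  CubeUnique.not_dvd (isPGroup_of_elemAb hAe) hr hrp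

include hA hAe in
theorem piNat_pgroup {r : ℕ} [hr : Fact r.Prime] (hrp : r ≠ p) {X : Subgroup G} (hX : IsPGroup r X) :
    PiNat (Cfsg.primesNotDvd (Nat.card A)) (Nat.card X) :=
  piNat_primesNotDvd_of_isPGroup hr.out (not_dvd_A hAe hr.out hrp) hX

include hG hA hAe in
/-- A proper overgroup `H` of `A` lies in `M` once the normalizer of the centre of the `J`-subgroup of an
invariant Sylow `q`-subgroup does and an element moving `v` has its fixed points in `H` inside `M`. -/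
theorem le_of_step (hqp : q ≠ p) (hAM : A ≤ M) {H S : Subgroup G} (hH : H ≠ ⊤) (hAH : A ≤ H)
    (hS : SylowOf q S (primeCore A H)) (hSn : A ≤ Subgroup.normalizer (S : Set G)) {v b : G}
    (hv : orderOf v = q) (hvS : v ∈ S) (hvn : A ≤ Subgroup.normalizer (Subgroup.zpowers v : Set G))
    (hb : b ∈ A) (hne : b * v ≠ v * b) (hCv : Subgroup.centralizer ({v} : Set G) ≤ M)
    (hCb : H ⊓ Subgroup.centralizer ({b} : Set G) ≤ M)
    (hN : Subgroup.normalizer (PLocal.zj 0 S : Set G) ≤ M) : H ≤ M := by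
  set D := primeCore A H with hD
  have hDH : D ≤ H := piCoreOf_le _ _
  have hDtop : D ≠ ⊤ := fun h => hH (top_le_iff.mp (h ▸ hDH))
  have hDc : (Nat.card D).Coprime p :=
    CubeUnique.primeCore_coprime (isPGroup_of_elemAb hAe) hA H
  have hDn : A ≤ Subgroup.normalizer (D : Set G) := le_normalizer_core hAH
  have hSne : S ≠ ⊥ := fun h => hne (by
    rw [h, Subgroup.mem_bot] at hvS
    simp [hvS])
  have hq2 := Uniq.prime_ne_two hG hS.2.1 hSne
  set R := oPrime q D with hR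
  have hDs := minSimple_solvable hG hDtop
  have hfac := le_sup_normalizer_zj (minSimple_odd hG D) hq2 hS
  have hvM : v ∈ M := hCv (Subgroup.mem_centralizer_singleton_iff.mpr rfl)
  have hbo : orderOf b = p := orderOf_mem hAe hb fun h => hne (by simp [h])
  have hRn : Subgroup.zpowers v ⊔ A ≤ Subgroup.normalizer (R : Set G) :=
    sup_le (Subgroup.zpowers_le.mpr (oPrime_normal D (hS.1 hvS))) (hDn.trans (oPrime_normalizer q D))
  have hRD : R ≤ D := oPrime_le D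
  have hRM : R ≤ M := by
    refine le_of_sylows fun r hr hrR => ?_
    have := Fact.mk hr
    have hrq : r ≠ q := fun h =>
      hr.ne_one (Nat.eq_one_of_dvd_coprimes (oPrime_coprime D) hrR h.dvd)
    have hrp : r ≠ p := fun h =>
      hp.out.ne_one (Nat.eq_one_of_dvd_coprimes hDc (h ▸ hrR.trans (Subgroup.card_dvd_of_le hRD)) dvd_rfl)
    have hcop : (Nat.card ↥(Subgroup.zpowers v ⊔ A)).Coprime (Nat.card R) := by
      refine Nat.Coprime.coprime_dvd_left
        ((sup_comm (Subgroup.zpowers v) A).symm ▸ Coprime.card_sup_dvd hvn) ?_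
      rw [Nat.card_zpowers, hv]
      exact Nat.Coprime.mul_left (coprime_A hAe (hDc.coprime_dvd_left (Subgroup.card_dvd_of_le hRD)))
        (oPrime_coprime D).symm
    obtain ⟨X, hX, hXn⟩ := exists_invariant_sylowOf' (q := r) hRn hcop
      (Group.isSolvable_of_isSolvable_injective (Subgroup.inclusion_injective hRD))
    refine ⟨X, hX, le_of_frobenius hrp hrq hqp hX.2.1
      (IsPGroup.of_card (n := 1) (by rw [Nat.card_zpowers, hv, pow_one]) :
        IsPGroup q (Subgroup.zpowers v))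
      hbo (hvn hb) ?_ (le_sup_left.trans hXn) (hXn ((le_sup_right : A ≤ _) hb))
      ((Subgroup.zpowers_le.mpr hvM).trans Subgroup.le_normalizer) (Subgroup.le_normalizer (hAM hb))
      ?_ ((inf_le_inf_right _ (hX.1.trans (hRD.trans hDH))).trans hCb)⟩
    · intro w hw hwb
      by_contra hw1
      exact hne (CubeUnique.commute_of_commute_mem_zpowers (CubeUnique.zpowers_eq_of_mem hv hw hw1)
        (Commute.symm hwb)).symm.eq
    · rw [centralizer_zpowers]
      exact inf_le_right.trans hCv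
  have hDM : D ≤ M := hfac.trans (sup_le hRM (inf_le_right.trans hN))
  refine (le_sup_normalizer (piCoreOf_normal _ H : H ≤ Subgroup.normalizer (D : Set G)) hS).trans
    (sup_le hDM (inf_le_left.trans ((PLocal.normalizer_le_normalizer_zj 0 S).trans hN)))

end Core

section Alpha

variable {p : ℕ} [hp : Fact p.Prime] (hG : Cfsg.IsMinSimpleOddOrder G) {M A : Subgroup G}
  (hM : IsCoatom M) (hpα : p ∉ Cfsg.alpha M) (hAM : A ≤ M) (hAe : Cfsg.IsElementaryAbelian p A)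
  (hA2 : Nat.card A = p ^ 2)

include hpα hAe in
theorem coprime_alphaCore : (Nat.card A).Coprime (Nat.card (Cfsg.alphaCore M)) :=
  coprime_A hAe ((hp.out.coprime_iff_not_dvd.mpr fun h =>
    hpα (piNat_card_piCoreOf (Cfsg.alpha M) M p hp.out h)).symm)

include hG hM hpα hAM hAe in
/-- Two dimensional fixed points in `M_α`. -/
theorem onlyIn_of_rank {a : G} (ha : a ∈ A) (ha1 : a ≠ 1)
    (hr : ¬ Cfsg.RankLE 1 ↥(Cfsg.alphaCore M ⊓ Subgroup.centralizer ({a} : Set G))) :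
    OnlyIn M (Subgroup.centralizer ({a} : Set G)) := by
  rw [← centralizer_zpowers] at hr
  have hU := Sigma10.inUnique_inf_centralizer hG hM (Subgroup.zpowers_le.mpr (hAM ha))
    (fun r hr' hd hrα => by
      rw [Nat.card_zpowers, orderOf_mem hAe ha ha1] at hd
      exact hpα ((Nat.prime_dvd_prime_iff_eq hr' hp.out).mp hd ▸ hrα)) hr
  exact onlyIn_of_inUnique hU hM inf_le_left (inf_le_right.trans (centralizer_zpowers a).le)
    (minSimple_centralizer_singleton_ne_top hG ha1)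

variable {q : ℕ} [hq : Fact q.Prime] (hqα : q ∈ Cfsg.alpha M) {Q : Subgroup G}
  (hQ : SylowOf q Q (Cfsg.alphaCore M)) (hQn : A ≤ Subgroup.normalizer (Q : Set G))

include hpα hqα in
theorem prime_ne : q ≠ p := fun h => hpα (h ▸ hqα)

include hG hM hqα hQ in
theorem exists_eq_sylow : ∃ P : Sylow q G, (P : Subgroup G) = Q :=
  sylow_of_hall (Sigma10.alphaCore_hall hG hM).2 hqα hQ

include hG hM hqα hQ in
theorem sylowOf_M : SylowOf q Q M := by
  obtain ⟨P, rfl⟩ := exists_eq_sylow hG hM hqα hQ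
  exact sylowOf_of_sylow P (hQ.1.trans (piCoreOf_le _ _))

include hG hM hqα hQ in
theorem not_pRankLE_sylow : ¬ Cfsg.PRankLE q 2 Q := fun h =>
  hqα.2 (Sigma10.pRankLE_of_sylowOf (sylowOf_M hG hM hqα hQ) h)

include hG hM hqα hQ in
theorem sylow_normalizer_le : Subgroup.normalizer (Q : Set G) ≤ M :=
  Sigma10.normalizer_le_of_mem_sigma (Sigma10.alpha_subset_sigma hG hM hqα) (sylowOf_M hG hM hqα hQ)

include hG hM hqα hQ in
theorem sylow_inUnique : Cfsg.InUniqueMaximal Q :=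
  Sigma10.inUnique_of_rank_three hG (not_pRankLE_sylow hG hM hqα hQ) (minSimple_pgroup_ne_top hG hQ.2.1)

include hG hM hqα hQ hQn in
theorem sylow_max : Q ∈ Cfsg.maxInvSubgroups ⊤ A {q} := by
  obtain ⟨P, rfl⟩ := exists_eq_sylow hG hM hqα hQ
  exact max_of_sylow P hQn

variable {T : Subgroup G} (hT : AlphaLayer q Q T)

include hG hM hqα hQ hT in
theorem cover_le {X : Subgroup G} (hX : X = T ∨ X = Q ⊓ Subgroup.centralizer (T : Set G)) {v : G}
    (hv : v ∈ X) (hvo : orderOf v = q) :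
    Subgroup.centralizer ({v} : Set G) ≤ M ∧
      Subgroup.normalizer (Subgroup.zpowers v : Set G) ≤ M := by
  have hv1 : v ≠ 1 := fun h => hq.out.ne_one (by rw [← hvo, h, orderOf_one])
  obtain ⟨W, hWe, -, hvW, hWQ, hWU⟩ := hT.cover X hX v hv (hvo ▸ pow_orderOf_eq_one v) hv1
  have hWv : W ≤ Subgroup.centralizer ({v} : Set G) := fun w hw =>
    Subgroup.mem_centralizer_singleton_iff.mpr (elemAb_commute hWe hw hvW)
  have h := onlyIn_of_inUnique hWU hM (hWQ.trans (sylowOf_M hG hM hqα hQ).1) hWv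
    (minSimple_centralizer_singleton_ne_top hG hv1)
  refine ⟨h.1, (h.mono ?_ ?_).1⟩
  · rw [← centralizer_zpowers]
    exact Subgroup.centralizer_le_normalizer _
  · exact minSimple_normalizer_ne_top hG (Subgroup.zpowers_ne_bot.mpr hv1)
      (minSimple_pgroup_ne_top hG
        (IsPGroup.of_card (n := 1) (by rw [Nat.card_zpowers, hvo, pow_one]) : IsPGroup q (Subgroup.zpowers v)))

include hG hQ in
theorem piece_cyclic (hq2 : q ≠ 2) {a : G}
    (hr : Cfsg.RankLE 1 ↥(Cfsg.alphaCore M ⊓ Subgroup.centralizer ({a} : Set G))) :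
    IsCyclic ↥(Q ⊓ Subgroup.centralizer ({a} : Set G)) :=
  CubeUnique.isCyclic_of_no_sq hq2 (hQ.2.1.to_le inf_le_left) fun W hW hWe hWc =>
    not_rankLE_subgroup_iff.mpr ⟨q, W, hq.out, hW.trans (inf_le_inf_right _ hQ.1), hWe, hWc⟩ hr

include hAe hQn hQ in
theorem piece_normalizes {a v : G} (ha : a ∈ A)
    (hc : IsCyclic ↥(Q ⊓ Subgroup.centralizer ({a} : Set G)))
    (hv : v ∈ Q ⊓ Subgroup.centralizer ({a} : Set G)) (hvo : orderOf v = q) :
    A ≤ Subgroup.normalizer (Subgroup.zpowers v : Set G) := by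
  refine (CubeUnique.le_normalizer_inf hQn
    ((le_centralizer_of_mem hAe ha).trans Subgroup.le_normalizer)).trans
    (normalizer_le_of_cyclic hc (hQ.2.1.to_le inf_le_left) le_rfl ?_ hv hvo)
  exact fun h => hq.out.ne_one (by rw [← hvo, Subgroup.mem_bot.mp (h ▸ hv : v ∈ (⊥ : Subgroup G)), orderOf_one])

include hpα hAe hA2 hqα hQ hQn hT in
theorem inf_centralizer_eq_bot
    (hcyc : ∀ a ∈ A, a ≠ 1 → IsCyclic ↥(Q ⊓ Subgroup.centralizer ({a} : Set G))) :
    Q ⊓ Subgroup.centralizer (A : Set G) = ⊥ := by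
  by_contra hne
  set F := Q ⊓ Subgroup.centralizer (A : Set G) with hF
  obtain ⟨x, hx⟩ := exists_prime_orderOf_dvd_card' (G := F) q
    (Uniq.prime_dvd_card (hQ.2.1.to_le inf_le_left) hne)
  have hxo : orderOf (x : G) = q := (Subgroup.orderOf_coe x).trans hx
  obtain ⟨W, hWT, hWe, hWc⟩ := hT.sq
  have hle : T ≤ Subgroup.zpowers (x : G) := by
    refine Uniq.le_of_centralizers_noncyclic hAe (not_isCyclic_plane hAe hA2)
      (CubeUnique.coprime_prime_of_isPGroup hq.out hp.out (prime_ne hpα hqα) (hQ.2.1.to_le hT.le))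
      (hQn.trans hT.normal) fun a ha ha1 y hy => ?_
    exact zpowers_eq_of_cyclic (hcyc a ha ha1)
      ⟨x.2.1, Subgroup.centralizer_le (Set.singleton_subset_iff.mpr ha) x.2.2⟩ hxo
      ⟨hT.le hy.1, hy.2⟩ (hT.exp y hy.1)
  have h2 := Subgroup.card_le_of_le (hWT.trans hle)
  rw [hWc, Nat.card_zpowers, hxo] at h2
  exact absurd h2 (not_le.mpr (lt_self_pow₀ hq.out.one_lt one_lt_two))

include hG hpα hAe hA2 hqα hQ hQn hT in
theorem exists_lines :
    ∃ a₁ ∈ A, ∃ a₂ ∈ A, ∃ v₁ v₂ : G, a₁ ≠ 1 ∧ a₂ ≠ 1 ∧ orderOf v₁ = q ∧ orderOf v₂ = q ∧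
      v₁ ∈ T ⊓ Subgroup.centralizer ({a₁} : Set G) ∧ v₂ ∈ T ⊓ Subgroup.centralizer ({a₂} : Set G) ∧
      v₂ ∉ Subgroup.zpowers v₁ ∧
      Cfsg.InUniqueMaximal (Subgroup.zpowers v₁ ⊔ Subgroup.zpowers v₂) := by
  have hTp : IsPGroup q T := hQ.2.1.to_le hT.le
  have hTA : A ≤ Subgroup.normalizer (T : Set G) := hQn.trans hT.normal
  obtain ⟨W, hWT, hWe, hWc⟩ := hT.sq
  have hTne : T ≠ ⊥ := fun h => by
    have h2 := Subgroup.card_le_of_le hWT
    rw [h, hWc, Subgroup.card_bot] at h2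
    exact absurd h2 (not_le.mpr (Nat.one_lt_pow two_ne_zero hq.out.one_lt))
  have hnc := not_isCyclic_plane hAe hA2
  have hqp := prime_ne hpα hqα
  obtain ⟨z, hzT, hzc, hzo⟩ := Sigma10.exists_central_orderOf hTp hTne
  obtain ⟨a₁, ha₁, ha₁1, v₁, ⟨⟨hv₁T, hv₁C⟩, hv₁a⟩, hv₁1⟩ : ∃ a ∈ A, a ≠ 1 ∧
      ∃ v ∈ (T ⊓ Subgroup.centralizer (T : Set G)) ⊓ Subgroup.centralizer ({a} : Set G), v ≠ 1 := by
    by_contra hcon
    push Not at hcon
    have hle : T ⊓ Subgroup.centralizer (T : Set G) ≤ ⊥ :=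
      Uniq.le_of_centralizers_noncyclic hAe hnc
        (CubeUnique.coprime_prime_of_isPGroup hq.out hp.out hqp (hTp.to_le inf_le_left))
        (CubeUnique.le_normalizer_inf hTA (hTA.trans (normalizer_centralizer_le T)))
        fun a ha ha1 y hy => Subgroup.mem_bot.mpr (hcon a ha ha1 y hy)
    exact hq.out.ne_one (by
      rw [← hzo, Subgroup.mem_bot.mp (hle ⟨hzT, Subgroup.mem_centralizer_iff.mpr hzc⟩), orderOf_one])
  have hv₁o : orderOf v₁ = q := orderOf_eq_prime (hT.exp v₁ hv₁T) hv₁1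
  obtain ⟨a₂, ha₂, ha₂1, v₂, ⟨hv₂T, hv₂a⟩, hv₂₁⟩ : ∃ a ∈ A, a ≠ 1 ∧
      ∃ v ∈ T ⊓ Subgroup.centralizer ({a} : Set G), v ∉ Subgroup.zpowers v₁ := by
    by_contra hcon
    push Not at hcon
    have hle : T ≤ Subgroup.zpowers v₁ := Uniq.le_of_centralizers_noncyclic hAe hnc
      (CubeUnique.coprime_prime_of_isPGroup hq.out hp.out hqp hTp) hTA hcon
    have h2 := Subgroup.card_le_of_le (hWT.trans hle)
    rw [hWc, Nat.card_zpowers, hv₁o] at h2
    exact absurd h2 (not_le.mpr (lt_self_pow₀ hq.out.one_lt one_lt_two))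
  have hv₂1 : v₂ ≠ 1 := fun h => hv₂₁ (h ▸ Subgroup.one_mem _)
  have hv₂o : orderOf v₂ = q := orderOf_eq_prime (hT.exp v₂ hv₂T) hv₂1
  have he := elemAb_sup_zpowers (elemAb_zpowers (hT.exp v₁ hv₁T)) (hT.exp v₂ hv₂T)
    (Subgroup.mem_centralizer_iff.mpr fun x hx => (Subgroup.mem_centralizer_iff.mp
      (Subgroup.zpowers_le.mpr hv₁C hx) v₂ hv₂T).symm)
  refine ⟨a₁, ha₁, a₂, ha₂, v₁, v₂, ha₁1, ha₂1, hv₁o, hv₂o, ⟨hv₁T, hv₁a⟩, ⟨hv₂T, hv₂a⟩, hv₂₁,
    hT.sq_unique _ (sup_le (Subgroup.zpowers_le.mpr hv₁T) (Subgroup.zpowers_le.mpr hv₂T)) he ?_⟩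
  rw [card_sup_zpowers_of_not_mem he le_sup_left
    (le_sup_right (a := Subgroup.zpowers v₁) (Subgroup.mem_zpowers v₂)) hv₂₁, Nat.card_zpowers, hv₁o,
    pow_two]

include hG hM hpα hAM hAe hA2 hqα hQ hQn hT in
/-- The `π(A)'`-core of `C(A)` lies in `M` when all fixed points are cyclic. -/
theorem core_le (hcyc : ∀ a ∈ A, a ≠ 1 → IsCyclic ↥(Q ⊓ Subgroup.centralizer ({a} : Set G))) :
    primeCore A (Subgroup.centralizer (A : Set G)) ≤ M := by
  have hA := transitivityHypothesis hG hM hpα hAM hAe hA2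
  have hAp := isPGroup_of_elemAb hAe
  have hqp := prime_ne hpα hqα
  have hq2 := Uniq.prime_ne_two hG hQ.2.1 (Uniq.InUniqueMaximal.ne_bot hG (sylow_inUnique hG hM hqα hQ))
  have hQmax := sylow_max hG hM hqα hQ hQn
  have hQM : Q ≤ M := (sylowOf_M hG hM hqα hQ).1
  have hfix := inf_centralizer_eq_bot hpα hAe hA2 hqα hQ hQn hT hcyc
  have hqA := not_dvd_A hAe hq.out hqp
  set KA := primeCore A (Subgroup.centralizer (A : Set G)) with hKA
  have hKC : KA ≤ Subgroup.centralizer (A : Set G) := piCoreOf_le _ _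
  obtain ⟨a₁, ha₁, a₂, ha₂, v₁, v₂, ha₁1, ha₂1, hv₁o, hv₂o, hv₁, hv₂, -, hWU⟩ :=
    exists_lines hG hpα hAe hA2 hqα hQ hQn hT
  refine le_of_sylows fun r hr hrK => ?_
  have := Fact.mk hr
  have hrp : r ≠ p := fun h => (piNat_card_piCoreOf _ _ r hr hrK).2 (h ▸ hA2 ▸ dvd_pow_self p two_ne_zero)
  obtain ⟨Z, hZ, -⟩ := exists_sylowOf_ge (p := r) (bot_le : (⊥ : Subgroup G) ≤ KA) IsPGroup.of_bot
  have hZne : Z ≠ ⊥ := fun h => by
    obtain ⟨m, hm, hrm⟩ := sylowOf_cofactor hZ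
    rw [h, Subgroup.card_bot, one_mul] at hm
    exact hrm (hm ▸ hrK)
  have hrq : r ≠ q := by
    rintro rfl
    have hZn : A ≤ Subgroup.normalizer (Z : Set G) :=
      (Subgroup.le_centralizer_iff.mp (hZ.1.trans hKC)).trans (Subgroup.centralizer_le_normalizer (Z : Set G))
    obtain ⟨Qm, hQm, hle⟩ := exists_max_ge (mem_inv_iff.mpr ⟨hZ.2.1, hZn⟩)
    obtain ⟨k, hk, rfl⟩ := conj_of_center_rank_two hG hA (not_rankLE_center hAe hA2) hqA
      (hrK.trans (Subgroup.card_dvd_of_le hKC)) hQmax hQm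
    refine hZne (eq_bot_iff.mpr fun z hz => ?_)
    have h1 : k⁻¹ * z * k ∈ Q ⊓ Subgroup.centralizer (A : Set G) := ⟨mem_cj.mp (hle hz),
      Subgroup.mul_mem _ (Subgroup.mul_mem _ (Subgroup.inv_mem _ (hKC hk)) (hKC (hZ.1 hz))) (hKC hk)⟩
    rw [hfix, Subgroup.mem_bot] at h1
    rw [Subgroup.mem_bot, show z = k * (k⁻¹ * z * k) * k⁻¹ by group, h1, mul_one, mul_inv_cancel]
  by_contra hgoal
  have piece : ∀ a ∈ A, a ≠ 1 → ∀ v ∈ T ⊓ Subgroup.centralizer ({a} : Set G), orderOf v = q →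
      A ≤ Subgroup.normalizer (Subgroup.zpowers v : Set G) ∧
      ∃ X : Subgroup G, IsPGroup r X ∧ A ≤ Subgroup.normalizer (X : Set G) ∧
        v ∈ Subgroup.normalizer (X : Set G) ∧ Cfsg.InUniqueMaximal X ∧ ¬ X ≤ M := by
    intro a ha ha1 v hv hvo
    have hv1 : v ≠ 1 := fun h => hq.out.ne_one (by rw [← hvo, h, orderOf_one])
    have hvQ : v ∈ Q ⊓ Subgroup.centralizer ({a} : Set G) := ⟨hT.le hv.1, hv.2⟩
    have hvn := piece_normalizes hAe hQ hQn ha (hcyc a ha ha1) hvQ hvo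
    refine ⟨hvn, ?_⟩
    have hvp : IsPGroup q (Subgroup.zpowers v) :=
      IsPGroup.of_card (n := 1) (by rw [Nat.card_zpowers, hvo, pow_one])
    obtain ⟨hCv, hNv⟩ := cover_le hG hM hqα hQ hT (Or.inl rfl) hv.1 hvo
    set Ca := Subgroup.centralizer ({a} : Set G) with hCa
    have hCatop : Ca ≠ ⊤ := minSimple_centralizer_singleton_ne_top hG ha1
    have hACa : A ≤ Ca := le_centralizer_of_mem hAe ha
    set D := primeCore A Ca with hD
    have hDn : A ≤ Subgroup.normalizer (D : Set G) := le_normalizer_core hACa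
    have hDc : (Nat.card D).Coprime p := CubeUnique.primeCore_coprime hAp hA Ca
    have hDs := minSimple_solvable hG (CubeUnique.coprime_ne_top hAp hA hDc)
    have hvD : Subgroup.zpowers v ≤ D := inv_le_core hA hCatop hACa (Subgroup.zpowers_le.mpr hv.2) hvn
      (piNat_pgroup hA hAe hqp hvp)
    obtain ⟨S, hS, hSn, hvS⟩ := exists_invariant_sylowOf hDn (coprime_A hAe hDc) hDs hvD hvp hvn
    obtain ⟨Qm, hQm, hSQm⟩ := exists_max_ge (mem_inv_iff.mpr ⟨hS.2.1, hSn⟩)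
    have hvin : ∀ Y : Subgroup G, v ∈ Y → Ca ⊓ Y ≠ ⊥ := fun Y hY h =>
      hv1 (Subgroup.mem_bot.mp (h ▸ ⟨hv.2, hY⟩ : v ∈ (⊥ : Subgroup G)))
    obtain ⟨k, hk, rfl⟩ := conj_of_common_overgroup hG invSylowConj hA hqA hQmax hQm hCatop hACa
      (hvin _ hvQ.1) (hvin _ (hSQm (hvS (Subgroup.mem_zpowers v))))
    have hSC : S ≤ cj k (Q ⊓ Ca) :=
      (le_inf hSQm (hS.1.trans (piCoreOf_le _ _))).trans (inf_centralizer_cj_le ha (hKC hk))
    have hcC := isCyclic_cj (hcyc a ha ha1) k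
    have hScyc : IsCyclic S :=
      isCyclic_of_injective (Subgroup.inclusion hSC) (Subgroup.inclusion_injective hSC)
    have hvS' : v ∈ S := hvS (Subgroup.mem_zpowers v)
    have hSne : S ≠ ⊥ := fun h => hv1 (Subgroup.mem_bot.mp (h ▸ hvS'))
    have hNzj : Subgroup.normalizer (PLocal.zj 0 S : Set G) ≤ M :=
      (normalizer_le_of_cyclic hScyc hS.2.1 (PLocal.zj_le 0 S) (zj_ne_bot hS.2.1 hSne) hvS' hvo).trans hNv
    set R := oPrime q D with hR
    have hRD : R ≤ D := oPrime_le D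
    have hfac : D ≤ R ⊔ (D ⊓ M) := (le_sup_normalizer_zj (minSimple_odd hG D) hq2 hS).trans
      (sup_le_sup_left (inf_le_inf_left D hNzj) R)
    have hRn : Subgroup.zpowers v ⊔ A ≤ Subgroup.normalizer (R : Set G) :=
      sup_le (hvD.trans (oPrime_normal D)) (hDn.trans (oPrime_normalizer q D))
    have hcop : (Nat.card ↥(Subgroup.zpowers v ⊔ A)).Coprime (Nat.card R) := by
      refine Nat.Coprime.coprime_dvd_left
        ((sup_comm (Subgroup.zpowers v) A).symm ▸ Coprime.card_sup_dvd hvn) ?_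
      rw [Nat.card_zpowers, hvo]
      exact Nat.Coprime.mul_left (coprime_A hAe (hDc.coprime_dvd_left (Subgroup.card_dvd_of_le hRD)))
        (oPrime_coprime D).symm
    obtain ⟨X, hX, hXn⟩ := exists_invariant_sylowOf' (q := r) hRn hcop
      (Group.isSolvable_of_isSolvable_injective (Subgroup.inclusion_injective hRD))
    have hXA : A ≤ Subgroup.normalizer (X : Set G) := le_sup_right.trans hXn
    have hvX : v ∈ Subgroup.normalizer (X : Set G) :=
      hXn ((le_sup_left : Subgroup.zpowers v ≤ _) (Subgroup.mem_zpowers v))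
    have hXM : ¬ X ≤ M := by
      intro hXM
      have hDMn : A ≤ Subgroup.normalizer ((D ⊓ M : Subgroup G) : Set G) :=
        CubeUnique.le_normalizer_inf hDn (hAM.trans Subgroup.le_normalizer)
      have hDMc := hDc.coprime_dvd_left (Subgroup.card_dvd_of_le (inf_le_left : D ⊓ M ≤ D))
      obtain ⟨R₁, hR₁, hR₁n, hXR₁⟩ := exists_invariant_sylowOf hDMn (coprime_A hAe hDMc)
        (Group.isSolvable_of_isSolvable_injective (Subgroup.inclusion_injective inf_le_left))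
        (le_inf (hX.1.trans hRD) hXM) hX.2.1 hXA
      have hR₁D : SylowOf r R₁ D := by
        refine ⟨hR₁.1.trans inf_le_left, hR₁.2.1, fun Q' hQ' hQ'p hle => ?_⟩
        have hmul := Coprime.card_sup_mul_card_inf
          ((inf_le_left : D ⊓ M ≤ D).trans (oPrime_normal D) : D ⊓ M ≤ Subgroup.normalizer (R : Set G))
        have hsup : (D ⊓ M) ⊔ R = D :=
          le_antisymm (sup_le inf_le_left hRD) (sup_comm R (D ⊓ M) ▸ hfac)
        rw [hsup] at hmul
        obtain ⟨m₁, hm₁, hr₁⟩ := sylowOf_cofactor hR₁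
        obtain ⟨m₂, hm₂, hr₂⟩ := sylowOf_cofactor hX
        obtain ⟨c, hc⟩ := Subgroup.card_dvd_of_le
          (le_inf hX.1 (le_inf (hX.1.trans hRD) hXM) : X ≤ R ⊓ (D ⊓ M))
        rw [hm₁, hm₂, hc] at hmul
        have h1 : Nat.card D * c = Nat.card R₁ * (m₁ * m₂) :=
          Nat.eq_of_mul_eq_mul_left (Nat.card_pos (α := X))
            (by linarith [hmul, mul_comm (Nat.card X) (Nat.card D)])
        refine (Subgroup.eq_of_le_of_card_ge hle (Nat.le_of_dvd Nat.card_pos ?_)).symm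
        obtain ⟨n, hn⟩ := hQ'p.exists_card_eq
        rw [hn]
        refine ((((Nat.Prime.coprime_iff_not_dvd hr).mpr ?_).pow_left n)).dvd_of_dvd_mul_right
          (h1 ▸ (hn ▸ Subgroup.card_dvd_of_le hQ').mul_right c)
        exact fun h => (hr.dvd_mul.mp h).elim hr₁ hr₂
      set W := R₁ ⊓ Subgroup.centralizer (A : Set G) with hW
      have hKAn : A ≤ Subgroup.normalizer (KA : Set G) :=
        (Subgroup.le_centralizer_iff.mp hKC).trans (Subgroup.centralizer_le_normalizer (KA : Set G))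
      have hKD : KA ≤ D := inv_le_core hA hCatop hACa
        (hKC.trans (Subgroup.centralizer_le (Set.singleton_subset_iff.mpr ha))) hKAn
        (piNat_card_piCoreOf _ _)
      have hdvd := card_dvd_inf_centralizer hDn (coprime_A hAe hDc) hDs hR₁D hR₁n (hZ.1.trans hKD)
        (hZ.1.trans hKC) hZ.2.1
      have hWK : W ≤ KA := le_core_centralizer hG hA inf_le_right
        (piNat_pgroup hA hAe hrp (hR₁.2.1.to_le inf_le_left))
      refine hgoal ⟨W, ⟨hWK, hR₁.2.1.to_le inf_le_left, fun Q' hQ' hQ'p hle => ?_⟩,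
        inf_le_left.trans (hR₁.1.trans inf_le_right)⟩
      exact (Subgroup.eq_of_le_of_card_ge hle
        ((Nat.le_of_dvd Nat.card_pos (hZ.card_dvd hQ' hQ'p)).trans (Nat.le_of_dvd Nat.card_pos hdvd))).symm
    have hvA : v ∉ Subgroup.centralizer (A : Set G) := fun h =>
      hv1 (Subgroup.mem_bot.mp (hfix ▸ ⟨hvQ.1, h⟩ : v ∈ (⊥ : Subgroup G)))
    obtain ⟨b, hb, hab⟩ := exists_not_mem_zpowers hAe hA2 a
    have hr3 := not_pRankLE_of_moved hG hrq hX.2.1 hvo (hvn hb)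
      (moved_of_not_mem hAe hA2 ha ha1 hb hab hv.2 hvA) hvX (hXA hb) fun h => hXM (h.trans hCv)
    exact ⟨X, hX.2.1, hXA, hvX,
      Sigma10.inUnique_of_rank_three hG hr3 (minSimple_pgroup_ne_top hG hX.2.1), hXM⟩
  obtain ⟨hv₁n, X₁, hX₁p, hX₁A, hv₁X, hX₁U, hX₁M⟩ := piece a₁ ha₁ ha₁1 v₁ hv₁ hv₁o
  obtain ⟨hv₂n, X₂, hX₂p, hX₂A, hv₂X, hX₂U, -⟩ := piece a₂ ha₂ ha₂1 v₂ hv₂ hv₂o
  obtain ⟨L, ⟨hL, hX₁L⟩, -⟩ := id hX₁U
  have hNX₁ : Subgroup.normalizer (X₁ : Set G) ≤ L := (onlyIn_of_inUnique hX₁U hL hX₁L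
    Subgroup.le_normalizer (minSimple_normalizer_ne_top hG (Uniq.InUniqueMaximal.ne_bot hG hX₁U)
      (minSimple_pgroup_ne_top hG hX₁p))).1
  obtain ⟨R₁, hR₁, hXR₁⟩ := exists_max_ge (mem_inv_iff.mpr ⟨hX₁p, hX₁A⟩)
  obtain ⟨R₂, hR₂, hXR₂⟩ := exists_max_ge (mem_inv_iff.mpr ⟨hX₂p, hX₂A⟩)
  obtain ⟨k, hk, rfl⟩ := conj_of_center_rank_two hG hA (not_rankLE_center hAe hA2)
    (not_dvd_A hAe hr hrp) (hrK.trans (Subgroup.card_dvd_of_le hKC)) hR₁ hR₂
  have hkC : k ∈ Subgroup.centralizer (A : Set G) := hKC hk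
  have hAL : A ≤ L := hX₁A.trans hNX₁
  have hR₁L : R₁ ≤ L := (onlyIn_of_inUnique hX₁U hL hX₁L hXR₁
    (minSimple_pgroup_ne_top hG (mem_inv_iff.mp hR₁.1).1)).1
  have hLk : IsCoatom (cj k L) := isCoatom_map_conj hL k
  have hv₂L : k⁻¹ * v₂ * k ∈ L := mem_cj.mp ((onlyIn_of_inUnique hX₂U hLk (hXR₂.trans (cj_mono hR₁L))
    Subgroup.le_normalizer (minSimple_normalizer_ne_top hG (Uniq.InUniqueMaximal.ne_bot hG hX₂U)
      (minSimple_pgroup_ne_top hG hX₂p))).1 hv₂X)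
  set w := k⁻¹ * v₂ * k with hw
  have hwc : Subgroup.zpowers w = cj k⁻¹ (Subgroup.zpowers v₂) := by
    rw [Transitivity.cj, MonoidHom.map_zpowers]; simp [hw]
  have hwp : IsPGroup q (Subgroup.zpowers w) := hwc ▸
    (IsPGroup.of_card (n := 1) (by rw [Nat.card_zpowers, hv₂o, pow_one]) :
      IsPGroup q (Subgroup.zpowers v₂)).map _
  have hwn : A ≤ Subgroup.normalizer (Subgroup.zpowers w : Set G) :=
    (mem_inv_iff.mp (hwc ▸ inv_cj (centralizer_le_normalizer' A (Subgroup.inv_mem _ hkC))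
      (mem_inv_iff.mpr ⟨(IsPGroup.of_card (n := 1) (by rw [Nat.card_zpowers, hv₂o, pow_one]) :
        IsPGroup q (Subgroup.zpowers v₂)), hv₂n⟩) : Subgroup.zpowers w ∈ _)).2
  have hLtop : L ≠ ⊤ := hL.1
  set D := primeCore A L with hD
  have hv₁L : v₁ ∈ L := hNX₁ hv₁X
  have hv₁p : IsPGroup q (Subgroup.zpowers v₁) :=
    IsPGroup.of_card (n := 1) (by rw [Nat.card_zpowers, hv₁o, pow_one])
  have hDc : (Nat.card D).Coprime p := CubeUnique.primeCore_coprime hAp hA L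
  obtain ⟨c, ⟨hcD, hcC⟩, S, hSD, hSp, hSn, hcS, hS₁⟩ := invSylowConj A D q hq.out (le_normalizer_core hAL)
    (coprime_A hAe hDc) (minSimple_solvable hG (CubeUnique.coprime_ne_top hAp hA hDc))
    (Subgroup.zpowers w) (Subgroup.zpowers v₁)
    (inv_le_core hA hLtop hAL (Subgroup.zpowers_le.mpr hv₂L) hwn (piNat_pgroup hA hAe hqp hwp)) hwp hwn
    (inv_le_core hA hLtop hAL (Subgroup.zpowers_le.mpr hv₁L) hv₁n (piNat_pgroup hA hAe hqp hv₁p)) hv₁p hv₁n
  obtain ⟨Qm, hQm, hSQm⟩ := exists_max_ge (mem_inv_iff.mpr ⟨hSp, hSn⟩)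
  have hv₁1 : v₁ ≠ 1 := fun h => hq.out.ne_one (by rw [← hv₁o, h, orderOf_one])
  have hCtop := minSimple_centralizer_singleton_ne_top hG ha₁1
  have hvin : ∀ Y : Subgroup G, v₁ ∈ Y → Subgroup.centralizer ({a₁} : Set G) ⊓ Y ≠ ⊥ := fun Y hY h =>
    hv₁1 (Subgroup.mem_bot.mp (h ▸ ⟨hv₁.2, hY⟩ : v₁ ∈ (⊥ : Subgroup G)))
  obtain ⟨k', hk', rfl⟩ := conj_of_common_overgroup hG invSylowConj hA hqA hQmax hQm hCtop
    (le_centralizer_of_mem hAe ha₁) (hvin _ (hT.le hv₁.1))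
    (hvin _ (hSQm (hS₁ (Subgroup.mem_zpowers v₁))))
  have hk'C : k' ∈ Subgroup.centralizer (A : Set G) := hKC hk'
  -- the lines of `cj k' Q` over `a₁` and `a₂`
  have hline : ∀ a ∈ A, a ≠ 1 → ∀ v ∈ T ⊓ Subgroup.centralizer ({a} : Set G), orderOf v = q →
      ∀ x : G, x ∈ cj k' Q → x ∈ Subgroup.centralizer ({a} : Set G) → orderOf x = q →
      cj k' (Subgroup.zpowers v) = Subgroup.zpowers x := by
    intro a ha ha1 v hv hvo x hxQ hxa hxo
    have hmem := mem_cj.mp (inf_centralizer_cj_le ha hk'C ⟨hxQ, hxa⟩)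
    have h1 : k'⁻¹ * x * k' ∈ Subgroup.zpowers v :=
      zpowers_eq_of_cyclic (hcyc a ha ha1) ⟨hT.le hv.1, hv.2⟩ hvo hmem
        (by
          have := conj_pow (a := k'⁻¹) (b := x) (i := q)
          rw [inv_inv] at this
          rw [this, ← hxo, pow_orderOf_eq_one]; group)
    refine (Subgroup.eq_of_le_of_card_ge ?_ ?_).symm
    · exact Subgroup.zpowers_le.mpr (mem_cj.mpr h1)
    · rw [card_cj, Nat.card_zpowers, Nat.card_zpowers, hvo, hxo]
  have h1 := hline a₁ ha₁ ha₁1 v₁ hv₁ hv₁o v₁ (hSQm (hS₁ (Subgroup.mem_zpowers v₁))) hv₁.2 hv₁o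
  set y := c * w * c⁻¹ with hy
  have hyS : y ∈ S := hcS ⟨w, Subgroup.mem_zpowers w, rfl⟩
  have hCa₂ : ∀ {g : G}, g ∈ Subgroup.centralizer (A : Set G) →
      g ∈ Subgroup.centralizer ({a₂} : Set G) :=
    fun hg => Subgroup.centralizer_le (Set.singleton_subset_iff.mpr ha₂) hg
  have hya : y ∈ Subgroup.centralizer ({a₂} : Set G) :=
    Subgroup.mul_mem _ (Subgroup.mul_mem _ (hCa₂ hcC)
      (Subgroup.mul_mem _ (Subgroup.mul_mem _ (Subgroup.inv_mem _ (hCa₂ hkC)) hv₂.2) (hCa₂ hkC)))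
      (Subgroup.inv_mem _ (hCa₂ hcC))
  have hyo : orderOf y = q := by
    have hyv : y = MulAut.conj (c * k⁻¹) v₂ := by simp [hy, hw, mul_assoc]
    rw [hyv, ← hv₂o]
    exact orderOf_injective (MulAut.conj (c * k⁻¹)).toMonoidHom (MulAut.conj (c * k⁻¹)).injective v₂
  have h2 := hline a₂ ha₂ ha₂1 v₂ hv₂ hv₂o y (hSQm hyS) hya hyo
  have hWL : cj k' (Subgroup.zpowers v₁ ⊔ Subgroup.zpowers v₂) ≤ L := by
    rw [Transitivity.cj, Subgroup.map_sup]
    exact sup_le (h1.le.trans (Subgroup.zpowers_le.mpr hv₁L))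
      (h2.le.trans (Subgroup.zpowers_le.mpr ((hSD.trans (piCoreOf_le _ _)) hyS)))
  have hLM : L = cj k' M := Uniq.InUniqueMaximal.eq (Uniq.InUniqueMaximal.cj hWU k') (isCoatom_map_conj hM k')
    (cj_mono (sup_le (Subgroup.zpowers_le.mpr (hQM (hT.le hv₁.1)))
      (Subgroup.zpowers_le.mpr (hQM (hT.le hv₂.1))))) hL hWL
  have hk'M : k' ∈ M :=
    (cover_le hG hM hqα hQ hT (Or.inl rfl) hv₁.1 hv₁o).2 (mem_normalizer_of_cj_eq h1)
  exact hX₁M ((hX₁L.trans hLM.le).trans (cj_eq_of_mem_normalizer (Subgroup.le_normalizer hk'M)).le)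

include hG hM hpα hAM hAe hA2 hqα hQ hQn hT in
/-- `C(A) ≤ M` when all fixed points are cyclic. -/
theorem centralizer_le_of_cyclic
    (hcyc : ∀ a ∈ A, a ≠ 1 → IsCyclic ↥(Q ⊓ Subgroup.centralizer ({a} : Set G))) :
    Subgroup.centralizer (A : Set G) ≤ M := by
  have hA := transitivityHypothesis hG hM hpα hAM hAe hA2
  have hK := core_le hG hM hpα hAM hAe hA2 hqα hQ hQn hT hcyc
  have hQmax := sylow_max hG hM hqα hQ hQn
  obtain ⟨a, ha, -, -, v, -, ha1, -, hvo, -, hv, -⟩ := exists_lines hG hpα hAe hA2 hqα hQ hQn hT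
  have hv1 : v ≠ 1 := fun h => hq.out.ne_one (by rw [← hvo, h, orderOf_one])
  have hvA : v ∈ Subgroup.centralizer ({a} : Set G) := hv.2
  intro x hx
  have hxa : x ∈ Subgroup.centralizer ({a} : Set G) :=
    Subgroup.centralizer_le (Set.singleton_subset_iff.mpr ha) hx
  have hne1 : Subgroup.centralizer ({a} : Set G) ⊓ Q ≠ ⊥ := fun h =>
    hv1 (Subgroup.mem_bot.mp (h ▸ ⟨hvA, hT.le hv.1⟩ : v ∈ (⊥ : Subgroup G)))
  have hne2 : Subgroup.centralizer ({a} : Set G) ⊓ cj x Q ≠ ⊥ := fun h => by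
    have hm : x * v * x⁻¹ ∈ Subgroup.centralizer ({a} : Set G) ⊓ cj x Q :=
      ⟨Subgroup.mul_mem _ (Subgroup.mul_mem _ hxa hvA) (Subgroup.inv_mem _ hxa), ⟨v, hT.le hv.1, rfl⟩⟩
    rw [h, Subgroup.mem_bot] at hm
    exact hv1 (conj_eq_one_iff.mp hm)
  obtain ⟨k, hk, hkQ⟩ := conj_of_common_overgroup hG invSylowConj hA
    (not_dvd_A hAe hq.out (prime_ne hpα hqα)) hQmax
    (max_cj (centralizer_le_normalizer' A hx) hQmax) (minSimple_centralizer_singleton_ne_top hG ha1)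
    (le_centralizer_of_mem hAe ha) hne1 hne2
  have hN : k⁻¹ * x ∈ Subgroup.normalizer (Q : Set G) := mem_normalizer_of_cj_eq (by
    rw [← cj_mul, hkQ, cj_mul, inv_mul_cancel, cj_one])
  have hxe : x = k * (k⁻¹ * x) := (mul_inv_cancel_left k x).symm
  rw [hxe]
  exact mul_mem (hK hk) (sylow_normalizer_le hG hM hqα hQ hN)

end Alpha

section Main

variable {p : ℕ} [hp : Fact p.Prime] (hG : Cfsg.IsMinSimpleOddOrder G) {M A : Subgroup G}
  (hM : IsCoatom M) (hpα : p ∉ Cfsg.alpha M) (hAM : A ≤ M) (hAe : Cfsg.IsElementaryAbelian p A)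
  (hA2 : Nat.card A = p ^ 2)

include hG hM hpα hAM hAe in
/-- An invariant Sylow subgroup of `M_α` with its layer. -/
theorem exists_invariant_layer {q : ℕ} [hq : Fact q.Prime] (hqα : q ∈ Cfsg.alpha M) :
    ∃ Q T : Subgroup G, SylowOf q Q (Cfsg.alphaCore M) ∧ A ≤ Subgroup.normalizer (Q : Set G) ∧
      AlphaLayer q Q T := by
  obtain ⟨Q, hQ, hQn⟩ := exists_invariant_sylowOf' (q := q)
    (hAM.trans (piCoreOf_normal _ _) : A ≤ Subgroup.normalizer (Cfsg.alphaCore M : Set G))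
    (coprime_alphaCore hpα hAe)
    (minSimple_solvable hG fun h => hM.1 (top_le_iff.mp (h ▸ piCoreOf_le _ _)))
  obtain ⟨T, hT⟩ := exists_alphaLayer hG hQ.2.1 (not_pRankLE_sylow hG hM hqα hQ)
  exact ⟨Q, T, hQ, hQn, hT⟩

theorem exists_mem_alpha (h : Cfsg.alphaCore M ≠ ⊥) : ∃ q : ℕ, q.Prime ∧ q ∈ Cfsg.alpha M := by
  obtain ⟨q, hq, hd⟩ := Nat.exists_prime_and_dvd (fun h1 => h (Subgroup.card_eq_one.mp h1))
  exact ⟨q, hq, piNat_card_piCoreOf (Cfsg.alpha M) M q hq hd⟩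

include hG hM hpα hAM hAe hA2 in
/-- `C(A) ≤ M` when `M_α ≠ 1`. -/
theorem centralizer_le_of_alpha (h : Cfsg.alphaCore M ≠ ⊥) : Subgroup.centralizer (A : Set G) ≤ M := by
  by_cases hr : ∀ a ∈ A, a ≠ 1 →
      Cfsg.RankLE 1 ↥(Cfsg.alphaCore M ⊓ Subgroup.centralizer ({a} : Set G))
  · obtain ⟨q, hq, hqα⟩ := exists_mem_alpha h
    have := Fact.mk hq
    obtain ⟨Q, T, hQ, hQn, hT⟩ := exists_invariant_layer hG hM hpα hAM hAe hqα
    have hq2 := Uniq.prime_ne_two hG hQ.2.1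
      (Uniq.InUniqueMaximal.ne_bot hG (sylow_inUnique hG hM hqα hQ))
    exact centralizer_le_of_cyclic hG hM hpα hAM hAe hA2 hqα hQ hQn hT
      fun a ha ha1 => piece_cyclic hG hQ hq2 (hr a ha ha1)
  · push Not at hr
    obtain ⟨a, ha, ha1, hra⟩ := hr
    exact (Subgroup.centralizer_le (Set.singleton_subset_iff.mpr ha)).trans
      (onlyIn_of_rank hG hM hpα hAM hAe ha ha1 hra).1

variable {q : ℕ} [hq : Fact q.Prime] (hqα : q ∈ Cfsg.alpha M) {Q : Subgroup G}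
  (hQ : SylowOf q Q (Cfsg.alphaCore M)) (hQn : A ≤ Subgroup.normalizer (Q : Set G))
  {T : Subgroup G} (hT : AlphaLayer q Q T) {X : Subgroup G}
  (hX : X = T ∨ X = Q ⊓ Subgroup.centralizer (T : Set G))

include hG hM hpα hAM hAe hA2 hqα hQ hQn hT hX in
/-- An element of order `q` of a layer has its invariant overgroups inside `M`. -/
theorem centralizer_le_of_piece {a v : G} (ha : a ∈ A) (ha1 : a ≠ 1) (hvX : v ∈ X)
    (hva : v ∈ Subgroup.centralizer ({a} : Set G)) (hvo : orderOf v = q)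
    (hvA : v ∉ Subgroup.centralizer (A : Set G)) :
    Subgroup.centralizer ({a} : Set G) ≤ M := by
  by_cases hr : Cfsg.RankLE 1 ↥(Cfsg.alphaCore M ⊓ Subgroup.centralizer ({a} : Set G))
  swap
  · exact (onlyIn_of_rank hG hM hpα hAM hAe ha ha1 hr).1
  have hA := transitivityHypothesis hG hM hpα hAM hAe hA2
  have hAp := isPGroup_of_elemAb hAe
  have hqp := prime_ne hpα hqα
  have hCA : Subgroup.centralizer (A : Set G) ≤ M := centralizer_le_of_alpha hG hM hpα hAM hAe hA2 fun h => by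
    have h1 := Subgroup.card_le_of_le hQ.1
    rw [h, Subgroup.card_bot] at h1
    exact not_pRankLE_sylow hG hM hqα hQ (pRankLE_of_not_dvd 2 fun hd => hq.out.ne_one
      (Nat.dvd_one.mp (le_antisymm h1 Nat.card_pos ▸ hd)))
  have hq2 := Uniq.prime_ne_two hG hQ.2.1 (Uniq.InUniqueMaximal.ne_bot hG (sylow_inUnique hG hM hqα hQ))
  have hcyc := piece_cyclic hG hQ hq2 hr
  have hvQ : v ∈ Q := by rcases hX with rfl | rfl; exacts [hT.le hvX, hvX.1]
  have hvn := piece_normalizes hAe hQ hQn ha hcyc ⟨hvQ, hva⟩ hvo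
  obtain ⟨hCv, hNv⟩ := cover_le hG hM hqα hQ hT hX hvX hvo
  have hv1 : v ≠ 1 := fun h => hvA (h ▸ Subgroup.one_mem _)
  have hvp : IsPGroup q (Subgroup.zpowers v) :=
    IsPGroup.of_card (n := 1) (by rw [Nat.card_zpowers, hvo, pow_one])
  set Ca := Subgroup.centralizer ({a} : Set G) with hCa
  have hCatop : Ca ≠ ⊤ := minSimple_centralizer_singleton_ne_top hG ha1
  have hACa : A ≤ Ca := le_centralizer_of_mem hAe ha
  set D := primeCore A Ca with hD
  have hDc : (Nat.card D).Coprime p := CubeUnique.primeCore_coprime hAp hA Ca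
  obtain ⟨S, hS, hSn, hvS⟩ := exists_invariant_sylowOf (le_normalizer_core hACa) (coprime_A hAe hDc)
    (minSimple_solvable hG (CubeUnique.coprime_ne_top hAp hA hDc))
    (inv_le_core hA hCatop hACa (Subgroup.zpowers_le.mpr hva) hvn (piNat_pgroup hA hAe hqp hvp)) hvp hvn
  have hvS' : v ∈ S := hvS (Subgroup.mem_zpowers v)
  obtain ⟨Qm, hQm, hSQm⟩ := exists_max_ge (mem_inv_iff.mpr ⟨hS.2.1, hSn⟩)
  have hvin : ∀ Y : Subgroup G, v ∈ Y → Ca ⊓ Y ≠ ⊥ := fun Y hY h =>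
    hv1 (Subgroup.mem_bot.mp (h ▸ ⟨hva, hY⟩ : v ∈ (⊥ : Subgroup G)))
  obtain ⟨k, hk, rfl⟩ := conj_of_common_overgroup hG invSylowConj hA (not_dvd_A hAe hq.out hqp)
    (sylow_max hG hM hqα hQ hQn) hQm hCatop hACa (hvin _ hvQ) (hvin _ (hSQm hvS'))
  have hSC : S ≤ cj k (Q ⊓ Ca) := (le_inf hSQm (hS.1.trans (piCoreOf_le _ _))).trans
    (inf_centralizer_cj_le ha (piCoreOf_le _ _ hk))
  have hcC := isCyclic_cj hcyc k
  have hScyc : IsCyclic S :=
    isCyclic_of_injective (Subgroup.inclusion hSC) (Subgroup.inclusion_injective hSC)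
  obtain ⟨b, hb, hab⟩ := exists_not_mem_zpowers hAe hA2 a
  refine le_of_step hG hA hAe hqp hAM hCatop hACa hS hSn hvo hvS' hvn hb
    (moved_of_not_mem hAe hA2 ha ha1 hb hab hva hvA) hCv
    ((inf_centralizer_pair_le hAe hA2 ha ha1 hb hab).trans hCA)
    ((normalizer_le_of_cyclic hScyc hS.2.1 (PLocal.zj_le 0 S)
      (zj_ne_bot hS.2.1 fun h => hv1 (Subgroup.mem_bot.mp (h ▸ hvS'))) hvS' hvo).trans hNv)

include hG hM hpα hAM hAe hA2 hqα hQ hQn hT hX in
/-- The centralizer of an element of `A` with moved fixed points in a layer lies only in `M`. -/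
theorem onlyIn_of_piece {a v : G} (ha : a ∈ A) (ha1 : a ≠ 1) (hvX : v ∈ X)
    (hva : v ∈ Subgroup.centralizer ({a} : Set G)) (hvo : orderOf v = q)
    (hvA : v ∉ Subgroup.centralizer (A : Set G)) :
    OnlyIn M (Subgroup.centralizer ({a} : Set G)) := by
  by_cases hr : Cfsg.RankLE 1 ↥(Cfsg.alphaCore M ⊓ Subgroup.centralizer ({a} : Set G))
  swap
  · exact onlyIn_of_rank hG hM hpα hAM hAe ha ha1 hr
  have hA := transitivityHypothesis hG hM hpα hAM hAe hA2
  have hAp := isPGroup_of_elemAb hAe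
  have hqp := prime_ne hpα hqα
  have hQU := sylow_inUnique hG hM hqα hQ
  have hq2 := Uniq.prime_ne_two hG hQ.2.1 (Uniq.InUniqueMaximal.ne_bot hG hQU)
  have hQM := (sylowOf_M hG hM hqα hQ).1
  have hvQ : v ∈ Q := by rcases hX with rfl | rfl; exacts [hT.le hvX, hvX.1]
  have hvn := piece_normalizes hAe hQ hQn ha (piece_cyclic hG hQ hq2 hr) ⟨hvQ, hva⟩ hvo
  obtain ⟨hCv, -⟩ := cover_le hG hM hqα hQ hT hX hvX hvo
  have hCa := centralizer_le_of_piece hG hM hpα hAM hAe hA2 hqα hQ hQn hT hX ha ha1 hvX hva hvo hvA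
  have hKM : primeCore A (Subgroup.centralizer (A : Set G)) ≤ M :=
    ((piCoreOf_le _ _).trans (Subgroup.centralizer_le (Set.singleton_subset_iff.mpr ha))).trans hCa
  -- a second element of `A` with centralizer in `M`
  obtain ⟨b, hb, hab, hCb⟩ : ∃ b ∈ A, b ∉ Subgroup.zpowers a ∧
      Subgroup.centralizer ({b} : Set G) ≤ M := by
    by_cases hr' : ∀ b ∈ A, b ≠ 1 →
        Cfsg.RankLE 1 ↥(Cfsg.alphaCore M ⊓ Subgroup.centralizer ({b} : Set G))
    · have hcyc := fun b hb hb1 => piece_cyclic hG hQ hq2 (hr' b hb hb1)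
      have hfix := inf_centralizer_eq_bot hpα hAe hA2 hqα hQ hQn hT hcyc
      obtain ⟨a₁, ha₁, a₂, ha₂, v₁, v₂, ha₁1, ha₂1, hv₁o, hv₂o, hv₁, hv₂, hv₂₁, -⟩ :=
        exists_lines hG hpα hAe hA2 hqα hQ hQn hT
      have hgood : ∀ c ∈ A, c ≠ 1 → ∀ w ∈ T ⊓ Subgroup.centralizer ({c} : Set G), orderOf w = q →
          Subgroup.centralizer ({c} : Set G) ≤ M := fun c hc hc1 w hw hwo =>
        centralizer_le_of_piece hG hM hpα hAM hAe hA2 hqα hQ hQn hT (Or.inl rfl) hc hc1 hw.1 hw.2 hwo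
          fun h => hq.out.ne_one (by
            rw [← hwo, Subgroup.mem_bot.mp (hfix ▸ ⟨hT.le hw.1, h⟩ : w ∈ (⊥ : Subgroup G)), orderOf_one])
      by_cases h₁ : a₁ ∈ Subgroup.zpowers a
      · refine ⟨a₂, ha₂, fun h₂ => hv₂₁ ?_, hgood a₂ ha₂ ha₂1 v₂ hv₂ hv₂o⟩
        have hao := orderOf_mem hAe ha ha1
        exact zpowers_eq_of_cyclic (hcyc a ha ha1)
          ⟨hT.le hv₁.1, centralizer_le_of_mem_zpowers hao h₁ ha₁1 hv₁.2⟩ hv₁o
          ⟨hT.le hv₂.1, centralizer_le_of_mem_zpowers hao h₂ ha₂1 hv₂.2⟩ (hT.exp v₂ hv₂.1)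
      · exact ⟨a₁, ha₁, h₁, hgood a₁ ha₁ ha₁1 v₁ hv₁ hv₁o⟩
    · push Not at hr'
      obtain ⟨b, hb, hb1, hrb⟩ := hr'
      refine ⟨b, hb, fun hba => hrb (RankLE.of_le (inf_le_inf_left _ ?_) hr),
        (onlyIn_of_rank hG hM hpα hAM hAe hb hb1 hrb).1⟩
      exact centralizer_le_of_mem_zpowers (orderOf_mem hAe ha ha1) hba hb1
  have hne := moved_of_not_mem hAe hA2 ha ha1 hb hab hva hvA
  have hv1 : v ≠ 1 := fun h => hvA (h ▸ Subgroup.one_mem _)
  have hvp : IsPGroup q (Subgroup.zpowers v) :=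
    IsPGroup.of_card (n := 1) (by rw [Nat.card_zpowers, hvo, pow_one])
  -- every proper overgroup of `A` containing `v` lies in `M`
  have key : ∀ n, ∀ H S : Subgroup G, Nat.card G - Nat.card S = n → H ≠ ⊤ → A ≤ H →
      SylowOf q S (primeCore A H) → A ≤ Subgroup.normalizer (S : Set G) → v ∈ S → H ≤ M := by
    intro n
    induction' n using Nat.strong_induction_on with n ih
    intro H S hn hH hAH hS hSn hvS
    have hSne : S ≠ ⊥ := fun h => hv1 (Subgroup.mem_bot.mp (h ▸ hvS))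
    refine le_of_step hG hA hAe hqp hAM hH hAH hS hSn hvo hvS hvn hb hne hCv (inf_le_right.trans hCb) ?_
    set N := Subgroup.normalizer (PLocal.zj 0 S : Set G) with hN
    have hNtop : N ≠ ⊤ := minSimple_normalizer_ne_top hG (zj_ne_bot hS.2.1 hSne)
      (minSimple_pgroup_ne_top hG (hS.2.1.to_le (PLocal.zj_le 0 S)))
    have hSN : Subgroup.normalizer (S : Set G) ≤ N := PLocal.normalizer_le_normalizer_zj 0 S
    have hAN : A ≤ N := hSn.trans hSN
    obtain ⟨Qm, hQm, hle⟩ := exists_max_ge (mem_inv_iff.mpr ⟨hS.2.1, hSn⟩)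
    obtain ⟨hQmp, hQmn⟩ := mem_inv_iff.mp hQm.1
    rcases hle.eq_or_lt with heq | hlt
    · have hvin : ∀ Y : Subgroup G, v ∈ Y → Subgroup.centralizer ({a} : Set G) ⊓ Y ≠ ⊥ := fun Y hY h =>
        hv1 (Subgroup.mem_bot.mp (h ▸ ⟨hva, hY⟩ : v ∈ (⊥ : Subgroup G)))
      obtain ⟨k, hk, hkQ⟩ := conj_of_common_overgroup hG invSylowConj hA (not_dvd_A hAe hq.out hqp)
        (sylow_max hG hM hqα hQ hQn) hQm (minSimple_centralizer_singleton_ne_top hG ha1)
        (le_centralizer_of_mem hAe ha) (hvin _ hvQ) (hvin _ (hle hvS))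
      have hSM : S ≤ M := heq.le.trans (hkQ.le.trans ((cj_mono hQM).trans
        (cj_eq_of_mem_normalizer (Subgroup.le_normalizer (hKM hk))).le))
      have hSU : Cfsg.InUniqueMaximal S := heq ▸ hkQ ▸ Uniq.InUniqueMaximal.cj hQU k
      exact (onlyIn_of_inUnique hSU hM hSM (Subgroup.le_normalizer.trans hSN) hNtop).1
    · set S' := Subgroup.normalizer (S : Set G) ⊓ Qm with hS'
      have hgrow : Nat.card S < Nat.card S' := normalizer_grows hQmp hlt
      have hS'n : A ≤ Subgroup.normalizer (S' : Set G) :=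
        CubeUnique.le_normalizer_inf (hSn.trans Subgroup.le_normalizer) hQmn
      have hS'p : IsPGroup q S' := hQmp.to_le inf_le_right
      have hDc : (Nat.card (primeCore A N)).Coprime p := CubeUnique.primeCore_coprime hAp hA N
      obtain ⟨S'', hS'', hS''n, hle''⟩ := exists_invariant_sylowOf (le_normalizer_core hAN)
        (coprime_A hAe hDc) (minSimple_solvable hG (CubeUnique.coprime_ne_top hAp hA hDc))
        (inv_le_core hA hNtop hAN (inf_le_left.trans hSN) hS'n (piNat_pgroup hA hAe hqp hS'p)) hS'p hS'n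
      refine ih _ ?_ N S'' rfl hNtop hAN hS'' hS''n (hle'' ⟨Subgroup.le_normalizer hvS, hle hvS⟩)
      have h4 : Nat.card S < Nat.card S'' := lt_of_lt_of_le hgrow (Subgroup.card_le_of_le hle'')
      have h5 := Subgroup.card_le_card_group S''
      omega
  refine ⟨hCa, fun L hL hCaL => ?_⟩
  have hAL : A ≤ L := (le_centralizer_of_mem hAe ha).trans hCaL
  have hDc : (Nat.card (primeCore A L)).Coprime p := CubeUnique.primeCore_coprime hAp hA L
  obtain ⟨S, hS, hSn, hvS⟩ := exists_invariant_sylowOf (le_normalizer_core hAL) (coprime_A hAe hDc)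
    (minSimple_solvable hG (CubeUnique.coprime_ne_top hAp hA hDc))
    (inv_le_core hA hL.1 hAL (Subgroup.zpowers_le.mpr (hCaL hva)) hvn (piNat_pgroup hA hAe hqp hvp)) hvp hvn
  have hLM := key _ L S rfl hL.1 hAL hS hSn (hvS (Subgroup.mem_zpowers v))
  by_contra hne'
  exact hM.1 (hL.2 M (lt_of_le_of_ne hLM hne'))

include hG hM hpα hAM hAe hA2 in
/-- Some element of `A` has its centralizer only in `M` when `M_α ≠ 1`. -/
theorem exists_onlyIn_of_alpha (h : Cfsg.alphaCore M ≠ ⊥) :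
    ∃ a ∈ A, a ≠ 1 ∧ OnlyIn M (Subgroup.centralizer ({a} : Set G)) := by
  by_cases hr : ∀ a ∈ A, a ≠ 1 →
      Cfsg.RankLE 1 ↥(Cfsg.alphaCore M ⊓ Subgroup.centralizer ({a} : Set G))
  · obtain ⟨q', hq', hqα'⟩ := exists_mem_alpha h
    have := Fact.mk hq'
    obtain ⟨Q', T', hQ', hQn', hT'⟩ := exists_invariant_layer hG hM hpα hAM hAe hqα'
    have hq2 := Uniq.prime_ne_two hG hQ'.2.1
      (Uniq.InUniqueMaximal.ne_bot hG (sylow_inUnique hG hM hqα' hQ'))
    have hfix := inf_centralizer_eq_bot hpα hAe hA2 hqα' hQ' hQn' hT'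
      fun b hb hb1 => piece_cyclic hG hQ' hq2 (hr b hb hb1)
    obtain ⟨a, ha, -, -, v, -, ha1, -, hvo, -, hv, -⟩ := exists_lines hG hpα hAe hA2 hqα' hQ' hQn' hT'
    exact ⟨a, ha, ha1, onlyIn_of_piece hG hM hpα hAM hAe hA2 hqα' hQ' hQn' hT' (Or.inl rfl) ha ha1
      hv.1 hv.2 hvo fun h' => hq'.ne_one (by
        rw [← hvo, Subgroup.mem_bot.mp (hfix ▸ ⟨hT'.le hv.1, h'⟩ : v ∈ (⊥ : Subgroup G)), orderOf_one])⟩
  · push Not at hr
    obtain ⟨a, ha, ha1, hra⟩ := hr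
    exact ⟨a, ha, ha1, onlyIn_of_rank hG hM hpα hAM hAe ha ha1 hra⟩

end Main

end CfsgLib.OddOrder.Sigma11
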