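import Mathlib
import Cfsg.Agent.Lib.OddOrder.Sigma11Alpha
import Cfsg.Agent.Lib.Structure.NilpotentSubnormal

/-!
# BG §11: pairs of rank two in a maximal subgroup, `p ∉ σ(M)`

`C_{M_σ}(A) = 1`, and the centralizer of an element of `A` with fixed points in `M_σ` lies only in `M`.
-/

set_option autoImplicit false

namespace CfsgLib.OddOrder.Sigma11

open Subgroup CfsgLib.OddOrder CfsgLib.OddOrder.Transitivity
open scoped commutatorElement

universe u

variable {G : Type u} [Group G] [Finite G]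

omit [Finite G] in
theorem cj_centralizer_singleton (g a : G) :
    cj g (Subgroup.centralizer ({a} : Set G)) = Subgroup.centralizer ({g * a * g⁻¹} : Set G) := by
  ext x
  rw [mem_cj, Subgroup.mem_centralizer_singleton_iff, Subgroup.mem_centralizer_singleton_iff]
  constructor
  · intro h
    calc x * (g * a * g⁻¹) = g * ((g⁻¹ * x * g) * a) * g⁻¹ := by group
      _ = g * (a * (g⁻¹ * x * g)) * g⁻¹ := by rw [h]
      _ = g * a * g⁻¹ * x := by group
  · intro h
    calc g⁻¹ * x * g * a = g⁻¹ * (x * (g * a * g⁻¹)) * g := by group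
      _ = g⁻¹ * (g * a * g⁻¹ * x) * g := by rw [h]
      _ = a * (g⁻¹ * x * g) := by group

/-- A Sylow subgroup lies in the derived group of its normalizer. -/
theorem sylow_le_derived_normalizer (hG : Cfsg.IsMinSimpleOddOrder G) {p : ℕ} [hp : Fact p.Prime]
    (P : Sylow p G) :
    (P : Subgroup G) ≤ ⁅Subgroup.normalizer ((P : Subgroup G) : Set G),
      Subgroup.normalizer ((P : Subgroup G) : Set G)⁆ := by
  set N := Subgroup.normalizer ((P : Subgroup G) : Set G) with hN
  have hn : ((P : Subgroup G).subgroupOf N).Normal :=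
    (Subgroup.normal_subgroupOf_iff_le_normalizer Subgroup.le_normalizer).mpr le_rfl
  obtain ⟨V, hV⟩ := Subgroup.exists_right_complement'_of_coprime (N := (P : Subgroup G).subgroupOf N) (by
    rw [Nat.card_congr (Subgroup.subgroupOfEquivOfLe (Subgroup.le_normalizer : (P : Subgroup G) ≤ N)).toEquiv]
    obtain ⟨n, hn'⟩ := P.isPGroup'.exists_card_eq
    rw [hn']
    exact ((Nat.Prime.coprime_iff_not_dvd hp.out).mpr fun h =>
      P.not_dvd_index (h.trans (Subgroup.relIndex_dvd_index_of_le Subgroup.le_normalizer))).pow_left n)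
  refine (Sigma10.sylow_eq_commutator hG (Sigma10.pLengthLE_one_proper hG p) P (V := V.map N.subtype)
    ⟨Subgroup.le_normalizer, Subgroup.map_subtype_le V, ?_, fun m hm => ?_⟩).2
  · rw [eq_bot_iff]
    rintro x ⟨hxP, y, hy, rfl⟩
    rw [Subgroup.mem_bot]
    exact congrArg Subtype.val (Subgroup.mem_bot.mp (hV.disjoint.le_bot ⟨hxP, hy⟩))
  · obtain ⟨⟨u, v⟩, huv⟩ := hV.surjective ⟨m, hm⟩
    exact ⟨_, u.2, _, ⟨_, v.2, rfl⟩, (congrArg Subtype.val huv).symm⟩

/-- Elements of coprime prime power order in `M'` commute modulo `M_α`. -/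
theorem commutator_mem_alphaCore (hG : Cfsg.IsMinSimpleOddOrder G) {M : Subgroup G} (hM : IsCoatom M)
    {p q : ℕ} [hp : Fact p.Prime] [hq : Fact q.Prime] (hpq : p ≠ q) {b v : G} (hb : b ∈ ⁅M, M⁆)
    (hv : v ∈ ⁅M, M⁆) (hbp : ∃ k, b ^ p ^ k = 1) (hvq : ∃ k, v ^ q ^ k = 1) :
    ⁅b, v⁆ ∈ Cfsg.alphaCore M := by
  set N := Cfsg.piCore (Cfsg.alpha M) M with hN
  set f := QuotientGroup.mk' N with hf
  set F := Cfsg.fittingSubgroup (M ⧸ N) with hF
  have hmem : ∀ {r : ℕ} [Fact r.Prime] {x : G}, x ∈ ⁅M, M⁆ → (∃ k, x ^ r ^ k = 1) →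
      ∃ y : M, (y : G) = x ∧ f y ∈ Cfsg.pCore r (M ⧸ N) := by
    intro r _ x hx hxr
    rw [← Subgroup.map_subtype_commutator] at hx
    obtain ⟨y, hy, rfl⟩ := hx
    refine ⟨y, rfl, ?_⟩
    have hyF : f y ∈ F := Sigma10.derived_quotient_le_fitting hG hM (by
      have h1 : f y ∈ (commutator M).map f := ⟨y, hy, rfl⟩
      rwa [commutator_def, Subgroup.map_commutator,
        Subgroup.map_top_of_surjective f (QuotientGroup.mk'_surjective N), ← commutator_def] at h1)
    obtain ⟨k, hk⟩ := hxr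
    have hyr : IsPGroup r (Subgroup.zpowers (⟨f y, hyF⟩ : F)) := by
      obtain ⟨j, -, hj⟩ := (Nat.dvd_prime_pow Fact.out).mp
        (orderOf_dvd_of_pow_eq_one (x := (⟨f y, hyF⟩ : F)) (n := r ^ k) (Subtype.ext (by
          simp [← map_pow, show y ^ r ^ k = 1 from Subtype.ext (by simpa using hk)])))
      exact IsPGroup.of_card (n := j) (by rw [Nat.card_zpowers, hj])
    obtain ⟨P, hP⟩ := hyr.exists_le_sylow
    rw [← Fitting.sylow_fitting_eq_pCore P]
    exact ⟨_, hP (Subgroup.mem_zpowers _), rfl⟩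
  obtain ⟨y, rfl, hy⟩ := hmem (r := p) hb hbp
  obtain ⟨z, rfl, hz⟩ := hmem (r := q) hv hvq
  have hc : Cfsg.pCore p (M ⧸ N) ≤ Subgroup.centralizer (Cfsg.pCore q (M ⧸ N) : Set (M ⧸ N)) :=
    commute_of_normalizes (by rw [Subgroup.normalizer_eq_top_iff.mpr inferInstance]; exact le_top)
      (by rw [Subgroup.normalizer_eq_top_iff.mpr inferInstance]; exact le_top)
      fun x h1 h2 => isPGroup_inter_eq_one hpq PCore.pCore_isPGroup PCore.pCore_isPGroup h1 h2
  have h1 : f ⁅y, z⁆ = 1 := by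
    rw [map_commutatorElement, commutatorElement_eq_one_iff_mul_comm]
    exact (Subgroup.mem_centralizer_iff.mp (hc hy) _ hz).symm
  rw [hf, QuotientGroup.mk'_apply, QuotientGroup.eq_one_iff] at h1
  exact ⟨_, h1, rfl⟩

section AlphaBot

variable (hG : Cfsg.IsMinSimpleOddOrder G) {M : Subgroup G} (hM : IsCoatom M)
  (h0 : Cfsg.alphaCore M = ⊥)

include hG hM h0 in
theorem not_mem_alpha_of_bot {r : ℕ} : r ∉ Cfsg.alpha M := by
  intro hr
  have := Fact.mk hr.1
  refine (Sigma10.alphaCore_hall hG hM).1.2.2 r hr.1 hr ?_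
  rw [h0, Subgroup.relIndex_bot_left]
  by_contra hd
  exact hr.2 (pRankLE_of_not_dvd 2 hd)

include hG hM h0 in
theorem derived_le_fittingOf_of_bot : ⁅M, M⁆ ≤ Cfsg.fittingOf M :=
  CubeUnique.derived_le_fittingOf hG hM.1 (RankLE.of_le (fittingOf_le M) fun r hr =>
    by_contra fun h => not_mem_alpha_of_bot hG hM h0 (r := r) ⟨hr, h⟩)

include hG hM h0 in
theorem sylow_normal_of_bot {q : ℕ} [hq : Fact q.Prime] (hqσ : q ∈ Cfsg.sigma M) {R : Subgroup G}
    (hR : SylowOf q R M) : M ≤ Subgroup.normalizer (R : Set G) := by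
  have hle : R ≤ opCore q M := le_opCore_of_le_fittingOf
    ((Sigma10.le_derived hG hM hqσ hR).trans (derived_le_fittingOf_of_bot hG hM h0)) hR.2.1
  rw [← hR.2.2 _ (opCore_le q M) (opCore_isPGroup q M) hle]
  exact opCore_normal q M

include hG hM in
theorem sigmaCore_le_derived : Cfsg.sigmaCore M ≤ ⁅M, M⁆ := by
  rw [← Subgroup.map_subtype_commutator]
  exact Subgroup.map_mono
    (Sigma10.piCore_le_commutator hG hM (Sigma10.alpha_subset_sigma hG hM) subset_rfl).1

include hG hM h0 in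
theorem sigmaCore_isNilpotent : Group.IsNilpotent (Cfsg.sigmaCore M) := by
  have := fittingOf_isNilpotent M
  exact Group.nilpotent_of_mulEquiv (Subgroup.subgroupOfEquivOfLe
    ((sigmaCore_le_derived hG hM).trans (derived_le_fittingOf_of_bot hG hM h0)))

end AlphaBot

section Fixed

variable {p : ℕ} [hp : Fact p.Prime] (hG : Cfsg.IsMinSimpleOddOrder G) {M A : Subgroup G}
  (hM : IsCoatom M) (hpσ : p ∉ Cfsg.sigma M) (hAM : A ≤ M) (hAe : Cfsg.IsElementaryAbelian p A)
  (hA2 : Nat.card A = p ^ 2)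

include hG hM hpσ hAe in
theorem coprime_sigmaCore : (Nat.card A).Coprime (Nat.card (Cfsg.sigmaCore M)) :=
  coprime_A hAe ((hp.out.coprime_iff_not_dvd.mpr fun h =>
    hpσ (piNat_card_piCoreOf (Cfsg.sigma M) M p hp.out h)).symm)

include hG hM hpσ hAM hAe hA2 in
/-- An `A`-invariant Sylow subgroup of `M_σ` has no fixed points. -/
theorem sylow_inf_centralizer_eq_bot {q : ℕ} [hq : Fact q.Prime] (hqσ : q ∈ Cfsg.sigma M) {Q : Subgroup G}
    (hQ : SylowOf q Q (Cfsg.sigmaCore M)) (hQn : A ≤ Subgroup.normalizer (Q : Set G)) :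
    Q ⊓ Subgroup.centralizer (A : Set G) = ⊥ := by
  by_contra hne
  have hqp : q ≠ p := fun h => hpσ (h ▸ hqσ)
  have hpα := Sigma10.not_mem_alpha_of_not_mem_sigma hG hM hpσ
  have hA := transitivityHypothesis hG hM hpα hAM hAe hA2
  have hAp := isPGroup_of_elemAb hAe
  obtain ⟨Qs, rfl⟩ := sylow_of_hall (Sigma10.sigmaCore_hall hG hM).2 hqσ hQ
  have hQM : (Qs : Subgroup G) ≤ M := hQ.1.trans (piCoreOf_le _ _)
  have hNQ := Sigma10.normalizer_le_of_mem_sigma hqσ (sylowOf_of_sylow Qs hQM)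
  have hqA := not_dvd_A hAe hq.out hqp
  have hqC : q ∣ Nat.card (Subgroup.centralizer (A : Set G)) :=
    (Uniq.prime_dvd_card (Qs.isPGroup'.to_le inf_le_left) hne).trans (Subgroup.card_dvd_of_le inf_le_right)
  have htr := fun Q₁ h₁ Q₂ h₂ => conj_of_center_rank_two hG hA (not_rankLE_center hAe hA2) hqA hqC
    (Q₁ := Q₁) (Q₂ := Q₂) h₁ h₂
  have hpass : ∀ P : Sylow p G, A ≤ (P : Subgroup G) →
      (∀ Q₁ ∈ Cfsg.maxInvSubgroups ⊤ (P : Subgroup G) {q}, ∀ Q₂ ∈ Cfsg.maxInvSubgroups ⊤ (P : Subgroup G) {q},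
        ∃ k ∈ primeCore A (Subgroup.centralizer ((P : Subgroup G) : Set G)), Q₂ = cj k Q₁) ∧
      Cfsg.maxInvSubgroups ⊤ (P : Subgroup G) {q} ⊆ Cfsg.maxInvSubgroups ⊤ A {q} := by
    intro P hAP
    have := P.isPGroup'.isNilpotent
    exact (transitivity_passes hG hA hqA (P := (P : Subgroup G)) (fun r hr hd => by
      obtain ⟨n, hn⟩ := P.isPGroup'.exists_card_eq
      rw [(Nat.prime_dvd_prime_iff_eq hr hp.out).mp (hr.dvd_of_dvd_pow (hn ▸ hd)), hA2]
      exact dvd_pow_self p two_ne_zero) hAP (Structure.isSubnormal_of_isNilpotent _) htr).2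
  have hπ : ∀ P : Sylow p G, ∀ r : ℕ, r.Prime → r ∣ Nat.card (P : Subgroup G) → r ∣ Nat.card A := by
    intro P r hr hd
    obtain ⟨n, hn⟩ := P.isPGroup'.exists_card_eq
    rw [(Nat.prime_dvd_prime_iff_eq hr hp.out).mp (hr.dvd_of_dvd_pow (hn ▸ hd)), hA2]
    exact dvd_pow_self p two_ne_zero
  obtain ⟨S, hS⟩ := hAp.exists_le_sylow
  obtain ⟨Q', hQ', -⟩ := exists_max_ge (bot_mem_inv (q := q) (S : Subgroup G))
  obtain ⟨k, hk, rfl⟩ := htr _ (max_of_sylow Qs hQn) Q' ((hpass S hS).2 hQ')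
  have hkC : k ∈ Subgroup.centralizer (A : Set G) := piCoreOf_le _ _ hk
  set P := k⁻¹ • S with hP
  have hPc : (P : Subgroup G) = cj k⁻¹ (S : Subgroup G) := by
    rw [hP, Sylow.coe_subgroup_smul]; rfl
  have hAP : A ≤ (P : Subgroup G) := by
    rw [hPc]
    exact (cj_eq_of_mem_normalizer
      (centralizer_le_normalizer' A (Subgroup.inv_mem _ hkC))).ge.trans (cj_mono hS)
  have hPQ : (P : Subgroup G) ≤ Subgroup.normalizer ((Qs : Subgroup G) : Set G) := by
    rw [hPc]
    rintro _ ⟨x, hx, rfl⟩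
    refine mem_normalizer_of_cj_eq ?_
    have h1 := cj_eq_of_mem_normalizer ((mem_inv_iff.mp hQ'.1).2 hx)
    rw [cj_mul] at h1
    have h2 := congrArg (cj k⁻¹) h1
    rw [cj_mul, cj_mul, inv_mul_cancel, cj_one] at h2
    simpa [mul_assoc] using h2
  obtain ⟨hfac1, hfac2⟩ := normalizer_factor (hπ P) (hpass P hAP).1 (max_of_sylow Qs hPQ)
  have hPM : (P : Subgroup G) ≤ M := hPQ.trans hNQ
  have hPs : SylowOf p (P : Subgroup G) M := sylowOf_of_sylow P hPM
  have hpM : p ∣ Nat.card M := ((hA2 ▸ dvd_pow_self p two_ne_zero : p ∣ Nat.card A)).trans (Subgroup.card_dvd_of_le hAM)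
  have hPd : (P : Subgroup G) ≤ ⁅M, M⁆ := le_trans ((le_inf le_rfl (sylow_le_derived_normalizer hG P)).trans
    hfac1) (Subgroup.commutator_mono hNQ hNQ)
  have hCA : ¬ Subgroup.centralizer (A : Set G) ≤ M := fun hle =>
    hpσ (Sigma10.mem_sigma_of_normalizer_le hp.out hpM hPs (by
      rw [hfac2]
      exact sup_le ((piCoreOf_le _ _).trans ((Subgroup.centralizer_le hAP).trans hle))
        (inf_le_right.trans hNQ)))
  have h0 : Cfsg.alphaCore M = ⊥ := by_contra fun h =>
    hCA (centralizer_le_of_alpha hG hM hpα hAM hAe hA2 h)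
  have hPne : (P : Subgroup G) ≠ ⊥ := fun h => hA.1 (le_bot_iff.mp (h ▸ hAP))
  have hle : (P : Subgroup G) ≤ opCore p M :=
    le_opCore_of_le_fittingOf (hPd.trans (derived_le_fittingOf_of_bot hG hM h0)) P.isPGroup'
  refine hpσ (Sigma10.mem_sigma_of_normalizer_le hp.out hpM hPs
    (normalizer_eq_of_isCoatom hG hM hPM hPne ?_).le)
  rw [← hPs.2.2 _ (opCore_le p M) (opCore_isPGroup p M) hle]
  exact opCore_normal p M

include hG hM hpσ hAM hAe hA2 in
/-- BG 12.5 (d): `C_{M_σ}(A) = 1` for `p ∉ σ(M)`. -/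
theorem sigmaCore_inf_centralizer_eq_bot :
    Cfsg.sigmaCore M ⊓ Subgroup.centralizer (A : Set G) = ⊥ := by
  by_contra hne
  obtain ⟨q, hq, hd⟩ := Nat.exists_prime_and_dvd (fun h => hne (Subgroup.card_eq_one.mp h))
  have := Fact.mk hq
  obtain ⟨x, hx⟩ := exists_prime_orderOf_dvd_card' q hd
  have hxo : orderOf (x : G) = q := (Subgroup.orderOf_coe x).trans hx
  obtain ⟨Q, hQ, hQn, hxQ⟩ := exists_invariant_sylowOf (q := q)
    (hAM.trans (piCoreOf_normal _ _) : A ≤ Subgroup.normalizer (Cfsg.sigmaCore M : Set G))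
    (coprime_sigmaCore hG hM hpσ hAe)
    (minSimple_solvable hG fun h => hM.1 (top_le_iff.mp (h ▸ piCoreOf_le _ _)))
    (Subgroup.zpowers_le.mpr x.2.1)
    (IsPGroup.of_card (n := 1) (by rw [Nat.card_zpowers, hxo, pow_one]))
    ((Subgroup.le_centralizer_iff.mp (Subgroup.zpowers_le.mpr x.2.2)).trans
      (Subgroup.centralizer_le_normalizer _))
  have hqσ : q ∈ Cfsg.sigma M := piNat_card_piCoreOf (Cfsg.sigma M) M q hq
    (hd.trans (Subgroup.card_dvd_of_le inf_le_left))
  have h1 : (x : G) ∈ Q ⊓ Subgroup.centralizer (A : Set G) :=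
    ⟨hxQ (Subgroup.mem_zpowers _), x.2.2⟩
  rw [sylow_inf_centralizer_eq_bot hG hM hpσ hAM hAe hA2 hqσ hQ hQn, Subgroup.mem_bot] at h1
  exact hq.ne_one (by rw [← hxo, h1, orderOf_one])

include hG hM hpσ hAM hAe hA2 in
theorem alphaCore_inf_centralizer_eq_bot :
    Cfsg.alphaCore M ⊓ Subgroup.centralizer (A : Set G) = ⊥ :=
  eq_bot_iff.mpr ((inf_le_inf_right _ (Sigma10.alphaCore_le_sigmaCore hG hM)).trans
    (sigmaCore_inf_centralizer_eq_bot hG hM hpσ hAM hAe hA2).le)

include hG hM hpσ hAM hAe hA2 in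
/-- A group acting nontrivially on an invariant Sylow subgroup of `M_α` makes the elements moving it good. -/
theorem good_of_nontrivial {r : ℕ} [hr : Fact r.Prime] (hrα : r ∈ Cfsg.alpha M) {R : Subgroup G}
    (hR : SylowOf r R (Cfsg.alphaCore M)) (hRn : A ≤ Subgroup.normalizer (R : Set G))
    {q : ℕ} [hq : Fact q.Prime] (hqp : q ≠ p) (hrq : r ≠ q) {W : Subgroup G} (hW : IsPGroup q W)
    (hWn : A ≤ Subgroup.normalizer (W : Set G)) (hWR : W ≤ Subgroup.normalizer (R : Set G))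
    (hWfix : W ⊓ Subgroup.centralizer (A : Set G) = ⊥) {a : G} (ha : a ∈ A) (ha1 : a ≠ 1)
    (hWa : W ≤ Subgroup.centralizer ({a} : Set G)) (hnc : ¬ W ≤ Subgroup.centralizer (R : Set G)) :
    ∀ b ∈ A, b ∉ Subgroup.zpowers a → OnlyIn M (Subgroup.centralizer ({b} : Set G)) := by
  intro b hb hab
  have hpα := Sigma10.not_mem_alpha_of_not_mem_sigma hG hM hpσ
  have hrp : r ≠ p := prime_ne hpα hrα
  obtain ⟨T, hT⟩ := exists_alphaLayer hG hR.2.1 (not_pRankLE_sylow hG hM hrα hR)
  have hb1 : b ≠ 1 := fun h => hab (h ▸ Subgroup.one_mem _)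
  have hRT : Subgroup.normalizer (R : Set G) ≤ Subgroup.normalizer (T : Set G) := hT.normal
  have hRK : Subgroup.normalizer (R : Set G) ≤
      Subgroup.normalizer ((R ⊓ Subgroup.centralizer (T : Set G) : Subgroup G) : Set G) :=
    CubeUnique.le_normalizer_inf le_rfl (hRT.trans (normalizer_centralizer_le T))
  by_contra hgood
  have hY : ∀ Y : Subgroup G, (Y = T ∨ Y = R ⊓ Subgroup.centralizer (T : Set G)) →
      Y ≤ Subgroup.centralizer (W : Set G) := by
    intro Y hYd
    have hYR : Y ≤ R := by rcases hYd with rfl | rfl; exacts [hT.le, inf_le_left]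
    have hNY : Subgroup.normalizer (R : Set G) ≤ Subgroup.normalizer (Y : Set G) := by
      rcases hYd with rfl | rfl; exacts [hRT, hRK]
    refine le_of_frobenius hrp hrq hqp (hR.2.1.to_le hYR) hW (orderOf_mem hAe hb hb1) (hWn hb) ?_
      (hWR.trans hNY) (hNY (hRn hb)) (Subgroup.le_normalizer.trans (normalizer_centralizer_le W))
      (normalizer_centralizer_le W (hWn hb)) inf_le_right ?_
    · intro w hw hwb
      refine Subgroup.mem_bot.mp (hWfix ▸ ⟨hw, inf_centralizer_pair_le hAe hA2 ha ha1 hb hab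
        ⟨hWa hw, Subgroup.mem_centralizer_singleton_iff.mpr hwb.symm⟩⟩)
    · rintro y ⟨hyY, hyb⟩
      by_contra hyW
      have hne : Y ⊓ Subgroup.centralizer ({b} : Set G) ≠ ⊥ := fun h =>
        hyW (by rw [Subgroup.mem_bot.mp (h ▸ ⟨hyY, hyb⟩ : y ∈ (⊥ : Subgroup G))]; exact Subgroup.one_mem _)
      obtain ⟨x, hx⟩ := exists_prime_orderOf_dvd_card' (G := ↥(Y ⊓ Subgroup.centralizer ({b} : Set G))) r
        (Uniq.prime_dvd_card (hR.2.1.to_le (inf_le_left.trans hYR)) hne)
      have hxo : orderOf (x : G) = r := (Subgroup.orderOf_coe x).trans hx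
      refine hgood (onlyIn_of_piece hG hM hpα hAM hAe hA2 hrα hR hRn hT hYd hb hb1 x.2.1 x.2.2 hxo
        fun hxA => hr.out.ne_one ?_)
      have h1 : (x : G) ∈ Cfsg.alphaCore M ⊓ Subgroup.centralizer (A : Set G) := ⟨hR.1 (hYR x.2.1), hxA⟩
      rw [alphaCore_inf_centralizer_eq_bot hG hM hpσ hAM hAe hA2, Subgroup.mem_bot] at h1
      rw [← hxo, h1, orderOf_one]
  refine hnc (OddOrder41.le_centralizer_of_centralizer_fixed_le R W hR.2.1.isNilpotent hWR ?_ ?_)
  · obtain ⟨n, hn⟩ := hW.exists_card_eq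
    obtain ⟨m, hm⟩ := hR.2.1.exists_card_eq
    rw [hn, hm]
    exact Nat.Coprime.pow _ _ ((Nat.coprime_primes hq.out hr.out).mpr hrq.symm)
  · have hTle : T ≤ R ⊓ Subgroup.centralizer (W : Set G) := le_inf hT.le (hY T (Or.inl rfl))
    exact fun x hx => ⟨hx.1, hY _ (Or.inr rfl) ⟨hx.1, Subgroup.centralizer_le hTle hx.2⟩⟩

end Fixed

section Key

variable {p : ℕ} [hp : Fact p.Prime] (hG : Cfsg.IsMinSimpleOddOrder G) {M A : Subgroup G}
  (hM : IsCoatom M) (hpσ : p ∉ Cfsg.sigma M) (hAM : A ≤ M) (hAe : Cfsg.IsElementaryAbelian p A)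
  (hA2 : Nat.card A = p ^ 2) {q : ℕ} [hq : Fact q.Prime] (hqσ : q ∈ Cfsg.sigma M) {Q : Subgroup G}
  (hQ : SylowOf q Q (Cfsg.sigmaCore M)) (hQn : A ≤ Subgroup.normalizer (Q : Set G))

theorem not_mem_alpha_bot {L : Subgroup G} (h : Cfsg.alphaCore L ≠ ⊥) :
    ∃ r : ℕ, r.Prime ∧ r ∈ Cfsg.alpha L :=
  exists_mem_alpha h

include hG hM hpσ hAM hAe hA2 hqσ hQ hQn in
/-- A second maximal subgroup over `A` and over a fixed point of `a` in `Q` takes all lines but one. -/
theorem alternative_of_piece {a : G} (ha : a ∈ A) (ha1 : a ≠ 1) {V : Subgroup G} (hVQ : V ≤ Q)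
    (hVa : V ≤ Subgroup.centralizer ({a} : Set G)) (hVn : A ≤ Subgroup.normalizer (V : Set G))
    (hV : V ≠ ⊥) {L : Subgroup G} (hL : IsCoatom L) (hAL : A ≤ L)
    (hCA : Subgroup.centralizer (A : Set G) ≤ L) (hVL : V ≤ L) (hLM : L ≠ M) :
    Cfsg.alphaCore L ≠ ⊥ ∧
      ((∀ b ∈ A, b ∉ Subgroup.zpowers a → OnlyIn L (Subgroup.centralizer ({b} : Set G))) ∨
        Subgroup.centralizer (V : Set G) ≤ L) ∧
      ∃ a' ∈ A, a' ≠ 1 ∧ Q ⊓ Subgroup.centralizer ({a'} : Set G) ≠ ⊥ ∧
        ∀ b ∈ A, b ∉ Subgroup.zpowers a' → OnlyIn L (Subgroup.centralizer ({b} : Set G)) := by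
  have hqp : q ≠ p := fun h => hpσ (h ▸ hqσ)
  have hpα := Sigma10.not_mem_alpha_of_not_mem_sigma hG hM hpσ
  have hA := transitivityHypothesis hG hM hpα hAM hAe hA2
  have hAp := isPGroup_of_elemAb hAe
  have hfix := sylow_inf_centralizer_eq_bot hG hM hpσ hAM hAe hA2 hqσ hQ hQn
  obtain ⟨Qs, rfl⟩ := sylow_of_hall (Sigma10.sigmaCore_hall hG hM).2 hqσ hQ
  have hQM : (Qs : Subgroup G) ≤ M := hQ.1.trans (piCoreOf_le _ _)
  have hNQ := Sigma10.normalizer_le_of_mem_sigma hqσ (sylowOf_of_sylow Qs hQM)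
  have hQmax := max_of_sylow Qs hQn
  have hLs := minSimple_solvable hG hL.1
  have hkL : ∀ {k : G}, k ∈ primeCore A (Subgroup.centralizer (A : Set G)) → k ∈ L := fun {k} hk =>
    hCA (piCoreOf_le _ _ hk)
  -- invariant subgroups of `Q` lie in the derived group
  have hder : ∀ {Y : Subgroup G}, IsPGroup q Y → A ≤ Subgroup.normalizer (Y : Set G) → Y ≤ L →
      Y ⊓ Subgroup.centralizer (A : Set G) = ⊥ → Y ≤ ⁅L, L⁆ := by
    intro Y hYp hYn hYL hYfix
    have hYs : Group.IsSolvable Y := by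
      have := hYp.isNilpotent
      infer_instance
    have h := Coprime.commutator_sup_centralizer A Y hYn
      (coprime_A hAe (CubeUnique.coprime_prime_of_isPGroup hq.out hp.out hqp hYp)) (Or.inr hYs)
    rw [hYfix, sup_bot_eq] at h
    rw [← h]
    exact Subgroup.commutator_mono hYL hAL
  have hVp : IsPGroup q V := Qs.isPGroup'.to_le hVQ
  have hVfix : V ⊓ Subgroup.centralizer (A : Set G) = ⊥ :=
    eq_bot_iff.mpr ((inf_le_inf_right _ hVQ).trans hfix.le)
  have hVd : V ≤ ⁅L, L⁆ := hder hVp hVn hVL hVfix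
  obtain ⟨v₀, hv₀⟩ := exists_prime_orderOf_dvd_card' (G := V) q (Uniq.prime_dvd_card hVp hV)
  have hvo : orderOf (v₀ : G) = q := (Subgroup.orderOf_coe v₀).trans hv₀
  have hv1 : (v₀ : G) ≠ 1 := fun h => hq.out.ne_one (by rw [← hvo, h, orderOf_one])
  have hmeet : ∀ {Y : Subgroup G}, V ≤ Y → Subgroup.centralizer ({a} : Set G) ⊓ Y ≠ ⊥ := fun hY h =>
    hv1 (Subgroup.mem_bot.mp (h ▸ ⟨hVa v₀.2, hY v₀.2⟩ : (v₀ : G) ∈ (⊥ : Subgroup G)))
  have hconj : ∀ {Q' : Subgroup G}, Q' ∈ Cfsg.maxInvSubgroups ⊤ A {q} → V ≤ Q' →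
      ∃ k ∈ primeCore A (Subgroup.centralizer (A : Set G)), Q' = cj k (Qs : Subgroup G) := fun hQ' hVQ' =>
    conj_of_common_overgroup hG invSylowConj hA (not_dvd_A hAe hq.out hqp) hQmax hQ'
      (minSimple_centralizer_singleton_ne_top hG ha1) (le_centralizer_of_mem hAe ha)
      (hmeet hVQ) (hmeet hVQ')
  have hα0 : Cfsg.alphaCore L ≠ ⊥ := by
    intro h0
    have hdF := derived_le_fittingOf_of_bot hG hL h0
    set Y := opCore q L with hYdef
    have hVY : V ≤ Y := le_opCore_of_le_fittingOf (hVd.trans hdF) hVp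
    have hpL : p ∉ Cfsg.sigma L := by
      intro hpL
      obtain ⟨R, hR, hAR⟩ := exists_sylowOf_ge hAL hAp
      have hAO : A ≤ opCore p L :=
        le_opCore_of_le_fittingOf (hAR.trans ((Sigma10.le_derived hG hL hpL hR).trans hdF)) hAp
      have hVA : V ≤ Subgroup.centralizer (A : Set G) :=
        hVY.trans ((opCore_commute hq.out hp.out hqp L).trans (Subgroup.centralizer_le hAO))
      exact hV (by rw [← hVfix]; exact (inf_eq_left.mpr hVA).symm)
    obtain ⟨Q', hQ', hYQ'⟩ := exists_max_ge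
      (mem_inv_iff.mpr ⟨opCore_isPGroup q L, hAL.trans (opCore_normal q L)⟩)
    obtain ⟨hQ'p, hQ'n⟩ := mem_inv_iff.mp hQ'.1
    obtain ⟨k, hk, hkQ⟩ := hconj hQ' (hVY.trans hYQ')
    have hYne : Y ≠ ⊥ := fun h => hV (le_bot_iff.mp (h ▸ hVY))
    have hYQe : Y = Q' := by
      by_contra hne
      have hgrow := normalizer_grows hQ'p (lt_of_le_of_ne hYQ' hne)
      set N := Subgroup.normalizer (Y : Set G) ⊓ Q' with hN
      have hNL : N ≤ L := inf_le_left.trans
        (normalizer_eq_of_isCoatom hG hL (opCore_le q L) hYne (opCore_normal q L)).le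
      have hNn : A ≤ Subgroup.normalizer (N : Set G) :=
        CubeUnique.le_normalizer_inf ((hAL.trans (opCore_normal q L)).trans Subgroup.le_normalizer) hQ'n
      have hNfix : N ⊓ Subgroup.centralizer (A : Set G) = ⊥ := by
        refine eq_bot_iff.mpr fun x hx => ?_
        have hkC : k ∈ Subgroup.centralizer (A : Set G) := piCoreOf_le _ _ hk
        have h1 : k⁻¹ * x * k ∈ (Qs : Subgroup G) ⊓ Subgroup.centralizer (A : Set G) :=
          ⟨mem_cj.mp (hkQ ▸ hx.1.2), Subgroup.mul_mem _ (Subgroup.mul_mem _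
            (Subgroup.inv_mem _ hkC) hx.2) hkC⟩
        rw [hfix, Subgroup.mem_bot] at h1
        rw [Subgroup.mem_bot, show x = k * (k⁻¹ * x * k) * k⁻¹ by group, h1, mul_one, mul_inv_cancel]
      have hle : N ≤ Y := le_opCore_of_le_fittingOf
        ((hder (hQ'p.to_le inf_le_right) hNn hNL hNfix).trans hdF) (hQ'p.to_le inf_le_right)
      exact absurd (Subgroup.card_le_of_le hle) (not_le.mpr hgrow)
    have hQY : (Qs : Subgroup G) = Y := by
      have h1 := cj_eq_of_mem_normalizer (opCore_normal q L (inv_mem (hkL hk)))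
      rw [← hYdef, hYQe, hkQ, cj_mul, inv_mul_cancel, cj_one] at h1
      rw [hYQe, hkQ]
      exact h1
    have hle : L ≤ M := by
      have h1 := opCore_normal q L
      rw [← hYdef, ← hQY] at h1
      exact h1.trans hNQ
    exact hLM (hle.eq_or_lt.resolve_right fun h => hM.1 (hL.2 M h))
  have hqαL : q ∉ Cfsg.alpha L := by
    intro hqα
    have hr1 : ¬ Cfsg.PRankLE p 1 M := not_pRankLE_subgroup_iff.mpr ⟨A, hAM, hAe, hA2⟩
    have hpβ : p ∉ Cfsg.beta L := fun h => Sigma10.not_idealPrime hG hM hpσ hr1 h.2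
    obtain ⟨P, N, hNn, hc⟩ := (Sigma10.derived_complement hG hL
      (fun p _ => Sigma10.pLengthLE_one_proper hG p) (Sigma10.propFiveFive hG) hp.out hpβ).1
    set N' := N.map (⁅L, L⁆ : Subgroup G).subtype with hN'
    have hNc : (Nat.card N').Coprime p := by
      rw [hN', Subgroup.card_map_of_injective (Subgroup.subtype_injective _)]
      refine ((Nat.Prime.coprime_iff_not_dvd hp.out).mpr fun h => P.not_dvd_index ?_).symm
      rw [hc.index_eq_card]
      exact h
    have hin : ∀ Y : Subgroup G, IsPGroup q Y → Y ≤ ⁅L, L⁆ → Y ≤ oPrime p L := by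
      intro Y hYp hYd
      have h1 : Y ≤ N' := by
        intro y hy
        refine ⟨⟨y, hYd hy⟩, ?_, rfl⟩
        rw [SetLike.mem_coe, ← QuotientGroup.eq_one_iff, ← orderOf_eq_one_iff]
        obtain ⟨n, hn⟩ := hYp.exists_card_eq
        obtain ⟨m, hm⟩ := P.isPGroup'.exists_card_eq
        refine Nat.eq_one_of_dvd_coprimes
          (Nat.Coprime.pow n m ((Nat.coprime_primes hq.out hp.out).mpr hqp))
          ((orderOf_map_dvd (QuotientGroup.mk' N) (⟨y, hYd hy⟩ : ↥⁅L, L⁆)).trans ?_) ?_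
        · rw [← Subgroup.orderOf_coe, ← hn]
          exact Subgroup.orderOf_dvd_natCard Y hy
        · rw [← hm, ← hc.symm.index_eq_card]
          exact orderOf_dvd_natCard _
      refine h1.trans ((le_oPrime (Subgroup.map_subtype_le N) (map_subtype_normalized N) hNc).trans ?_)
      exact le_oPrime ((oPrime_le _).trans (Subgroup.commutator_le_self L))
        ((le_normalizer_derived L).trans (oPrime_normalizer p _)) (oPrime_coprime _)
    set O := oPrime p L with hO
    have hqσL := Sigma10.alpha_subset_sigma hG hL hqα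
    obtain ⟨R, hR, -⟩ := exists_sylowOf_ge (p := q) (bot_le : (⊥ : Subgroup G) ≤ L) IsPGroup.of_bot
    have hRO : R ≤ O := hin R hR.2.1 (Sigma10.le_derived hG hL hqσL hR)
    obtain ⟨S, hS, hSn, hVS⟩ := exists_invariant_sylowOf (hAL.trans (oPrime_normal L))
      (coprime_A hAe (oPrime_coprime L))
      (Group.isSolvable_of_isSolvable_injective (Subgroup.inclusion_injective (oPrime_le L)))
      (hin V hVp hVd) hVp hVn
    have hSL : SylowOf q S L := by
      refine ⟨hS.1.trans (oPrime_le L), hS.2.1, fun Z hZ hZp hle => ?_⟩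
      exact (Subgroup.eq_of_le_of_card_ge hle ((Nat.le_of_dvd Nat.card_pos (hR.card_dvd hZ hZp)).trans
        (Nat.le_of_dvd Nat.card_pos (hS.card_dvd hRO hR.2.1)))).symm
    obtain ⟨S', hS'⟩ := Sigma10.exists_sylow_of_mem_sigma hqσL hSL
    obtain ⟨k, hk, hkQ⟩ := hconj (max_of_sylow S' (hS' ▸ hSn)) (hS' ▸ hVS)
    rw [hS'] at hkQ
    have hQL : (Qs : Subgroup G) ≤ L := by
      have h1 := cj_mono (g := k⁻¹) (hkQ.ge.trans hSL.1)
      rw [cj_mul, inv_mul_cancel, cj_one, cj_eq_of_mem_normalizer (Subgroup.le_normalizer (inv_mem (hkL hk)))] at h1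
      exact h1
    have hQU : Cfsg.InUniqueMaximal (Qs : Subgroup G) := by
      refine Sigma10.inUnique_of_rank_three (p := q) hG (fun h => hqα.2 ?_) (minSimple_pgroup_ne_top hG Qs.isPGroup')
      exact Sigma10.pRankLE_of_sylowOf hSL ((PRankLE.congr
        ((MulEquiv.subgroupCongr hS').symm.trans (S'.equiv Qs))).mpr h)
    exact hLM (Uniq.InUniqueMaximal.eq hQU hM hQM hL hQL)
  have hpσL : p ∉ Cfsg.sigma L := by
    intro hpL
    obtain ⟨R, hR, hAR⟩ := exists_sylowOf_ge hAL hAp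
    obtain ⟨b, hb, hab⟩ := exists_not_mem_zpowers hAe hA2 a
    have hvA : (v₀ : G) ∉ Subgroup.centralizer (A : Set G) := fun h =>
      hv1 (Subgroup.mem_bot.mp (hVfix ▸ ⟨v₀.2, h⟩ : (v₀ : G) ∈ (⊥ : Subgroup G)))
    have hne := moved_of_not_mem hAe hA2 ha ha1 hb hab (hVa v₀.2) hvA
    have h1 : ⁅b, (v₀ : G)⁆ ∈ Cfsg.alphaCore L := commutator_mem_alphaCore hG hL hqp.symm
      (hAR.trans (Sigma10.le_derived hG hL hpL hR) hb) (hVd v₀.2) ⟨1, by rw [pow_one, hAe.2 b hb]⟩
      ⟨1, by rw [pow_one, ← hvo, pow_orderOf_eq_one]⟩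
    have h2 : ⁅b, (v₀ : G)⁆ ∈ V := by
      rw [commutatorElement_def]
      exact mul_mem ((Subgroup.mem_normalizer_iff.mp (hVn hb) _).mp v₀.2) (inv_mem v₀.2)
    have hne1 : Cfsg.alphaCore L ⊓ V ≠ ⊥ := fun h => hne (commutatorElement_eq_one_iff_mul_comm.mp
      (Subgroup.mem_bot.mp (h ▸ ⟨h1, h2⟩)))
    exact hqαL (piNat_card_piCoreOf (Cfsg.alpha L) L q hq.out
      ((Uniq.prime_dvd_card (hVp.to_le inf_le_right) hne1).trans (Subgroup.card_dvd_of_le inf_le_left)))
  have hpαL := Sigma10.not_mem_alpha_of_not_mem_sigma hG hL hpσL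
  set S := (Qs : Subgroup G) ⊓ L with hSdef
  have hSp : IsPGroup q S := Qs.isPGroup'.to_le inf_le_left
  have hSn : A ≤ Subgroup.normalizer (S : Set G) :=
    CubeUnique.le_normalizer_inf hQn (hAL.trans Subgroup.le_normalizer)
  have hsylR : ∀ r : ℕ, r ∈ Cfsg.alpha L → ∃ R : Subgroup G, SylowOf r R (Cfsg.alphaCore L) ∧
      A ≤ Subgroup.normalizer (R : Set G) ∧ S ≤ Subgroup.normalizer (R : Set G) := by
    intro r hr
    have := Fact.mk hr.1
    have hn : S ⊔ A ≤ Subgroup.normalizer (Cfsg.alphaCore L : Set G) :=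
      (sup_le inf_le_right hAL).trans (piCoreOf_normal _ _)
    have hcop : (Nat.card ↥(S ⊔ A)).Coprime (Nat.card (Cfsg.alphaCore L)) := by
      refine Nat.Coprime.coprime_dvd_left ((sup_comm S A).symm ▸ Coprime.card_sup_dvd hSn) ?_
      have h1 : (Nat.card S).Coprime (Nat.card (Cfsg.alphaCore L)) :=
        CubeUnique.coprime_of_isPGroup hq.out hSp
          fun h => hqαL (piNat_card_piCoreOf (Cfsg.alpha L) L q hq.out h)
      first
        | exact Nat.Coprime.mul_left h1 (coprime_alphaCore hpαL hAe)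
        | exact Nat.Coprime.mul_left (coprime_alphaCore hpαL hAe) h1
    obtain ⟨R, hR, hRn⟩ := exists_invariant_sylowOf' (q := r) hn hcop
      (minSimple_solvable hG fun h => hL.1 (top_le_iff.mp (h ▸ piCoreOf_le _ _)))
    exact ⟨R, hR, le_sup_right.trans hRn, le_sup_left.trans hRn⟩
  have honly : ∀ {r : ℕ} (hr : r ∈ Cfsg.alpha L) {R : Subgroup G}, SylowOf r R (Cfsg.alphaCore L) →
      ∀ {Z : Subgroup G}, Z ≠ ⊤ → R ≤ Z → Z ≤ L := by
    intro r hr R hR Z hZ hRZ
    have := Fact.mk hr.1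
    exact (onlyIn_of_inUnique (sylow_inUnique hG hL hr hR) hL (hR.1.trans (piCoreOf_le _ _)) hRZ hZ).1
  have hgood : ∀ {r : ℕ} (hr : r ∈ Cfsg.alpha L) {R : Subgroup G}, SylowOf r R (Cfsg.alphaCore L) →
      A ≤ Subgroup.normalizer (R : Set G) → S ≤ Subgroup.normalizer (R : Set G) →
      ∀ c ∈ A, c ≠ 1 → ¬ S ⊓ Subgroup.centralizer ({c} : Set G) ≤ Subgroup.centralizer (R : Set G) →
      ∀ b ∈ A, b ∉ Subgroup.zpowers c → OnlyIn L (Subgroup.centralizer ({b} : Set G)) := by
    intro r hr R hR hRn hSR c hc hc1 hnc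
    have := Fact.mk hr.1
    exact good_of_nontrivial hG hL hpσL hAL hAe hA2 hr hR hRn hqp (fun h => hqαL (h ▸ hr))
      (hSp.to_le inf_le_left)
      (CubeUnique.le_normalizer_inf hSn ((le_centralizer_of_mem hAe hc).trans Subgroup.le_normalizer))
      (inf_le_left.trans hSR)
      (eq_bot_iff.mpr ((inf_le_inf_right _ (inf_le_left.trans inf_le_left)).trans hfix.le))
      hc hc1 inf_le_right hnc
  have hSa : V ≤ S ⊓ Subgroup.centralizer ({a} : Set G) := le_inf (le_inf hVQ hVL) hVa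
  have hVC : ∀ {r : ℕ} (hr : r ∈ Cfsg.alpha L) {R : Subgroup G}, SylowOf r R (Cfsg.alphaCore L) →
      A ≤ Subgroup.normalizer (R : Set G) → S ≤ Subgroup.normalizer (R : Set G) →
      (∀ b ∈ A, b ∉ Subgroup.zpowers a → OnlyIn L (Subgroup.centralizer ({b} : Set G))) ∨
        V ≤ Subgroup.centralizer (R : Set G) := by
    intro r hr R hR hRn hSR
    by_cases hnc : V ≤ Subgroup.centralizer (R : Set G)
    · exact Or.inr hnc
    · exact Or.inl (hgood hr hR hRn hSR a ha ha1 fun h => hnc (hSa.trans h))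
  refine ⟨hα0, ?_, ?_⟩
  · obtain ⟨r, -, hr⟩ := exists_mem_alpha hα0
    obtain ⟨R, hR, hRn, hSR⟩ := hsylR r hr
    exact (hVC hr hR hRn hSR).imp_right fun h => honly hr hR (minSimple_centralizer_subgroup_ne_top hG hV)
      (Subgroup.le_centralizer_iff.mp h)
  by_cases hall : ∀ r ∈ Cfsg.alpha L, ∀ R : Subgroup G, SylowOf r R (Cfsg.alphaCore L) →
      A ≤ Subgroup.normalizer (R : Set G) → S ≤ Subgroup.normalizer (R : Set G) →
      S ≤ Subgroup.centralizer (R : Set G)
  · exfalso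
    have hS1 : S ≠ ⊥ := fun h => hV (le_bot_iff.mp (h ▸ le_inf hVQ hVL))
    have hQL : (Qs : Subgroup G) ≤ L := by
      by_contra hnQ
      obtain ⟨r, -, hr⟩ := exists_mem_alpha hα0
      obtain ⟨R, hR, hRn, hSR⟩ := hsylR r hr
      have hN : Subgroup.normalizer (S : Set G) ≤ L := honly hr hR
        (minSimple_normalizer_ne_top hG hS1 (minSimple_pgroup_ne_top hG hSp))
        ((Subgroup.le_centralizer_iff.mp (hall r hr R hR hRn hSR)).trans
          (Subgroup.centralizer_le_normalizer _))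
      have hgrow := normalizer_grows Qs.isPGroup'
        (lt_of_le_of_ne inf_le_left fun h => hnQ (inf_eq_left.mp h) : S < (Qs : Subgroup G))
      exact absurd (Subgroup.card_le_of_le (le_inf inf_le_right (inf_le_left.trans hN) :
        Subgroup.normalizer (S : Set G) ⊓ (Qs : Subgroup G) ≤ S)) (not_le.mpr hgrow)
    have hSQ : S = (Qs : Subgroup G) := inf_eq_left.mpr hQL
    have hαC : Cfsg.alphaCore L ≤ Subgroup.centralizer ((Qs : Subgroup G) : Set G) := by
      refine le_of_sylows fun r hr hd => ?_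
      have hrα := piNat_card_piCoreOf (Cfsg.alpha L) L r hr hd
      obtain ⟨R, hR, hRn, hSR⟩ := hsylR r hrα
      exact ⟨R, hR, Subgroup.le_centralizer_iff.mp (hSQ ▸ hall r hrα R hR hRn hSR)⟩
    have hQd : (Qs : Subgroup G) ≤ ⁅L, L⁆ := hder Qs.isPGroup' hQn hQL hfix
    set I := ⁅L, L⁆ ⊓ Subgroup.centralizer (Cfsg.alphaCore L : Set G) with hI
    have hIL : I ≤ L := inf_le_left.trans (Subgroup.commutator_le_self L)
    have hIn : L ≤ Subgroup.normalizer (I : Set G) := CubeUnique.le_normalizer_inf (le_normalizer_derived L)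
      ((piCoreOf_normal _ _).trans (normalizer_centralizer_le _))
    have hInil : Group.IsNilpotent I := by
      set N := Cfsg.piCore (Cfsg.alpha L) L with hN
      have hFn : Group.IsNilpotent ↥(Cfsg.fittingSubgroup (L ⧸ N)) := Fitting.fitting_isNilpotent
      let f : ↥I →* ↥(Cfsg.fittingSubgroup (L ⧸ N)) :=
        ((QuotientGroup.mk' N).comp (Subgroup.inclusion hIL)).codRestrict _ fun x => by
          refine Sigma10.derived_quotient_le_fitting hG hL ?_
          have h1 := x.2.1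
          rw [← Subgroup.map_subtype_commutator] at h1
          obtain ⟨y, hy, hyx⟩ := h1
          have h2 : QuotientGroup.mk' N y ∈ (commutator L).map (QuotientGroup.mk' N) := ⟨y, hy, rfl⟩
          rw [_root_.commutator_def, Subgroup.map_commutator,
            Subgroup.map_top_of_surjective _ (QuotientGroup.mk'_surjective N), ← _root_.commutator_def] at h2
          have h3 : y = Subgroup.inclusion hIL x := Subtype.ext hyx
          rw [MonoidHom.comp_apply, ← h3]
          exact h2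
      refine Subgroup.isNilpotent_of_ker_le_center f (fun x hx => Subgroup.mem_center_iff.mpr fun y => ?_)
      have h1 : QuotientGroup.mk' N (Subgroup.inclusion hIL x) = 1 := congrArg Subtype.val hx
      rw [QuotientGroup.mk'_apply, QuotientGroup.eq_one_iff] at h1
      exact Subtype.ext (Subgroup.mem_centralizer_iff.mp y.2.2 _ ⟨_, h1, rfl⟩).symm
    have hle : (Qs : Subgroup G) ≤ opCore q L := le_opCore_of_le_fittingOf
      ((le_inf hQd (Subgroup.le_centralizer_iff.mp hαC)).trans (le_fittingOf hIL hIn hInil)) Qs.isPGroup'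
    have hQe : opCore q L = (Qs : Subgroup G) := Qs.is_maximal' (opCore_isPGroup q L) hle
    have hLle : L ≤ M := (hQe ▸ opCore_normal q L).trans hNQ
    exact hLM (hLle.eq_or_lt.resolve_right fun h => hM.1 (hL.2 M h))
  · push Not at hall
    obtain ⟨r, hr, R, hR, hRn, hSR, hnc⟩ := hall
    obtain ⟨c, hc, hc1, hcnc⟩ : ∃ c ∈ A, c ≠ 1 ∧
        ¬ S ⊓ Subgroup.centralizer ({c} : Set G) ≤ Subgroup.centralizer (R : Set G) := by
      by_contra hcon
      push Not at hcon
      exact hnc (Uniq.le_of_centralizers_noncyclic hAe (not_isCyclic_plane hAe hA2)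
        (CubeUnique.coprime_prime_of_isPGroup hq.out hp.out hqp hSp) hSn hcon)
    have hlines := hgood hr hR hRn hSR c hc hc1 hcnc
    refine ⟨c, hc, hc1, fun h => hcnc ?_, hlines⟩
    exact ((inf_le_inf_right _ inf_le_left).trans h.le).trans bot_le

include hG hM hpσ hAM hAe hA2 hqσ hQ hQn in
/-- A second maximal subgroup over `C(a)` takes all lines but one. -/
theorem alternative {a : G} (ha : a ∈ A) (ha1 : a ≠ 1)
    (hV : Q ⊓ Subgroup.centralizer ({a} : Set G) ≠ ⊥) {L : Subgroup G} (hL : IsCoatom L)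
    (haL : Subgroup.centralizer ({a} : Set G) ≤ L) (hLM : L ≠ M) :
    Cfsg.alphaCore L ≠ ⊥ ∧
      Subgroup.centralizer ((Q ⊓ Subgroup.centralizer ({a} : Set G) : Subgroup G) : Set G) ≤ L ∧
      ∃ a' ∈ A, a' ≠ 1 ∧ a ∉ Subgroup.zpowers a' ∧ Q ⊓ Subgroup.centralizer ({a'} : Set G) ≠ ⊥ ∧
        ∀ b ∈ A, b ∉ Subgroup.zpowers a' → OnlyIn L (Subgroup.centralizer ({b} : Set G)) := by
  obtain ⟨hα0, hor, c, hc, hc1, hQc, hlines⟩ := alternative_of_piece hG hM hpσ hAM hAe hA2 hqσ hQ hQn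
    ha ha1 inf_le_left inf_le_right
    (CubeUnique.le_normalizer_inf hQn ((le_centralizer_of_mem hAe ha).trans Subgroup.le_normalizer)) hV hL
    ((le_centralizer_of_mem hAe ha).trans haL)
    ((Subgroup.centralizer_le (Set.singleton_subset_iff.mpr ha)).trans haL) (inf_le_right.trans haL) hLM
  refine ⟨hα0, hor.resolve_left fun h => hLM ?_, c, hc, hc1, fun hac => hLM ?_, hQc, hlines⟩
  · exact eq_of_centralizers_le' hG hAe hA2 hM hAM hL ha ha1 haL fun b hb hab => (h b hb hab).1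
  · exact eq_of_centralizers_le' hG hAe hA2 hM hAM hL hc hc1
      (fun x hx => haL (Subgroup.mem_centralizer_singleton_iff.mpr
        (CubeUnique.commute_of_commute_mem_zpowers hac
          (Subgroup.mem_centralizer_singleton_iff.mp hx).symm).symm.eq))
      fun b hb hbc => (hlines b hb hbc).1

include hG hM hpσ hAM hAe hA2 hqσ hQ hQn in
/-- The centralizer of an element of `A` fixing points of `M_σ` lies only in `M`. -/
theorem onlyIn_of_fixed_sylow {a : G} (ha : a ∈ A) (ha1 : a ≠ 1)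
    (hV : Q ⊓ Subgroup.centralizer ({a} : Set G) ≠ ⊥) :
    OnlyIn M (Subgroup.centralizer ({a} : Set G)) := by
  refine onlyIn_of_forall (minSimple_centralizer_singleton_ne_top hG ha1) fun L hL haL => ?_
  by_contra hLM
  obtain ⟨hα0, hCV, a', ha', ha'1, haa', hV', hlines⟩ :=
    alternative hG hM hpσ hAM hAe hA2 hqσ hQ hQn ha ha1 hV hL haL hLM
  have hpα := Sigma10.not_mem_alpha_of_not_mem_sigma hG hM hpσ
  have hqp : q ≠ p := fun h => hpσ (h ▸ hqσ)
  have hfix := sylow_inf_centralizer_eq_bot hG hM hpσ hAM hAe hA2 hqσ hQ hQn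
  -- a common line
  have hpick : ∀ c ∈ A, c ≠ 1 → ∃ b ∈ A, b ∉ Subgroup.zpowers a' ∧ b ∉ Subgroup.zpowers c := by
    intro c hc hc1
    obtain ⟨b, hb, hba⟩ := exists_not_mem_zpowers hAe hA2 a'
    by_cases hbc : b ∈ Subgroup.zpowers c
    · refine ⟨a' * b, mul_mem ha' hb, fun h => hba ?_, fun h => hba ?_⟩
      · simpa using mul_mem (inv_mem (Subgroup.mem_zpowers a')) h
      · have h1 : a' ∈ Subgroup.zpowers c := by simpa using mul_mem h (inv_mem hbc)
        exact (Subgroup.zpowers_le.mpr (CubeUnique.zpowers_eq_of_mem (orderOf_mem hAe hc hc1) h1 ha'1)) hbc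
    · exact ⟨b, hb, hba, hbc⟩
  have haM' : OnlyIn M (Subgroup.centralizer ({a'} : Set G)) := by
    refine onlyIn_of_forall (minSimple_centralizer_singleton_ne_top hG ha'1) fun L' hL' haL' => ?_
    by_contra hLM'
    obtain ⟨-, -, a'', ha'', ha''1, -, -, hlines'⟩ :=
      alternative hG hM hpσ hAM hAe hA2 hqσ hQ hQn ha' ha'1 hV' hL' haL' hLM'
    obtain ⟨b, hb, hb', hb''⟩ := hpick a'' ha'' ha''1
    obtain rfl : L = L' := (hlines' b hb hb'').2 L hL (hlines b hb hb').1
    exact hLM (eq_of_centralizers_le' hG hAe hA2 hM hAM hL ha' ha'1 haL' fun b hb hb' => (hlines b hb hb').1)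
  set V := Q ⊓ Subgroup.centralizer ({a} : Set G) with hVdef
  have haa : a' ∉ Subgroup.zpowers a := fun h =>
    haa' (CubeUnique.zpowers_eq_of_mem (orderOf_mem hAe ha ha1) h ha'1)
  have h0 : Cfsg.alphaCore M = ⊥ := by
    by_contra h0
    by_cases hqα : q ∈ Cfsg.alpha M
    · have hQα : SylowOf q Q (Cfsg.alphaCore M) := by
        obtain ⟨P, rfl⟩ := sylow_of_hall (Sigma10.sigmaCore_hall hG hM).2 hqσ hQ
        exact sylowOf_of_sylow P (Sigma10.sylow_le_piCore hG hM subset_rfl hqα hqσ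
          (sylowOf_of_sylow P (hQ.1.trans (piCoreOf_le _ _))))
      obtain ⟨T, hT⟩ := exists_alphaLayer hG hQ.2.1 (not_pRankLE_sylow hG hM hqα hQα)
      have hTle : T ≤ Subgroup.centralizer ({a'} : Set G) := by
        refine Uniq.le_of_centralizers_noncyclic hAe (not_isCyclic_plane hAe hA2)
          (CubeUnique.coprime_prime_of_isPGroup hq.out hp.out hqp (hQ.2.1.to_le hT.le))
          (hQn.trans hT.normal) fun b hb hb1 y hy => ?_
        by_cases hba : b ∈ Subgroup.zpowers a'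
        · exact centralizer_le_of_mem_zpowers (orderOf_mem hAe ha' ha'1) hba hb1 hy.2
        by_contra hy'
        have hy1 : y ≠ 1 := fun h => hy' (h ▸ Subgroup.one_mem _)
        have hgood := onlyIn_of_piece hG hM hpα hAM hAe hA2 hqα hQα hQn hT (Or.inl rfl) hb hb1 hy.1 hy.2
          (orderOf_eq_prime (hT.exp y hy.1) hy1) fun h => hy1
            (Subgroup.mem_bot.mp (hfix ▸ ⟨hT.le hy.1, h⟩ : y ∈ (⊥ : Subgroup G)))
        exact hLM (hgood.2 L hL (hlines b hb hba).1)
      set K := Q ⊓ Subgroup.centralizer (T : Set G) with hKdef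
      have hKV : K ⊓ Subgroup.centralizer ({a} : Set G) ≠ ⊥ := by
        intro hK0
        obtain ⟨v, hv, hv1⟩ := (Subgroup.bot_or_exists_ne_one V).resolve_left hV
        have hVn : A ≤ Subgroup.normalizer (V : Set G) :=
          CubeUnique.le_normalizer_inf hQn ((le_centralizer_of_mem hAe ha).trans Subgroup.le_normalizer)
        have hc : ⁅a', v⁆ ∈ V := by
          rw [commutatorElement_def]
          exact mul_mem ((Subgroup.mem_normalizer_iff.mp (hVn ha') v).mp hv) (inv_mem hv)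
        have ha'T : a' ∈ Subgroup.centralizer (T : Set G) := Subgroup.mem_centralizer_iff.mpr fun t ht =>
          (Subgroup.mem_centralizer_singleton_iff.mp (hTle ht))
        have hvT : v ∈ Subgroup.normalizer ((Subgroup.centralizer (T : Set G) : Subgroup G) : Set G) :=
          normalizer_centralizer_le T (hT.normal (Subgroup.le_normalizer hv.1))
        have hcT : ⁅a', v⁆ ∈ Subgroup.centralizer (T : Set G) := by
          rw [commutatorElement_def, mul_assoc, mul_assoc]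
          refine Subgroup.mul_mem _ ha'T ?_
          rw [← mul_assoc]
          exact (Subgroup.mem_normalizer_iff.mp hvT _).mp (Subgroup.inv_mem _ ha'T)
        refine moved_of_not_mem hAe hA2 ha ha1 ha' haa hv.2 (fun h => hv1
          (Subgroup.mem_bot.mp (hfix ▸ ⟨hv.1, h⟩ : v ∈ (⊥ : Subgroup G))))
          (commutatorElement_eq_one_iff_mul_comm.mp ?_)
        exact Subgroup.mem_bot.mp (hK0 ▸ ⟨⟨hc.1, hcT⟩, hc.2⟩)
      obtain ⟨x, hx⟩ := exists_prime_orderOf_dvd_card' (G := ↥(K ⊓ Subgroup.centralizer ({a} : Set G))) q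
        (Uniq.prime_dvd_card (hQ.2.1.to_le (inf_le_left.trans inf_le_left)) hKV)
      have hxo : orderOf (x : G) = q := (Subgroup.orderOf_coe x).trans hx
      exact hLM ((onlyIn_of_piece hG hM hpα hAM hAe hA2 hqα hQα hQn hT (Or.inr rfl) ha ha1 x.2.1 x.2.2 hxo
        fun h => hq.out.ne_one (by
          rw [← hxo, Subgroup.mem_bot.mp (hfix ▸ ⟨x.2.1.1, h⟩ : (x : G) ∈ (⊥ : Subgroup G)),
            orderOf_one])).2 L hL haL)
    · obtain ⟨r, hr', hr⟩ := exists_mem_alpha h0
      have := Fact.mk hr'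
      have hVn : A ≤ Subgroup.normalizer (V : Set G) :=
        CubeUnique.le_normalizer_inf hQn ((le_centralizer_of_mem hAe ha).trans Subgroup.le_normalizer)
      have hn : V ⊔ A ≤ Subgroup.normalizer (Cfsg.alphaCore M : Set G) :=
        (sup_le ((inf_le_left.trans hQ.1).trans (piCoreOf_le _ _)) hAM).trans (piCoreOf_normal _ _)
      have hcop : (Nat.card ↥(V ⊔ A)).Coprime (Nat.card (Cfsg.alphaCore M)) := by
        refine Nat.Coprime.coprime_dvd_left ((sup_comm V A).symm ▸ Coprime.card_sup_dvd hVn) ?_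
        have h1 : (Nat.card V).Coprime (Nat.card (Cfsg.alphaCore M)) :=
          CubeUnique.coprime_of_isPGroup hq.out (hQ.2.1.to_le inf_le_left)
            fun h => hqα (piNat_card_piCoreOf (Cfsg.alpha M) M q hq.out h)
        first
          | exact Nat.Coprime.mul_left h1 (coprime_alphaCore hpα hAe)
          | exact Nat.Coprime.mul_left (coprime_alphaCore hpα hAe) h1
      obtain ⟨R, hR, hRn⟩ := exists_invariant_sylowOf' (q := r) hn hcop
        (minSimple_solvable hG fun h => hM.1 (top_le_iff.mp (h ▸ piCoreOf_le _ _)))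
      by_cases hVR : V ≤ Subgroup.centralizer (R : Set G)
      · have hM' := onlyIn_of_inUnique (sylow_inUnique hG hM hr hR) hM (hR.1.trans (piCoreOf_le _ _))
          (Subgroup.le_centralizer_iff.mp hVR) (minSimple_centralizer_subgroup_ne_top hG hV)
        exact hLM (hM'.2 L hL hCV)
      · have hg := good_of_nontrivial hG hM hpσ hAM hAe hA2 hr hR (le_sup_right.trans hRn) hqp
          (fun h => hqα (h ▸ hr)) (hQ.2.1.to_le inf_le_left) hVn (le_sup_left.trans hRn)
          (eq_bot_iff.mpr ((inf_le_inf_right _ inf_le_left).trans hfix.le)) ha ha1 inf_le_right hVR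
        obtain ⟨b, hb, hb', hb''⟩ := hpick a ha ha1
        exact hLM ((hg b hb hb'').2 L hL (hlines b hb hb').1)
  -- conjugating `M` onto `L`
  obtain ⟨P, hP, hAP⟩ := exists_sylowOf_ge hAM (isPGroup_of_elemAb hAe)
  have hpM : p ∣ Nat.card M :=
    (hA2 ▸ dvd_pow_self p two_ne_zero : p ∣ Nat.card A).trans (Subgroup.card_dvd_of_le hAM)
  obtain ⟨g, hg, hgM⟩ := SetLike.not_le_iff_exists.mp
    fun h => hpσ (Sigma10.mem_sigma_of_normalizer_le hp.out hpM hP h)
  have hΩ := omega_eq hG hM hpα hAM hAe hA2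
  have ha'p := hAe.2 a' ha'
  have hnorm : ∀ h : G, h * a' * h⁻¹ ∈ Subgroup.zpowers a' → h ∈ M := fun h hh => by
    have h1 : h ∈ Subgroup.normalizer (Subgroup.centralizer ({a'} : Set G) : Set G) := by
      rw [← centralizer_zpowers]
      refine normalizer_centralizer_le _ (mem_normalizer_of_cj_eq (Subgroup.eq_of_le_of_card_ge ?_ (card_cj h _).ge))
      rw [Transitivity.cj, MonoidHom.map_zpowers, Subgroup.zpowers_le]
      exact hh
    exact haM'.normalizer_le hG hM h1
  have hmove : ∀ h : G, h * a' * h⁻¹ ∈ A → h * a' * h⁻¹ ∉ Subgroup.zpowers a' → cj h M = L := by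
    intro h hh hh'
    have h1 := (hlines _ hh hh').2 (cj h M) (isCoatom_map_conj hM h) ?_
    · exact h1
    rw [← cj_centralizer_singleton]
    exact cj_mono haM'.1
  by_cases hAZ : A ≤ Subgroup.centralizer (P : Set G)
  · have hgA : g * a' * g⁻¹ ∈ A := by
      have hgP : g * a' * g⁻¹ ∈ P := (Subgroup.mem_normalizer_iff.mp hg a').mp (hAP ha')
      refine (hΩ _ (Subgroup.mem_centralizer_iff.mpr fun x hx =>
        (Subgroup.mem_centralizer_iff.mp (hAZ hx) _ hgP).symm)).mp ?_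
      rw [conj_pow, ha'p, mul_one, mul_inv_cancel]
    have hgM' := hmove g hgA fun h => hgM (hnorm g h)
    obtain ⟨r, hr, hrL⟩ := exists_mem_alpha hα0
    refine not_mem_alpha_of_bot hG hM h0 (r := r) ⟨hr, fun h => hrL.2 ?_⟩
    rw [← hgM']
    exact (PRankLE.congr (M.equivMapOfInjective (MulAut.conj g).toMonoidHom (MulAut.conj g).injective)).mp h
  · set P₀ := P ⊓ Subgroup.centralizer (A : Set G) with hP₀
    have hP₀P : P₀ < P := lt_of_le_of_ne inf_le_left fun h =>
      hAZ (Subgroup.le_centralizer_iff.mp (inf_eq_left.mp h))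
    have hgrow := normalizer_grows hP.2.1 hP₀P
    obtain ⟨y, ⟨hyN, hyP⟩, hy₀⟩ := SetLike.not_le_iff_exists.mp fun h =>
      absurd (Subgroup.card_le_of_le h) (not_le.mpr hgrow)
    have hyA : ∀ x ∈ A, y * x * y⁻¹ ∈ A := fun x hx => by
      have hxP₀ : x ∈ P₀ :=
        ⟨hAP hx, Subgroup.mem_centralizer_iff.mpr fun z hz => elemAb_commute hAe hz hx⟩
      refine (hΩ _ ((Subgroup.mem_normalizer_iff.mp hyN x).mp hxP₀).2).mp ?_
      rw [conj_pow, hAe.2 x hx, mul_one, mul_inv_cancel]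
    by_cases hy' : y * a' * y⁻¹ ∈ Subgroup.zpowers a'
    · have hya : y ∈ Subgroup.centralizer ({a'} : Set G) := by
        have hUp : IsPGroup p (Subgroup.zpowers a') :=
          hP.2.1.to_le (Subgroup.zpowers_le.mpr (hAP ha'))
        have hyn : Subgroup.zpowers y ≤ Subgroup.normalizer (Subgroup.zpowers a' : Set G) := by
          refine Subgroup.zpowers_le.mpr (mem_normalizer_of_cj_eq (Subgroup.eq_of_le_of_card_ge ?_ (card_cj y _).ge))
          rw [Transitivity.cj, MonoidHom.map_zpowers, Subgroup.zpowers_le]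
          exact hy'
        have hlt := Coprime.commutator_lt_of_isPGroup hUp (hP.2.1.to_le (Subgroup.zpowers_le.mpr hyP)) hyn
          (Subgroup.zpowers_ne_bot.mpr ha'1)
        have hbot : ⁅Subgroup.zpowers a', Subgroup.zpowers y⁆ = ⊥ := by
          by_contra hne
          obtain ⟨c, hc, hc1⟩ := (Subgroup.bot_or_exists_ne_one _).resolve_left hne
          exact hlt.not_ge (Subgroup.zpowers_le.mpr (Subgroup.zpowers_le.mpr hc
            (CubeUnique.zpowers_eq_of_mem (orderOf_mem hAe ha' ha'1) (hlt.le hc) hc1)))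
        refine Subgroup.mem_centralizer_singleton_iff.mpr (commutatorElement_eq_one_iff_mul_comm.mp
          (Subgroup.mem_bot.mp (hbot ▸ Subgroup.commutator_mem_commutator (Subgroup.mem_zpowers a')
            (Subgroup.mem_zpowers y)))).symm
      obtain ⟨z, hzP, hzc, hzo⟩ := Sigma10.exists_central_orderOf hP.2.1
        (fun h => not_isCyclic_plane hAe hA2 (by
          have hAb : A = ⊥ := le_bot_iff.mp (h ▸ hAP)
          subst hAb
          infer_instance))
      have hfixed : ∀ w ∈ A, y * w = w * y → w ∈ Subgroup.zpowers a' := by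
        intro w hw hyw
        by_contra hwa
        exact hy₀ ⟨hyP, inf_centralizer_pair_le hAe hA2 ha' ha'1 hw hwa
          ⟨hya, Subgroup.mem_centralizer_singleton_iff.mpr hyw⟩⟩
      have hcentral : ∀ w ∈ P, (∀ r ∈ P, r * w = w * r) → w ^ p = 1 → w ∈ Subgroup.zpowers a' := by
        intro w hw hwc hwp
        exact hfixed w ((hΩ w (Subgroup.mem_centralizer_iff.mpr fun x hx => hwc x (hAP hx))).mp hwp)
          (hwc y hyP)
      have hz1 : z ≠ 1 := fun h => hp.out.ne_one (by rw [← hzo, h, orderOf_one])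
      have hgz : g * z * g⁻¹ ∈ Subgroup.zpowers a' := by
        refine hcentral _ ((Subgroup.mem_normalizer_iff.mp hg z).mp hzP) (fun r hr => ?_) ?_
        · have hr' : g⁻¹ * r * g ∈ P := (Subgroup.mem_normalizer_iff''.mp hg r).mp hr
          calc r * (g * z * g⁻¹) = g * ((g⁻¹ * r * g) * z) * g⁻¹ := by group
            _ = g * (z * (g⁻¹ * r * g)) * g⁻¹ := by rw [hzc _ hr']
            _ = g * z * g⁻¹ * r := by group
        · rw [conj_pow, ← hzo, pow_orderOf_eq_one, mul_one, mul_inv_cancel]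
      have hz := CubeUnique.zpowers_eq_of_mem (orderOf_mem hAe ha' ha'1)
        (hcentral z hzP hzc (hzo ▸ pow_orderOf_eq_one z)) hz1
      refine hgM (hnorm g ?_)
      obtain ⟨i, hi⟩ := hz
      have hi' : z ^ i = a' := hi
      rw [← hi', ← conj_zpow]
      rw [hi']
      exact zpow_mem hgz i
    · exact hLM ((cj_eq_of_mem_normalizer (Subgroup.le_normalizer (hP.1 hyP))).symm.trans
        (hmove y (hyA a' ha') hy')).symm

end Key

section Result

variable {p : ℕ} [hp : Fact p.Prime] (hG : Cfsg.IsMinSimpleOddOrder G) {M A : Subgroup G}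
  (hM : IsCoatom M) (hpσ : p ∉ Cfsg.sigma M) (hAM : A ≤ M) (hAe : Cfsg.IsElementaryAbelian p A)
  (hA2 : Nat.card A = p ^ 2)

include hG hM hpσ hAM hAe hA2 in
/-- BG 12.7 (b): an element of `A` fixing a point of `M_σ` has its centralizer only in `M`. -/
theorem onlyIn_of_fixed {a : G} (ha : a ∈ A) (ha1 : a ≠ 1)
    (hne : Cfsg.sigmaCore M ⊓ Subgroup.centralizer ({a} : Set G) ≠ ⊥) :
    OnlyIn M (Subgroup.centralizer ({a} : Set G)) := by
  set Y := Cfsg.sigmaCore M ⊓ Subgroup.centralizer ({a} : Set G) with hY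
  obtain ⟨q, hq, hd⟩ := Nat.exists_prime_and_dvd (fun h => hne (Subgroup.card_eq_one.mp h))
  have := Fact.mk hq
  have hAn : A ≤ Subgroup.normalizer (Cfsg.sigmaCore M : Set G) := hAM.trans (piCoreOf_normal _ _)
  have hYn : A ≤ Subgroup.normalizer (Y : Set G) :=
    CubeUnique.le_normalizer_inf hAn ((le_centralizer_of_mem hAe ha).trans Subgroup.le_normalizer)
  have hs : Group.IsSolvable (Cfsg.sigmaCore M) :=
    minSimple_solvable hG fun h => hM.1 (top_le_iff.mp (h ▸ piCoreOf_le _ _))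
  obtain ⟨R, hR, hRn⟩ := exists_invariant_sylowOf' (q := q) hYn
    ((coprime_sigmaCore hG hM hpσ hAe).coprime_dvd_right (Subgroup.card_dvd_of_le inf_le_left))
    (Group.isSolvable_of_isSolvable_injective (Subgroup.inclusion_injective inf_le_left))
  obtain ⟨m, hm, hqm⟩ := sylowOf_cofactor hR
  have hRne : R ≠ ⊥ := fun h => hqm (by rw [h, Subgroup.card_bot, one_mul] at hm; exact hm ▸ hd)
  obtain ⟨Q, hQ, hQn, hRQ⟩ := exists_invariant_sylowOf hAn (coprime_sigmaCore hG hM hpσ hAe) hs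
    (hR.1.trans inf_le_left) hR.2.1 hRn
  exact onlyIn_of_fixed_sylow hG hM hpσ hAM hAe hA2
    (piNat_card_piCoreOf (Cfsg.sigma M) M q hq (hd.trans (Subgroup.card_dvd_of_le inf_le_left))) hQ hQn ha ha1
    fun h => hRne (le_bot_iff.mp (h ▸ le_inf hRQ (hR.1.trans inf_le_right)))

end Result

end CfsgLib.OddOrder.Sigma11
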