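import Mathlib
import Cfsg.Agent.Lib.OddOrder.Sigma10Local
import Cfsg.Agent.Lib.OddOrder41.RankTwoFitting
import Cfsg.Agent.Lib.Coprime.Commutator
import Cfsg.Agent.Lib.Solvable.Fitting

/-!
# BG 12.1: complements of `M_σ`

The solvable signalizer functor theorem is a parameter.
-/

set_option autoImplicit false
set_option linter.style.haveILetI false

namespace CfsgLib.OddOrder.Sigma10

open Subgroup CfsgLib.OddOrder CfsgLib.OddOrder.Transitivity

universe u

/-- A Hall subgroup of a finite nilpotent group is its core. -/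
theorem eq_piCore_of_isPiHall_nilpotent {N : Type u} [Group N] [Finite N] [Group.IsNilpotent N] {π : Set ℕ}
    {K : Subgroup N} (h : Cfsg.IsPiHall π K) : K = Cfsg.piCore π N := by
  have hidx : ∀ q : ℕ, q.Prime → q ∈ π → ¬ q ∣ (Cfsg.piCore π N).index := by
    intro q hq hqπ hd
    have := Fact.mk hq
    obtain ⟨Q⟩ : Nonempty (Sylow q N) := inferInstance
    have hQn : (Q : Subgroup N).Normal := inferInstance
    refine Q.not_dvd_index (hd.trans (Subgroup.index_dvd_of_le (le_piCore hQn fun t ht htd => ?_)))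
    obtain ⟨n, hn⟩ := Q.isPGroup'.exists_card_eq
    rwa [(Nat.prime_dvd_prime_iff_eq ht hq).mp (ht.dvd_of_dvd_pow (hn ▸ htd))]
  have hle : K ≤ Cfsg.piCore π N := by
    intro x hx
    rw [← QuotientGroup.eq_one_iff, ← orderOf_eq_one_iff]
    refine Nat.eq_one_of_dvd_coprimes (Nat.coprime_of_dvd fun q hq hd hd' => ?_)
      ((orderOf_map_dvd (QuotientGroup.mk' (Cfsg.piCore π N)) x).trans (Subgroup.orderOf_dvd_natCard K hx))
      (show _ ∣ (Cfsg.piCore π N).index from orderOf_dvd_natCard _)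
    exact hidx q hq (h.1 q hq hd) hd'
  refine Subgroup.eq_of_le_of_card_ge hle (Nat.le_of_dvd Nat.card_pos ?_)
  refine Nat.Coprime.dvd_of_dvd_mul_right (Nat.coprime_of_dvd fun q hq hd hd' =>
    h.2 q hq (piNat_card_piCore π q hq hd) hd') ?_
  rw [Subgroup.card_mul_index]
  exact Subgroup.card_subgroup_dvd_card _

variable {G : Type u} [Group G] [Finite G] (hG : Cfsg.IsMinSimpleOddOrder G)
  {M : Subgroup G} (hM : IsCoatom M) {E : Subgroup G} (hE : Cfsg.IsComplIn E (Cfsg.sigmaCore M) M)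

include hG hM hE in
theorem not_mem_sigma_of_dvd_compl {q : ℕ} (hq : q.Prime) (hd : q ∣ Nat.card E) : q ∉ Cfsg.sigma M :=
  fun hqσ => (sigmaCore_hall hG hM).1.2.2 q hq hqσ (by
    have hc := (IsComplIn.isComplement' hE).index_eq_card
    rw [Subgroup.relIndex, hc, Nat.card_congr (Subgroup.subgroupOfEquivOfLe hE.1).toEquiv]
    exact hd)

omit [Finite G] in
include hE in
theorem card_derived_dvd : Nat.card ↥⁅M, M⁆ ∣ Nat.card ↥⁅E, E⁆ * Nat.card (Cfsg.sigmaCore M) := by
  set S := Cfsg.sigmaCore M with hS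
  have hSn : M ≤ Subgroup.normalizer (S : Set G) := piCoreOf_normal _ _
  have hEn : (⁅E, E⁆ : Subgroup G) ≤ Subgroup.normalizer (S : Set G) :=
    (Subgroup.commutator_le_self E).trans (hE.1.trans hSn)
  refine (Subgroup.card_dvd_of_le ?_).trans (Coprime.card_sup_dvd hEn)
  -- pass to the quotient of `M` by `S`
  set N := S.subgroupOf M with hN
  have : N.Normal := (Subgroup.normal_subgroupOf_iff_le_normalizer hE.2.1).mpr hSn
  set f := QuotientGroup.mk' N with hf
  have hmap : (E.subgroupOf M).map f = ⊤ := by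
    rw [← Subgroup.map_top_of_surjective f (QuotientGroup.mk'_surjective N),
      ← (IsComplIn.isComplement' hE).sup_eq_top, Subgroup.map_sup, QuotientGroup.map_mk'_self, sup_bot_eq]
  have h1 : commutator M ≤ ⁅E.subgroupOf M, E.subgroupOf M⁆ ⊔ N := by
    conv_rhs => rw [← QuotientGroup.ker_mk' N]
    rw [← Subgroup.comap_map_eq, ← Subgroup.map_le_iff_le_comap,
      commutator_def, Subgroup.map_commutator, Subgroup.map_commutator, hmap,
      Subgroup.map_top_of_surjective f (QuotientGroup.mk'_surjective N)]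
  have h2 := Subgroup.map_mono (f := M.subtype) h1
  rwa [Subgroup.map_subtype_commutator, Subgroup.map_sup, Subgroup.map_commutator,
    Subgroup.map_subgroupOf_eq_of_le hE.1, hN, Subgroup.map_subgroupOf_eq_of_le hE.2.1] at h2

include hG hM hE in
/-- `E'` is nilpotent. -/
theorem compl_derived_le_fitting : commutator ↥E ≤ Cfsg.fittingSubgroup ↥E := by
  have := minSimple_solvable hG (fun h => hM.1 (top_le_iff.mp (h ▸ hE.1)) : E ≠ ⊤)
  refine OddOrder41.derived_le_fitting (minSimple_odd hG E) fun q hq => PRankLE.subgroup _ ?_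
  have := Fact.mk hq
  by_contra hcon
  obtain ⟨F, hFE, hFe, hFc⟩ := not_pRankLE_subgroup_iff.mp hcon
  refine not_mem_alpha_of_not_mem_sigma hG hM (not_mem_sigma_of_dvd_compl hG hM hE hq
    ((hFc ▸ dvd_pow_self q (by norm_num) : q ∣ Nat.card F).trans (Subgroup.card_dvd_of_le hFE)))
    ⟨hq, not_pRankLE_subgroup_iff.mpr ⟨F, hFE.trans hE.1, hFe, hFc⟩⟩

include hG in
/-- An odd order group of `p`-rank one at all its primes is a Z-group. -/
theorem isZGroup_of_rank_one {X : Subgroup G} (h : ∀ q : ℕ, q.Prime → q ∣ Nat.card X → Cfsg.PRankLE q 1 X) :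
    IsZGroup ↥X := by
  refine ⟨fun q hq Q => ?_⟩
  have := Fact.mk hq
  by_cases hb : (Q : Subgroup X) = ⊥
  · rw [hb]; infer_instance
  have hd : q ∣ Nat.card X :=
    (Uniq.prime_dvd_card Q.isPGroup' hb).trans (Subgroup.card_subgroup_dvd_card _)
  refine Isolated.isCyclic_of_small_abelian ?_ Q.isPGroup' fun A hA hAe => ?_
  · exact Uniq.prime_ne_two hG (Q.isPGroup'.map X.subtype)
      (fun h => hb ((Subgroup.map_eq_bot_iff_of_injective _ X.subtype_injective).mp h))
  · simpa using pRankLE_iff.mp (PRankLE.subgroup _ (h q hq hd)) A ⟨hA, hAe⟩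

include hG hM hE in
/-- **BG 12.1**. -/
theorem compl_structure :
    Group.IsNilpotent ↥⁅E, E⁆ ∧
      (∀ E₁ : Subgroup G, Cfsg.IsPiHallOf (Cfsg.tau1 M) E₁ E → IsCyclic E₁) ∧
      ∀ E₃ : Subgroup G, Cfsg.IsPiHallOf (Cfsg.tau3 M) E₃ E → IsCyclic E₃ ∧ E₃ ≤ ⁅E, E⁆ ∧ E ≤ Subgroup.normalizer (E₃ : Set G) := by
  have hnil : Group.IsNilpotent ↥(commutator ↥E) := by
    have := Fitting.fitting_isNilpotent (G := ↥E)
    exact Group.nilpotent_of_mulEquiv (Subgroup.subgroupOfEquivOfLe (compl_derived_le_fitting hG hM hE))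
  have e : ↥(commutator ↥E) ≃* ↥⁅E, E⁆ :=
    (Subgroup.equivMapOfInjective _ E.subtype E.subtype_injective).trans
      (MulEquiv.subgroupCongr (Subgroup.map_subtype_commutator E))
  refine ⟨Group.nilpotent_of_mulEquiv e, fun E₁ h₁ => ?_, fun E₃ h₃ => ?_⟩
  · have := isZGroup_of_rank_one hG (X := E₁)
      fun q hq hd => PRankLE.of_le (h₁.1.trans hE.1) (h₁.2.1 q hq hd).2.2.2.2
    have hab : ⁅E₁, E₁⁆ = ⊥ := by
      rw [← Subgroup.card_eq_one]
      by_contra hne
      obtain ⟨q, hq, hd⟩ := Nat.exists_prime_and_dvd hne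
      exact (h₁.2.1 q hq (hd.trans (Subgroup.card_dvd_of_le (Subgroup.commutator_le_self E₁)))).2.2.2.1
        (hd.trans (Subgroup.card_dvd_of_le (Subgroup.commutator_mono (h₁.1.trans hE.1) (h₁.1.trans hE.1))))
    have : IsMulCommutative E₁ := ⟨⟨fun a b => Subtype.ext (commutatorElement_eq_one_iff_mul_comm.mp
      (Subgroup.mem_bot.mp (hab ▸ Subgroup.commutator_mem_commutator a.2 b.2)))⟩⟩
    have : Group.IsNilpotent E₁ := ⟨⟨1, by
      rw [Subgroup.upperCentralSeries_one, eq_top_iff]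
      exact fun x _ => Subgroup.mem_center_iff.mpr fun y => mul_comm' y x⟩⟩
    infer_instance
  · -- the Sylow subgroups for the primes of `τ₃(M)` lie in `E'`
    have hsyl : ∀ q : ℕ, q.Prime → q ∈ Cfsg.tau3 M → ¬ q ∣ (commutator ↥E).index := by
      intro q hq hqτ
      have := Fact.mk hq
      obtain ⟨P⟩ : Nonempty (Sylow q E) := inferInstance
      have hcyc : IsCyclic P := by
        by_cases hb : (P : Subgroup E) = ⊥
        · rw [hb]; infer_instance
        refine Isolated.isCyclic_of_small_abelian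
          (Uniq.prime_ne_two hG (P.isPGroup'.map E.subtype)
            (fun h => hb ((Subgroup.map_eq_bot_iff_of_injective _ E.subtype_injective).mp h)))
          P.isPGroup' fun A hA hAe => ?_
        simpa using pRankLE_iff.mp (PRankLE.subgroup _ (PRankLE.of_le hE.1 hqτ.2.2.2)) A ⟨hA, hAe⟩
      refine (Sylow.not_dvd_card_commutator_or_not_dvd_index_commutator P).resolve_left (not_not.mpr ?_)
      rcases hq.dvd_mul.mp (hqτ.2.2.1.trans (card_derived_dvd hE)) with h | h
      · rwa [Nat.card_congr e.toEquiv]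
      · exact absurd (piNat_card_piCoreOf _ _ q hq h) hqτ.2.1
    set H := E₃.subgroupOf E with hH
    have hHc : Nat.card H = Nat.card E₃ := Nat.card_congr (Subgroup.subgroupOfEquivOfLe h₃.1).toEquiv
    have hle : H ≤ commutator ↥E := by
      intro x hx
      rw [← QuotientGroup.eq_one_iff, ← orderOf_eq_one_iff]
      refine Nat.eq_one_of_dvd_coprimes (Nat.coprime_of_dvd fun q hq hd hd' => ?_)
        ((orderOf_map_dvd (QuotientGroup.mk' (commutator ↥E)) x).trans (Subgroup.orderOf_dvd_natCard H hx))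
        (show _ ∣ (commutator ↥E).index from orderOf_dvd_natCard _)
      exact hsyl q hq (h₃.2.1 q hq (hHc ▸ hd)) hd'
    have hE3 : E₃ ≤ ⁅E, E⁆ := by
      rw [← Subgroup.map_subtype_commutator, ← Subgroup.map_subgroupOf_eq_of_le h₃.1]
      exact Subgroup.map_mono hle
    set K := H.subgroupOf (commutator ↥E) with hK
    have hKc : Nat.card K = Nat.card E₃ := (Nat.card_congr (Subgroup.subgroupOfEquivOfLe hle).toEquiv).trans hHc
    have hKz : IsZGroup ↥E₃ := isZGroup_of_rank_one hG
      fun q hq hd => PRankLE.of_le (h₃.1.trans hE.1) (h₃.2.1 q hq hd).2.2.2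
    have eK : ↥K ≃* ↥E₃ := (Subgroup.subgroupOfEquivOfLe hle).trans (Subgroup.subgroupOfEquivOfLe h₃.1)
    have : Group.IsNilpotent ↥E₃ := Group.nilpotent_of_mulEquiv eK
    refine ⟨inferInstance, hE3, ?_⟩
    -- a Hall subgroup of the nilpotent normal subgroup `E'` is the largest subgroup of its type
    have hhall : Cfsg.IsPiHall (Cfsg.tau3 M) K := by
      refine ⟨fun q hq hd => h₃.2.1 q hq (hKc ▸ hd), fun q hq hqτ hd => h₃.2.2 q hq hqτ ?_⟩
      have h2 : K.index = H.relIndex (commutator ↥E) := rfl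
      rw [h2] at hd
      exact hd.trans (Subgroup.relIndex_dvd_index_of_le hle)
    have hKeq : K = Cfsg.piCore (Cfsg.tau3 M) ↥(commutator ↥E) := eq_piCore_of_isPiHall_nilpotent hhall
    have hKn : (K.map (commutator ↥E).subtype).Normal := by rw [hKeq]; infer_instance
    rw [Subgroup.map_subgroupOf_eq_of_le hle] at hKn
    exact (Subgroup.normal_subgroupOf_iff_le_normalizer h₃.1).mp hKn

end CfsgLib.OddOrder.Sigma10
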