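import Cfsg.Agent.Lib.Isolated.RankOne
import Cfsg.Agent.Lib.OddOrder.Sigma12
import Cfsg.Agent.Lib.OddOrder.FittingOf
import Cfsg.Agent.Lib.OddOrder.FittingHall

/-!
# BG §15: first properties of `F(M)` and `M_σ`
-/

set_option autoImplicit false

namespace CfsgLib.OddOrder.Sigma15

open Subgroup CfsgLib.OddOrder CfsgLib.OddOrder.Sigma10 CfsgLib.OddOrder.Transitivity

universe u

variable {G : Type u} [Group G] [Finite G] (hG : Cfsg.IsMinSimpleOddOrder G)
  {M : Subgroup G} (hM : IsCoatom M)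

include hG hM in
theorem coatom_ne_bot : M ≠ ⊥ := by
  intro h
  obtain ⟨q, hq, hd⟩ := Nat.exists_prime_and_dvd (n := Nat.card G) (fun h1 => by
    have : Subsingleton G := (Nat.card_eq_one_iff_unique.mp h1).1
    exact minSimple_not_comm hG ⟨⟨fun a b => Subsingleton.elim _ _⟩⟩)
  have := Fact.mk hq
  obtain ⟨x, hx⟩ := exists_prime_orderOf_dvd_card' q hd
  have h1 : (Subgroup.zpowers x) = ⊤ := hM.2 _ (h ▸ bot_lt_iff_ne_bot.mpr (fun hz => by
    rw [Subgroup.zpowers_eq_bot] at hz
    rw [hz, orderOf_one] at hx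
    exact hq.ne_one hx.symm))
  exact minSimple_not_comm hG ⟨⟨fun a b => by
    obtain ⟨i, rfl⟩ := Subgroup.mem_zpowers_iff.mp (h1 ▸ Subgroup.mem_top a : a ∈ Subgroup.zpowers x)
    obtain ⟨j, rfl⟩ := Subgroup.mem_zpowers_iff.mp (h1 ▸ Subgroup.mem_top b : b ∈ Subgroup.zpowers x)
    exact ((Commute.refl x).zpow_zpow i j).eq⟩⟩

omit [Finite G] in
include hG hM in
theorem normalizer_eq_of_normal {X : Subgroup G} (hXM : X ≤ M) (hX1 : X ≠ ⊥)
    (hn : M ≤ normalizer (X : Set G)) : normalizer (X : Set G) = M :=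
  (hM.le_iff.mp hn).resolve_left
    (minSimple_normalizer_ne_top hG hX1 fun h => hM.1 (top_le_iff.mp (h ▸ hXM)))

include hG hM in
/-- `M_σ ≠ 1`. -/
theorem sigmaCore_ne_bot : Cfsg.sigmaCore M ≠ ⊥ := by
  intro hbot
  have := minSimple_solvable hG hM.1
  have hr : Cfsg.RankLE 2 M := by
    intro r hr
    have := Fact.mk hr
    by_contra hcon
    have hrα : r ∈ Cfsg.alpha M := ⟨hr, hcon⟩
    refine (alphaCore_hall hG hM).1.2.2 r hr hrα ?_
    rw [le_bot_iff.mp ((alphaCore_le_sigmaCore hG hM).trans hbot.le), relIndex_bot_left]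
    by_contra hd
    exact hcon (pRankLE_of_not_dvd 2 hd)
  have hne : (Nat.card M).primeFactors.Nonempty := by
    rw [Nat.nonempty_primeFactors]
    exact Finite.one_lt_card_iff_nontrivial.mpr ((nontrivial_iff_ne_bot M).mpr (coatom_ne_bot hG hM))
  obtain ⟨q, hqmem, hqmax⟩ := Finset.exists_max_image _ id hne
  obtain ⟨hq, hqd, -⟩ := Nat.mem_primeFactors.mp hqmem
  have := Fact.mk hq
  obtain ⟨N, hNc, hNh⟩ :=
    (OddOrder41.odd_solvable_rank_two_fitting (minSimple_odd hG M) (Or.inl hr)).2.2 (q - 1)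
  have hNn : N.Normal := inferInstance
  have hqN : IsPGroup q N := by
    refine IsPGroup.of_card (n := (Nat.card N).primeFactorsList.length) ?_
    refine Nat.eq_prime_pow_of_unique_prime_dvd Nat.card_pos.ne' fun {t} ht htd => ?_
    have h1 : q - 1 < t := (hNh.1 t ht htd).2
    have h2 : t ≤ q := hqmax t (Nat.mem_primeFactors.mpr
      ⟨ht, htd.trans (card_subgroup_dvd_card N), Nat.card_pos.ne'⟩)
    omega
  have hqi : ¬ q ∣ N.index := fun h => hNh.2 q hq ⟨hq, by have := hq.two_le; omega⟩ h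
  set P : Sylow q M := hqN.toSylow hqi
  set R := (P : Subgroup M).map M.subtype with hR
  have hR1 : R ≠ ⊥ := fun h => P.ne_bot_of_dvd_card hqd
    ((map_eq_bot_iff_of_injective _ M.subtype_injective).mp h)
  have hn : M ≤ normalizer (R : Set G) := map_subtype_normalized (N := N)
  have hσ : q ∈ Cfsg.sigma M :=
    ⟨hq, hqd, P, (normalizer_eq_of_normal hG hM (map_subtype_le _) hR1 hn).le⟩
  refine hR1 (le_bot_iff.mp (le_trans ?_ hbot.le))
  refine le_piCoreOf (map_subtype_le _) hn fun t ht htd => ?_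
  obtain ⟨n, hn'⟩ := (P.isPGroup'.map M.subtype).exists_card_eq
  rwa [(Nat.prime_dvd_prime_iff_eq ht hq).mp (ht.dvd_of_dvd_pow (hn' ▸ htd))]


theorem normalizer_le_normalizer_piCoreOf (π : Set ℕ) (X : Subgroup G) :
    normalizer (X : Set G) ≤ normalizer (Cfsg.piCoreOf π X : Set G) := by
  intro g hg
  refine mem_normalizer_of_cj_eq ?_
  show (Cfsg.piCoreOf π X).map (MulAut.conj g).toMonoidHom = _
  rw [piCoreOf_map π _ (MulAut.conj g).injective]
  congr 1
  exact cj_eq_of_mem_normalizer hg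

omit [Finite G] in
/-- In a cyclic group the conjugates of the subgroup of order `p` coincide. -/
theorem normalizer_le_of_cyclic {R : Subgroup G} [Finite R] [hR : IsCyclic R] {x : G} {p : ℕ}
    (hp : p.Prime) (hxR : x ∈ R) (hx : orderOf x = p) :
    normalizer (R : Set G) ≤ normalizer (zpowers x : Set G) := by
  classical
  have := Fintype.ofFinite R
  have huniq : ∀ y ∈ R, y ^ p = 1 → y ∈ zpowers x := by
    intro y hyR hy
    by_contra hyX
    have hinj : Function.Injective (fun z : zpowers x => (⟨z, zpowers_le.mpr hxR z.2⟩ : R)) :=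
      fun a b h => Subtype.ext (congrArg (fun w : R => (w : G)) h)
    have hsub : insert (⟨y, hyR⟩ : R) ((Set.range fun z : zpowers x =>
        (⟨z, zpowers_le.mpr hxR z.2⟩ : R)).toFinset) ⊆ ({w : R | w ^ p = 1} : Finset R) := by
      intro w hw
      rw [Finset.mem_filter]
      refine ⟨Finset.mem_univ _, ?_⟩
      rcases Finset.mem_insert.mp hw with rfl | hw
      · exact Subtype.ext hy
      · obtain ⟨⟨z, i, rfl⟩, rfl⟩ := Set.mem_toFinset.mp hw
        apply Subtype.ext
        show (x ^ i) ^ p = 1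
        rw [← zpow_natCast, ← zpow_mul, mul_comm, zpow_mul, zpow_natCast, ← hx, pow_orderOf_eq_one,
          one_zpow]
    have h1 := (Finset.card_le_card hsub).trans (IsCyclic.card_pow_eq_one_le hp.pos)
    rw [Finset.card_insert_of_notMem, Set.toFinset_card, ← Nat.card_eq_fintype_card,
      Nat.card_range_of_injective hinj, Nat.card_zpowers, hx] at h1
    · omega
    · intro h
      obtain ⟨z, hz⟩ := Set.mem_toFinset.mp h
      have hz' : (z : G) = y := congrArg (fun w : R => (w : G)) hz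
      exact hyX (hz' ▸ z.2)
  refine le_normalizer_iff.mpr fun g hg z hz => huniq _ ((mem_normalizer_iff.mp hg z).mp
    (zpowers_le.mpr hxR hz)) ?_
  obtain ⟨i, rfl⟩ := hz
  show (g * x ^ i * g⁻¹) ^ p = 1
  rw [conj_pow, ← zpow_natCast, ← zpow_mul, mul_comm i, zpow_mul, zpow_natCast, ← hx,
    pow_orderOf_eq_one, one_zpow, mul_one, mul_inv_cancel]

include hG hM in
/-- A prime outside `σ(M)` dividing `|F(M)|` lies in `τ₂(M)`. -/
theorem mem_tau2_of_dvd_fittingOf {p : ℕ} (hp : p.Prime) (hpσ : p ∉ Cfsg.sigma M)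
    (hd : p ∣ Nat.card (Cfsg.fittingOf M)) : p ∈ Cfsg.tau2 M := by
  have := Fact.mk hp
  refine ⟨hp, hpσ, ?_, fun hr => hpσ ?_⟩
  · by_contra h
    exact hpσ (alpha_subset_sigma hG hM ⟨hp, h⟩)
  obtain ⟨T⟩ : Nonempty (Sylow p M) := inferInstance
  set R := (T : Subgroup M).map M.subtype with hRdef
  have hp2 : p ≠ 2 := minSimple_prime_ne_two hG hd
  have hTc : IsCyclic R := by
    have hTc' : IsCyclic T := Isolated.isCyclic_of_small_abelian hp2 T.isPGroup' fun A hA hAe => by
      simpa using pRankLE_iff.mp (PRankLE.subgroup _ hr) A ⟨hA, hAe⟩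
    exact isCyclic_of_surjective ((T : Subgroup M).equivMapOfInjective _ M.subtype_injective)
      ((T : Subgroup M).equivMapOfInjective _ M.subtype_injective).surjective
  have hO := opCore_ne_bot_of_dvd hp hd
  obtain ⟨n, hn⟩ := (opCore_isPGroup p M).exists_card_eq
  have hn0 : n ≠ 0 := fun h0 => hO (card_eq_one.mp (by rw [hn, h0, pow_zero]))
  obtain ⟨⟨x, hxO⟩, hx⟩ := exists_prime_orderOf_dvd_card' (G := opCore p M) p (hn ▸ dvd_pow_self p hn0)
  rw [Subgroup.orderOf_mk] at hx
  have hOR : opCore p M ≤ R := map_mono (PCore.pCore_le_sylow T)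
  have : IsCyclic (opCore p M) := isCyclic_of_injective (inclusion hOR) (inclusion_injective hOR)
  have hX := normalizer_le_of_cyclic hp hxO hx
  have hMX : M ≤ normalizer (zpowers x : Set G) := (opCore_normal p M).trans hX
  have hX1 : zpowers x ≠ ⊥ := fun h => hp.ne_one (by
    rw [← hx, zpowers_eq_bot.mp h, orderOf_one])
  refine mem_sigma_of_normalizer_le hp (hd.trans (card_dvd_of_le (fittingOf_le M))) (sylowOf_map T) ?_
  exact (normalizer_le_of_cyclic hp (hOR hxO) hx).trans
    (normalizer_eq_of_normal hG hM (zpowers_le.mpr (opCore_le p M hxO)) hX1 hMX).le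

end CfsgLib.OddOrder.Sigma15
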