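import Mathlib
import Cfsg.Agent.Lib.OddOrder.Sigma11Local
import Cfsg.Agent.Lib.OddOrder.Sigma15

/-!
# BG 11: the centralizer of a pair of rank two lies in its maximal subgroup
-/

set_option autoImplicit false

namespace CfsgLib.OddOrder.Sigma11

open Subgroup CfsgLib.OddOrder CfsgLib.OddOrder.Transitivity

universe u

variable {G : Type u} [Group G] [Finite G]

omit [Finite G] in
/-- The elements of order dividing `p` in the centre of `P`. -/
def omegaCenter (p : ℕ) (P : Subgroup G) : Subgroup G where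
  carrier := {x | x ∈ P ∧ x ∈ Subgroup.centralizer (P : Set G) ∧ x ^ p = 1}
  one_mem' := ⟨P.one_mem, Subgroup.one_mem _, one_pow p⟩
  mul_mem' := fun {x y} hx hy => ⟨P.mul_mem hx.1 hy.1, Subgroup.mul_mem _ hx.2.1 hy.2.1, by
    have hc : Commute x y := Subgroup.mem_centralizer_iff.mp hy.2.1 x hx.1
    rw [hc.mul_pow, hx.2.2, hy.2.2, one_mul]⟩
  inv_mem' := fun {x} hx => ⟨P.inv_mem hx.1, Subgroup.inv_mem _ hx.2.1, by rw [inv_pow, hx.2.2, inv_one]⟩

omit [Finite G] in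
theorem mem_omegaCenter {p : ℕ} {P : Subgroup G} {x : G} :
    x ∈ omegaCenter p P ↔ x ∈ P ∧ x ∈ Subgroup.centralizer (P : Set G) ∧ x ^ p = 1 := Iff.rfl

theorem normalizer_le_normalizer_omegaCenter {p : ℕ} (P : Subgroup G) :
    Subgroup.normalizer (P : Set G) ≤ Subgroup.normalizer (omegaCenter p P : Set G) := fun g hg => by
  refine mem_normalizer_of_cj_eq (Subgroup.eq_of_le_of_card_ge ?_ (card_cj g _).ge)
  rintro _ ⟨x, ⟨hx, hxc, hxp⟩, rfl⟩
  refine ⟨(Subgroup.mem_normalizer_iff.mp hg x).mp hx,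
    (Subgroup.mem_normalizer_iff.mp (normalizer_centralizer_le P hg) x).mp hxc, ?_⟩
  change (g * x * g⁻¹) ^ p = 1
  rw [conj_pow, hxp, mul_one, mul_inv_cancel]

variable {p : ℕ} [hp : Fact p.Prime]

theorem omegaCenter_ne_bot {P : Subgroup G} (hP : IsPGroup p P) (hne : P ≠ ⊥) :
    omegaCenter p P ≠ ⊥ := fun h => by
  obtain ⟨z, hz, hzc, hzo⟩ := Sigma10.exists_central_orderOf hP hne
  have h1 : z ∈ omegaCenter p P :=
    ⟨hz, Subgroup.mem_centralizer_iff.mpr hzc, hzo ▸ pow_orderOf_eq_one z⟩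
  rw [h, Subgroup.mem_bot] at h1
  exact hp.out.ne_one (by rw [← hzo, h1, orderOf_one])

variable (hG : Cfsg.IsMinSimpleOddOrder G) {M A : Subgroup G} (hM : IsCoatom M) (hAM : A ≤ M)
  (hAe : Cfsg.IsElementaryAbelian p A) (hA2 : Nat.card A = p ^ 2)

include hG hM hAM hAe hA2 in
/-- Some element of `A` has its centralizer only in `M`, unless `p ∈ σ(M)` and `M_α = 1`. -/
theorem exists_onlyIn (h : ¬ (p ∈ Cfsg.sigma M ∧ Cfsg.alphaCore M = ⊥)) :
    ∃ a ∈ A, a ≠ 1 ∧ OnlyIn M (Subgroup.centralizer ({a} : Set G)) := by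
  by_cases hpα : p ∈ Cfsg.alpha M
  · obtain ⟨P, hP, hAP⟩ := exists_sylowOf_ge hAM (isPGroup_of_elemAb hAe)
    have hPU : Cfsg.InUniqueMaximal P := Sigma10.inUnique_of_rank_three hG
      (fun h => hpα.2 (Sigma10.pRankLE_of_sylowOf hP h)) (minSimple_pgroup_ne_top hG hP.2.1)
    obtain ⟨z, hzP, hzc, hzo⟩ := Sigma10.exists_central_orderOf hP.2.1
      (Uniq.InUniqueMaximal.ne_bot hG hPU)
    have hz1 : z ≠ 1 := fun h => hp.out.ne_one (by rw [← hzo, h, orderOf_one])
    by_cases hzA : z ∈ A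
    · exact ⟨z, hzA, hz1, onlyIn_of_inUnique hPU hM hP.1
        (fun x hx => Subgroup.mem_centralizer_singleton_iff.mpr (hzc x hx))
        (minSimple_centralizer_singleton_ne_top hG hz1)⟩
    · have hzA' : z ∈ Subgroup.centralizer (A : Set G) :=
        Subgroup.mem_centralizer_iff.mpr fun x hx => hzc x (hAP hx)
      have hBe := elemAb_sup_zpowers hAe (hzo ▸ pow_orderOf_eq_one z) hzA'
      have hBc : Nat.card ↥(A ⊔ Subgroup.zpowers z) = p ^ 3 := by
        rw [card_sup_zpowers_of_not_mem hBe le_sup_left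
          (le_sup_right (a := A) (Subgroup.mem_zpowers z)) hzA, hA2, ← pow_succ]
      have hAU : Cfsg.InUniqueMaximal A := Uniq.inUniqueMaximal_of_centralizes hG
        (CubeUnique.inUniqueMaximal_cube hG hBe hBc)
        (fun a ha => Subgroup.mem_centralizer_iff.mpr fun x hx =>
          elemAb_commute hBe hx (le_sup_left (b := Subgroup.zpowers z) ha))
        (Uniq.not_rankLE_one_of_elemAb (k := 0) le_rfl hAe hA2)
      obtain ⟨a, ha, hab⟩ := exists_not_mem_zpowers hAe hA2 1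
      have ha1 : a ≠ 1 := fun h => hab (by rw [h]; exact Subgroup.one_mem _)
      exact ⟨a, ha, ha1, onlyIn_of_inUnique hAU hM hAM (le_centralizer_of_mem hAe ha)
        (minSimple_centralizer_singleton_ne_top hG ha1)⟩
  by_cases h0 : Cfsg.alphaCore M = ⊥
  · have hpσ : p ∉ Cfsg.sigma M := fun h1 => h ⟨h1, h0⟩
    obtain ⟨a, ha, ha1, hne⟩ : ∃ a ∈ A, a ≠ 1 ∧
        Cfsg.sigmaCore M ⊓ Subgroup.centralizer ({a} : Set G) ≠ ⊥ := by
      by_contra hcon
      push Not at hcon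
      exact Sigma15.sigmaCore_ne_bot hG hM (le_bot_iff.mp (Uniq.le_of_centralizers_noncyclic hAe
        (not_isCyclic_plane hAe hA2) ((hp.out.coprime_iff_not_dvd.mpr fun h =>
          hpσ (piNat_card_piCoreOf (Cfsg.sigma M) M p hp.out h)).symm)
        (hAM.trans (piCoreOf_normal _ _)) fun a ha ha1 => (hcon a ha ha1).le))
    exact ⟨a, ha, ha1, onlyIn_of_fixed hG hM hpσ hAM hAe hA2 ha ha1 hne⟩
  · exact exists_onlyIn_of_alpha hG hM hpα hAM hAe hA2 h0

include hG hM hAM hAe hA2 in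
/-- **BG 11**: `C(A) ≤ M`. -/
theorem centralizer_le : Subgroup.centralizer (A : Set G) ≤ M := by
  by_cases h : p ∈ Cfsg.sigma M ∧ Cfsg.alphaCore M = ⊥
  swap
  · obtain ⟨a, ha, -, hon⟩ := exists_onlyIn hG hM hAM hAe hA2 h
    exact (Subgroup.centralizer_le (Set.singleton_subset_iff.mpr ha)).trans hon.1
  obtain ⟨hpσ, h0⟩ := h
  have hΩ := omega_eq hG hM (not_mem_alpha_of_bot hG hM h0) hAM hAe hA2
  obtain ⟨P, hP, hAP⟩ := exists_sylowOf_ge hAM (isPGroup_of_elemAb hAe)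
  have hPne : P ≠ ⊥ := fun h => not_isCyclic_plane hAe hA2 (by
    have hAb : A = ⊥ := le_bot_iff.mp (h ▸ hAP)
    subst hAb
    infer_instance)
  have hW := omegaCenter_ne_bot hP.2.1 hPne
  have hWA : omegaCenter p P ≤ A := fun x hx =>
    (hΩ x (Subgroup.centralizer_le hAP hx.2.1)).mp hx.2.2
  exact (Subgroup.centralizer_le hWA).trans ((Subgroup.centralizer_le_normalizer _).trans
    (normalizer_eq_of_isCoatom hG hM (hWA.trans hAM) hW
      ((sylow_normal_of_bot hG hM h0 hpσ hP).trans (normalizer_le_normalizer_omegaCenter P))).le)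

include hG hM hAM hAe hA2 in
/-- **BG 11**: no line with normalizer only in `M` forces `p ∈ σ(M)`, `M_α = 1`. -/
theorem sigma_of_no_line
    (h : ∀ A₀ : Subgroup G, A₀ ≤ A → Nat.card A₀ = p →
      ¬ (Subgroup.normalizer (A₀ : Set G) ≤ M ∧
        ∀ L : Subgroup G, IsCoatom L → Subgroup.normalizer (A₀ : Set G) ≤ L → L = M)) :
    p ∈ Cfsg.sigma M ∧ Cfsg.alphaCore M = ⊥ ∧ Group.IsNilpotent (Cfsg.sigmaCore M) := by
  suffices h' : p ∈ Cfsg.sigma M ∧ Cfsg.alphaCore M = ⊥ from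
    ⟨h'.1, h'.2, sigmaCore_isNilpotent hG hM h'.2⟩
  by_contra hcon
  obtain ⟨a, ha, ha1, hon⟩ := exists_onlyIn hG hM hAM hAe hA2 hcon
  refine h _ (Subgroup.zpowers_le.mpr ha) (by rw [Nat.card_zpowers, orderOf_mem hAe ha ha1])
    (hon.mono ?_ (minSimple_normalizer_ne_top hG (Subgroup.zpowers_ne_bot.mpr ha1)
      (minSimple_pgroup_ne_top hG ((isPGroup_of_elemAb hAe).to_le (Subgroup.zpowers_le.mpr ha)))))
  rw [← centralizer_zpowers]
  exact Subgroup.centralizer_le_normalizer _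

end CfsgLib.OddOrder.Sigma11
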