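import Mathlib
import Cfsg.Agent.Lib.OddOrder.Sigma11Aux

/-!
# Averaging in an abelian `p`-group under a group of operators of order prime to `p`
-/

set_option autoImplicit false

namespace CfsgLib.OddOrder.Sigma12

open Subgroup CfsgLib.OddOrder

universe u

section Comm

variable {Q R H : Type*} [CommGroup Q] [CommGroup R] [Group H] [Finite H] {p : ℕ} [hp : Fact p.Prime]

/-- An element spanning an invariant cyclic subgroup over an invariant line. -/
theorem exists_invariant_avg (φ : H →* MulAut Q) (f : Q →* R) (hf : ∀ h d, f d = 1 → f (φ h d) = 1)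
    (N : ℕ) (hQ : ∀ z : Q, z ^ p ^ (N + 1) = 1) (x : Q) (hw : orderOf (f x ^ p ^ N) = p)
    (hi : ∀ h, ∃ i : ℕ, f (φ h x) ^ p ^ N = (f x ^ p ^ N) ^ i) :
    ∃ y : Q, (∀ g, φ g y ∈ Subgroup.zpowers y) ∧ f y ^ p ^ N = (f x ^ p ^ N) ^ Nat.card H := by
  classical
  have := Fintype.ofFinite H
  set w := f x ^ p ^ N with hwdef
  choose c hc using hi
  have hw1 : ∀ {a b : ℕ}, w ^ a = w ^ b → a ≡ b [MOD p] := fun h => hw ▸ pow_eq_pow_iff_modEq.mp h
  have hmul : ∀ g h, c (g * h) ≡ c g * c h [MOD p] := fun g h => hw1 <| by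
    have h1 : f (φ h x ^ p ^ N * ((x ^ p ^ N) ^ c h)⁻¹) = 1 := by
      rw [map_mul, map_inv, map_pow, map_pow, map_pow, hc h, hwdef, mul_inv_cancel]
    have h2 := hf g _ h1
    rw [map_mul, map_inv, map_pow, map_pow, map_pow, map_mul, map_inv, map_pow, map_pow, map_pow,
      mul_inv_eq_one, ← MulAut.mul_apply, ← map_mul, hc, hc] at h2
    rw [h2, pow_mul]
  have hone : c 1 ≡ 1 [MOD p] := hw1 <| by
    rw [← hc 1, map_one, MulAut.one_apply, pow_one, hwdef]
  set C : H → ℕ := fun h => c h ^ p ^ N with hC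
  have hlift : ∀ {a b : ℕ}, a ≡ b [MOD p] → a ^ p ^ N ≡ b ^ p ^ N [MOD p ^ (N + 1)] := by
    intro a b h
    rw [Nat.modEq_iff_dvd] at h ⊢
    have h1 := dvd_sub_pow_of_dvd_sub h N
    push_cast
    exact h1
  have hCmul : ∀ g h, C (g * h) ≡ C g * C h [MOD p ^ (N + 1)] := fun g h => by
    simp only [hC, ← mul_pow]
    exact hlift (hmul g h)
  have hCone : C 1 ≡ 1 [MOD p ^ (N + 1)] := by
    simpa [hC] using hlift hone
  have hQmod : ∀ (z : Q) {a b : ℕ}, a ≡ b [MOD p ^ (N + 1)] → z ^ a = z ^ b := fun z a b h =>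
    pow_eq_pow_iff_modEq.mpr (h.of_dvd (orderOf_dvd_of_pow_eq_one (hQ z)))
  have hcC : ∀ h, w ^ c h = w ^ C h := fun h => by
    refine pow_eq_pow_iff_modEq.mpr ?_
    rw [hw, ← ZMod.natCast_eq_natCast_iff, hC, Nat.cast_pow, ZMod.pow_card_pow]
  refine ⟨∏ h : H, φ h x ^ C h⁻¹, fun g => ?_, ?_⟩
  · refine ⟨(C g : ℤ), ?_⟩
    rw [map_prod]
    change (∏ h : H, φ h x ^ C h⁻¹) ^ (C g : ℤ) = _
    rw [zpow_natCast, ← Finset.prod_pow, ← Equiv.prod_comp (Equiv.mulLeft g) fun h => (φ h x ^ C h⁻¹) ^ C g]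
    refine Finset.prod_congr rfl fun h _ => ?_
    simp only [Equiv.coe_mulLeft]
    rw [← pow_mul, map_pow (φ g), ← MulAut.mul_apply, ← map_mul]
    refine hQmod _ ?_
    refine (hCmul _ _).symm.trans ?_
    rw [mul_inv_rev, inv_mul_cancel_right]
  · rw [map_prod, ← Finset.prod_pow, Nat.card_eq_fintype_card, ← Finset.card_univ, ← Finset.prod_const]
    refine Finset.prod_congr rfl fun h _ => ?_
    rw [map_pow, ← pow_mul, mul_comm, pow_mul, hc, hcC, ← pow_mul]
    conv_rhs => rw [← pow_one w]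
    refine pow_eq_pow_iff_modEq.mpr ?_
    rw [hw]
    refine ((hCmul h h⁻¹).symm.trans ?_).of_dvd (dvd_pow_self p N.succ_ne_zero)
    rw [mul_inv_cancel]
    exact hCone

omit hp in
/-- The norm of an element under an operator of order dividing `r` is fixed. -/
theorem norm_fixed {r : ℕ} (ρ : MulAut Q) (hρ : ρ ^ r = 1) (v : Q) :
    ρ (∏ i ∈ Finset.range r, (ρ ^ i) v) = ∏ i ∈ Finset.range r, (ρ ^ i) v := by
  have h1 := Finset.prod_range_succ' (fun i => (ρ ^ i) v) r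
  have h2 := Finset.prod_range_succ (fun i => (ρ ^ i) v) r
  rw [h2] at h1
  simp only [hρ, pow_zero, MulAut.one_apply] at h1
  rw [map_prod]
  simp only [← MulAut.mul_apply, ← pow_succ']
  exact (mul_right_cancel h1).symm

/-- Two commuting operators of order `r` cannot span a fixed point free group. -/
theorem exists_fixed_of_pair {r : ℕ} [hr : Fact r.Prime] (σ τ : MulAut Q) (hστ : Commute σ τ)
    (hσ : σ ^ r = 1) (hτ : τ ^ r = 1) (hτf : ∀ v : Q, τ v = v → v = 1)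
    (hQr : ∀ v : Q, v ^ r = 1 → v = 1) {v₀ : Q} (hv₀ : v₀ ≠ 1) :
    ∃ j : ℕ, ∃ v : Q, v ≠ 1 ∧ (σ * τ ^ j) v = v := by
  by_contra hcon
  push Not at hcon
  refine hv₀ (hQr _ ?_)
  have hρ : ∀ j : ℕ, (σ * τ ^ j) ^ r = 1 := fun j => by
    rw [(hστ.pow_right j).mul_pow, hσ, one_mul, ← pow_mul, mul_comm, pow_mul, hτ, one_pow]
  have hN : ∀ j : ℕ, ∏ i ∈ Finset.range r, ((σ * τ ^ j) ^ i) v₀ = 1 := fun j =>
    by_contra fun h => hcon j _ h (norm_fixed _ (hρ j) v₀)
  have hrow : ∀ i, i ∈ Finset.range r → i ≠ 0 → ∏ j ∈ Finset.range r, ((τ ^ i) ^ j) v₀ = 1 := by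
    intro i hi hi0
    refine hτf _ ?_
    set u := ∏ j ∈ Finset.range r, ((τ ^ i) ^ j) v₀
    have hu : (τ ^ i) u = u := norm_fixed _ (by rw [← pow_mul, mul_comm, pow_mul, hτ, one_pow]) v₀
    have hcop : i.Coprime r := ((Nat.Prime.coprime_iff_not_dvd hr.out).mpr
      (Nat.not_dvd_of_pos_of_lt (Nat.pos_of_ne_zero hi0) (Finset.mem_range.mp hi))).symm
    obtain ⟨m, hm⟩ := exists_pow_eq_self_of_coprime (x := τ)
      (hcop.coprime_dvd_right (orderOf_dvd_of_pow_eq_one hτ))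
    have hall : ∀ n : ℕ, ((τ ^ i) ^ n) u = u := fun n => by
      induction n with
      | zero => simp
      | succ n ih => rw [pow_succ, MulAut.mul_apply, hu, ih]
    have h3 := hall m
    rwa [hm] at h3
  have h := Finset.prod_eq_one fun j (_ : j ∈ Finset.range r) => hN j
  rw [Finset.prod_comm] at h
  have hterm : ∀ i ∈ Finset.range r, ∏ j ∈ Finset.range r, ((σ * τ ^ j) ^ i) v₀ =
      (σ ^ i) (∏ j ∈ Finset.range r, ((τ ^ i) ^ j) v₀) := fun i _ => by
    rw [map_prod]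
    refine Finset.prod_congr rfl fun j _ => ?_
    rw [(hστ.pow_right j).mul_pow, MulAut.mul_apply, ← pow_mul, ← pow_mul, mul_comm i j]
  rw [Finset.prod_congr rfl hterm,
    Finset.prod_eq_single_of_mem 0 (Finset.mem_range.mpr hr.out.pos)
      fun i hi hi0 => by rw [hrow i hi hi0, map_one]] at h
  simpa using h

end Comm

end CfsgLib.OddOrder.Sigma12
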