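import Mathlib
import Cfsg.Agent.Lib.OddOrder.Sigma11Main
import Cfsg.Agent.Lib.OddOrder.NarrowStructure
import Cfsg.Agent.Lib.OddOrder.Sigma10Rank
import Cfsg.Agent.Lib.OddOrder.InvariantCore
import Cfsg.Agent.Lib.OddOrder41.Sigma12Aux
import Cfsg.Agent.Lib.Frobenius.FPFThompson

/-!
# BG 12.5: the structure attached to a prime of `τ₂(M)`
-/

set_option autoImplicit false

namespace CfsgLib.OddOrder.Sigma12

open Subgroup CfsgLib.OddOrder CfsgLib.OddOrder.Transitivity CfsgLib.OddOrder.Sigma11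
open scoped commutatorElement

universe u

variable {G : Type u} [Group G] [Finite G] {p : ℕ} [hp : Fact p.Prime]

omit hp in
/-- Conjugation inside `M` preserves fixed points in `M_σ`. -/
theorem sigma_inf_centralizer_conj {M : Subgroup G} {m a : G} (hm : m ∈ M)
    (h : Cfsg.sigmaCore M ⊓ Subgroup.centralizer ({a} : Set G) ≠ ⊥) :
    Cfsg.sigmaCore M ⊓ Subgroup.centralizer ({m * a * m⁻¹} : Set G) ≠ ⊥ := by
  intro h0
  refine h (Subgroup.card_eq_one.mp ?_)
  rw [← card_cj m, Subgroup.card_eq_one, eq_bot_iff]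
  refine le_trans ?_ h0.le
  refine le_inf ?_ ((cj_mono inf_le_right).trans (cj_centralizer_singleton m a).le)
  exact (cj_mono inf_le_left).trans (cj_eq_of_mem_normalizer (piCoreOf_normal _ _ hm)).le

/-- A `p`-rank two Sylow subgroup contains a plane. -/
theorem exists_plane {M P : Subgroup G} (hr1 : ¬ Cfsg.PRankLE p 1 M) (hP : SylowOf p P M) :
    ∃ A : Subgroup G, A ≤ P ∧ Cfsg.IsElementaryAbelian p A ∧ Nat.card A = p ^ 2 := by
  obtain ⟨A, h1, h2, h3⟩ := not_pRankLE_subgroup_iff.mp fun h => hr1 (Sigma10.pRankLE_of_sylowOf hP h)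
  exact ⟨A, h1, h2, h3⟩

/-- The centralizer in a Sylow subgroup of a maximal plane is abelian, with cyclic `℧₁` unless the
Sylow subgroup is abelian. -/
theorem sylow_inf_centralizer_structure (hG : Cfsg.IsMinSimpleOddOrder G) (S : Sylow p G) {A : Subgroup G}
    (hAS : A ≤ (S : Subgroup G)) (hAe : Cfsg.IsElementaryAbelian p A) (hA2 : Nat.card A = p ^ 2)
    (hΩ : ∀ x ∈ Subgroup.centralizer (A : Set G), x ^ p = 1 ↔ x ∈ A) :
    IsMulCommutative ↥((S : Subgroup G) ⊓ Subgroup.centralizer (A : Set G)) ∧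
      (IsMulCommutative (S : Subgroup G) ∨ ∃ C : Subgroup G, IsCyclic C ∧
        ∀ x ∈ (S : Subgroup G) ⊓ Subgroup.centralizer (A : Set G), x ^ p ∈ C) := by
  have hp2 : p ≠ 2 := minSimple_prime_ne_two hG (H := A) (hA2 ▸ dvd_pow_self p two_ne_zero)
  suffices key : (∀ x ∈ (S : Subgroup G) ⊓ Subgroup.centralizer (A : Set G),
      ∀ y ∈ (S : Subgroup G) ⊓ Subgroup.centralizer (A : Set G), x * y = y * x) ∧
      (IsMulCommutative (S : Subgroup G) ∨ ∃ C : Subgroup G, IsCyclic C ∧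
        ∀ x ∈ (S : Subgroup G) ⊓ Subgroup.centralizer (A : Set G), x ^ p ∈ C) from
    ⟨⟨⟨fun x y => Subtype.ext (key.1 x x.2 y y.2)⟩⟩, key.2⟩
  by_cases hr : Cfsg.PRankLE p 2 (S : Subgroup G)
  · rcases Sigma10.rank_two_structure hG (Sigma10.pLengthLE_one_proper hG p) S hr with h |
      ⟨P₁, P₂, hsup, hcomm, -, -, hexp, hcyc, hΩ₂⟩
    · exact ⟨fun x hx y hy => mul_comm_of_mem h hx.1 hy.1, Or.inl h⟩
    have hn : P₂ ≤ Subgroup.normalizer (P₁ : Set G) := fun b hb =>
      Subgroup.centralizer_le_normalizer _ (Subgroup.mem_centralizer_iff.mpr fun a ha => hcomm a ha b hb)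
    have hexp' : ∀ u ∈ P₁, u ^ p = 1 := fun u hu => by
      have h1 := Monoid.pow_exponent_eq_one (⟨u, hu⟩ : P₁)
      rw [hexp] at h1
      exact congrArg Subtype.val h1
    have hdec : ∀ x ∈ (S : Subgroup G), ∃ v ∈ P₂, ∃ u ∈ P₁, x = v * u := fun x hx =>
      Coprime.exists_mul_of_mem_sup hn (sup_comm P₁ P₂ ▸ hsup.ge hx)
    have hAP : A ≤ P₁ := by
      intro a ha
      obtain ⟨v, hv, u, hu, rfl⟩ := hdec a (hAS ha)
      refine mul_mem ?_ hu
      refine (inf_le_left : P₁ ⊓ Subgroup.centralizer (P₁ : Set G) ≤ P₁) (hΩ₂.le ?_)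
      refine Subgroup.subset_closure ⟨hv, ?_⟩
      have h1 : Commute v u := (hcomm u hu v hv).symm
      have h2 := hAe.2 _ ha
      rwa [h1.mul_pow, hexp' u hu, mul_one] at h2
    have hAP₂ : ∀ v ∈ P₂, v ∈ Subgroup.centralizer (A : Set G) := fun v hv =>
      Subgroup.mem_centralizer_iff.mpr fun a ha => hcomm a (hAP ha) v hv
    have hinA : ∀ {x v u : G}, x ∈ (S : Subgroup G) ⊓ Subgroup.centralizer (A : Set G) → v ∈ P₂ → u ∈ P₁ →
        x = v * u → u ∈ A := by
      intro x v u hx hv hu he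
      refine (hΩ u ?_).mp (hexp' u hu)
      rw [show u = v⁻¹ * x by rw [he, inv_mul_cancel_left]]
      exact mul_mem (inv_mem (hAP₂ v hv)) hx.2
    refine ⟨?_, Or.inr ⟨P₂, hcyc, fun x hx => ?_⟩⟩
    swap
    · obtain ⟨v, hv, u, hu, rfl⟩ := hdec x hx.1
      rw [(show Commute v u from (hcomm u hu v hv).symm).mul_pow, hexp' u hu, mul_one]
      exact pow_mem hv p
    intro x hx y hy
    obtain ⟨v, hv, u, hu, hxe⟩ := hdec x hx.1
    obtain ⟨v', hv', u', hu', hye⟩ := hdec y hy.1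
    have hP2c := IsCyclic.isMulCommutative (α := P₂)
    have h1 : Commute v v' := mul_comm_of_mem hP2c hv hv'
    have h2 : Commute u u' := elemAb_commute hAe (hinA hx hv hu hxe) (hinA hy hv' hu' hye)
    have h3 : Commute u v' := hcomm u hu v' hv'
    have h4 : Commute v u' := (hcomm u' hu' v hv).symm
    rw [hxe, hye]
    exact ((h1.mul_right h4).mul_left (h3.mul_right h2)).eq
  · set E := A.subgroupOf (S : Subgroup G) with hE
    have hEe : Cfsg.IsElementaryAbelian p E := elemAb_comap hAe _ (S : Subgroup G).subtype_injective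
    have hE2 : Nat.card E = p ^ 2 := by
      rw [hE, Nat.card_congr (Subgroup.subgroupOfEquivOfLe hAS).toEquiv, hA2]
    have hΩ' : ∀ x : (S : Subgroup G), x ∈ Subgroup.centralizer (E : Set (S : Subgroup G)) →
        x ^ p = 1 → x ∈ E := fun x hx hxp =>
      (hΩ x (Subgroup.mem_centralizer_iff.mpr fun a ha =>
        congrArg Subtype.val (Subgroup.mem_centralizer_iff.mp hx ⟨a, hAS ha⟩ ha))).mp
        (congrArg Subtype.val hxp)
    have hmax : ∀ B : Subgroup (S : Subgroup G), Cfsg.IsElementaryAbelian p B → E ≤ B → B = E :=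
      fun B hB hEB => le_antisymm (fun b hb => hΩ' b (Subgroup.mem_centralizer_iff.mpr fun a ha =>
        elemAb_commute hB (hEB ha) hb) (hB.2 b hb)) hEB
    obtain ⟨z, e, hL⟩ := Narrow.exists_layer hp2 S.isPGroup' hr hEe hE2 hmax
    set T := Subgroup.centralizer
      (CubeUnique.omegaTwo p (hp.out.odd_of_ne_two hp2) (S : Subgroup G) : Set (S : Subgroup G)) with hT
    have hWn : (CubeUnique.omegaTwo p (hp.out.odd_of_ne_two hp2) (S : Subgroup G)).Normal := by
      have := CubeUnique.omegaTwo_characteristic (q := p) (R := ↥(S : Subgroup G)) (hp.out.odd_of_ne_two hp2)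
      infer_instance
    have hzT : z ∈ T := Subgroup.mem_centralizer_iff.mpr fun g _ => hL.central g
    have heT : e ∉ T := fun h => hL.not_le (hL.gen.le.trans
      (sup_le (Subgroup.zpowers_le.mpr hzT) (Subgroup.zpowers_le.mpr h)))
    have htop : Subgroup.zpowers e ⊔ T = ⊤ := by
      rw [← Subgroup.index_eq_one]
      refine ((Nat.dvd_prime hp.out).mp ((Subgroup.index_dvd_of_le le_sup_right).trans hL.index.dvd)).resolve_right
        fun h => heT ?_
      have h1 := Subgroup.relIndex_mul_index (le_sup_right : T ≤ Subgroup.zpowers e ⊔ T)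
      rw [h, hL.index] at h1
      exact Subgroup.relIndex_eq_one.mp ((mul_eq_right₀ hp.out.pos.ne').mp h1)
        ((le_sup_left : Subgroup.zpowers e ≤ _) (Subgroup.mem_zpowers e))
    have hTn : T.Normal := Subgroup.normalizer_eq_top_iff.mp (top_le_iff.mp
      ((Subgroup.normalizer_eq_top_iff.mpr hWn).ge.trans (normalizer_centralizer_le _)))
    set X := Subgroup.centralizer (E : Set (S : Subgroup G)) with hX
    have hcyc : IsCyclic ↥(X ⊓ T) := by
      refine CubeUnique.isCyclic_of_no_sq hp2 (S.isPGroup'.to_subgroup _) fun W hW hWe hWc => ?_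
      have hle : W ≤ Subgroup.zpowers z := fun w hw =>
        hL.inf_le ⟨hΩ' w (hW hw).1 (hWe.2 w hw), (hW hw).2⟩
      have h1 := Subgroup.card_le_of_le hle
      rw [hWc, Nat.card_zpowers, hL.order_z] at h1
      exact absurd h1 (not_le.mpr (lt_self_pow₀ hp.out.one_lt one_lt_two))
    have hXT := IsCyclic.isMulCommutative (α := ↥(X ⊓ T))
    have heX : e ∈ X := Subgroup.mem_centralizer_iff.mpr fun a ha => elemAb_commute hEe ha hL.mem_e
    have hecomm : ∀ x ∈ X, Commute e x := fun x hx => Subgroup.mem_centralizer_iff.mp hx e hL.mem_e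
    have hdec : ∀ x ∈ X, ∃ i : ℤ, ∃ t ∈ X ⊓ T, x = e ^ i * t := by
      intro x hx
      obtain ⟨u, hu, t, ht, rfl⟩ := Coprime.exists_mul_of_mem_sup
        (H := Subgroup.zpowers e) (N := T) (by rw [Subgroup.normalizer_eq_top_iff.mpr hTn]; exact le_top)
        (htop ▸ Subgroup.mem_top x)
      obtain ⟨i, rfl⟩ := hu
      refine ⟨i, t, ⟨?_, ht⟩, rfl⟩
      simpa using X.mul_mem (X.inv_mem (X.zpow_mem heX i)) hx
    have key : ∀ x ∈ X, ∀ y ∈ X, x * y = y * x := by
      intro x hx y hy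
      obtain ⟨i, t, ht, rfl⟩ := hdec x hx
      obtain ⟨j, t', ht', rfl⟩ := hdec y hy
      have h1 : Commute t t' := mul_comm_of_mem hXT ht ht'
      have h2 : Commute (e ^ i) (e ^ j) := (Commute.refl e).zpow_zpow i j
      exact ((h2.mul_right ((hecomm t' ht'.1).zpow_left i)).mul_left
        (((hecomm t ht.1).zpow_left j).symm.mul_right h1)).eq
    have hmem : ∀ w (hw : w ∈ (S : Subgroup G) ⊓ Subgroup.centralizer (A : Set G)), (⟨w, hw.1⟩ : (S : Subgroup G)) ∈ X :=
      fun w hw => Subgroup.mem_centralizer_iff.mpr fun a ha =>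
        Subtype.ext (Subgroup.mem_centralizer_iff.mp hw.2 a ha)
    refine ⟨fun x hx y hy => congrArg Subtype.val (key _ (hmem x hx) _ (hmem y hy)),
      Or.inr ⟨(X ⊓ T).map (S : Subgroup G).subtype, isCyclic_of_surjective
        ((X ⊓ T).equivMapOfInjective _ (S : Subgroup G).subtype_injective).toMonoidHom
        (MulEquiv.surjective _), fun x hx => ?_⟩⟩
    obtain ⟨i, t, ht, he⟩ := hdec _ (hmem x hx)
    refine ⟨_, pow_mem ht p, ?_⟩
    have he1 : (e : ↥(S : Subgroup G)) ^ p = 1 := hEe.2 e hL.mem_e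
    have h1 : (⟨x, hx.1⟩ : ↥(S : Subgroup G)) ^ p = t ^ p := by
      rw [he, ((hecomm t ht.1).zpow_left i).mul_pow, ← zpow_natCast (e ^ i), ← zpow_mul, mul_comm,
        zpow_mul, zpow_natCast, he1, one_zpow, one_mul]
    exact (congrArg Subtype.val h1).symm

/-- The centralizer in a Sylow subgroup of a maximal plane is abelian. -/
theorem sylow_inf_centralizer_comm (hG : Cfsg.IsMinSimpleOddOrder G) (S : Sylow p G) {A : Subgroup G}
    (hAS : A ≤ (S : Subgroup G)) (hAe : Cfsg.IsElementaryAbelian p A) (hA2 : Nat.card A = p ^ 2)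
    (hΩ : ∀ x ∈ Subgroup.centralizer (A : Set G), x ^ p = 1 ↔ x ∈ A) :
    IsMulCommutative ↥((S : Subgroup G) ⊓ Subgroup.centralizer (A : Set G)) :=
  (sylow_inf_centralizer_structure hG S hAS hAe hA2 hΩ).1

variable (hG : Cfsg.IsMinSimpleOddOrder G) {M : Subgroup G} (hM : IsCoatom M) (ht : p ∈ Cfsg.tau2 M)

include ht in
theorem dvd_card_of_tau2 : p ∣ Nat.card M := by
  obtain ⟨A, hAM, -, hA2⟩ := not_pRankLE_subgroup_iff.mp ht.2.2.2
  exact (hA2 ▸ dvd_pow_self p two_ne_zero : p ∣ Nat.card A).trans (Subgroup.card_dvd_of_le hAM)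

include ht in
/-- Some element of a Sylow normalizer lies outside `M`. -/
theorem exists_normalizer_not_mem {P : Subgroup G} (hP : SylowOf p P M) :
    ∃ g ∈ Subgroup.normalizer (P : Set G), g ∉ M :=
  SetLike.not_le_iff_exists.mp fun h =>
    ht.2.1 (Sigma10.mem_sigma_of_normalizer_le hp.out (dvd_card_of_tau2 ht) hP h)

section Plane

variable {A : Subgroup G} (hAM : A ≤ M) (hAe : Cfsg.IsElementaryAbelian p A) (hA2 : Nat.card A = p ^ 2)

include hG hM ht hAM hAe in
theorem coprime_card_sigmaCore : (Nat.card A).Coprime (Nat.card (Cfsg.sigmaCore M)) :=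
  coprime_sigmaCore hG hM ht.2.1 hAe

include hG hM ht hAM hAe hA2 in
theorem omega : ∀ x ∈ Subgroup.centralizer (A : Set G), x ^ p = 1 ↔ x ∈ A :=
  omega_eq hG hM (Sigma10.not_mem_alpha_of_not_mem_sigma hG hM ht.2.1) hAM hAe hA2

include hG hM ht hAM hAe hA2 in
theorem exists_good : ∃ a ∈ A, a ≠ 1 ∧ Cfsg.sigmaCore M ⊓ Subgroup.centralizer ({a} : Set G) ≠ ⊥ := by
  by_contra hcon
  push Not at hcon
  exact Sigma15.sigmaCore_ne_bot hG hM (le_bot_iff.mp (Uniq.le_of_centralizers_noncyclic hAe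
    (not_isCyclic_plane hAe hA2)
    ((hp.out.coprime_iff_not_dvd.mpr fun h =>
      ht.2.1 (piNat_card_piCoreOf (Cfsg.sigma M) M p hp.out h)).symm)
    (hAM.trans (piCoreOf_normal _ _)) fun a ha ha1 => (hcon a ha ha1).le))

include hG hM ht hAM hAe hA2 in
/-- **BG 12.5 (f)**. -/
theorem exists_bad : ∃ a ∈ A, a ≠ 1 ∧ Cfsg.sigmaCore M ⊓ Subgroup.centralizer ({a} : Set G) = ⊥ := by
  by_contra hcon
  push Not at hcon
  have hon : ∀ a ∈ A, a ≠ 1 → OnlyIn M (Subgroup.centralizer ({a} : Set G)) := fun a ha ha1 =>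
    onlyIn_of_fixed hG hM ht.2.1 hAM hAe hA2 ha ha1 (hcon a ha ha1)
  have hU : ∀ N : Subgroup G, IsCoatom N → A ≤ N → N = M := fun N hN hAN =>
    (eq_of_centralizers_le hG hAe hA2 hN hAN hM fun a ha ha1 => (hon a ha ha1).1).symm
  obtain ⟨P, hP, hAP⟩ := exists_sylowOf_ge hAM (isPGroup_of_elemAb hAe)
  obtain ⟨g, hg, hgM⟩ := exists_normalizer_not_mem ht hP
  have hPne : P ≠ ⊥ := fun h => not_isCyclic_plane hAe hA2 (by
    have hAb : A = ⊥ := le_bot_iff.mp (h ▸ hAP)
    subst hAb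
    infer_instance)
  set W := omegaCenter p P with hW
  have hWA : W ≤ A := fun x hx =>
    (omega hG hM ht hAM hAe hA2 x (Subgroup.centralizer_le hAP hx.2.1)).mp hx.2.2
  obtain ⟨z, hz, hz1⟩ := (Subgroup.bot_or_exists_ne_one W).resolve_left (omegaCenter_ne_bot hP.2.1 hPne)
  have hgW := normalizer_le_normalizer_omegaCenter (p := p) P hg
  by_cases hWz : W ≤ Subgroup.zpowers z
  · refine hgM ((hon z (hWA hz) hz1).normalizer_le hG hM ?_)
    rw [← centralizer_zpowers]
    refine normalizer_centralizer_le _ ?_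
    rwa [show Subgroup.zpowers z = W from le_antisymm (Subgroup.zpowers_le.mpr hz) hWz]
  · obtain ⟨w, hw, hwz⟩ := SetLike.not_le_iff_exists.mp hWz
    rw [← hW] at hgW
    have hAW : A = W := le_antisymm ((eq_sup_zpowers hAe hA2 (hWA hz) hz1 (hWA hw) hwz).ge.trans
      (sup_le (Subgroup.zpowers_le.mpr hz) (Subgroup.zpowers_le.mpr hw))) hWA
    rw [← hAW] at hgW
    refine hgM ((normalizer_self_eq_of_isCoatom hG hM).le (mem_normalizer_of_cj_eq ?_))
    exact hU _ (isCoatom_map_conj hM g) ((cj_eq_of_mem_normalizer hgW).ge.trans (cj_mono hAM))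

include hG hM ht hAM hAe hA2 in
/-- **BG 12.5 (a)**. -/
theorem sigmaCore_isNilpotent : Group.IsNilpotent (Cfsg.sigmaCore M) := by
  obtain ⟨a, ha, -, hbad⟩ := exists_bad hG hM ht hAM hAe hA2
  exact Frobenius.Thompson.isNilpotent_of_element _ (piCoreOf_normal _ _ (hAM ha)) hp.out (hAe.2 a ha)
    fun k hk hak => Subgroup.mem_bot.mp (hbad.le ⟨hk, Subgroup.mem_centralizer_singleton_iff.mpr hak.symm⟩)

include hG hM ht hAM hAe hA2 in
/-- A line over a bad central element moved by `P`: all the other lines are good. -/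
theorem good_of_moved {P : Subgroup G} (hP : IsPGroup p P) (hPM : P ≤ M) (hAP : A ≤ P) {z : G}
    (hz : z ∈ A) (hz1 : z ≠ 1) (hzc : z ∈ Subgroup.centralizer (P : Set G))
    (hzbad : Cfsg.sigmaCore M ⊓ Subgroup.centralizer ({z} : Set G) = ⊥) {y : G} (hyP : y ∈ P)
    (hyA : y ∈ Subgroup.normalizer (A : Set G)) (hync : y ∉ Subgroup.centralizer (A : Set G)) :
    ∀ b ∈ A, b ∉ Subgroup.zpowers z →
      Cfsg.sigmaCore M ⊓ Subgroup.centralizer ({b} : Set G) ≠ ⊥ := by
  obtain ⟨a, ha, ha1, hgood⟩ := exists_good hG hM ht hAM hAe hA2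
  have hzo := orderOf_mem hAe hz hz1
  have haz : a ∉ Subgroup.zpowers z := fun h => hgood (le_bot_iff.mp
    (hzbad ▸ inf_le_inf_left _ (centralizer_le_of_mem_zpowers hzo h ha1)))
  have hyz : y * z = z * y := Subgroup.mem_centralizer_iff.mp hzc y hyP
  have hfix : ∀ w ∈ A, y * w = w * y → w ∈ Subgroup.zpowers z := by
    intro w hw hyw
    by_contra hwz
    exact hync (inf_centralizer_pair_le hAe hA2 hz hz1 hw hwz
      ⟨Subgroup.mem_centralizer_singleton_iff.mpr hyz, Subgroup.mem_centralizer_singleton_iff.mpr hyw⟩)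
  -- `[A, y]` lies in `⟨z⟩`
  have hAp := isPGroup_of_elemAb hAe
  have hYn : Subgroup.zpowers y ≤ Subgroup.normalizer (A : Set G) := Subgroup.zpowers_le.mpr hyA
  have hYp : IsPGroup p (Subgroup.zpowers y) := hP.to_le (Subgroup.zpowers_le.mpr hyP)
  have hAne : A ≠ ⊥ := fun h => hz1 (Subgroup.mem_bot.mp (h ▸ hz))
  set U := ⁅A, Subgroup.zpowers y⁆ with hU
  have hUlt : U < A := Coprime.commutator_lt_of_isPGroup hAp hYp hYn hAne
  have hUz : U ≤ Subgroup.zpowers z := by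
    intro w hw
    refine hfix w (hUlt.le hw) ?_
    by_cases hb : U = ⊥
    · simp [Subgroup.mem_bot.mp (hb ▸ hw : w ∈ (⊥ : Subgroup G))]
    have hVlt : ⁅U, Subgroup.zpowers y⁆ < U := Coprime.commutator_lt_of_isPGroup (hAp.to_le hUlt.le) hYp
      (Coprime.le_normalizer_commutator_right _ _) hb
    have hV : ⁅U, Subgroup.zpowers y⁆ = ⊥ := by
      obtain ⟨n, -, hn⟩ := (Nat.dvd_prime_pow hp.out).mp (hA2 ▸ Subgroup.card_dvd_of_le hUlt.le)
      obtain ⟨m, -, hm⟩ := (Nat.dvd_prime_pow hp.out).mp (hn ▸ Subgroup.card_dvd_of_le hVlt.le)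
      have h1 : Nat.card U < Nat.card A := lt_of_le_of_ne (Subgroup.card_le_of_le hUlt.le)
        fun h => hUlt.ne (Subgroup.eq_of_le_of_card_ge hUlt.le h.ge)
      have h2 : Nat.card ↥⁅U, Subgroup.zpowers y⁆ < Nat.card U :=
        lt_of_le_of_ne (Subgroup.card_le_of_le hVlt.le)
          fun h => hVlt.ne (Subgroup.eq_of_le_of_card_ge hVlt.le h.ge)
      rw [hn, hA2] at h1
      rw [hm, hn] at h2
      have h3 := (Nat.pow_lt_pow_iff_right hp.out.one_lt).mp h1
      have h4 := (Nat.pow_lt_pow_iff_right hp.out.one_lt).mp h2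
      rw [← Subgroup.card_eq_one, hm, show m = 0 by omega, pow_zero]
    exact (commutatorElement_eq_one_iff_mul_comm.mp (Subgroup.mem_bot.mp
      (hV ▸ Subgroup.commutator_mem_commutator hw (Subgroup.mem_zpowers y)))).symm
  set c := y * a * y⁻¹ * a⁻¹ with hc
  have hcz : c ∈ Subgroup.zpowers z := hUz (by
    have h1 : ⁅a, y⁆ ∈ U := Subgroup.commutator_mem_commutator ha (Subgroup.mem_zpowers y)
    have h2 : c = ⁅a, y⁆⁻¹ := by rw [hc, commutatorElement_def]; group
    rw [h2]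
    exact inv_mem h1)
  have hc1 : c ≠ 1 := fun h => haz (hfix a ha (by
    calc y * a = (y * a * y⁻¹ * a⁻¹) * a * y := by group
      _ = a * y := by rw [← hc, h, one_mul]))
  have hyc : Commute y c := Subgroup.mem_centralizer_iff.mp
    ((Subgroup.zpowers_le.mpr hzc : Subgroup.zpowers z ≤ _) hcz) y hyP
  intro b hb hbz
  -- a power of `b` is conjugate to `a`
  obtain ⟨u, hu, v, hv, rfl⟩ := Coprime.exists_mul_of_mem_sup
    (H := Subgroup.zpowers z) (N := Subgroup.zpowers a) (x := b)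
    ((Subgroup.zpowers_le.mpr hz).trans (fun x hx => Subgroup.centralizer_le_normalizer _
      (Subgroup.mem_centralizer_iff.mpr fun w hw =>
        elemAb_commute hAe ((Subgroup.zpowers_le.mpr ha) hw) hx)))
    ((eq_sup_zpowers hAe hA2 hz hz1 ha haz).ge hb)
  have hv1 : v ≠ 1 := fun h => hbz (by rw [h, mul_one]; exact hu)
  obtain ⟨n, hn : v ^ n = a⟩ := CubeUnique.zpowers_eq_of_mem (orderOf_mem hAe ha ha1) hv hv1
  have huc : u ^ n ∈ Subgroup.zpowers c :=
    zpow_mem ((Subgroup.zpowers_le.mpr (CubeUnique.zpowers_eq_of_mem hzo hcz hc1)) hu) n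
  obtain ⟨i, hi : c ^ i = u ^ n⟩ := mem_powers_iff_mem_zpowers.mpr huc
  have hbn : (u * v) ^ n = y ^ i * a * (y ^ i)⁻¹ := by
    rw [(show Commute u v from elemAb_commute hAe ((Subgroup.zpowers_le.mpr hz) hu)
      ((Subgroup.zpowers_le.mpr ha) hv)).mul_zpow, hn,
      InvariantCore.conj_fix_iter (f := c) (by rw [hc]; group) hyc i, hi]
  have hconj := sigma_inf_centralizer_conj (pow_mem (hPM hyP) i) hgood
  rw [← hbn] at hconj
  intro h0
  refine hconj (le_bot_iff.mp (h0 ▸ inf_le_inf_left _ ?_))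
  refine centralizer_le_of_mem_zpowers (orderOf_mem hAe hb fun h => hbz (h ▸ Subgroup.one_mem _))
    (Subgroup.zpow_mem _ (Subgroup.mem_zpowers _) n) fun h => ?_
  rw [hbn] at h
  exact ha1 (by simpa using h)

include hG hM ht hAM hAe hA2 in
/-- A Sylow subgroup of `M` over `A` centralizes `A`. -/
theorem sylow_le_centralizer {P : Subgroup G} (hP : SylowOf p P M) (hAP : A ≤ P) :
    P ≤ Subgroup.centralizer (A : Set G) := by
  by_contra hnc
  have hΩ := omega hG hM ht hAM hAe hA2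
  set P₀ := P ⊓ Subgroup.centralizer (A : Set G) with hP₀
  have hP₀P : P₀ < P := lt_of_le_of_ne inf_le_left fun h => hnc (inf_eq_left.mp h)
  obtain ⟨y, ⟨hyN, hyP⟩, hy₀⟩ := SetLike.not_le_iff_exists.mp fun h =>
    absurd (Subgroup.card_le_of_le h) (not_le.mpr (normalizer_grows hP.2.1 hP₀P))
  have hync : y ∉ Subgroup.centralizer (A : Set G) := fun h => hy₀ ⟨hyP, h⟩
  have hyA : y ∈ Subgroup.normalizer (A : Set G) := by
    refine mem_normalizer_of_cj_eq (Subgroup.eq_of_le_of_card_ge ?_ (card_cj y _).ge)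
    rintro _ ⟨x, hx, rfl⟩
    have hxP₀ : x ∈ P₀ := ⟨hAP hx, Subgroup.mem_centralizer_iff.mpr fun w hw => elemAb_commute hAe hw hx⟩
    refine (hΩ _ ((Subgroup.mem_normalizer_iff.mp hyN x).mp hxP₀).2).mp ?_
    change (y * x * y⁻¹) ^ p = 1
    rw [conj_pow, hAe.2 x hx, mul_one, mul_inv_cancel]
  have hPne : P ≠ ⊥ := fun h => hync (by
    rw [Subgroup.mem_bot.mp (h ▸ hyP : y ∈ (⊥ : Subgroup G))]; exact Subgroup.one_mem _)
  obtain ⟨z, hz, hz1⟩ :=
    (Subgroup.bot_or_exists_ne_one _).resolve_left (omegaCenter_ne_bot (p := p) hP.2.1 hPne)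
  have hzA : z ∈ A := (hΩ z (Subgroup.centralizer_le hAP hz.2.1)).mp hz.2.2
  have hzo := orderOf_mem hAe hzA hz1
  have hWz : ∀ w ∈ omegaCenter p P, w ∈ Subgroup.zpowers z := by
    intro w hw
    by_contra hwz
    exact hync (inf_centralizer_pair_le hAe hA2 hzA hz1
      ((hΩ w (Subgroup.centralizer_le hAP hw.2.1)).mp hw.2.2) hwz
      ⟨Subgroup.mem_centralizer_singleton_iff.mpr (Subgroup.mem_centralizer_iff.mp hz.2.1 y hyP),
        Subgroup.mem_centralizer_singleton_iff.mpr (Subgroup.mem_centralizer_iff.mp hw.2.1 y hyP)⟩)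
  obtain ⟨g, hg, hgM⟩ := exists_normalizer_not_mem ht hP
  have hgz : g * z * g⁻¹ ∈ Subgroup.zpowers z := hWz _
    ((Subgroup.mem_normalizer_iff.mp (normalizer_le_normalizer_omegaCenter P hg) z).mp hz)
  have hgN : g ∈ Subgroup.normalizer (Subgroup.zpowers z : Set G) := by
    refine mem_normalizer_of_cj_eq (Subgroup.eq_of_le_of_card_ge ?_ (card_cj g _).ge)
    rw [Transitivity.cj, MonoidHom.map_zpowers, Subgroup.zpowers_le]
    exact hgz
  have hzbad : Cfsg.sigmaCore M ⊓ Subgroup.centralizer ({z} : Set G) = ⊥ := by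
    by_contra hgood
    refine hgM ((onlyIn_of_fixed hG hM ht.2.1 hAM hAe hA2 hzA hz1 hgood).normalizer_le hG hM ?_)
    rw [← centralizer_zpowers]
    exact normalizer_centralizer_le _ hgN
  -- the image of `A` under `g`
  have hAe' : Cfsg.IsElementaryAbelian p (cj g A) := elemAb_map hAe _
  have hAP' : cj g A ≤ P := (cj_mono hAP).trans (cj_eq_of_mem_normalizer hg).le
  have hA2' : Nat.card (cj g A) = p ^ 2 := (card_cj g A).trans hA2
  have hzA' : z ∈ cj g A := mem_cj.mpr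
    ((Subgroup.zpowers_le.mpr hzA : Subgroup.zpowers z ≤ A)
      ((Subgroup.mem_normalizer_iff''.mp hgN z).mp (Subgroup.mem_zpowers z)))
  obtain ⟨a, ha, haz⟩ := exists_not_mem_zpowers hAe hA2 z
  have hga := good_of_moved hG hM ht hAM hAe hA2 hP.2.1 hP.1 hAP hzA hz1 hz.2.1 hzbad hyP hyA hync a ha haz
  have hy'P : g * y * g⁻¹ ∈ P := (Subgroup.mem_normalizer_iff.mp hg y).mp hyP
  have hga' := good_of_moved hG hM ht (hAP'.trans hP.1) hAe' hA2' hP.2.1 hP.1 hAP' hzA' hz1 hz.2.1 hzbad hy'P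
    (by
      refine mem_normalizer_of_cj_eq ?_
      rw [cj_mul, show g * y * g⁻¹ * g = g * y by group, ← cj_mul, cj_eq_of_mem_normalizer hyA])
    (fun h => hync (Subgroup.mem_centralizer_iff.mpr fun x hx => by
      have h2 : g * x * g⁻¹ * (g * y * g⁻¹) = g * y * g⁻¹ * (g * x * g⁻¹) :=
        Subgroup.mem_centralizer_iff.mp h _ ⟨x, hx, rfl⟩
      calc x * y = g⁻¹ * (g * x * g⁻¹ * (g * y * g⁻¹)) * g := by group
        _ = g⁻¹ * (g * y * g⁻¹ * (g * x * g⁻¹)) * g := by rw [h2]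
        _ = y * x := by group))
    (g * a * g⁻¹) ⟨a, ha, rfl⟩ (fun h => haz (by
      have := (Subgroup.mem_normalizer_iff''.mp hgN (g * a * g⁻¹)).mp h
      simpa [mul_assoc] using this))
  have ha1 : a ≠ 1 := fun h => haz (h ▸ Subgroup.one_mem _)
  have hon := onlyIn_of_fixed hG hM ht.2.1 (hAP'.trans hP.1) hAe' hA2'
    (⟨a, ha, rfl⟩ : g * a * g⁻¹ ∈ cj g A) (fun h => ha1 (by simpa using h)) hga'
  have hM' : cj g M = M := hon.2 _ (isCoatom_map_conj hM g) ((cj_centralizer_singleton g a).ge.trans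
    (cj_mono (onlyIn_of_fixed hG hM ht.2.1 hAM hAe hA2 ha ha1 hga).1))
  exact hgM ((normalizer_self_eq_of_isCoatom hG hM).le (mem_normalizer_of_cj_eq hM'))

include hG hM ht hAM hAe hA2 in
/-- A Sylow subgroup of `M` over `A` is abelian and `A` is its `Ω₁`. -/
theorem sylow_omega {P : Subgroup G} (hP : SylowOf p P M) (hAP : A ≤ P) :
    IsMulCommutative P ∧ ∀ x ∈ P, x ^ p = 1 ↔ x ∈ A := by
  have hc := sylow_le_centralizer hG hM ht hAM hAe hA2 hP hAP
  have hΩ := omega hG hM ht hAM hAe hA2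
  refine ⟨?_, fun x hx => hΩ x (hc hx)⟩
  obtain ⟨S, hS⟩ := hP.2.1.exists_le_sylow
  have h := sylow_inf_centralizer_comm hG S (hAP.trans hS) hAe hA2 hΩ
  exact ⟨⟨fun x y => Subtype.ext (mul_comm_of_mem h ⟨hS x.2, hc x.2⟩ ⟨hS y.2, hc y.2⟩)⟩⟩

include hG hM ht hAM hAe hA2 in
/-- The normalizer of a Sylow subgroup over `A` normalizes `A`. -/
theorem normalizer_sylow_le {P : Subgroup G} (hP : SylowOf p P M) (hAP : A ≤ P) :
    Subgroup.normalizer (P : Set G) ≤ Subgroup.normalizer (A : Set G) := fun g hg => by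
  refine mem_normalizer_of_cj_eq (Subgroup.eq_of_le_of_card_ge ?_ (card_cj g _).ge)
  rintro _ ⟨x, hx, rfl⟩
  refine ((sylow_omega hG hM ht hAM hAe hA2 hP hAP).2 _
    ((Subgroup.mem_normalizer_iff.mp hg x).mp (hAP hx))).mp ?_
  change (g * x * g⁻¹) ^ p = 1
  rw [conj_pow, hAe.2 x hx, mul_one, mul_inv_cancel]

include hG hM ht hAM hAe hA2 in
theorem exists_normalizer_plane_not_mem : ∃ g ∈ Subgroup.normalizer (A : Set G), g ∉ M := by
  obtain ⟨P, hP, hAP⟩ := exists_sylowOf_ge hAM (isPGroup_of_elemAb hAe)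
  obtain ⟨g, hg, hgM⟩ := exists_normalizer_not_mem ht hP
  exact ⟨g, normalizer_sylow_le hG hM ht hAM hAe hA2 hP hAP hg, hgM⟩

include hG hM ht hAM hAe hA2 in
/-- A good element moved out of `M` becomes bad. -/
theorem bad_of_good {g : G} (hg : g ∈ Subgroup.normalizer (A : Set G)) (hgM : g ∉ M) {a : G} (ha : a ∈ A)
    (ha1 : a ≠ 1) (hgood : Cfsg.sigmaCore M ⊓ Subgroup.centralizer ({a} : Set G) ≠ ⊥) :
    Cfsg.sigmaCore M ⊓ Subgroup.centralizer ({g * a * g⁻¹} : Set G) = ⊥ := by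
  by_contra hga
  have hon := onlyIn_of_fixed hG hM ht.2.1 hAM hAe hA2 ((Subgroup.mem_normalizer_iff.mp hg a).mp ha)
    (fun h => ha1 (by simpa using h)) hga
  refine hgM ((normalizer_self_eq_of_isCoatom hG hM).le (mem_normalizer_of_cj_eq ?_))
  exact hon.2 _ (isCoatom_map_conj hM g) ((cj_centralizer_singleton g a).ge.trans
    (cj_mono (onlyIn_of_fixed hG hM ht.2.1 hAM hAe hA2 ha ha1 hgood).1))

include hG hM ht hAM hAe hA2 in
/-- **BG 12.5 (e)**. -/
theorem sigmaCore_inf_eq_bot {L : Subgroup G} (hL : IsCoatom L) (hLM : L ≠ M) (hAL : A ≤ L) :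
    Cfsg.sigmaCore M ⊓ L = ⊥ := by
  by_contra hne
  have hpσ := ht.2.1
  set Y := Cfsg.sigmaCore M ⊓ L with hY
  have hYn : A ≤ Subgroup.normalizer (Y : Set G) :=
    CubeUnique.le_normalizer_inf (hAM.trans (piCoreOf_normal _ _)) (hAL.trans Subgroup.le_normalizer)
  have hcopσ := coprime_sigmaCore hG hM hpσ hAe
  obtain ⟨a, ha, ha1, hYa⟩ : ∃ a ∈ A, a ≠ 1 ∧ Y ⊓ Subgroup.centralizer ({a} : Set G) ≠ ⊥ := by
    by_contra hcon
    push Not at hcon
    exact hne (le_bot_iff.mp (Uniq.le_of_centralizers_noncyclic hAe (not_isCyclic_plane hAe hA2)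
      (Nat.Coprime.coprime_dvd_left (Subgroup.card_dvd_of_le inf_le_left)
        ((hp.out.coprime_iff_not_dvd.mpr fun h =>
          hpσ (piNat_card_piCoreOf (Cfsg.sigma M) M p hp.out h)).symm))
      hYn fun a ha ha1 => (hcon a ha ha1).le))
  have hgood : Cfsg.sigmaCore M ⊓ Subgroup.centralizer ({a} : Set G) ≠ ⊥ := fun h =>
    hYa (le_bot_iff.mp (h ▸ inf_le_inf_right _ inf_le_left))
  have hon := onlyIn_of_fixed hG hM hpσ hAM hAe hA2 ha ha1 hgood
  set V₀ := Y ⊓ Subgroup.centralizer ({a} : Set G) with hV₀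
  have hV₀S : V₀ ≤ Cfsg.sigmaCore M := inf_le_left.trans inf_le_left
  have hV₀n : A ≤ Subgroup.normalizer (V₀ : Set G) :=
    CubeUnique.le_normalizer_inf hYn ((le_centralizer_of_mem hAe ha).trans Subgroup.le_normalizer)
  obtain ⟨q, hq, hd⟩ := Nat.exists_prime_and_dvd (fun h => hYa (Subgroup.card_eq_one.mp h))
  have := Fact.mk hq
  have hs : Group.IsSolvable (Cfsg.sigmaCore M) :=
    minSimple_solvable hG fun h => hM.1 (top_le_iff.mp (h ▸ piCoreOf_le _ _))
  obtain ⟨R, hR, hRn⟩ := exists_invariant_sylowOf' (q := q) hV₀n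
    (hcopσ.coprime_dvd_right (Subgroup.card_dvd_of_le hV₀S))
    (Group.isSolvable_of_isSolvable_injective (Subgroup.inclusion_injective hV₀S))
  obtain ⟨m, hm, hqm⟩ := sylowOf_cofactor hR
  have hRne : R ≠ ⊥ := fun h => hqm (by rw [h, Subgroup.card_bot, one_mul] at hm; exact hm ▸ hd)
  obtain ⟨Q, hQ, hQn, hRQ⟩ := exists_invariant_sylowOf (hAM.trans (piCoreOf_normal _ _)) hcopσ hs (hR.1.trans hV₀S) hR.2.1 hRn
  have hqσ : q ∈ Cfsg.sigma M :=
    piNat_card_piCoreOf (Cfsg.sigma M) M q hq (hd.trans (Subgroup.card_dvd_of_le hV₀S))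
  obtain ⟨-, -, c, hc, hc1, -, hlines⟩ := alternative_of_piece hG hM hpσ hAM hAe hA2 hqσ hQ hQn ha ha1
    hRQ (hR.1.trans inf_le_right) hRn hRne hL hAL (centralizer_le hG hL hAL hAe hA2)
    (hR.1.trans (inf_le_left.trans inf_le_right)) hLM
  have hac : a ∈ Subgroup.zpowers c := by
    by_contra h
    exact hLM (hon.2 L hL (hlines a ha h).1)
  have hlines' : ∀ b ∈ A, b ∉ Subgroup.zpowers a → OnlyIn L (Subgroup.centralizer ({b} : Set G)) :=
    fun b hb hba => hlines b hb fun h => hba ((Subgroup.zpowers_le.mpr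
      (CubeUnique.zpowers_eq_of_mem (orderOf_mem hAe hc hc1) hac ha1)) h)
  obtain ⟨g, hgA, hgM⟩ := exists_normalizer_plane_not_mem hG hM ht hAM hAe hA2
  set b := g * a * g⁻¹ with hbdef
  have hb : b ∈ A := (Subgroup.mem_normalizer_iff.mp hgA a).mp ha
  have hb1 : b ≠ 1 := fun h => ha1 (by simpa [hbdef] using h)
  have hba : b ∉ Subgroup.zpowers a := fun h => hgM (hon.normalizer_le hG hM (by
    rw [← centralizer_zpowers]
    refine normalizer_centralizer_le _ (mem_normalizer_of_cj_eq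
      (Subgroup.eq_of_le_of_card_ge ?_ (card_cj g _).ge))
    rw [Transitivity.cj, MonoidHom.map_zpowers, Subgroup.zpowers_le]
    exact h))
  have hgL : cj g M = L := (hlines' b hb hba).2 _ (isCoatom_map_conj hM g)
    ((cj_centralizer_singleton g a).ge.trans (cj_mono hon.1))
  have hb' : a * b ∉ Subgroup.zpowers a := fun h => hba (by
    simpa using mul_mem (inv_mem (Subgroup.mem_zpowers a)) h)
  have hb'b : a * b ∉ Subgroup.zpowers b := fun h => hba (by
    have h1 : a ∈ Subgroup.zpowers b := by simpa using mul_mem h (inv_mem (Subgroup.mem_zpowers b))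
    exact CubeUnique.zpowers_eq_of_mem (orderOf_mem hAe hb hb1) h1 ha1)
  set b'' := g⁻¹ * (a * b) * g with hb''def
  have hb'' : b'' ∈ A := (Subgroup.mem_normalizer_iff''.mp hgA _).mp (mul_mem ha hb)
  have hb''a : b'' ∉ Subgroup.zpowers a := fun h => hb'b (by
    obtain ⟨i, hi : a ^ i = b''⟩ := h
    refine ⟨i, ?_⟩
    change b ^ i = a * b
    rw [hbdef, conj_zpow, hi, hb''def, hbdef]
    group)
  refine hLM ((hlines' b'' hb'' hb''a).2 M hM ?_).symm
  have h1 := cj_mono (g := g⁻¹) (hlines' _ (mul_mem ha hb) hb').1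
  rw [cj_centralizer_singleton, inv_inv, ← hgL, cj_mul, inv_mul_cancel, cj_one] at h1
  exact h1

end Plane

section Compl

variable {E : Subgroup G} (hE : Cfsg.IsComplIn E (Cfsg.sigmaCore M) M)

omit hp in
include hE in
theorem card_dvd_compl : Nat.card M ∣ Nat.card E * Nat.card (Cfsg.sigmaCore M) := by
  have hc := (IsComplIn.isComplement' hE).card_mul
  rw [Nat.card_congr (Subgroup.subgroupOfEquivOfLe hE.1).toEquiv,
    Nat.card_congr (Subgroup.subgroupOfEquivOfLe hE.2.1).toEquiv] at hc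
  rw [hc]

/-- A Sylow subgroup of a subgroup of index prime to `r`. -/
theorem sylowOf_of_card_dvd {r : ℕ} [hr : Fact r.Prime] {R F K : Subgroup G} (hR : SylowOf r R F)
    (hFK : F ≤ K) {m : ℕ} (hK : Nat.card K ∣ Nat.card F * m) (hm : ¬ r ∣ m) : SylowOf r R K := by
  obtain ⟨n, hn, hrn⟩ := sylowOf_cofactor hR
  refine ⟨hR.1.trans hFK, hR.2.1, fun Q hQK hQ hle => (Subgroup.eq_of_le_of_card_ge hle ?_).symm⟩
  refine Nat.le_of_dvd Nat.card_pos ((CubeUnique.coprime_of_isPGroup hr.out hQ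
    (fun h => (hr.out.dvd_mul.mp h).elim hrn hm)).dvd_of_dvd_mul_right ?_)
  rw [← mul_assoc, ← hn]
  exact (Subgroup.card_dvd_of_le hQK).trans hK

include hE in
/-- Sylow subgroups of a complement for primes outside `σ(M)` are Sylow subgroups of `M`. -/
theorem sylowOf_compl {r : ℕ} [hr : Fact r.Prime] (hrσ : r ∉ Cfsg.sigma M) {R : Subgroup G}
    (hR : SylowOf r R E) : SylowOf r R M :=
  sylowOf_of_card_dvd hR hE.1 (card_dvd_compl hE)
    fun h => hrσ (piNat_card_piCoreOf (Cfsg.sigma M) M r hr.out h)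

end Compl

include hG hM ht in
/-- **BG 12.5 (b)**: the Sylow subgroups for `τ₂(M)` are abelian. -/
theorem sylow_comm {P : Subgroup G} (hP : SylowOf p P M) : IsMulCommutative P := by
  obtain ⟨A, hAP, hAe, hA2⟩ := exists_plane ht.2.2.2 hP
  exact (sylow_omega hG hM ht (hAP.trans hP.1) hAe hA2 hP hAP).1

include hG hM ht in
/-- **BG 12.5 (c)**: `M` normalizes `M_σA`. -/
theorem le_normalizer_sigmaCore_sup {A : Subgroup G} (hAM : A ≤ M) (hAe : Cfsg.IsElementaryAbelian p A)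
    (hA2 : Nat.card A = p ^ 2)
    (hnormal : ∀ {E B : Subgroup G}, Cfsg.IsComplIn E (Cfsg.sigmaCore M) M → B ≤ E →
      Cfsg.IsElementaryAbelian p B → Nat.card B = p ^ 2 → E ≤ Subgroup.normalizer (B : Set G)) :
    M ≤ Subgroup.normalizer ((Cfsg.sigmaCore M ⊔ A : Subgroup G) : Set G) := by
  obtain ⟨E, hE⟩ := OddOrder41.exists_compl hG hM
  obtain ⟨P, hP, -⟩ := exists_sylowOf_ge (p := p) (bot_le : (⊥ : Subgroup G) ≤ E) IsPGroup.of_bot
  obtain ⟨m, hm, hmP⟩ := Sigma10.exists_conj_le (sylowOf_compl hE ht.2.1 hP) hAM (isPGroup_of_elemAb hAe)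
  have hn := hnormal hE (hmP.trans hP.1) (elemAb_map hAe _) ((card_cj m A).trans hA2)
  set S := Cfsg.sigmaCore M with hS
  have hSn : M ≤ Subgroup.normalizer (S : Set G) := piCoreOf_normal _ _
  have hSm : cj m S = S := cj_eq_of_mem_normalizer (hSn hm)
  have hN : M ≤ Subgroup.normalizer ((S ⊔ cj m A : Subgroup G) : Set G) := by
    intro x hx
    obtain ⟨e, he, s, hs, rfl⟩ := hE.2.2.2 x hx
    refine mul_mem (mem_normalizer_of_cj_eq ?_)
      (Subgroup.le_normalizer ((le_sup_left : S ≤ S ⊔ cj m A) hs))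
    rw [Transitivity.cj, Subgroup.map_sup]
    exact congrArg₂ (· ⊔ ·) (cj_eq_of_mem_normalizer (hSn (hE.1 he))) (cj_eq_of_mem_normalizer (hn he))
  have h2 : cj m (S ⊔ A) = S ⊔ cj m A := by
    rw [Transitivity.cj, Subgroup.map_sup]
    exact congrArg (· ⊔ cj m A) hSm
  have h1 : S ⊔ A = S ⊔ cj m A := cj_inj (g := m) (h2.trans (cj_eq_of_mem_normalizer (hN hm)).symm)
  rw [h1]
  exact hN

end CfsgLib.OddOrder.Sigma12
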