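import Mathlib
import Cfsg.Agent.Lib.OddOrder.Sigma12
import Cfsg.Agent.Lib.OddOrder.Sigma12Tau
import Cfsg.Agent.Lib.Hall.Pi

/-!
# BG 12.6 and 12.11: the plane of a prime of `τ₂(M)` in a complement, nilpotent `σ(M)'`-subgroups
-/

set_option autoImplicit false

namespace CfsgLib.OddOrder.Sigma12

open Subgroup CfsgLib.OddOrder CfsgLib.OddOrder.Transitivity CfsgLib.OddOrder.Sigma11
open scoped commutatorElement Pointwise

universe u

variable {G : Type u} [Group G] [Finite G]

/-- A group of order `p ^ k` is centralized by an `r`-group with `r` prime to all `p ^ d - 1`, `d ≤ k`. -/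
theorem le_centralizer_of_card {p r k : ℕ} [hp : Fact p.Prime] [hr : Fact r.Prime] (hrp : r ≠ p)
    {A S : Subgroup G} (hA : Nat.card A = p ^ k) (hS : IsPGroup r S)
    (hn : S ≤ Subgroup.normalizer (A : Set G))
    (h : ∀ d : ℕ, 1 ≤ d → d ≤ k → ¬ r ∣ p ^ d - 1) : S ≤ Subgroup.centralizer (A : Set G) := by
  let φ : S →* MulAut A := A.normalizerMonoidHom.comp (Subgroup.inclusion hn)
  let _act : MulAction S A := MulAction.compHom A φ
  have hval : ∀ (s : S) (x : A), ((s • x : A) : G) = s * x * (s : G)⁻¹ := fun s x => rfl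
  have hfix : MulAction.fixedPoints S A =
      (((A ⊓ Subgroup.centralizer (S : Set G) : Subgroup G).subgroupOf A : Subgroup A) : Set A) := by
    ext x
    rw [MulAction.mem_fixedPoints, SetLike.mem_coe, Subgroup.mem_subgroupOf, Subgroup.mem_inf,
      and_iff_right x.2, Subgroup.mem_centralizer_iff]
    constructor
    · intro hx s hs
      have h1 := congrArg Subtype.val (hx ⟨s, hs⟩)
      rw [hval] at h1
      exact mul_inv_eq_iff_eq_mul.mp h1
    · intro hx s
      refine Subtype.ext ?_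
      rw [hval, hx s s.2, mul_inv_cancel_right]
  have hmod : Nat.card A ≡ Nat.card ↥(A ⊓ Subgroup.centralizer (S : Set G)) [MOD r] := by
    have h1 := hS.card_modEq_card_fixedPoints (α := A)
    rwa [hfix, SetLike.coe_sort_coe,
      Nat.card_congr (Subgroup.subgroupOfEquivOfLe inf_le_left).toEquiv] at h1
  obtain ⟨j, hjk, hj⟩ := (Nat.dvd_prime_pow hp.out).mp
    (hA ▸ Subgroup.card_dvd_of_le (inf_le_left : A ⊓ Subgroup.centralizer (S : Set G) ≤ A))
  rcases hjk.eq_or_lt with rfl | hlt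
  · exact Subgroup.le_centralizer_iff.mp
      (inf_eq_left.mp (Subgroup.eq_of_le_of_card_ge inf_le_left (hA.trans hj.symm).le))
  · exfalso
    rw [hA, hj] at hmod
    have h1 : r ∣ p ^ k - p ^ j :=
      (Nat.modEq_iff_dvd' (Nat.pow_le_pow_right hp.out.pos hlt.le)).mp hmod.symm
    have h2 : p ^ k - p ^ j = p ^ j * (p ^ (k - j) - 1) := by
      rw [Nat.mul_sub_one, ← pow_add, Nat.add_sub_cancel' hlt.le]
    rw [h2] at h1
    exact h (k - j) (Nat.sub_pos_of_lt hlt) (Nat.sub_le k j)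
      ((Nat.Coprime.pow_right j ((Nat.coprime_primes hr.out hp.out).mpr hrp)).dvd_of_dvd_mul_left h1)

/-- A larger odd prime acts trivially on a group of order `p` or `p ^ 2`. -/
theorem le_centralizer_of_lt {p r k : ℕ} [hp : Fact p.Prime] [hr : Fact r.Prime] (hp2 : p ≠ 2) (hlt : p < r)
    (hk : k ≤ 2) {A S : Subgroup G} (hA : Nat.card A = p ^ k) (hS : IsPGroup r S)
    (hn : S ≤ Subgroup.normalizer (A : Set G)) : S ≤ Subgroup.centralizer (A : Set G) := by
  refine le_centralizer_of_card hlt.ne' hA hS hn fun d hd hdk hdvd => ?_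
  have h1 : ¬ r ∣ p - 1 := fun h => by
    have := Nat.le_of_dvd (Nat.sub_pos_of_lt hp.out.one_lt) h
    omega
  have hd2 : d ≤ 2 := hdk.trans hk
  interval_cases d
  · exact h1 (by simpa using hdvd)
  · rw [show p ^ 2 - 1 = (p + 1) * (p - 1) from by simpa using Nat.sq_sub_sq p 1] at hdvd
    rcases hr.out.dvd_mul.mp hdvd with h | h
    · obtain ⟨m, hm⟩ := hp.out.odd_of_ne_two hp2
      have h2 := Nat.le_of_dvd (Nat.succ_pos p) h
      have hr2 : Even r := ⟨m + 1, by omega⟩
      have := hr.out.even_iff.mp hr2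
      have := hp.out.two_le
      omega
    · exact h1 h

variable {p : ℕ} [hp : Fact p.Prime] (hG : Cfsg.IsMinSimpleOddOrder G) {M : Subgroup G}
  (hM : IsCoatom M) (ht : p ∈ Cfsg.tau2 M)

include hG hM ht in
/-- A maximal subgroup over the normalizer of a `τ₂(M)`-plane has the prime in its `σ`. -/
theorem mem_sigma_of_plane_normalizer {L : Subgroup G} (hL : IsCoatom L) {A : Subgroup G} (hAM : A ≤ M)
    (hAe : Cfsg.IsElementaryAbelian p A) (hA2 : Nat.card A = p ^ 2)
    (hNL : Subgroup.normalizer (A : Set G) ≤ L) : p ∈ Cfsg.sigma L := by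
  by_contra hpσ
  have hAL : A ≤ L := Subgroup.le_normalizer.trans hNL
  have hpL : p ∈ Cfsg.tau2 L := ⟨hp.out, hpσ, by_contra fun h =>
    Sigma10.not_mem_alpha_of_not_mem_sigma hG hL hpσ ⟨hp.out, h⟩,
    not_pRankLE_subgroup_iff.mpr ⟨A, hAL, hAe, hA2⟩⟩
  obtain ⟨R, hR, hAR⟩ := exists_sylowOf_ge hAM (isPGroup_of_elemAb hAe)
  obtain ⟨R', hR', hRR'⟩ := exists_sylowOf_ge
    (((sylow_le_centralizer hG hM ht hAM hAe hA2 hR hAR).trans
      (Subgroup.centralizer_le_normalizer _)).trans hNL) hR.2.1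
  have hR'M : R' ≤ M := (sylow_le_centralizer hG hL hpL hAL hAe hA2 hR' (hAR.trans hRR')).trans
    (centralizer_le hG hM hAM hAe hA2)
  have hNR := (normalizer_sylow_le hG hM ht hAM hAe hA2 hR hAR).trans hNL
  obtain rfl := hR.2.2 R' hR'M hR'.2.1 hRR'
  exact hpσ (Sigma10.mem_sigma_of_normalizer_le hp.out
    ((hA2 ▸ dvd_pow_self p two_ne_zero : p ∣ Nat.card A).trans (Subgroup.card_dvd_of_le hAL))
    hR' hNR)

omit ht in
include hG hM in
/-- A `p`-plane of `M` normalizing a `τ₂(M)`-plane centralizes it. -/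
theorem plane_le_centralizer {t : ℕ} [htf : Fact t.Prime] (htt : t ∈ Cfsg.tau2 M) (htp : t ≠ p)
    {A B : Subgroup G} (hAM : A ≤ M) (hAe : Cfsg.IsElementaryAbelian p A) (hA2 : Nat.card A = p ^ 2)
    (hBM : B ≤ M) (hBe : Cfsg.IsElementaryAbelian t B) (hB2 : Nat.card B = t ^ 2)
    (hAB : A ≤ Subgroup.normalizer (B : Set G)) : A ≤ Subgroup.centralizer (B : Set G) := by
  have hBne : B ≠ ⊥ := fun h => not_isCyclic_plane hBe hB2 (by subst h; infer_instance)
  obtain ⟨L, hL, hNL⟩ := exists_isCoatom_ge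
    (minSimple_normalizer_ne_top hG hBne (minSimple_pgroup_ne_top hG (isPGroup_of_elemAb hBe)))
  obtain ⟨R, hR, hBR⟩ := exists_sylowOf_ge hBM (isPGroup_of_elemAb hBe)
  obtain ⟨g, hg, hgM⟩ := exists_normalizer_not_mem htt hR
  have hNR := normalizer_sylow_le hG hM htt hBM hBe hB2 hR hBR
  have hLM : L ≠ M := fun h => hgM (h ▸ hNL (hNR hg))
  have hAL : A ≤ L := hAB.trans hNL
  have hBL : B ≤ L := Subgroup.le_normalizer.trans hNL
  have htL : t ∈ Cfsg.sigma L := mem_sigma_of_plane_normalizer hG hM htt hL hBM hBe hB2 hNL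
  have hpL : p ∈ Cfsg.sigma L := by
    by_contra hpσ
    have hpτ : p ∈ Cfsg.tau2 L := ⟨hp.out, hpσ, by_contra fun h =>
      Sigma10.not_mem_alpha_of_not_mem_sigma hG hL hpσ ⟨hp.out, h⟩,
      not_pRankLE_subgroup_iff.mpr ⟨A, hAL, hAe, hA2⟩⟩
    obtain ⟨S, hS, hBS⟩ := exists_sylowOf_ge hBL (isPGroup_of_elemAb hBe)
    have hBσ : B ≤ Cfsg.sigmaCore L :=
      hBS.trans (Sigma10.sylow_le_piCore hG hL (Sigma10.alpha_subset_sigma hG hL) htL htL hS)
    have h := sigmaCore_inf_eq_bot hG hL hpτ hAL hAe hA2 hM hLM.symm hAM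
    exact hBne (le_bot_iff.mp (h ▸ le_inf hBσ hBM))
  obtain ⟨SA, hSA, hASA⟩ := exists_sylowOf_ge hAL (isPGroup_of_elemAb hAe)
  obtain ⟨SB, hSB, hBSB⟩ := exists_sylowOf_ge hBL (isPGroup_of_elemAb hBe)
  have hAd : A ≤ ⁅L, L⁆ := hASA.trans (Sigma10.le_derived hG hL hpL hSA)
  have hBd : B ≤ ⁅L, L⁆ := hBSB.trans (Sigma10.le_derived hG hL htL hSB)
  have htβ : t ∉ Cfsg.beta L := fun h => Sigma10.not_idealPrime hG hM htt.2.1 htt.2.2.2 h.2
  obtain ⟨P, N, hNn, hc⟩ := (Sigma10.derived_complement hG hL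
    (fun p _ => Sigma10.pLengthLE_one_proper hG p) (Sigma10.propFiveFive hG) htf.out htβ).1
  have hAN : ∀ a (ha : a ∈ A), (⟨a, hAd ha⟩ : ↥⁅L, L⁆) ∈ N := by
    intro a ha
    rw [← QuotientGroup.eq_one_iff, ← orderOf_eq_one_iff]
    obtain ⟨m, hm⟩ := P.isPGroup'.exists_card_eq
    refine Nat.eq_one_of_dvd_coprimes
      (Nat.Coprime.pow 2 m ((Nat.coprime_primes hp.out htf.out).mpr htp.symm))
      ((orderOf_map_dvd (QuotientGroup.mk' N) (⟨a, hAd ha⟩ : ↥⁅L, L⁆)).trans ?_) ?_
    · rw [← Subgroup.orderOf_coe, ← hA2]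
      exact Subgroup.orderOf_dvd_natCard A ha
    · rw [← hm, ← hc.symm.index_eq_card]
      exact orderOf_dvd_natCard _
  intro a ha
  refine Subgroup.mem_centralizer_iff.mpr fun b hb => ?_
  have h1 : (⁅(⟨a, hAd ha⟩ : ↥⁅L, L⁆), ⟨b, hBd hb⟩⁆) ∈ N := by
    rw [commutatorElement_def, show ∀ x y : ↥⁅L, L⁆, x * y * x⁻¹ * y⁻¹ = x * (y * x⁻¹ * y⁻¹) from
      fun x y => by group]
    exact mul_mem (hAN a ha) (hNn.conj_mem _ (inv_mem (hAN a ha)) _)
  have h2 : ⁅a, b⁆ ∈ B := by
    rw [commutatorElement_def]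
    exact mul_mem ((Subgroup.mem_normalizer_iff.mp (hAB ha) b).mp hb) (inv_mem hb)
  have h3 : (⁅a, b⁆ : G) ∈ N.map (⁅L, L⁆ : Subgroup G).subtype := ⟨_, h1, rfl⟩
  have h4 : ⁅a, b⁆ = 1 := by
    refine Criteria.eq_one_of_pgroup_of_coprime (isPGroup_of_elemAb hBe) ?_ h2 h3
    rw [Subgroup.card_map_of_injective (Subgroup.subtype_injective _)]
    refine ((Nat.Prime.coprime_iff_not_dvd htf.out).mpr fun h => P.not_dvd_index ?_).symm
    rw [hc.index_eq_card]
    exact h
  exact (commutatorElement_eq_one_iff_mul_comm.mp h4).symm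

section InCompl

variable {E : Subgroup G} (hE : Cfsg.IsComplIn E (Cfsg.sigmaCore M) M)
  {A : Subgroup G} (hAE : A ≤ E) (hAe : Cfsg.IsElementaryAbelian p A) (hA2 : Nat.card A = p ^ 2)

include hG hM ht hE hAE hAe hA2 in
/-- A noncyclic Sylow subgroup: `A` centralizes its elementary layer. -/
theorem le_centralizer_of_noncyclic {t : ℕ} [htf : Fact t.Prime] (htp : t ≠ p) {T : Subgroup G}
    (hTE : T ≤ E) (hT : IsPGroup t T) (hTn : A ≤ Subgroup.normalizer (T : Set G)) (hnc : ¬ IsCyclic T) :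
    A ≤ Subgroup.centralizer (T : Set G) := by
  have hAM := hAE.trans hE.1
  have hTne : T ≠ ⊥ := fun h => hnc (by subst h; infer_instance)
  have ht2 := Uniq.prime_ne_two hG hT hTne
  have htσ := Sigma10.not_mem_sigma_of_dvd_compl hG hM hE htf.out
    ((Uniq.prime_dvd_card hT hTne).trans (Subgroup.card_dvd_of_le hTE))
  obtain ⟨W, hWT, hWe, hWc⟩ : ∃ W : Subgroup G, W ≤ T ∧ Cfsg.IsElementaryAbelian t W ∧
      Nat.card W = t ^ 2 := by
    by_contra hcon
    push Not at hcon
    exact hnc (CubeUnique.isCyclic_of_no_sq ht2 hT hcon)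
  have hWM : W ≤ M := hWT.trans (hTE.trans hE.1)
  have htt : t ∈ Cfsg.tau2 M := ⟨htf.out, htσ, by_contra fun h =>
    Sigma10.not_mem_alpha_of_not_mem_sigma hG hM htσ ⟨htf.out, h⟩,
    not_pRankLE_subgroup_iff.mpr ⟨W, hWM, hWe, hWc⟩⟩
  obtain ⟨R, hR, hTR⟩ := exists_sylowOf_ge (hTE.trans hE.1) hT
  have hΩ := (sylow_omega hG hM htt hWM hWe hWc hR (hWT.trans hTR)).2
  have hAW : A ≤ Subgroup.normalizer (W : Set G) := fun a ha => by
    refine mem_normalizer_of_cj_eq (Subgroup.eq_of_le_of_card_ge ?_ (card_cj a _).ge)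
    rintro _ ⟨x, hx, rfl⟩
    refine (hΩ _ (hTR ((Subgroup.mem_normalizer_iff.mp (hTn ha) x).mp (hWT hx)))).mp ?_
    change (a * x * a⁻¹) ^ t = 1
    rw [conj_pow, hWe.2 x hx, mul_one, mul_inv_cancel]
  have hAC := plane_le_centralizer hG hM htt htp hAM hAe hA2 hWM hWe hWc hAW
  refine OddOrder41.le_centralizer_of_fixes_order_p t ht2 T W A hT hWT hWe hTn
    (CubeUnique.coprime_prime_of_isPGroup hp.out htf.out htp.symm (isPGroup_of_elemAb hAe))
    fun x hx hxo a ha => Subgroup.mem_centralizer_singleton_iff.mpr ?_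
  exact (Subgroup.mem_centralizer_iff.mp (hAC ha) x
    ((hΩ x (hTR hx.1)).mp (hxo ▸ pow_orderOf_eq_one x))).symm

include hG hM ht hE hAE hAe hA2 in
/-- Elements of order `p` of a `p`-group of `M` over `A` lie in `A`. -/
theorem mem_of_pow_eq_one {S : Subgroup G} (hSM : S ≤ M) (hS : IsPGroup p S) (hAS : A ≤ S) {x : G}
    (hx : x ∈ S) (hxp : x ^ p = 1) : x ∈ A := by
  obtain ⟨P, hP, hSP⟩ := exists_sylowOf_ge hSM hS
  exact ((sylow_omega hG hM ht (hAE.trans hE.1) hAe hA2 hP (hAS.trans hSP)).2 x (hSP hx)).mp hxp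

include hG hM ht hE hAE hAe hA2 in
/-- `A` centralizes `O_t(E)` for `t ≠ p`. -/
theorem le_centralizer_opCore {t : ℕ} [htf : Fact t.Prime] (htp : t ≠ p) :
    A ≤ Subgroup.centralizer (opCore t E : Set G) := by
  set T := opCore t E with hTdef
  have hTE : T ≤ E := opCore_le t E
  have hTp : IsPGroup t T := opCore_isPGroup t E
  have hTn : A ≤ Subgroup.normalizer (T : Set G) := hAE.trans (opCore_normal t E)
  by_contra hnc
  have hTne : T ≠ ⊥ := fun h => hnc (h ▸ fun a _ => Subgroup.mem_centralizer_iff.mpr fun y hy => by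
    rw [Subgroup.mem_bot.mp hy, one_mul, mul_one])
  have hcyc : IsCyclic T := by_contra fun h =>
    hnc (le_centralizer_of_noncyclic hG hM ht hE hAE hAe hA2 htp hTE hTp hTn h)
  have ht2 := Uniq.prime_ne_two hG hTp hTne
  have hAM := hAE.trans hE.1
  have hAp := isPGroup_of_elemAb hAe
  have hp2 : p ≠ 2 := minSimple_prime_ne_two hG (H := A) (hA2 ▸ dvd_pow_self p two_ne_zero)
  obtain ⟨x, hx⟩ := exists_prime_orderOf_dvd_card' (G := T) t (Uniq.prime_dvd_card hTp hTne)
  have hxo : orderOf (x : G) = t := (Subgroup.orderOf_coe x).trans hx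
  set X := Subgroup.zpowers (x : G) with hX
  have hXT : X ≤ T := Subgroup.zpowers_le.mpr x.2
  have hXc : Nat.card X = t := by rw [hX, Nat.card_zpowers, hxo]
  have hXn : A ≤ Subgroup.normalizer (X : Set G) :=
    hTn.trans (Sigma11.normalizer_le_of_cyclic hcyc hTp le_rfl hTne x.2 hxo)
  have hAX : ¬ A ≤ Subgroup.centralizer (X : Set G) := fun h => hnc
    (OddOrder41.le_centralizer_of_fixes_order_p t ht2 T X A hTp hXT
      (elemAb_zpowers (hxo ▸ pow_orderOf_eq_one _)) hTn
      (CubeUnique.coprime_prime_of_isPGroup hp.out htf.out htp.symm hAp)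
      fun y hy hyo a ha => Subgroup.mem_centralizer_singleton_iff.mpr
        (Subgroup.mem_centralizer_iff.mp (h ha) y
          (zpowers_eq_of_cyclic hcyc x.2 hxo hy.1 (hyo ▸ pow_orderOf_eq_one y))).symm)
  have hpt : p < t := by
    by_contra hle
    refine hAX (le_centralizer_of_card (k := 1) htp.symm (by rw [pow_one, hXc]) hAp hXn fun d hd hd1 hdvd => ?_)
    obtain rfl : d = 1 := le_antisymm hd1 hd
    rw [pow_one] at hdvd
    have := Nat.le_of_dvd (Nat.sub_pos_of_lt htf.out.one_lt) hdvd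
    have := htf.out.one_lt
    omega
  -- the `p`-core of `E` is cyclic and centralized by the `t`-elements
  set Z := opCore p E with hZdef
  have hZE : Z ≤ E := opCore_le p E
  have hZp : IsPGroup p Z := opCore_isPGroup p E
  have hAZ : ¬ A ≤ Z := fun h => hnc (h.trans (opCore_commute hp.out htf.out htp.symm E))
  obtain ⟨P, hP, hAP⟩ := exists_sylowOf_ge hAE hAp
  have hZP : Z ≤ P := by
    have h1 : IsPGroup p ↥(P ⊔ Z) :=
      IsPGroup.to_sup_of_normal_right' hP.2.1 hZp (hP.1.trans (opCore_normal p E))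
    exact le_sup_right.trans (hP.2.2 _ (sup_le hP.1 hZE) h1 le_sup_left).le
  have hZcyc : IsCyclic Z := by
    refine CubeUnique.isCyclic_of_no_sq hp2 hZp fun W hW hWe hWc => hAZ ?_
    have hWA : W ≤ A := fun w hw => mem_of_pow_eq_one hG hM ht hE hAE hAe hA2 (hP.1.trans hE.1) hP.2.1 hAP
      (hZP (hW hw)) (hWe.2 w hw)
    exact (Subgroup.eq_of_le_of_card_ge hWA (hA2.trans hWc.symm).le).ge.trans hW
  have hZc : ∀ S : Subgroup G, S ≤ E → IsPGroup t S → S ≤ Subgroup.centralizer (Z : Set G) := by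
    intro S hSE hS
    by_cases hZne : Z = ⊥
    · rw [hZne]
      exact fun a _ => Subgroup.mem_centralizer_iff.mpr fun y hy => by
        rw [Subgroup.mem_bot.mp hy, one_mul, mul_one]
    obtain ⟨z, hz⟩ := exists_prime_orderOf_dvd_card' (G := Z) p (Uniq.prime_dvd_card hZp hZne)
    have hzo : orderOf (z : G) = p := (Subgroup.orderOf_coe z).trans hz
    have hSn : S ≤ Subgroup.normalizer (Z : Set G) := hSE.trans (opCore_normal p E)
    have h1 : S ≤ Subgroup.centralizer (Subgroup.zpowers (z : G) : Set G) :=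
      le_centralizer_of_lt (k := 1) hp2 hpt (by norm_num) (by rw [Nat.card_zpowers, hzo, pow_one]) hS
        (hSn.trans (Sigma11.normalizer_le_of_cyclic hZcyc hZp le_rfl hZne z.2 hzo))
    refine OddOrder41.le_centralizer_of_fixes_order_p p hp2 Z _ S hZp (Subgroup.zpowers_le.mpr z.2)
      (elemAb_zpowers (hzo ▸ pow_orderOf_eq_one _)) hSn
      (CubeUnique.coprime_prime_of_isPGroup htf.out hp.out htp hS) fun y hy hyo s hs => ?_
    exact Subgroup.mem_centralizer_singleton_iff.mpr (Subgroup.mem_centralizer_iff.mp (h1 hs) y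
      (zpowers_eq_of_cyclic hZcyc z.2 hzo hy.1 (hyo ▸ pow_orderOf_eq_one y))).symm
  obtain ⟨R, hR, hTR⟩ := exists_sylowOf_ge hTE hTp
  by_cases hRcyc : IsCyclic R
  swap
  · -- an invariant Sylow `t`-subgroup in a normal `p'`-subgroup
    set F := Cfsg.fittingOf E with hF
    set K := F ⊔ R with hK
    have hKE : K ≤ E := sup_le (fittingOf_le E) hR.1
    have hKn : E ≤ Subgroup.normalizer (K : Set G) := by
      intro e he
      refine mem_normalizer_of_cj_eq (Subgroup.eq_of_le_of_card_ge ?_ (card_cj e _).ge)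
      rintro _ ⟨k, hk, rfl⟩
      change e * k * e⁻¹ ∈ K
      have hd : ⁅e, k⁆ ∈ F := by
        refine Subgroup.map_mono (Sigma10.compl_derived_le_fitting hG hM hE) ?_
        rw [Subgroup.map_subtype_commutator]
        exact Subgroup.commutator_mem_commutator he (hKE hk)
      have h1 : e * k * e⁻¹ = ⁅e, k⁆ * k := by rw [commutatorElement_def, inv_mul_cancel_right]
      rw [h1]
      exact mul_mem ((le_sup_left : F ≤ K) hd) hk
    have hZF : SylowOf p Z F := ⟨opCore_le_fittingOf hp.out E, hZp, fun Q hQ hQp hle =>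
      le_antisymm (le_opCore_of_le_fittingOf hQ hQp) hle⟩
    have hZK : SylowOf p Z K := sylowOf_of_card_dvd hZF le_sup_left
      (by rw [hK, sup_comm, mul_comm]; exact Coprime.card_sup_dvd (hR.1.trans (fittingOf_normal E)))
      (CubeUnique.not_dvd hR.2.1 hp.out htp.symm)
    have : Group.IsSolvable K := minSimple_solvable hG fun h => hM.1 (top_le_iff.mp (h ▸ hKE.trans hE.1))
    have hRD : R ≤ oPrime p K := le_oPrime_of_sylowOf_normalizes hZK le_sup_right
      (CubeUnique.coprime_prime_of_isPGroup htf.out hp.out htp hR.2.1)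
      ((Subgroup.le_centralizer_iff.mp (hZc R hR.1 hR.2.1)).trans (Subgroup.centralizer_le_normalizer _))
    have hDE : oPrime p K ≤ E := (oPrime_le K).trans hKE
    obtain ⟨S, hS, hSn, hTS⟩ := exists_invariant_sylowOf (q := t)
      (hAE.trans (hKn.trans (oPrime_normalizer p K))) (coprime_A hAe (oPrime_coprime K))
      (Group.isSolvable_of_isSolvable_injective (Subgroup.inclusion_injective (oPrime_le K)))
      (hTR.trans hRD) hTp hTn
    have hSnc : ¬ IsCyclic S := fun h => by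
      obtain ⟨m, -, hm⟩ := Sigma10.exists_conj_le hS hRD hR.2.1
      have : IsCyclic ↥(cj m R) :=
        isCyclic_of_injective (Subgroup.inclusion hm) (Subgroup.inclusion_injective hm)
      have h2 := isCyclic_cj this m⁻¹
      rw [cj_mul, inv_mul_cancel, cj_one] at h2
      exact hRcyc h2
    have h3 := le_centralizer_of_noncyclic hG hM ht hE hAE hAe hA2 htp (hS.1.trans hDE) hS.2.1 hSn hSnc
    exact hnc (h3.trans (Subgroup.centralizer_le hTS))
  -- `R` cyclic
  have htσ := Sigma10.not_mem_sigma_of_dvd_compl hG hM hE htf.out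
    ((Uniq.prime_dvd_card hTp hTne).trans (Subgroup.card_dvd_of_le hTE))
  have hRM : SylowOf t R M := sylowOf_compl hE htσ hR
  set S := Cfsg.sigmaCore M with hSdef
  have hSn : M ≤ Subgroup.normalizer (S : Set G) := piCoreOf_normal _ _
  have hSM : S ≤ M := piCoreOf_le _ _
  obtain ⟨a0, ha0, hma0⟩ : ∃ a0 ∈ A, a0 ∉ Subgroup.centralizer (X : Set G) :=
    SetLike.not_le_iff_exists.mp hAX
  have hxne : a0 * (x : G) * a0⁻¹ * (x : G)⁻¹ ≠ 1 := fun h => hma0 (by
    rw [hX, centralizer_zpowers, Subgroup.mem_centralizer_singleton_iff]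
    calc a0 * (x : G) = a0 * x * a0⁻¹ * (x : G)⁻¹ * x * a0 := by group
      _ = x * a0 := by rw [h, one_mul])
  have hxX : a0 * (x : G) * a0⁻¹ * (x : G)⁻¹ ∈ X :=
    mul_mem ((Subgroup.mem_normalizer_iff.mp (hXn ha0) x).mp (Subgroup.mem_zpowers _))
      (inv_mem (Subgroup.mem_zpowers _))
  have hXM : X ≤ M := (hXT.trans hTE).trans hE.1
  by_cases hXS : X ≤ Subgroup.centralizer (S : Set G)
  · -- `x` lies in a normal nilpotent subgroup
    set I := ⁅M, M⁆ ⊓ Subgroup.centralizer (S : Set G) with hI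
    have hIM : I ≤ M := inf_le_left.trans (Subgroup.commutator_le_self M)
    have hIn : M ≤ Subgroup.normalizer (I : Set G) := CubeUnique.le_normalizer_inf (le_normalizer_derived M)
      (hSn.trans (normalizer_centralizer_le _))
    have hXI : X ≤ I := by
      refine Subgroup.zpowers_le.mpr ⟨?_, hXS (Subgroup.mem_zpowers _)⟩
      obtain ⟨i, hi⟩ := CubeUnique.zpowers_eq_of_mem hxo hxX hxne
      change _ ∈ ⁅M, M⁆
      rw [← hi]
      refine zpow_mem ?_ i
      rw [← commutatorElement_def]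
      exact Subgroup.commutator_mem_commutator (hAM ha0) (hXM (Subgroup.mem_zpowers _))
    have hInil : Group.IsNilpotent I := by
      set N := S.subgroupOf M with hN
      have : N.Normal := (Subgroup.normal_subgroupOf_iff_le_normalizer hSM).mpr hSn
      set f := QuotientGroup.mk' N with hf
      have hQ : Group.IsNilpotent ↥(commutator (M ⧸ N)) := by
        have hnil := (Sigma10.compl_structure hG hM hE).1
        have h1 : Group.IsNilpotent ↥(⁅E.subgroupOf M, E.subgroupOf M⁆) := by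
          have e := (Subgroup.equivMapOfInjective (⁅E.subgroupOf M, E.subgroupOf M⁆) M.subtype
            M.subtype_injective)
          have h2 : (⁅E.subgroupOf M, E.subgroupOf M⁆).map M.subtype = ⁅E, E⁆ := by
            rw [Subgroup.map_commutator, Subgroup.map_subgroupOf_eq_of_le hE.1]
          exact Group.nilpotent_of_mulEquiv (e.trans (MulEquiv.subgroupCongr h2)).symm
        have h3 : commutator (M ⧸ N) = (⁅E.subgroupOf M, E.subgroupOf M⁆).map f := by
          have hmap : (E.subgroupOf M).map f = ⊤ := by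
            rw [← Subgroup.map_top_of_surjective f (QuotientGroup.mk'_surjective N),
              ← (IsComplIn.isComplement' hE).sup_eq_top, Subgroup.map_sup, QuotientGroup.map_mk'_self, sup_bot_eq]
          rw [Subgroup.map_commutator, hmap, _root_.commutator_def]
        rw [h3]
        exact Fitting.isNilpotent_map h1 f
      let g : ↥I →* ↥(commutator (M ⧸ N)) :=
        (f.comp (Subgroup.inclusion hIM)).codRestrict _ fun y => by
          have h1 := y.2.1
          rw [← Subgroup.map_subtype_commutator] at h1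
          obtain ⟨w, hw, hwy⟩ := h1
          have h2 : f w ∈ (commutator M).map f := ⟨w, hw, rfl⟩
          rw [_root_.commutator_def, Subgroup.map_commutator,
            Subgroup.map_top_of_surjective _ (QuotientGroup.mk'_surjective N), ← _root_.commutator_def] at h2
          have h3 : w = Subgroup.inclusion hIM y := Subtype.ext hwy
          rw [MonoidHom.comp_apply, ← h3]
          exact h2
      refine Subgroup.isNilpotent_of_ker_le_center g (fun y hy => Subgroup.mem_center_iff.mpr fun w => ?_)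
      have h1 : f (Subgroup.inclusion hIM y) = 1 := congrArg Subtype.val hy
      rw [hf, QuotientGroup.mk'_apply, QuotientGroup.eq_one_iff] at h1
      exact Subtype.ext (Subgroup.mem_centralizer_iff.mp w.2.2 _ h1).symm
    have hXO : X ≤ opCore t M :=
      le_opCore_of_le_fittingOf (hXI.trans (le_fittingOf hIM hIn hInil)) (hTp.to_le hXT)
    set O := opCore t M with hO
    have hOR : O ≤ R := by
      have h1 : IsPGroup t ↥(R ⊔ O) :=
        IsPGroup.to_sup_of_normal_right' hR.2.1 (opCore_isPGroup t M) (hRM.1.trans (opCore_normal t M))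
      exact le_sup_right.trans (hRM.2.2 _ (sup_le hRM.1 (opCore_le t M)) h1 le_sup_left).le
    have hOne : O ≠ ⊥ := fun h => htf.out.ne_one (by
      rw [← hXc, le_bot_iff.mp (hXO.trans h.le), Subgroup.card_bot])
    have hRne : R ≠ ⊥ := fun h => hOne (le_bot_iff.mp (hOR.trans h.le))
    have hxR : (x : G) ∈ R := hTR x.2
    have hMX : Subgroup.normalizer (X : Set G) = M := normalizer_eq_of_isCoatom hG hM hXM
      (fun h => htf.out.ne_one (by rw [← hXc, h, Subgroup.card_bot]))
      ((opCore_normal t M).trans (Sigma11.normalizer_le_of_cyclic hRcyc hR.2.1 hOR hOne hxR hxo))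
    exact htσ (Sigma10.mem_sigma_of_normalizer_le htf.out
      ((hXc ▸ dvd_rfl : t ∣ Nat.card X).trans (Subgroup.card_dvd_of_le hXM)) hRM
      ((Sigma11.normalizer_le_of_cyclic hRcyc hR.2.1 le_rfl hRne hxR hxo).trans hMX.le))
  -- two good lines with bad images on one line
  · obtain ⟨c, hc, hc1, hcX⟩ : ∃ c ∈ A, c ≠ 1 ∧ c ∈ Subgroup.centralizer (X : Set G) := by
      by_contra hcon
      push Not at hcon
      refine htf.out.ne_one ?_
      have hbot : X = ⊥ := le_bot_iff.mp (Uniq.le_of_centralizers_noncyclic hAe (not_isCyclic_plane hAe hA2)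
        (CubeUnique.coprime_prime_of_isPGroup htf.out hp.out htp (hTp.to_le hXT)) hXn
        fun b hb hb1 y hy => Subgroup.mem_bot.mpr (by
          by_contra hy1
          refine hcon b hb hb1 ?_
          rw [hX, centralizer_zpowers, Subgroup.mem_centralizer_singleton_iff]
          exact (CubeUnique.commute_of_commute_mem_zpowers
            (CubeUnique.zpowers_eq_of_mem hxo hy.1 hy1)
            (Subgroup.mem_centralizer_singleton_iff.mp hy.2)).symm.eq))
      rw [← hXc, hbot, Subgroup.card_bot]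
    have hgood : ∀ b ∈ A, b ∉ Subgroup.zpowers c → S ⊓ Subgroup.centralizer ({b} : Set G) ≠ ⊥ := by
      intro b hb hbc hbad
      have hb1 : b ≠ 1 := fun h => hbc (h ▸ Subgroup.one_mem _)
      have hbX : b ∉ Subgroup.centralizer (X : Set G) := fun h => hma0 (by
        have hle : A ≤ Subgroup.centralizer (X : Set G) := (eq_sup_zpowers hAe hA2 hc hc1 hb hbc).ge.trans
          (sup_le (Subgroup.zpowers_le.mpr hcX) (Subgroup.zpowers_le.mpr h))
        exact hle ha0)
      have hbo := orderOf_mem hAe hb hb1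
      set F := Subgroup.zpowers b with hF
      have hFc : Nat.card F = p := by rw [hF, Nat.card_zpowers, hbo]
      have hcopXF : (Nat.card X).Coprime (Nat.card F) := by
        rw [hXc, hFc]; exact (Nat.coprime_primes htf.out hp.out).mpr htp
      have hFX : F ≤ Subgroup.normalizer (X : Set G) := Subgroup.zpowers_le.mpr (hXn hb)
      have hfpf : ∀ e ∈ F, e ≠ 1 → ∀ v ∈ X, e * v = v * e → v = 1 := by
        intro e he he1 v hv hev
        by_contra hv1
        refine hbX ?_
        rw [hX, centralizer_zpowers, Subgroup.mem_centralizer_singleton_iff]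
        exact (CubeUnique.commute_of_commute_mem_zpowers (CubeUnique.zpowers_eq_of_mem hxo hv hv1)
          (CubeUnique.commute_of_commute_mem_zpowers (CubeUnique.zpowers_eq_of_mem hbo he he1)
            hev).symm).symm.eq
      have hF1 : F ≠ ⊥ := fun h => hp.out.ne_one (by rw [← hFc, h, Subgroup.card_bot])
      have hnS : X ⊔ F ≤ Subgroup.normalizer (S : Set G) :=
        (sup_le hXM (Subgroup.zpowers_le.mpr (hAM hb))).trans hSn
      have hσ : ∀ r : ℕ, r.Prime → r ∉ Cfsg.sigma M → ¬ r ∣ Nat.card S :=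
        fun r hr hrσ h => hrσ (piNat_card_piCoreOf (Cfsg.sigma M) M r hr h)
      have hcop : (Nat.card S).Coprime (Nat.card ↥(X ⊔ F)) := by
        refine Nat.Coprime.coprime_dvd_right (sup_comm X F ▸ Coprime.card_sup_dvd hFX) ?_
        rw [hFc, hXc]
        exact Nat.Coprime.mul_right ((hp.out.coprime_iff_not_dvd.mpr (hσ p hp.out ht.2.1)).symm)
          ((htf.out.coprime_iff_not_dvd.mpr (hσ t htf.out htσ)).symm)
      have e1 := OddOrder41.FixedFormula.fixed_formula X F hF1 hFX hcopXF hfpf S hnS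
        (minSimple_solvable hG fun h => hM.1 (top_le_iff.mp (h ▸ hSM))) hcop
      rw [centralizer_zpowers, hbad, Subgroup.card_bot, one_pow, one_mul] at e1
      have h0 : S ⊓ Subgroup.centralizer ((X ⊔ F : Subgroup G) : Set G) = ⊥ := le_bot_iff.mp
        ((inf_le_inf_left S (Subgroup.centralizer_le (Set.singleton_subset_iff.mpr
          ((le_sup_right : F ≤ X ⊔ F) (Subgroup.mem_zpowers b))))).trans hbad.le)
      rw [h0, Subgroup.card_bot, one_pow, one_mul] at e1
      exact hXS (Subgroup.le_centralizer_iff.mp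
        (inf_eq_left.mp (Subgroup.eq_of_le_of_card_ge inf_le_left e1.le)))
    obtain ⟨b, hb, hbc⟩ := exists_not_mem_zpowers hAe hA2 c
    obtain ⟨g, hg, hgM⟩ := exists_normalizer_plane_not_mem hG hM ht hAM hAe hA2
    have hmem : ∀ d ∈ A, d ∉ Subgroup.zpowers c → g * d * g⁻¹ ∈ Subgroup.zpowers c := by
      intro d hd hdc
      by_contra hn
      exact hgood _ ((Subgroup.mem_normalizer_iff.mp hg d).mp hd) hn
        (bad_of_good hG hM ht hAM hAe hA2 hg hgM hd (fun h => hdc (h ▸ Subgroup.one_mem _))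
          (hgood d hd hdc))
    have hb1 := hmem b hb hbc
    have hb2 := hmem (c * b) (mul_mem hc hb) fun h => hbc (by
      simpa using mul_mem (inv_mem (Subgroup.mem_zpowers c)) h)
    have hgc : g * c * g⁻¹ ∈ Subgroup.zpowers c := by
      have := mul_mem hb2 (inv_mem hb1)
      simpa [mul_assoc] using this
    refine hbc ?_
    obtain ⟨i, hi : (g * c * g⁻¹) ^ i = g * b * g⁻¹⟩ := CubeUnique.zpowers_eq_of_mem (orderOf_mem hAe hc hc1) hgc
      (fun h => hc1 (by simpa using h)) |> fun h => (Subgroup.zpowers_le.mpr h) hb1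
    rw [conj_zpow] at hi
    exact ⟨i, mul_left_cancel (mul_right_cancel hi)⟩

include hG hM ht hE hAE hAe hA2 in
/-- **BG 12.6**: `A` is normal in `E`. -/
theorem compl_le_normalizer : E ≤ Subgroup.normalizer (A : Set G) := by
  have hAp := isPGroup_of_elemAb hAe
  obtain ⟨P, hP, hAP⟩ := exists_sylowOf_ge hAE hAp
  have hZP : opCore p E ≤ P := by
    have h1 : IsPGroup p ↥(P ⊔ opCore p E) :=
      IsPGroup.to_sup_of_normal_right' hP.2.1 (opCore_isPGroup p E) (hP.1.trans (opCore_normal p E))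
    exact le_sup_right.trans (hP.2.2 _ (sup_le hP.1 (opCore_le p E)) h1 le_sup_left).le
  obtain ⟨P', hP', hPP'⟩ := exists_sylowOf_ge (hP.1.trans hE.1) hP.2.1
  have hZA : opCore p E ≤ Subgroup.centralizer (A : Set G) := (hZP.trans hPP').trans
    (sylow_le_centralizer hG hM ht (hAE.trans hE.1) hAe hA2 hP' (hAP.trans hPP'))
  have hAF : A ≤ Cfsg.fittingOf E := by
    refine (le_inf hAE ?_).trans (centralizer_fittingOf_le
      (minSimple_solvable hG fun h => hM.1 (top_le_iff.mp (h ▸ hE.1))))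
    rw [Subgroup.le_centralizer_iff]
    refine fittingOf_le_of_forall fun t htp => ?_
    have := Fact.mk htp
    by_cases h : t = p
    · subst h; exact hZA
    · exact Subgroup.le_centralizer_iff.mp (le_centralizer_opCore hG hM ht hE hAE hAe hA2 h)
  have hAZ : A ≤ opCore p E := le_opCore_of_le_fittingOf hAF hAp
  intro e he
  refine mem_normalizer_of_cj_eq (Subgroup.eq_of_le_of_card_ge ?_ (card_cj e _).ge)
  rintro _ ⟨y, hy, rfl⟩
  refine mem_of_pow_eq_one hG hM ht hE hAE hAe hA2 (hP.1.trans hE.1) hP.2.1 hAP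
    (hZP (conj_mem_of_le_normalizer (opCore_normal p E) he (hAZ hy))) ?_
  change (e * y * e⁻¹) ^ p = 1
  rw [conj_pow, hAe.2 y hy, mul_one, mul_inv_cancel]

include hG hM ht hE hAE hAe hA2 in
theorem mem_plane_of_mem_compl {x : G} (hx : x ∈ E) (hxp : x ^ p = 1) : x ∈ A := by
  refine mem_of_pow_eq_one hG hM ht hE hAE hAe hA2 (S := Subgroup.zpowers x ⊔ A)
    (sup_le (Subgroup.zpowers_le.mpr (hE.1 hx)) (hAE.trans hE.1))
    (IsPGroup.to_sup_of_normal_right' (isPGroup_of_elemAb (elemAb_zpowers hxp)) (isPGroup_of_elemAb hAe)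
      (Subgroup.zpowers_le.mpr (compl_le_normalizer hG hM ht hE hAE hAe hA2 hx)))
    le_sup_right ((le_sup_left : Subgroup.zpowers x ≤ _) (Subgroup.mem_zpowers x)) hxp

include hG hM ht hE hAE hAe hA2 in
theorem inf_normalizer_eq : M ⊓ Subgroup.normalizer (A : Set G) = E := by
  refine le_antisymm ?_ (le_inf hE.1 (compl_le_normalizer hG hM ht hE hAE hAe hA2))
  rintro m ⟨hm, hmA⟩
  obtain ⟨e, he, s, hs, rfl⟩ := hE.2.2.2 m hm
  have hsA : s ∈ Subgroup.normalizer (A : Set G) := by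
    simpa using mul_mem (inv_mem (compl_le_normalizer hG hM ht hE hAE hAe hA2 he)) hmA
  have hsC : s ∈ Cfsg.sigmaCore M ⊓ Subgroup.centralizer (A : Set G) := by
    refine ⟨hs, Subgroup.mem_centralizer_iff.mpr fun a ha => ?_⟩
    have h1 : ⁅a, s⁆ ∈ A := by
      rw [commutatorElement_def, mul_assoc, mul_assoc, ← mul_assoc s]
      exact mul_mem ha ((Subgroup.mem_normalizer_iff.mp hsA _).mp (inv_mem ha))
    have h2 : ⁅a, s⁆ ∈ Cfsg.sigmaCore M := by
      rw [commutatorElement_def]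
      exact mul_mem ((Subgroup.mem_normalizer_iff.mp (piCoreOf_normal _ _ (hE.1 (hAE ha))) s).mp hs)
        (inv_mem hs)
    have h3 : ⁅a, s⁆ ∈ E ⊓ Cfsg.sigmaCore M := ⟨hAE h1, h2⟩
    rw [hE.2.2.1, Subgroup.mem_bot] at h3
    exact commutatorElement_eq_one_iff_mul_comm.mp h3
  rw [sigmaCore_inf_centralizer_eq_bot hG hM ht.2.1 (hAE.trans hE.1) hAe hA2, Subgroup.mem_bot] at hsC
  rw [hsC, mul_one]
  exact he

include hG hM ht hE hAE hAe hA2 in
/-- **BG 12.6**. -/
theorem plane_in_compl :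
    (E ≤ Subgroup.normalizer (A : Set G) ∧ ∀ X : Subgroup G, X ≤ E → Nat.card X = p → X ≤ A) ∧
      (Subgroup.centralizer (A : Set G) ≤ M ⊓ Subgroup.normalizer (A : Set G) ∧
        M ⊓ Subgroup.normalizer (A : Set G) = E ∧ ¬ Subgroup.normalizer (A : Set G) ≤ M) ∧
      ∀ X : Subgroup G, X ≤ A → Nat.card X = p →
        Cfsg.sigmaCore M ⊓ Subgroup.centralizer (X : Set G) ≠ ⊥ →
        (Subgroup.centralizer (X : Set G) ≤ M ∧
          ∀ L : Subgroup G, IsCoatom L → Subgroup.centralizer (X : Set G) ≤ L → L = M) := by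
  have hAM := hAE.trans hE.1
  refine ⟨⟨compl_le_normalizer hG hM ht hE hAE hAe hA2, fun X hX hXc x hx =>
      mem_plane_of_mem_compl hG hM ht hE hAE hAe hA2 (hX hx)
        (orderOf_dvd_iff_pow_eq_one.mp (hXc ▸ Subgroup.orderOf_dvd_natCard X hx))⟩,
    ⟨le_inf (centralizer_le hG hM hAM hAe hA2) (centralizer_le_normalizer' A),
      inf_normalizer_eq hG hM ht hE hAE hAe hA2, fun h => ?_⟩, fun X hX hXc hne => ?_⟩
  · obtain ⟨g, hg, hgM⟩ := exists_normalizer_plane_not_mem hG hM ht hAM hAe hA2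
    exact hgM (h hg)
  · obtain ⟨a, ha, ha1⟩ := (Subgroup.bot_or_exists_ne_one X).resolve_left fun h =>
      hp.out.ne_one (by rw [← hXc, h, Subgroup.card_bot])
    have hXa : Subgroup.zpowers a = X := Subgroup.eq_of_le_of_card_ge (Subgroup.zpowers_le.mpr ha)
      (by rw [hXc, Nat.card_zpowers, orderOf_mem hAe (hX ha) ha1])
    rw [← hXa, centralizer_zpowers] at hne ⊢
    exact onlyIn_of_fixed hG hM ht.2.1 hAM hAe hA2 (hX ha) ha1 hne

end InCompl

section Structure

variable {A : Subgroup G} (hAM : A ≤ M) (hAe : Cfsg.IsElementaryAbelian p A) (hA2 : Nat.card A = p ^ 2)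

include hG hM ht hAM hAe hA2 in
/-- **BG 12.5**. -/
theorem tau2_structure :
    Group.IsNilpotent (Cfsg.sigmaCore M) ∧
      (∀ P : Sylow p M, IsMulCommutative (P : Subgroup M) ∧
        (A ≤ (P : Subgroup M).map M.subtype →
          (∀ x ∈ (P : Subgroup M).map M.subtype, x ^ p = 1 ↔ x ∈ A) ∧
          ¬ Subgroup.normalizer ((((P : Subgroup M).map M.subtype : Subgroup G)) : Set G) ≤ M)) ∧
      M ≤ Subgroup.normalizer ((Cfsg.sigmaCore M ⊔ A : Subgroup G) : Set G) ∧
      Cfsg.sigmaCore M ⊓ Subgroup.centralizer (A : Set G) = ⊥ ∧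
      (∀ Mstar : Subgroup G, IsCoatom Mstar → Mstar ≠ M → A ≤ Mstar → Cfsg.sigmaCore M ⊓ Mstar = ⊥) ∧
      ∃ A₁ : Subgroup G, A₁ ≤ A ∧ Nat.card A₁ = p ∧
        Cfsg.sigmaCore M ⊓ Subgroup.centralizer (A₁ : Set G) = ⊥ := by
  refine ⟨sigmaCore_isNilpotent hG hM ht hAM hAe hA2, fun P => ⟨?_, fun hAP => ⟨?_, fun h => ?_⟩⟩,
    le_normalizer_sigmaCore_sup hG hM ht hAM hAe hA2 fun hE hBE hBe hB2 =>
      compl_le_normalizer hG hM ht hE hBE hBe hB2,
    sigmaCore_inf_centralizer_eq_bot hG hM ht.2.1 hAM hAe hA2,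
    fun L hL hne hAL => sigmaCore_inf_eq_bot hG hM ht hAM hAe hA2 hL hne hAL, ?_⟩
  · have h := sylow_comm hG hM ht (sylowOf_map P)
    exact ⟨⟨fun x y => Subtype.ext (M.subtype_injective (by
      simpa using mul_comm_of_mem h ⟨x, x.2, rfl⟩ ⟨y, y.2, rfl⟩))⟩⟩
  · exact (sylow_omega hG hM ht hAM hAe hA2 (sylowOf_map P) hAP).2
  · obtain ⟨g, hg, hgM⟩ := exists_normalizer_not_mem ht (sylowOf_map P)
    exact hgM (h hg)
  · obtain ⟨a, ha, ha1, hbad⟩ := exists_bad hG hM ht hAM hAe hA2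
    exact ⟨_, Subgroup.zpowers_le.mpr ha, by rw [Nat.card_zpowers, orderOf_mem hAe ha ha1],
      by rw [centralizer_zpowers]; exact hbad⟩

end Structure

section SigmaPrime

variable {E : Subgroup G} (hE : Cfsg.IsComplIn E (Cfsg.sigmaCore M) M)

omit ht in
include hG hM in
/-- The `p`-subgroups of `M` for `p ∉ σ(M)` are abelian. -/
theorem pgroup_comm_of_not_mem_sigma (hpσ : p ∉ Cfsg.sigma M) {Q : Subgroup G} (hQM : Q ≤ M)
    (hQ : IsPGroup p Q) : IsMulCommutative Q := by
  by_cases hQne : Q = ⊥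
  · subst hQne
    exact ⟨⟨fun x y => Subsingleton.elim _ _⟩⟩
  by_cases h : ∃ W : Subgroup G, W ≤ Q ∧ Cfsg.IsElementaryAbelian p W ∧ Nat.card W = p ^ 2
  · obtain ⟨W, hWQ, hWe, hWc⟩ := h
    have htt : p ∈ Cfsg.tau2 M := ⟨hp.out, hpσ, by_contra fun h =>
      Sigma10.not_mem_alpha_of_not_mem_sigma hG hM hpσ ⟨hp.out, h⟩,
      not_pRankLE_subgroup_iff.mpr ⟨W, hWQ.trans hQM, hWe, hWc⟩⟩
    obtain ⟨R, hR, hQR⟩ := exists_sylowOf_ge hQM hQ
    exact ⟨⟨fun x y => Subtype.ext
      (mul_comm_of_mem (sylow_comm hG hM htt hR) (hQR x.2) (hQR y.2))⟩⟩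
  · push Not at h
    have := CubeUnique.isCyclic_of_no_sq (Uniq.prime_ne_two hG hQ hQne) hQ h
    exact IsCyclic.isMulCommutative

omit ht hp in
include hG hM in
/-- **BG 12.11**: nilpotent `σ(M)'`-subgroups of `M` are abelian. -/
theorem nilpotent_comm {N : Subgroup G} (hNM : N ≤ M) (hN : Group.IsNilpotent N)
    (hσ : ∀ r : ℕ, r.Prime → r ∣ Nat.card N → r ∉ Cfsg.sigma M) : IsMulCommutative N := by
  have hNF : N ≤ Cfsg.fittingOf N := le_fittingOf le_rfl Subgroup.le_normalizer hN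
  have hall : N ≤ Subgroup.centralizer (N : Set G) := by
    refine le_of_sylows fun r hr hd => ?_
    have := Fact.mk hr
    obtain ⟨S, hS, -⟩ := exists_sylowOf_ge (p := r) (bot_le : (⊥ : Subgroup G) ≤ N) IsPGroup.of_bot
    refine ⟨S, hS, Subgroup.le_centralizer_iff.mp (le_of_sylows fun q hq _ => ?_)⟩
    have := Fact.mk hq
    obtain ⟨T, hT, -⟩ := exists_sylowOf_ge (p := q) (bot_le : (⊥ : Subgroup G) ≤ N) IsPGroup.of_bot
    refine ⟨T, hT, ?_⟩
    have hSc : S ≤ opCore r N := le_opCore_of_le_fittingOf (hS.1.trans hNF) hS.2.1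
    have hTc : T ≤ opCore q N := le_opCore_of_le_fittingOf (hT.1.trans hNF) hT.2.1
    by_cases hqr : q = r
    · subst hqr
      have h := pgroup_comm_of_not_mem_sigma hG hM (hσ q hq hd) ((opCore_le q N).trans hNM)
        (opCore_isPGroup q N)
      exact fun x hx => Subgroup.mem_centralizer_iff.mpr fun y hy => mul_comm_of_mem h (hSc hy) (hTc hx)
    · exact hTc.trans ((opCore_commute hq hr hqr N).trans (Subgroup.centralizer_le hSc))
  exact ⟨⟨fun x y => Subtype.ext (Subgroup.mem_centralizer_iff.mp (hall y.2) x x.2)⟩⟩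

omit ht hp in
include hG hM hE in
theorem compl_derived_comm : IsMulCommutative ↥⁅E, E⁆ :=
  nilpotent_comm hG hM ((Subgroup.commutator_le_self E).trans hE.1) (Sigma10.compl_structure hG hM hE).1
    fun _ hr hd => Sigma10.not_mem_sigma_of_dvd_compl hG hM hE hr
      (hd.trans (Subgroup.card_dvd_of_le (Subgroup.commutator_le_self E)))

omit ht in
include hG hM in
/-- **BG 12.11**: normalizers of noncyclic `σ(M)`-subgroups stay in `M`. -/
theorem normalizer_le_of_not_cyclic {P : Subgroup G} (hpσ : p ∈ Cfsg.sigma M) (hP : IsPGroup p P)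
    (hPM : P ≤ M) (hnc : ¬ IsCyclic P) : Subgroup.normalizer (P : Set G) ≤ M := by
  have hPne : P ≠ ⊥ := fun h => hnc (by subst h; infer_instance)
  obtain ⟨A, hAP, hAe, hA2⟩ : ∃ A : Subgroup G, A ≤ P ∧ Cfsg.IsElementaryAbelian p A ∧
      Nat.card A = p ^ 2 := by
    by_contra h
    push Not at h
    exact hnc (CubeUnique.isCyclic_of_no_sq (Uniq.prime_ne_two hG hP hPne) hP h)
  rw [Sigma10.normalizer_eq hG hM hpσ hP hPne hPM]
  exact sup_le inf_le_left
    ((Subgroup.centralizer_le hAP).trans (centralizer_le hG hM (hAP.trans hPM) hAe hA2))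

omit ht hp in
include hG hM hE in
/-- **BG 12.11**: a `τ₂(M)`-element fixing a point of `M_σ` has its centralizer only in `M`. -/
theorem onlyIn_of_sigmaHat {x : G} (hxM : x ∈ M) (hx1 : x ≠ 1)
    (hτ : ∀ r : ℕ, r.Prime → r ∣ orderOf x → r ∈ Cfsg.tau2 M) (hhat : x ∈ Cfsg.sigmaHat M) :
    OnlyIn M (Subgroup.centralizer ({x} : Set G)) := by
  have : Group.IsSolvable M := minSimple_solvable hG hM.1
  -- move `x` into `E`
  have hall : Cfsg.IsPiHall {r | r.Prime ∧ r ∉ Cfsg.sigma M} (E.subgroupOf M) := by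
    refine ⟨fun r hr hd => ⟨hr, Sigma10.not_mem_sigma_of_dvd_compl hG hM hE hr
      (Nat.card_congr (Subgroup.subgroupOfEquivOfLe hE.1).toEquiv ▸ hd)⟩, fun r hr hrσ hd => hrσ.2 ?_⟩
    rw [(IsComplIn.isComplement' hE).symm.index_eq_card,
      Nat.card_congr (Subgroup.subgroupOfEquivOfLe hE.2.1).toEquiv] at hd
    exact piNat_card_piCoreOf (Cfsg.sigma M) M r hr hd
  obtain ⟨g, hg⟩ := Hall.exists_conj_le_isPiHall hall (U := Subgroup.zpowers (⟨x, hxM⟩ : M))
    (fun r hr hd => ⟨hr, (hτ r hr (by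
      rwa [Nat.card_zpowers, ← Subgroup.orderOf_coe] at hd)).2.1⟩)
  set y := (g : G) * x * (g : G)⁻¹ with hy
  have hyE : y ∈ E := by
    have h1 : MulAut.conj g • (⟨x, hxM⟩ : M) ∈ MulAut.conj g • Subgroup.zpowers (⟨x, hxM⟩ : M) :=
      Subgroup.smul_mem_pointwise_smul _ _ _ (Subgroup.mem_zpowers _)
    exact hg h1
  have hyo : orderOf y = orderOf x := by
    rw [hy]
    exact orderOf_injective (MulAut.conj (g : G)).toMonoidHom (MulAut.conj (g : G)).injective x
  have hy1 : y ≠ 1 := fun h => hx1 (orderOf_eq_one_iff.mp (by rw [← hyo, h, orderOf_one]))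
  suffices hyon : OnlyIn M (Subgroup.centralizer ({y} : Set G)) by
    have hcj : cj (g : G) (Subgroup.centralizer ({x} : Set G)) = Subgroup.centralizer ({y} : Set G) :=
      cj_centralizer_singleton _ _
    refine onlyIn_of_forall (minSimple_centralizer_singleton_ne_top hG hx1) fun L hL hxL => ?_
    refine cj_inj (g := (g : G)) ?_
    rw [cj_eq_of_mem_normalizer (Subgroup.le_normalizer g.2)]
    exact hyon.2 _ (isCoatom_map_conj hL _) (hcj.ge.trans (cj_mono hxL))
  obtain ⟨-, s, hs, hs1, hxs⟩ := hhat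
  have hys : Cfsg.sigmaCore M ⊓ Subgroup.centralizer ({y} : Set G) ≠ ⊥ :=
    sigma_inf_centralizer_conj g.2 fun h => hs1 (Subgroup.mem_bot.mp
      (h.le ⟨hs, Subgroup.mem_centralizer_singleton_iff.mpr hxs.symm⟩))
  set p := (orderOf y).minFac with hp0
  have hne1 : orderOf y ≠ 1 := fun h => hy1 (orderOf_eq_one_iff.mp h)
  have := Fact.mk (Nat.minFac_prime hne1)
  have hpd : p ∣ orderOf y := Nat.minFac_dvd _
  have ht : p ∈ Cfsg.tau2 M := hτ p (Nat.minFac_prime hne1) (hyo ▸ hpd)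
  set y' := y ^ (orderOf y / p) with hy'
  have hy'o : orderOf y' = p := by
    rw [hy']; exact orderOf_pow_orderOf_div (orderOf_pos y).ne' hpd
  have hy'1 : y' ≠ 1 := fun h => (Nat.minFac_prime hne1).ne_one (by rw [← hp0, ← hy'o, h, orderOf_one])
  obtain ⟨P, hP, -⟩ := exists_sylowOf_ge (p := p) (bot_le : (⊥ : Subgroup G) ≤ E) IsPGroup.of_bot
  obtain ⟨A, hAP, hAe, hA2⟩ := exists_plane ht.2.2.2 (sylowOf_compl hE ht.2.1 hP)
  have hAE : A ≤ E := hAP.trans hP.1
  have hAM : A ≤ M := hAE.trans hE.1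
  have hy'A : y' ∈ A := mem_plane_of_mem_compl hG hM ht hE hAE hAe hA2 (pow_mem hyE _)
    (hy'o ▸ pow_orderOf_eq_one y')
  have hCy : Subgroup.centralizer ({y} : Set G) ≤ Subgroup.centralizer ({y'} : Set G) := fun w hw =>
    Subgroup.mem_centralizer_singleton_iff.mpr
      (Commute.pow_right (Subgroup.mem_centralizer_singleton_iff.mp hw) _).eq
  have hyM : Subgroup.centralizer ({y} : Set G) ≤ M :=
    hCy.trans (onlyIn_of_fixed hG hM ht.2.1 hAM hAe hA2 hy'A hy'1
      fun h => hys (le_bot_iff.mp (h ▸ inf_le_inf_left _ hCy))).1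
  have hAy : A ≤ Subgroup.centralizer ({y} : Set G) := by
    rw [← centralizer_zpowers, Subgroup.le_centralizer_iff]
    refine le_of_sylows fun r hr hd => ?_
    have := Fact.mk hr
    obtain ⟨S, hS, -⟩ := exists_sylowOf_ge (p := r) (bot_le : (⊥ : Subgroup G) ≤ Subgroup.zpowers y)
      IsPGroup.of_bot
    refine ⟨S, hS, ?_⟩
    have hSE : S ≤ E := hS.1.trans (Subgroup.zpowers_le.mpr hyE)
    have hSn : S ≤ Subgroup.normalizer (A : Set G) :=
      hSE.trans (compl_le_normalizer hG hM ht hE hAE hAe hA2)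
    rw [Nat.card_zpowers] at hd
    by_cases hrp : r = p
    · subst hrp
      obtain ⟨P', hP', hle⟩ := exists_sylowOf_ge (p := p) (sup_le (hSE.trans hE.1) hAM)
        (IsPGroup.to_sup_of_normal_right' hS.2.1 (isPGroup_of_elemAb hAe) hSn)
      exact (le_sup_left.trans hle).trans
        (sylow_le_centralizer hG hM ht hAM hAe hA2 hP' (le_sup_right.trans hle))
    · exact le_centralizer_of_lt (minSimple_prime_ne_two hG (H := A) (hA2 ▸ dvd_pow_self p two_ne_zero))
        (lt_of_le_of_ne (Nat.minFac_le_of_dvd hr.two_le hd) (Ne.symm hrp)) le_rfl hA2 hS.2.1 hSn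
  refine ⟨hyM, fun L hL hyL => ?_⟩
  by_contra hne
  exact hys (le_bot_iff.mp ((inf_le_inf_left _ hyL).trans
    (sigmaCore_inf_eq_bot hG hM ht hAM hAe hA2 hL hne (hAy.trans hyL)).le))

end SigmaPrime

end CfsgLib.OddOrder.Sigma12
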