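import Mathlib
import Cfsg.Agent.Lib.OddOrder.Sigma12Elementary
import Cfsg.Agent.Lib.OddOrder41.Sigma12Props

/-!
# BG 12.2, 12.5, 12.6 and 12.11 as the named propositions
-/

set_option autoImplicit false

namespace CfsgLib.OddOrder.Sigma12

universe u

variable {G : Type u} [Group G] [Finite G] (hG : Cfsg.IsMinSimpleOddOrder G)

include hG in
theorem propRankTwoInMaximal : OddOrder41.PropRankTwoInMaximal G := fun _ hM _ _ _ hA =>
  ⟨Sigma11.centralizer_le hG hM hA.1 hA.2.1 hA.2.2, Sigma11.sigma_of_no_line hG hM hA.1 hA.2.1 hA.2.2⟩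

include hG in
theorem propTauTwoStructure : OddOrder41.PropTauTwoStructure G := fun _ hM _ _ ht _ hA =>
  tau2_structure hG hM ht hA.1 hA.2.1 hA.2.2

include hG in
theorem propTauTwoInComplement : OddOrder41.PropTauTwoInComplement G := fun _ hM _ hE _ _ ht _ hA =>
  plane_in_compl hG hM ht hE hA.1 hA.2.1 hA.2.2

include hG in
theorem propSigmaPrimeNilpotent : OddOrder41.PropSigmaPrimeNilpotent G := fun M hM _ hE =>
  ⟨fun _ hNM hN hσ => nilpotent_comm hG hM hNM hN hσ, compl_derived_comm hG hM hE,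
    fun p P hpσ hP hPM hnc =>
      haveI : Fact p.Prime := ⟨hpσ.1⟩
      normalizer_le_of_not_cyclic hG hM hpσ hP hPM hnc,
    fun _ hxM hx1 hτ hhat => onlyIn_of_sigmaHat hG hM hE hxM hx1 hτ hhat⟩

end CfsgLib.OddOrder.Sigma12
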