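import Mathlib
import Cfsg.Agent.Lib.OddOrder.Sigma12Elementary
import Cfsg.Agent.Lib.OddOrder.Sigma15
import Cfsg.Agent.Lib.OddOrder41.Sigma12Conj

/-!
# BG 12.7: a prime of `τ₂(M)` with nonabelian Sylow subgroups
-/

set_option autoImplicit false

namespace CfsgLib.OddOrder.Sigma12

open Subgroup CfsgLib.OddOrder CfsgLib.OddOrder.Transitivity CfsgLib.OddOrder.Sigma11
open scoped commutatorElement

universe u

variable {G : Type u} [Group G] [Finite G] {p : ℕ} [hp : Fact p.Prime]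
  (hG : Cfsg.IsMinSimpleOddOrder G) {M : Subgroup G} (hM : IsCoatom M) (ht : p ∈ Cfsg.tau2 M)

include hG hM ht in
/-- `C_S(A)` is the Sylow subgroup of `M` inside `S`. -/
theorem inf_centralizer_eq {P : Subgroup G} (S : Sylow p G) (hP : SylowOf p P M)
    (hPS : P ≤ (S : Subgroup G)) {A : Subgroup G} (hAP : A ≤ P) (hAe : Cfsg.IsElementaryAbelian p A)
    (hA2 : Nat.card A = p ^ 2) : (S : Subgroup G) ⊓ Subgroup.centralizer (A : Set G) = P := by
  have hAM := hAP.trans hP.1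
  exact hP.2.2 _ (inf_le_right.trans (centralizer_le hG hM hAM hAe hA2)) (S.isPGroup'.to_le inf_le_left)
    (le_inf hPS (sylow_le_centralizer hG hM ht hAM hAe hA2 hP hAP))

variable (hS : ∀ S : Sylow p G, ¬ IsMulCommutative (S : Subgroup G))
  {A : Subgroup G} (hAM : A ≤ M) (hAe : Cfsg.IsElementaryAbelian p A) (hA2 : Nat.card A = p ^ 2)

include hG hM ht hS hAM hAe hA2 in
/-- The only good line `⟨a⟩`, its shifts `c ^ j * a`, and the absence of `p`-th roots of `a`. -/
theorem good_line {P : Subgroup G} (hP : SylowOf p P M) (hAP : A ≤ P) : ∃ a ∈ A, a ≠ 1 ∧ Cfsg.sigmaCore M ≤ Subgroup.centralizer ({a} : Set G) ∧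
    (∀ b ∈ A, b ∉ Subgroup.zpowers a →
      Cfsg.sigmaCore M ⊓ Subgroup.centralizer ({b} : Set G) = ⊥ ∧
        ¬ Subgroup.centralizer ({b} : Set G) ≤ M) ∧
    ∀ y ∈ P, y ^ p ≠ a := by
  obtain ⟨S, hPS⟩ := hP.2.1.exists_le_sylow
  have hΩ := omega hG hM ht hAM hAe hA2
  have hCP := inf_centralizer_eq hG hM ht S hP hPS hAP hAe hA2
  have hPS' : P < (S : Subgroup G) := lt_of_le_of_ne hPS fun h =>
    hS S (h ▸ (sylow_omega hG hM ht hAM hAe hA2 hP hAP).1)
  obtain ⟨g, ⟨hgN, hgS⟩, hgP⟩ := SetLike.not_le_iff_exists.mp fun h =>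
    absurd (Subgroup.card_le_of_le h) (not_le.mpr (normalizer_grows S.isPGroup' hPS'))
  have hgA : g ∈ Subgroup.normalizer (A : Set G) := normalizer_sylow_le hG hM ht hAM hAe hA2 hP hAP hgN
  have hpowM : ∀ n : ℕ, g ^ n ∈ M → g ^ n ∈ P := by
    intro n hn
    have h1 : IsPGroup p ↥((Subgroup.zpowers (g ^ n)) ⊔ P) := S.isPGroup'.to_le
      (sup_le (Subgroup.zpowers_le.mpr (pow_mem hgS n)) hPS)
    exact (hP.2.2 _ (sup_le (Subgroup.zpowers_le.mpr hn) hP.1) h1 le_sup_right).le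
      ((le_sup_left : Subgroup.zpowers (g ^ n) ≤ _) (Subgroup.mem_zpowers _))
  have hgM : g ∉ M := fun h => hgP (by simpa using hpowM 1 (by simpa using h))
  -- the central line is bad
  have hSne : (S : Subgroup G) ≠ ⊥ := fun h => hgP (by
    rw [Subgroup.mem_bot.mp (h ▸ hgS : g ∈ (⊥ : Subgroup G))]; exact Subgroup.one_mem _)
  obtain ⟨z, hzS, hzc, hzo⟩ := Sigma10.exists_central_orderOf S.isPGroup' hSne
  have hzC : z ∈ Subgroup.centralizer (A : Set G) :=
    Subgroup.mem_centralizer_iff.mpr fun x hx => hzc x (hPS (hAP hx))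
  have hzA : z ∈ A := (hΩ z hzC).mp (hzo ▸ pow_orderOf_eq_one z)
  have hz1 : z ≠ 1 := fun h => hp.out.ne_one (by rw [← hzo, h, orderOf_one])
  have hgz : g * z = z * g := hzc g hgS
  have hzbad : Cfsg.sigmaCore M ⊓ Subgroup.centralizer ({z} : Set G) = ⊥ := by
    by_contra hz
    exact hgM ((onlyIn_of_fixed hG hM ht.2.1 hAM hAe hA2 hzA hz1 hz).1
      (Subgroup.mem_centralizer_singleton_iff.mpr hgz))
  obtain ⟨a, ha, ha1, hgood⟩ := exists_good hG hM ht hAM hAe hA2
  have hao := orderOf_mem hAe ha ha1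
  have haz : a ∉ Subgroup.zpowers z := fun h => hgood (le_bot_iff.mp
    (hzbad ▸ inf_le_inf_left _ (centralizer_le_of_mem_zpowers hzo h ha1)))
  have hfix : ∀ y ∈ (S : Subgroup G), y * a = a * y → y ∈ P := fun y hy hya => hCP.le ⟨hy,
    inf_centralizer_pair_le hAe hA2 hzA hz1 ha haz
      ⟨Subgroup.mem_centralizer_singleton_iff.mpr (hzc y hy),
        Subgroup.mem_centralizer_singleton_iff.mpr hya⟩⟩
  -- `g` shifts `a` along `⟨z⟩`
  set c := g * a * g⁻¹ * a⁻¹ with hc
  have hcz : c ∈ Subgroup.zpowers z := by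
    have hU : ⁅A, Subgroup.zpowers g⁆ < A := Coprime.commutator_lt_of_isPGroup (isPGroup_of_elemAb hAe)
      (S.isPGroup'.to_le (Subgroup.zpowers_le.mpr hgS)) (Subgroup.zpowers_le.mpr hgA)
      fun h => hz1 (Subgroup.mem_bot.mp (h ▸ hzA))
    have hcU : c ∈ ⁅A, Subgroup.zpowers g⁆ := by
      have h1 : ⁅a, g⁆ ∈ ⁅A, Subgroup.zpowers g⁆ :=
        Subgroup.commutator_mem_commutator ha (Subgroup.mem_zpowers g)
      have h2 : c = ⁅a, g⁆⁻¹ := by rw [hc, commutatorElement_def]; group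
      rw [h2]
      exact inv_mem h1
    by_contra hcz
    -- otherwise `[A, g]` is a second fixed line
    set U := ⁅A, Subgroup.zpowers g⁆ with hUdef
    have hc1 : c ≠ 1 := fun h => hcz (h ▸ Subgroup.one_mem _)
    have hUc : U = Subgroup.zpowers c := by
      refine (Subgroup.eq_of_le_of_card_ge (Subgroup.zpowers_le.mpr hcU) ?_).symm
      obtain ⟨n, -, hn⟩ := (Nat.dvd_prime_pow hp.out).mp (hA2 ▸ Subgroup.card_dvd_of_le hU.le)
      have h1 : Nat.card U < Nat.card A := lt_of_le_of_ne (Subgroup.card_le_of_le hU.le)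
        fun h => hU.ne (Subgroup.eq_of_le_of_card_ge hU.le h.ge)
      rw [hn, hA2] at h1
      rw [hn, Nat.card_zpowers, orderOf_mem hAe (hU.le hcU) hc1]
      exact le_trans (Nat.pow_le_pow_right hp.out.pos (Nat.le_of_lt_succ ((Nat.pow_lt_pow_iff_right
        hp.out.one_lt).mp h1))) (pow_one p).le
    have hlt : ⁅U, Subgroup.zpowers g⁆ < U := Coprime.commutator_lt_of_isPGroup
      ((isPGroup_of_elemAb hAe).to_le hU.le) (S.isPGroup'.to_le (Subgroup.zpowers_le.mpr hgS))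
      (Coprime.le_normalizer_commutator_right _ _) fun h => hc1 (Subgroup.mem_bot.mp (h ▸ hcU))
    have hgc : g * c = c * g := by
      by_contra hne
      refine hlt.not_ge ?_
      obtain ⟨w, hw, hw1⟩ : ∃ w ∈ ⁅U, Subgroup.zpowers g⁆, w ≠ 1 :=
        ⟨_, Subgroup.commutator_mem_commutator hcU (Subgroup.mem_zpowers g),
          fun h => hne (commutatorElement_eq_one_iff_mul_comm.mp h).symm⟩
      refine (hUc.le.trans (Subgroup.zpowers_le.mpr ?_))
      exact (Subgroup.zpowers_le.mpr hw)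
        (CubeUnique.zpowers_eq_of_mem (orderOf_mem hAe (hU.le hcU) hc1) (hUc.le (hlt.le hw)) hw1)
    exact hgP (hCP.le ⟨hgS, inf_centralizer_pair_le hAe hA2 hzA hz1 (hU.le hcU) hcz
      ⟨Subgroup.mem_centralizer_singleton_iff.mpr hgz, Subgroup.mem_centralizer_singleton_iff.mpr hgc⟩⟩)
  have hc1 : c ≠ 1 := fun h => hgP (hfix g hgS (by
    calc g * a = (g * a * g⁻¹ * a⁻¹) * a * g := by group
      _ = a * g := by rw [← hc, h, one_mul]))
  have hgc : Commute g c := by
    obtain ⟨i, hi⟩ := hcz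
    rw [← hi]
    exact (show Commute g z from hgz).zpow_right i
  have hshift : ∀ n : ℕ, g ^ n * a * (g ^ n)⁻¹ = c ^ n * a :=
    fun n => InvariantCore.conj_fix_iter (f := c) (by rw [hc]; group) hgc n
  -- every other line is `⟨z⟩` or a proper shift of `⟨a⟩`
  have hline : ∀ b ∈ A, b ∉ Subgroup.zpowers a →
      Subgroup.centralizer ({z} : Set G) = Subgroup.centralizer ({b} : Set G) ∨
      ∃ n : ℕ, g ^ n ∉ M ∧ Subgroup.centralizer ({g ^ n * a * (g ^ n)⁻¹} : Set G) =
        Subgroup.centralizer ({b} : Set G) := by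
    intro b hb hba
    have hb1 : b ≠ 1 := fun h => hba (h ▸ Subgroup.one_mem _)
    have hbo := orderOf_mem hAe hb hb1
    by_cases hbz : b ∈ Subgroup.zpowers z
    · exact Or.inl (le_antisymm (centralizer_le_of_mem_zpowers hbo (CubeUnique.zpowers_eq_of_mem hzo hbz hb1) hz1)
        (centralizer_le_of_mem_zpowers hzo hbz hb1))
    obtain ⟨u, hu, v, hv, rfl⟩ := Coprime.exists_mul_of_mem_sup
      (H := Subgroup.zpowers z) (N := Subgroup.zpowers a) (x := b)
      ((Subgroup.zpowers_le.mpr hzA).trans (fun x hx => Subgroup.centralizer_le_normalizer _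
        (Subgroup.mem_centralizer_iff.mpr fun w hw =>
          elemAb_commute hAe ((Subgroup.zpowers_le.mpr ha) hw) hx)))
      ((eq_sup_zpowers hAe hA2 hzA hz1 ha haz).ge hb)
    have hu1 : u ≠ 1 := fun h => hba (by rw [h, one_mul]; exact hv)
    have hv1 : v ≠ 1 := fun h => hbz (by rw [h, mul_one]; exact hu)
    obtain ⟨k, hk : v ^ k = a⟩ := CubeUnique.zpowers_eq_of_mem hao hv hv1
    obtain ⟨n, hn : c ^ n = u ^ k⟩ := mem_powers_iff_mem_zpowers.mpr
      (zpow_mem ((Subgroup.zpowers_le.mpr (CubeUnique.zpowers_eq_of_mem hzo hcz hc1)) hu) k :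
        u ^ k ∈ Subgroup.zpowers c)
    have hbk : (u * v) ^ k = g ^ n * a * (g ^ n)⁻¹ := by
      rw [(show Commute u v from elemAb_commute hAe ((Subgroup.zpowers_le.mpr hzA) hu)
        ((Subgroup.zpowers_le.mpr ha) hv)).mul_zpow, hk, hshift, hn]
    refine Or.inr ⟨n, fun hn' => ?_, ?_⟩
    · -- then `u = 1`
      have h1 : g ^ n * a * (g ^ n)⁻¹ = a := by
        rw [mul_inv_eq_iff_eq_mul]
        exact ((Subgroup.mem_centralizer_iff.mp
          (sylow_le_centralizer hG hM ht hAM hAe hA2 hP hAP (hpowM n hn')) a ha)).symm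
      refine hba (CubeUnique.zpowers_eq_of_mem hbo ?_ ha1)
      exact ⟨k, hbk.trans h1⟩
    · refine (le_antisymm ?_ ?_).symm
      · exact centralizer_le_of_mem_zpowers (orderOf_mem hAe ((Subgroup.mem_normalizer_iff.mp
          (pow_mem hgA n) a).mp ha) fun h => ha1 (by simpa using h))
          (CubeUnique.zpowers_eq_of_mem hbo ⟨k, hbk⟩ fun h => ha1 (by simpa using h)) hb1
      · exact centralizer_le_of_mem_zpowers hbo ⟨k, hbk⟩ fun h => ha1 (by simpa using h)
  have hbad : ∀ b ∈ A, b ∉ Subgroup.zpowers a →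
      Cfsg.sigmaCore M ⊓ Subgroup.centralizer ({b} : Set G) = ⊥ ∧
        ¬ Subgroup.centralizer ({b} : Set G) ≤ M := by
    intro b hb hba
    rcases hline b hb hba with h | ⟨n, hn, h⟩ <;> rw [← h]
    · exact ⟨hzbad, fun hle => hgM (hle (Subgroup.mem_centralizer_singleton_iff.mpr hgz))⟩
    · refine ⟨bad_of_good hG hM ht hAM hAe hA2 (pow_mem hgA n) hn ha ha1 hgood, fun hle => hn ?_⟩
      rw [← cj_centralizer_singleton] at hle
      have h1 := cj_mono (g := (g ^ n)⁻¹) hle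
      rw [cj_mul, inv_mul_cancel, cj_one] at h1
      have h2 := (onlyIn_of_fixed hG hM ht.2.1 hAM hAe hA2 ha ha1 hgood).2 _
        (isCoatom_map_conj hM (g ^ n)⁻¹) h1
      exact inv_mem_iff.mp ((normalizer_self_eq_of_isCoatom hG hM).le (mem_normalizer_of_cj_eq h2))
  refine ⟨a, ha, ha1, ?_, hbad, fun y hy hya => ?_⟩
  · refine Uniq.le_of_centralizers_noncyclic hAe (not_isCyclic_plane hAe hA2)
      ((hp.out.coprime_iff_not_dvd.mpr fun h =>
        ht.2.1 (piNat_card_piCoreOf (Cfsg.sigma M) M p hp.out h)).symm)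
      (hAM.trans (piCoreOf_normal _ _)) fun b hb hb1 => ?_
    by_cases hba : b ∈ Subgroup.zpowers a
    · exact inf_le_right.trans (centralizer_le_of_mem_zpowers hao hba hb1)
    · exact (hbad b hb hba).1.le.trans bot_le
  · -- `a` and its shift would be `p`-th powers in a group with cyclic `℧₁`
    obtain ⟨C, hC, hpow⟩ :=
      (sylow_inf_centralizer_structure hG S (hAP.trans hPS) hAe hA2 hΩ).2.resolve_left (hS S)
    have haC : a ∈ C := hya ▸ hpow y (hCP.ge hy)
    have hcaC : c * a ∈ C := by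
      have h := hpow _ (hCP.ge ((Subgroup.mem_normalizer_iff.mp hgN y).mp hy))
      rw [conj_pow, hya, show g * a * g⁻¹ = c * a by rw [hc]; group] at h
      exact h
    have hca : c * a ∈ Subgroup.zpowers a := zpowers_eq_of_cyclic hC haC hao hcaC
      (hAe.2 _ (mul_mem ((Subgroup.zpowers_le.mpr hzA) hcz) ha))
    have hca' : c ∈ Subgroup.zpowers a := by
      simpa using mul_mem hca (inv_mem (Subgroup.mem_zpowers a))
    exact hgood (le_bot_iff.mp (hzbad ▸ inf_le_inf_left _ (centralizer_le_of_mem_zpowers hzo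
      ((Subgroup.zpowers_le.mpr hcz) (CubeUnique.zpowers_eq_of_mem hao hca' hc1)) ha1)))

include hG hM ht hS in
/-- **BG 12.7**. -/
theorem nonabelian_structure {E : Subgroup G} (hE : Cfsg.IsComplIn E (Cfsg.sigmaCore M) M)
    {A : Subgroup G} (hAE : A ≤ E) (hAe : Cfsg.IsElementaryAbelian p A) (hA2 : Nat.card A = p ^ 2) :
    Cfsg.tau2 M = {p} ∧
      (Nat.card ↥(A ⊓ Subgroup.centralizer (Cfsg.sigmaCore M : Set G)) = p ∧
        Cfsg.fittingOf M = Cfsg.sigmaCore M ⊔ (A ⊓ Subgroup.centralizer (Cfsg.sigmaCore M : Set G))) ∧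
      ∀ X : Subgroup G, X ≤ E → Nat.card X = p →
        X ≠ A ⊓ Subgroup.centralizer (Cfsg.sigmaCore M : Set G) →
        Cfsg.sigmaCore M ⊓ Subgroup.centralizer (X : Set G) = ⊥ ∧ ¬ Subgroup.centralizer (X : Set G) ≤ M := by
  have hAM : A ≤ M := hAE.trans hE.1
  obtain ⟨P, hP, hAP⟩ := exists_sylowOf_ge hAM (isPGroup_of_elemAb hAe)
  obtain ⟨a, ha, ha1, hσa, hbad, hroot⟩ := good_line hG hM ht hS hAM hAe hA2 hP hAP
  have hao := orderOf_mem hAe ha ha1
  set S := Cfsg.sigmaCore M with hSdef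
  set A₀ := A ⊓ Subgroup.centralizer (S : Set G) with hA₀
  have hA₀a : A₀ = Subgroup.zpowers a := by
    refine le_antisymm (fun b hb => ?_) (Subgroup.zpowers_le.mpr ⟨ha, Subgroup.mem_centralizer_iff.mpr
      fun s hs => Subgroup.mem_centralizer_singleton_iff.mp (hσa hs)⟩)
    by_contra hba
    exact Sigma15.sigmaCore_ne_bot hG hM (le_bot_iff.mp ((hbad b hb.1 hba).1 ▸ le_inf le_rfl
      fun s hs => Subgroup.mem_centralizer_singleton_iff.mpr (Subgroup.mem_centralizer_iff.mp hb.2 s hs)))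
  have hA₀c : Nat.card A₀ = p := by rw [hA₀a, Nat.card_zpowers, hao]
  -- a second prime of `τ₂(M)`
  have hτ : Cfsg.tau2 M = {p} := by
    refine Set.eq_singleton_iff_unique_mem.mpr ⟨ht, fun t htt => ?_⟩
    by_contra htp
    have := Fact.mk htt.1
    obtain ⟨Q, hQ, -⟩ := exists_sylowOf_ge (p := t) (bot_le : (⊥ : Subgroup G) ≤ E) IsPGroup.of_bot
    obtain ⟨B, hBQ, hBe, hB2⟩ := exists_plane htt.2.2.2 (sylowOf_compl hE htt.2.1 hQ)
    have hBE : B ≤ E := hBQ.trans hQ.1
    have hBM : B ≤ M := hBE.trans hE.1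
    have hBne : B ≠ ⊥ := fun h => not_isCyclic_plane hBe hB2 (by subst h; infer_instance)
    have hAne : A ≠ ⊥ := fun h => ha1 (Subgroup.mem_bot.mp (h ▸ ha))
    have hBC : B ≤ Subgroup.centralizer (A : Set G) :=
      plane_le_centralizer hG hM ht (Ne.symm htp) hBM hBe hB2 hAM hAe hA2
        (hBE.trans (compl_le_normalizer hG hM ht hE hAE hAe hA2))
    obtain ⟨L, hL, hNL⟩ := exists_isCoatom_ge
      (minSimple_normalizer_ne_top hG hAne (minSimple_pgroup_ne_top hG (isPGroup_of_elemAb hAe)))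
    obtain ⟨g, hgA, hgM⟩ := exists_normalizer_plane_not_mem hG hM ht hAM hAe hA2
    have hLM : L ≠ M := fun h => hgM (h ▸ hNL hgA)
    have hAL : A ≤ L := Subgroup.le_normalizer.trans hNL
    have hBL : B ≤ L := (hBC.trans (centralizer_le_normalizer' A)).trans hNL
    have hr2 : ∀ {r : ℕ} [Fact r.Prime] {V : Subgroup G}, V ≤ L → Cfsg.IsElementaryAbelian r V →
        Nat.card V = r ^ 2 → r ∉ Cfsg.sigma L → r ∈ Cfsg.tau2 L := fun {r} hr {V} hV hVe hVc hrσ =>
      ⟨hr.out, hrσ, by_contra fun h => Sigma10.not_mem_alpha_of_not_mem_sigma hG hL hrσ ⟨hr.out, h⟩,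
        not_pRankLE_subgroup_iff.mpr ⟨V, hV, hVe, hVc⟩⟩
    have hpL : p ∈ Cfsg.sigma L := mem_sigma_of_plane_normalizer hG hM ht hL hAM hAe hA2 hNL
    have hcore : ∀ {r : ℕ} [Fact r.Prime] {V : Subgroup G}, r ∈ Cfsg.sigma L → V ≤ L → IsPGroup r V →
        V ≤ Cfsg.sigmaCore L := fun {r} hr {V} hrσ hV hVp => by
      obtain ⟨R, hR, hVR⟩ := exists_sylowOf_ge hV hVp
      exact hVR.trans (Sigma10.sylow_le_piCore hG hL (Sigma10.alpha_subset_sigma hG hL) hrσ hrσ hR)
    have hAσ := hcore hpL hAL (isPGroup_of_elemAb hAe)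
    have htL : t ∈ Cfsg.sigma L := by
      by_contra htσ
      exact hAne (le_bot_iff.mp ((sigmaCore_inf_eq_bot hG hL (hr2 hBL hBe hB2 htσ) hBL hBe hB2 hM hLM.symm
        hBM) ▸ le_inf hAσ hAM))
    have hBσ := hcore htL hBL (isPGroup_of_elemAb hBe)
    obtain ⟨-, -, -, ⟨H, hH, hHnil⟩, -⟩ := Sigma10.betaCore_hall hG hL
      (fun p _ => Sigma10.pLengthLE_one_proper hG p) (Sigma10.propFiveFive hG)
    have htβ : t ∉ Cfsg.beta L := fun h => Sigma10.not_idealPrime hG hM htt.2.1 htt.2.2.2 h.2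
    have hpβ : p ∉ Cfsg.beta L := fun h => Sigma10.not_idealPrime hG hM ht.2.1 ht.2.2.2 h.2
    have : Group.IsSolvable ↥(Cfsg.sigmaCore L) :=
      minSimple_solvable hG fun h => hL.1 (top_le_iff.mp (h ▸ piCoreOf_le _ _))
    obtain ⟨k, -, hkB⟩ := OddOrder41.exists_conj_into hH.1 hH.2.2 hBσ fun r hr hd => by
      obtain ⟨n, hn⟩ := (isPGroup_of_elemAb hBe).exists_card_eq
      rw [(Nat.prime_dvd_prime_iff_eq hr htt.1).mp (hr.dvd_of_dvd_pow (hn ▸ hd))]
      exact ⟨htt.1, htβ⟩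
    obtain ⟨R, hR, -⟩ := exists_sylowOf_ge (p := p) (bot_le : (⊥ : Subgroup G) ≤ H) IsPGroup.of_bot
    have hRc : R ≤ Subgroup.centralizer (cj k B : Set G) := by
      have hHF : H ≤ Cfsg.fittingOf H := le_fittingOf le_rfl Subgroup.le_normalizer hHnil
      have h1 := le_opCore_of_le_fittingOf (r := p) (hR.1.trans hHF) hR.2.1
      have h2 := le_opCore_of_le_fittingOf (r := t) (hkB.trans hHF) ((isPGroup_of_elemAb hBe).map _)
      exact (h1.trans (opCore_commute hp.out htt.1 (Ne.symm htp) H)).trans (Subgroup.centralizer_le h2)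
    have hRσ : SylowOf p R (Cfsg.sigmaCore L) := by
      refine sylowOf_of_card_dvd hR hH.1 (m := H.relIndex (Cfsg.sigmaCore L)) ?_
        fun h => hH.2.2 p hp.out ⟨hp.out, hpβ⟩ h
      rw [← Subgroup.card_mul_index (H.subgroupOf (Cfsg.sigmaCore L)),
        Nat.card_congr (Subgroup.subgroupOfEquivOfLe hH.1).toEquiv]
      exact dvd_rfl
    obtain ⟨R', rfl⟩ := sylow_of_hall (Sigma10.sigmaCore_hall hG hL).2 hpL hRσ
    set R'' := k⁻¹ • R' with hR''
    have hR''c : (R'' : Subgroup G) ≤ M := by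
      rw [hR'', Sylow.coe_subgroup_smul]
      refine le_trans ?_ (centralizer_le hG hM hBM hBe hB2)
      have h1 := cj_mono (g := k⁻¹) hRc
      rwa [OddOrder41.cj_centralizer, cj_mul, inv_mul_cancel, cj_one] at h1
    exact hS R'' (sylow_comm hG hM ht (sylowOf_of_sylow R'' hR''c))
  refine ⟨hτ, ⟨hA₀c, ?_⟩, fun X hX hXc hXne => ?_⟩
  · have hSn : M ≤ Subgroup.normalizer (S : Set G) := piCoreOf_normal _ _
    have hSM : S ≤ M := piCoreOf_le _ _
    have hnil := sigmaCore_isNilpotent hG hM ht hAM hAe hA2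
    have hA₀M : A₀ ≤ M := inf_le_left.trans hAM
    have hA₀n : M ≤ Subgroup.normalizer (A₀ : Set G) := by
      intro m hm
      obtain ⟨e, he, s, hs, rfl⟩ := hE.2.2.2 m hm
      refine mul_mem ?_ ?_
      · exact CubeUnique.le_normalizer_inf (compl_le_normalizer hG hM ht hE hAE hAe hA2)
          ((hE.1.trans hSn).trans (normalizer_centralizer_le S)) he
      · exact centralizer_le_normalizer' A₀ ((Subgroup.le_centralizer_iff.mp (inf_le_right : A₀ ≤ _)) hs)
    refine le_antisymm (fittingOf_le_of_forall fun r hr => ?_) (sup_le (le_fittingOf hSM hSn hnil)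
      (le_fittingOf hA₀M hA₀n ((isPGroup_of_elemAb hAe).to_le inf_le_left).isNilpotent))
    have := Fact.mk hr
    set O := opCore r M with hO
    by_cases hO1 : O = ⊥
    · rw [hO1]; exact bot_le
    by_cases hrσ : r ∈ Cfsg.sigma M
    · obtain ⟨R, hR, hOR⟩ := exists_sylowOf_ge (opCore_le r M) (opCore_isPGroup r M)
      exact (hOR.trans (Sigma10.sylow_le_piCore hG hM (Sigma10.alpha_subset_sigma hG hM) hrσ hrσ hR)).trans
        le_sup_left
    have hrp : r = p := Set.mem_singleton_iff.mp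
      (hτ ▸ Sigma15.mem_tau2_of_dvd_fittingOf hG hM hr hrσ (dvd_of_opCore_ne_bot hr hO1))
    subst hrp
    have hOC : O ≤ Subgroup.centralizer (S : Set G) := commute_of_normalizes ((opCore_le r M).trans hSn)
      (hSM.trans (opCore_normal r M)) fun x hx hx' =>
      Criteria.eq_one_of_pgroup_of_coprime (opCore_isPGroup r M)
        ((hr.coprime_iff_not_dvd.mpr fun h => hrσ (piNat_card_piCoreOf (Cfsg.sigma M) M r hr h)).symm) hx hx'
    have hOP : O ≤ P := by
      have h1 : IsPGroup r ↥(P ⊔ O) :=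
        IsPGroup.to_sup_of_normal_right' hP.2.1 (opCore_isPGroup r M) (hP.1.trans (opCore_normal r M))
      exact le_sup_right.trans (hP.2.2 _ (sup_le hP.1 (opCore_le r M)) h1 le_sup_left).le
    have hΩ := (sylow_omega hG hM ht hAM hAe hA2 hP hAP).2
    refine le_trans (fun y hy => ?_) le_sup_right
    have hsmall : ∀ w ∈ O, w ^ r = 1 → w ∈ A₀ := fun w hw hwp => ⟨(hΩ w (hOP hw)).mp hwp, hOC hw⟩
    by_contra hy0
    obtain ⟨n, hn⟩ := opCore_isPGroup r M ⟨y, hy⟩
    have hn' : y ^ r ^ n = 1 := congrArg Subtype.val hn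
    classical
    set m := Nat.find (⟨n, hn'⟩ : ∃ n, y ^ r ^ n = 1) with hm
    have hms := Nat.find_spec (⟨n, hn'⟩ : ∃ n, y ^ r ^ n = 1)
    have hm2 : 2 ≤ m := by
      by_contra h
      refine hy0 (hsmall y hy ?_)
      rcases (show m = 0 ∨ m = 1 by omega) with h0 | h0 <;> rw [← hm, h0] at hms
      · rw [pow_zero, pow_one] at hms; rw [hms, one_pow]
      · rwa [pow_one] at hms
    obtain ⟨j, hj⟩ : ∃ j, m = j + 2 := ⟨m - 2, by omega⟩
    set w := (y ^ r ^ j) ^ r with hw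
    have hwr : w ^ r = 1 := by
      rw [hw, ← pow_mul, ← pow_mul]
      rw [← hm, hj, pow_succ, pow_succ, mul_assoc] at hms
      exact hms
    have hw1 : w ≠ 1 := fun h => by
      have h2 := Nat.find_le (h := (⟨n, hn'⟩ : ∃ n, y ^ r ^ n = 1)) (n := j + 1)
        (by rw [pow_succ, pow_mul]; exact h)
      omega
    obtain ⟨i, hi : w ^ i = a⟩ := CubeUnique.zpowers_eq_of_mem hao
      (hA₀a.le (hsmall w (pow_mem (pow_mem hy _) _) hwr)) hw1
    refine hroot ((y ^ r ^ j) ^ i) (zpow_mem (hOP (pow_mem hy _)) i) ?_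
    rw [← hi, hw, ← zpow_natCast, ← zpow_mul, mul_comm, zpow_mul, zpow_natCast]
  · obtain ⟨b, hb, hb1⟩ := (Subgroup.bot_or_exists_ne_one X).resolve_left fun h =>
      hp.out.ne_one (by rw [← hXc, h, Subgroup.card_bot])
    have hbp : b ^ p = 1 := orderOf_dvd_iff_pow_eq_one.mp (hXc ▸ Subgroup.orderOf_dvd_natCard X hb)
    have hXb : Subgroup.zpowers b = X := Subgroup.eq_of_le_of_card_ge (Subgroup.zpowers_le.mpr hb)
      (by rw [hXc, Nat.card_zpowers, orderOf_eq_prime hbp hb1])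
    have hba : b ∉ Subgroup.zpowers a := fun h => hXne (by
      refine Subgroup.eq_of_le_of_card_ge ?_ (hA₀c.trans hXc.symm).le
      rw [← hXb, Subgroup.zpowers_le, hA₀a]
      exact h)
    rw [← hXb, centralizer_zpowers]
    exact hbad b (mem_plane_of_mem_compl hG hM ht hE hAE hAe hA2 (hX hb) hbp) hba

end CfsgLib.OddOrder.Sigma12
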