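import Mathlib
import Cfsg.Agent.Lib.OddOrder.Sigma12Nonabelian
import Cfsg.Agent.Lib.OddOrder.Sigma12Average
import Cfsg.Agent.Lib.OddOrder.Sigma12Inputs
import Cfsg.Agent.Lib.OddOrder41.Sigma13Cyclic
import Cfsg.Agent.Lib.OddOrder41.RankTwoAction
import Cfsg.Agent.Lib.OddOrder41.FixedFormula

/-!
# The criterion for a maximal subgroup to be of Frobenius type
-/

set_option autoImplicit false

namespace CfsgLib.OddOrder.Sigma12

open Subgroup CfsgLib.OddOrder CfsgLib.OddOrder.Transitivity CfsgLib.OddOrder.Sigma11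
open scoped commutatorElement

universe u

variable {G : Type u} [Group G] [Finite G]

omit [Finite G] in
theorem eq_one_of_sigma_fixed {M : Subgroup G} {e x : G}
    (h : Cfsg.sigmaCore M ⊓ Subgroup.centralizer ({e} : Set G) = ⊥) (hx : x ∈ Cfsg.sigmaCore M)
    (hex : e * x = x * e) : x = 1 :=
  Subgroup.mem_bot.mp (h.le ⟨hx, Subgroup.mem_centralizer_singleton_iff.mpr hex.symm⟩)

omit [Finite G] in
theorem sigma_fixed_of_pow {M : Subgroup G} {e : G} (k : ℕ)
    (h : Cfsg.sigmaCore M ⊓ Subgroup.centralizer ({e} : Set G) ≠ ⊥) :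
    Cfsg.sigmaCore M ⊓ Subgroup.centralizer ({e ^ k} : Set G) ≠ ⊥ := fun h0 =>
  h (le_bot_iff.mp (h0 ▸ inf_le_inf_left _ fun _ hw => Subgroup.mem_centralizer_singleton_iff.mpr
    (Commute.pow_right (Subgroup.mem_centralizer_singleton_iff.mp hw) k).eq))

/-- A nontrivial `p`-element has a power of order `p`. -/
theorem exists_pow_orderOf {p : ℕ} [hp : Fact p.Prime] {x : G} (hx : IsPGroup p (Subgroup.zpowers x))
    (hx1 : x ≠ 1) : ∃ n : ℕ, orderOf x = p ^ (n + 1) ∧ orderOf (x ^ p ^ n) = p := by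
  obtain ⟨k, hk⟩ := hx.exists_card_eq
  rw [Nat.card_zpowers] at hk
  obtain ⟨n, rfl⟩ : ∃ n, k = n + 1 := ⟨k - 1, by
    rcases Nat.eq_zero_or_pos k with rfl | h
    · exact absurd (orderOf_eq_one_iff.mp (by rw [hk, pow_zero])) hx1
    · omega⟩
  refine ⟨n, hk, ?_⟩
  rw [orderOf_pow' x (pow_ne_zero _ hp.out.ne_zero), hk,
    Nat.gcd_eq_right (pow_dvd_pow p n.le_succ), pow_succ,
    Nat.mul_div_cancel_left _ (pow_pos hp.out.pos _)]

/-- `N(D) ≤ N(O_t(D))`. -/
theorem normalizer_le_normalizer_opCore (t : ℕ) [Fact t.Prime] (D : Subgroup G) :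
    Subgroup.normalizer (D : Set G) ≤ Subgroup.normalizer (opCore t D : Set G) := fun g hg => by
  refine mem_normalizer_of_cj_eq (Subgroup.eq_of_le_of_card_ge (le_opCore ?_ ?_ ?_) (card_cj g _).ge)
  · exact (cj_mono (opCore_le t D)).trans (cj_eq_of_mem_normalizer hg).le
  · intro d hd
    refine mem_normalizer_of_cj_eq ?_
    rw [cj_mul, show d * g = g * (g⁻¹ * d * g) by group, ← cj_mul,
      cj_eq_of_mem_normalizer (opCore_normal t D ((Subgroup.mem_normalizer_iff''.mp hg d).mp hd))]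
  · exact (opCore_isPGroup t D).map _

variable {p : ℕ} [hp : Fact p.Prime] (hG : Cfsg.IsMinSimpleOddOrder G) {M : Subgroup G} (hM : IsCoatom M)
  (ht : p ∈ Cfsg.tau2 M)

section Nonabelian

variable (hS : ∀ S : Sylow p G, ¬ IsMulCommutative (S : Subgroup G))
  {A : Subgroup G} (hAe : Cfsg.IsElementaryAbelian p A) (hA2 : Nat.card A = p ^ 2)
  {P : Subgroup G} (hP : SylowOf p P M) (hAP : A ≤ P)

include hG hM ht hS hAe hA2 hP hAP in
/-- Fixed points occur only for elements of `A`. -/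
theorem mem_plane_of_fixed {y : G} (hy : y ∈ P)
    (hfix : Cfsg.sigmaCore M ⊓ Subgroup.centralizer ({y} : Set G) ≠ ⊥) : y ∈ A := by
  by_cases hy1 : y = 1
  · rw [hy1]; exact Subgroup.one_mem _
  have hAM := hAP.trans hP.1
  obtain ⟨a, ha, ha1, -, hbad, hroot⟩ := good_line hG hM ht hS hAM hAe hA2 hP hAP
  obtain ⟨n, hn, hno⟩ := exists_pow_orderOf (hP.2.1.to_le (Subgroup.zpowers_le.mpr hy)) hy1
  have hA : y ^ p ^ n ∈ A := ((sylow_omega hG hM ht hAM hAe hA2 hP hAP).2 _ (pow_mem hy _)).mp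
    (by simpa [hno] using pow_orderOf_eq_one (y ^ p ^ n))
  have hya : y ^ p ^ n ∈ Subgroup.zpowers a :=
    by_contra fun h => sigma_fixed_of_pow _ hfix (hbad _ hA h).1
  rcases n with - | n
  · simpa using hA
  · exfalso
    obtain ⟨i, hi : (y ^ p ^ (n + 1)) ^ i = a⟩ := CubeUnique.zpowers_eq_of_mem (orderOf_mem hAe ha ha1) hya
      fun h => hp.out.ne_one (by rw [← hno, h, orderOf_one])
    refine hroot ((y ^ p ^ n) ^ i) (zpow_mem (pow_mem hy _) i) ?_
    rw [← hi, ← zpow_natCast, ← zpow_mul, mul_comm, zpow_mul, zpow_natCast, ← pow_mul, ← pow_succ]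

end Nonabelian

omit hp in
/-- If one Sylow subgroup is abelian, all are. -/
theorem sylow_comm_or (p : ℕ) [Fact p.Prime] :
    (∀ S : Sylow p G, IsMulCommutative (S : Subgroup G)) ∨ ∀ S : Sylow p G, ¬ IsMulCommutative (S : Subgroup G) := by
  refine or_iff_not_imp_right.mpr fun h S => ?_
  push Not at h
  obtain ⟨S', hS'⟩ := h
  obtain ⟨g, hg⟩ := MulAction.exists_smul_eq G S' S
  refine ⟨⟨fun a b => Subtype.ext ?_⟩⟩
  have hmem : ∀ x ∈ (S : Subgroup G), g⁻¹ * x * g ∈ (S' : Subgroup G) := fun x hx => by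
    rw [← hg, Sylow.coe_subgroup_smul] at hx
    exact mem_cj.mp hx
  have h1 := mul_comm_of_mem hS' (hmem a a.2) (hmem b b.2)
  calc (a : G) * b = g * (g⁻¹ * a * g * (g⁻¹ * b * g)) * g⁻¹ := by group
    _ = g * (g⁻¹ * b * g * (g⁻¹ * a * g)) * g⁻¹ := by rw [h1]
    _ = b * a := by group

section Abelian

variable (hab : ∀ S : Sylow p G, IsMulCommutative (S : Subgroup G))
  {A : Subgroup G} (hAe : Cfsg.IsElementaryAbelian p A) (hA2 : Nat.card A = p ^ 2)

omit [Finite G] hM ht hp in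
include hab in
/-- The `p`-subgroups over `A` centralize `A`. -/
theorem pgroup_le_centralizer {Q : Subgroup G} (hQ : IsPGroup p Q) (hAQ : A ≤ Q) :
    Q ≤ Subgroup.centralizer (A : Set G) := by
  obtain ⟨S, hS⟩ := hQ.exists_le_sylow
  exact fun q hq => Subgroup.mem_centralizer_iff.mpr fun a ha =>
    mul_comm_of_mem (hab S) (hS (hAQ ha)) (hS hq)

omit ht in
include hG hM hab hAe hA2 in
/-- A Sylow subgroup of `M` is one of `G`. -/
theorem exists_sylow_eq {P : Subgroup G} (hP : SylowOf p P M) (hAP : A ≤ P) :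
    ∃ S : Sylow p G, (S : Subgroup G) = P := by
  obtain ⟨S, hS⟩ := hP.2.1.exists_le_sylow
  exact ⟨S, hP.2.2 _ ((pgroup_le_centralizer hab S.isPGroup' (hAP.trans hS)).trans
    (centralizer_le hG hM (hAP.trans hP.1) hAe hA2)) S.isPGroup' hS⟩

variable {E : Subgroup G} (hE : Cfsg.IsComplIn E (Cfsg.sigmaCore M) M) (hAE : A ≤ E)

include hG hM ht hab hAe hA2 hE hAE in
/-- The Sylow subgroup of `E` lies in `F(E)`. -/
theorem sylow_le_fittingOf {P : Subgroup G} (hP : SylowOf p P E) (hAP : A ≤ P) :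
    P ≤ Cfsg.fittingOf E := by
  have hAM := hAE.trans hE.1
  have hEtop : E ≠ ⊤ := fun h => hM.1 (top_le_iff.mp (h ▸ hE.1))
  have hPM := sylowOf_compl hE ht.2.1 hP
  obtain ⟨S, rfl⟩ := exists_sylow_eq hG hM hab hAe hA2 hPM hAP
  have hC : Subgroup.centralizer (A : Set G) ≤ E :=
    (le_inf (centralizer_le hG hM hAM hAe hA2) (centralizer_le_normalizer' A)).trans
      (inf_normalizer_eq hG hM ht hE hAE hAe hA2).le
  set N := Subgroup.normalizer ((S : Subgroup G) : Set G) with hN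
  have hNA : N ≤ Subgroup.normalizer (A : Set G) := normalizer_sylow_le hG hM ht hAM hAe hA2 hPM hAP
  have hSne : (S : Subgroup G) ≠ ⊥ := fun h => not_isCyclic_plane hAe hA2 (by
    have hAb : A = ⊥ := le_bot_iff.mp (h ▸ hAP)
    subst hAb
    infer_instance)
  have hNtop : N ≠ ⊤ := minSimple_normalizer_ne_top hG hSne (minSimple_pgroup_ne_top hG S.isPGroup')
  refine (le_inf hP.1 ?_).trans (centralizer_fittingOf_le (minSimple_solvable hG hEtop))
  rw [Subgroup.le_centralizer_iff]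
  refine fittingOf_le_of_forall fun t htp => ?_
  have := Fact.mk htp
  rw [Subgroup.le_centralizer_iff]
  by_cases htp' : t = p
  · subst htp'
    have h1 : IsPGroup t ↥((S : Subgroup G) ⊔ opCore t E) :=
      IsPGroup.to_sup_of_normal_right' S.isPGroup' (opCore_isPGroup t E) (hP.1.trans (opCore_normal t E))
    have hle : opCore t E ≤ (S : Subgroup G) :=
      le_sup_right.trans (hP.2.2 _ (sup_le hP.1 (opCore_le t E)) h1 le_sup_left).le
    exact fun x hx => Subgroup.mem_centralizer_iff.mpr fun y hy => mul_comm_of_mem (hab S) (hle hy) hx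
  set T := opCore t E with hT
  by_cases hT1 : T = ⊥
  · rw [hT1]
    exact fun x _ => Subgroup.mem_centralizer_iff.mpr fun y hy => by
      rw [Subgroup.mem_bot.mp hy, one_mul, mul_one]
  have htE : t ∣ Nat.card E :=
    (Uniq.prime_dvd_card (opCore_isPGroup t E) hT1).trans (Subgroup.card_dvd_of_le (opCore_le t E))
  have hTC : T = opCore t (Subgroup.centralizer (A : Set G)) := by
    refine le_antisymm (le_opCore (Subgroup.le_centralizer_iff.mp
      (le_centralizer_opCore hG hM ht hE hAE hAe hA2 htp')) (hC.trans (opCore_normal t E))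
      (opCore_isPGroup t E)) (le_opCore ((opCore_le t _).trans hC) ?_ (opCore_isPGroup t _))
    exact ((compl_le_normalizer hG hM ht hE hAE hAe hA2).trans (normalizer_centralizer_le A)).trans
      (normalizer_le_normalizer_opCore t _)
  have hNT : N ≤ Subgroup.normalizer (T : Set G) := by
    rw [hTC]
    exact (hNA.trans (normalizer_centralizer_le A)).trans (normalizer_le_normalizer_opCore t _)
  have htσ := Sigma10.not_mem_sigma_of_dvd_compl hG hM hE htp htE
  have hr2 : Cfsg.PRankLE t 2 T := PRankLE.of_le ((opCore_le t E).trans hE.1)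
    (by_contra fun h => Sigma10.not_mem_alpha_of_not_mem_sigma hG hM htσ ⟨htp, h⟩)
  intro x hx
  refine Subgroup.mem_centralizer_iff.mpr fun y hy => ?_
  refine (OddOrder41.rank_two_commutator_fixes (Uniq.prime_ne_two hG (opCore_isPGroup t E) hT1) T N
    (opCore_isPGroup t E) hr2 hNT (minSimple_solvable hG hNtop) (minSimple_odd hG N) x
    (sylow_le_derived_normalizer hG S hx) ?_ y hy).symm
  obtain ⟨k, hk⟩ := S.isPGroup'.exists_card_eq
  exact (Nat.Coprime.pow_left k ((Nat.coprime_primes hp.out htp).mpr (Ne.symm htp'))).coprime_dvd_left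
    (hk ▸ Subgroup.orderOf_dvd_natCard _ hx)

end Abelian

include hG hM ht in
/-- A `τ₂(M)`-element of `E` fixing a point of `M_σ` lies in `F(E)`. -/
theorem mem_fittingOf_of_fixed {E : Subgroup G} (hE : Cfsg.IsComplIn E (Cfsg.sigmaCore M) M) {y : G}
    (hy : y ∈ E) (hyp : IsPGroup p (Subgroup.zpowers y))
    (hfix : Cfsg.sigmaCore M ⊓ Subgroup.centralizer ({y} : Set G) ≠ ⊥) : y ∈ Cfsg.fittingOf E := by
  obtain ⟨P, hP, hyP⟩ := exists_sylowOf_ge (Subgroup.zpowers_le.mpr hy) hyp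
  obtain ⟨A, hAP, hAe, hA2⟩ := exists_plane ht.2.2.2 (sylowOf_compl hE ht.2.1 hP)
  have hAE := hAP.trans hP.1
  rcases sylow_comm_or (G := G) p with hab | hS
  · exact sylow_le_fittingOf hG hM ht hab hAe hA2 hE hAE hP hAP (hyP (Subgroup.mem_zpowers y))
  · exact le_fittingOf hAE (compl_le_normalizer hG hM ht hE hAE hAe hA2)
      (isPGroup_of_elemAb hAe).isNilpotent
      (mem_plane_of_fixed hG hM ht hS hAe hA2 (sylowOf_compl hE ht.2.1 hP) hAP
        (hyP (Subgroup.mem_zpowers y)) hfix)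

section Moving

variable (hab : ∀ S : Sylow p G, IsMulCommutative (S : Subgroup G))
  {E : Subgroup G} (hE : Cfsg.IsComplIn E (Cfsg.sigmaCore M) M)
  {A : Subgroup G} (hAE : A ≤ E) (hAe : Cfsg.IsElementaryAbelian p A) (hA2 : Nat.card A = p ^ 2)

include hG hM ht hE hAE hAe hA2 in
/-- An element of order `r` of `E` moving `A` fixes a point of `A`, or centralizes `A`. -/
theorem exists_fixed_of_fpf {r : ℕ} [hr : Fact r.Prime] (hrp : r ≠ p) {x : G} (hx : x ∈ E) (hxo : orderOf x = r)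
    (hfpf : Cfsg.sigmaCore M ⊓ Subgroup.centralizer ({x} : Set G) = ⊥) :
    ∃ c ∈ A, c ≠ 1 ∧ x * c = c * x := by
  by_contra hcon
  push Not at hcon
  have hAM := hAE.trans hE.1
  have hxA : Subgroup.zpowers x ≤ Subgroup.normalizer (A : Set G) :=
    Subgroup.zpowers_le.mpr (compl_le_normalizer hG hM ht hE hAE hAe hA2 hx)
  have hsup : A ⊔ Subgroup.zpowers x ≤ E := sup_le hAE (Subgroup.zpowers_le.mpr hx)
  set S := Cfsg.sigmaCore M with hSdef
  have h := OddOrder41.FixedFormula.fixed_formula A (Subgroup.zpowers x)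
    (fun h => hr.out.ne_one (by rw [← hxo, ← Nat.card_zpowers, h, Subgroup.card_bot])) hxA
    (by rw [hA2, Nat.card_zpowers, hxo]
        exact ((Nat.coprime_primes hp.out hr.out).mpr hrp.symm).pow_left 2)
    (fun e he he1 u hu heu => by
      by_contra hu1
      refine hcon u hu hu1 ?_
      have hc : x ∈ Subgroup.centralizer ({u} : Set G) :=
        (Subgroup.zpowers_le.mpr (Subgroup.mem_centralizer_singleton_iff.mpr heu))
          (CubeUnique.zpowers_eq_of_mem hxo he he1)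
      exact Subgroup.mem_centralizer_singleton_iff.mp hc)
    S ((hsup.trans hE.1).trans (piCoreOf_normal _ _))
    (minSimple_solvable hG fun h => hM.1 (top_le_iff.mp (h ▸ piCoreOf_le _ _)))
    (Nat.coprime_of_dvd fun q hq hd hd' => Sigma10.not_mem_sigma_of_dvd_compl hG hM hE hq
      (hd'.trans (Subgroup.card_dvd_of_le hsup)) (piNat_card_piCoreOf (Cfsg.sigma M) M q hq hd))
  have hA0 : S ⊓ Subgroup.centralizer (A : Set G) = ⊥ :=
    sigmaCore_inf_centralizer_eq_bot hG hM ht.2.1 hAM hAe hA2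
  have hAX : S ⊓ Subgroup.centralizer ((A ⊔ Subgroup.zpowers x : Subgroup G) : Set G) = ⊥ :=
    le_bot_iff.mp (hA0 ▸ inf_le_inf_left _ (Subgroup.centralizer_le (SetLike.coe_subset_coe.mpr le_sup_left)))
  rw [centralizer_zpowers, hfpf, hA0, hAX, Subgroup.card_bot, one_pow, one_mul, one_mul] at h
  exact Sigma15.sigmaCore_ne_bot hG hM (Subgroup.card_eq_one.mp h)

include hG hM ht hab hE hAE hAe hA2 in
/-- The key step: an element of `E` moving `A` leads to one of `N(A)` moving `A` with a fixed point. -/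
theorem exists_fixing_of_moving {r : ℕ} [hr : Fact r.Prime] (hrp : r ≠ p) (hrk : Cfsg.PRankLE r 1 M)
    {h : G} (hh : h ∈ E) (hhr : IsPGroup r (Subgroup.zpowers h)) (hhA : h ∉ Subgroup.centralizer (A : Set G))
    (hfpf : ∀ k : ℕ, h ^ k ≠ 1 →
      Cfsg.sigmaCore M ⊓ Subgroup.centralizer ({h ^ k} : Set G) = ⊥) :
    ∃ y ∈ Subgroup.normalizer (A : Set G), y ∉ Subgroup.centralizer (A : Set G) ∧
      ∃ c ∈ A, c ≠ 1 ∧ y * c = c * y := by
  by_contra hcon
  push Not at hcon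
  have hAM := hAE.trans hE.1
  have hEA := compl_le_normalizer hG hM ht hE hAE hAe hA2
  have h1 : h ≠ 1 := fun h1 => hhA (h1 ▸ Subgroup.one_mem _)
  obtain ⟨n, hn, hxo⟩ := exists_pow_orderOf hhr h1
  set x := h ^ r ^ n with hxdef
  have hx1 : x ≠ 1 := fun h => hr.out.ne_one (by rw [← hxo, h, orderOf_one])
  have hxC : x ∈ Subgroup.centralizer (A : Set G) := by
    by_contra hxC
    obtain ⟨c, hc, hc1, hxc⟩ := exists_fixed_of_fpf hG hM ht hE hAE hAe hA2 hrp (pow_mem hh _) hxo (hfpf _ hx1)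
    exact hcon x (hEA (pow_mem hh _)) hxC c hc hc1 hxc
  obtain ⟨L, hL, hNL⟩ := exists_isCoatom_ge (minSimple_normalizer_ne_top hG
    (fun h => not_isCyclic_plane hAe hA2 (by subst h; infer_instance))
    (minSimple_pgroup_ne_top hG (isPGroup_of_elemAb hAe)))
  have hpL : p ∈ Cfsg.sigma L := mem_sigma_of_plane_normalizer hG hM ht hL hAM hAe hA2 hNL
  have hAL : A ≤ L := Subgroup.le_normalizer.trans hNL
  obtain ⟨SA, hSA, hASA⟩ := exists_sylowOf_ge hAL (isPGroup_of_elemAb hAe)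
  have hAσ : A ≤ Cfsg.sigmaCore L :=
    hASA.trans (Sigma10.sylow_le_piCore hG hL (Sigma10.alpha_subset_sigma hG hL) hpL hpL hSA)
  have hhL : Subgroup.zpowers h ≤ L := Subgroup.zpowers_le.mpr (hNL (hEA hh))
  obtain ⟨R, hR, hhR⟩ := exists_sylowOf_ge hhL hhr
  have hhR' : h ∈ R := hhR (Subgroup.mem_zpowers h)
  by_cases hrL : r ∈ Cfsg.sigma L
  · have hAd : A ≤ ⁅L, L⁆ := hASA.trans (Sigma10.le_derived hG hL hpL hSA)
    have hhd : h ∈ ⁅L, L⁆ := Sigma10.le_derived hG hL hrL hR hhR'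
    have hpβ : p ∉ Cfsg.beta L := fun h => Sigma10.not_idealPrime hG hM ht.2.1 ht.2.2.2 h.2
    obtain ⟨P, N, hNn, hc⟩ := (Sigma10.derived_complement hG hL
      (fun p _ => Sigma10.pLengthLE_one_proper hG p) (Sigma10.propFiveFive hG) hp.out hpβ).1
    have hhN : (⟨h, hhd⟩ : ↥⁅L, L⁆) ∈ N := by
      rw [← QuotientGroup.eq_one_iff, ← orderOf_eq_one_iff]
      obtain ⟨m, hm⟩ := P.isPGroup'.exists_card_eq
      refine Nat.eq_one_of_dvd_coprimes
        (Nat.Coprime.pow (n + 1) m ((Nat.coprime_primes hr.out hp.out).mpr hrp))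
        ((orderOf_map_dvd (QuotientGroup.mk' N) (⟨h, hhd⟩ : ↥⁅L, L⁆)).trans ?_) ?_
      · rw [← Subgroup.orderOf_coe, ← hn]
      · rw [← hm, ← hc.symm.index_eq_card]
        exact orderOf_dvd_natCard _
    refine hhA (Subgroup.mem_centralizer_iff.mpr fun a ha => ?_)
    have h2 : (⁅(⟨a, hAd ha⟩ : ↥⁅L, L⁆), ⟨h, hhd⟩⁆) ∈ N := by
      rw [commutatorElement_def]
      exact mul_mem (hNn.conj_mem _ hhN _) (inv_mem hhN)
    have h3 : ⁅a, h⁆ ∈ A := by
      rw [commutatorElement_def, mul_assoc, mul_assoc, ← mul_assoc h]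
      exact mul_mem ha ((Subgroup.mem_normalizer_iff.mp (hEA hh) _).mp (inv_mem ha))
    have h4 : (⁅a, h⁆ : G) ∈ N.map (⁅L, L⁆ : Subgroup G).subtype := ⟨_, h2, rfl⟩
    have h5 : ⁅a, h⁆ = 1 := by
      refine Criteria.eq_one_of_pgroup_of_coprime (isPGroup_of_elemAb hAe) ?_ h3 h4
      rw [Subgroup.card_map_of_injective (Subgroup.subtype_injective _)]
      refine ((Nat.Prime.coprime_iff_not_dvd hp.out).mpr fun h => P.not_dvd_index ?_).symm
      rw [hc.index_eq_card]
      exact h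
    exact commutatorElement_eq_one_iff_mul_comm.mp h5
  by_cases hrk' : Cfsg.PRankLE r 1 L
  · have hRc : IsCyclic R := CubeUnique.isCyclic_of_no_sq
      (Uniq.prime_ne_two hG hhr fun h0 => h1 (Subgroup.mem_bot.mp (h0 ▸ Subgroup.mem_zpowers h))) hR.2.1
      fun W hW hWe hWc => not_pRankLE_subgroup_iff.mpr ⟨W, hW.trans hR.1, hWe, hWc⟩ hrk'
    have hfix := OddOrder41.centralizes_of_cyclic_sylow hG (propRankTwoInMaximal hG) (propTauTwoStructure hG)
      (propTauTwoInComplement hG) (propSigmaPrimeNilpotent hG) hL hrL hR hRc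
      (X := Subgroup.zpowers x) (Subgroup.zpowers_le.mpr (pow_mem hhR' _)) (by rw [Nat.card_zpowers, hxo])
    refine hhA (Subgroup.mem_centralizer_iff.mpr fun a ha => ?_)
    refine (Subgroup.mem_centralizer_iff.mp (hfix ⟨hAσ ha, ?_⟩) h hhR').symm
    rw [centralizer_zpowers]
    exact Subgroup.mem_centralizer_singleton_iff.mpr (Subgroup.mem_centralizer_iff.mp hxC a ha)
  -- `r ∈ τ₂(L)`
  have hrτ : r ∈ Cfsg.tau2 L := ⟨hr.out, hrL, by_contra fun h =>
    Sigma10.not_mem_alpha_of_not_mem_sigma hG hL hrL ⟨hr.out, h⟩, hrk'⟩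
  obtain ⟨B, hBR, hBe, hB2⟩ := exists_plane hrk' hR
  have hBL : B ≤ L := hBR.trans hR.1
  have hRc := sylow_comm hG hL hrτ hR
  have hxR : x ∈ R := pow_mem hhR' _
  have hxB : x ∈ B :=
    ((sylow_omega hG hL hrτ hBL hBe hB2 hR hBR).2 x hxR).mp (hxo ▸ pow_orderOf_eq_one x)
  obtain ⟨b, hb, hbx⟩ := exists_not_mem_zpowers hBe hB2 x
  set D := Cfsg.sigmaCore L ⊓ Subgroup.centralizer ({x} : Set G) with hDdef
  have hRx : R ≤ Subgroup.centralizer ({x} : Set G) := fun s hs =>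
    Subgroup.mem_centralizer_singleton_iff.mpr (mul_comm_of_mem hRc hs hxR)
  have hRD : R ≤ Subgroup.normalizer (D : Set G) :=
    CubeUnique.le_normalizer_inf (hR.1.trans (piCoreOf_normal _ _)) (hRx.trans Subgroup.le_normalizer)
  have hB0 : ∀ k ∈ D, b * k = k * b → k = 1 := by
    rintro k ⟨hk, hkx⟩ hbk
    refine Subgroup.mem_bot.mp ((sigmaCore_inf_centralizer_eq_bot hG hL hrL hBL hBe hB2).le ⟨hk, ?_⟩)
    exact inf_centralizer_pair_le hBe hB2 hxB hx1 hb hbx
      ⟨hkx, Subgroup.mem_centralizer_singleton_iff.mpr hbk.symm⟩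
  have hDnil : Group.IsNilpotent D := Frobenius.Thompson.isNilpotent_of_element _ (hRD (hBR hb)) hr.out
    (hBe.2 b hb) hB0
  have hAD : A ≤ D := le_inf hAσ fun a ha =>
    Subgroup.mem_centralizer_singleton_iff.mpr (Subgroup.mem_centralizer_iff.mp hxC a ha)
  have hAO : A ≤ opCore p D := le_opCore_of_le_fittingOf
    (hAD.trans (le_fittingOf le_rfl Subgroup.le_normalizer hDnil)) (isPGroup_of_elemAb hAe)
  have hOC := pgroup_le_centralizer hab (opCore_isPGroup p D) hAO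
  have hRA : R ≤ Subgroup.normalizer (A : Set G) := by
    intro s hs
    refine mem_normalizer_of_cj_eq (Subgroup.eq_of_le_of_card_ge ?_ (card_cj s _).ge)
    rintro _ ⟨w, hw, rfl⟩
    have hwO : s * w * s⁻¹ ∈ opCore p D :=
      (Subgroup.mem_normalizer_iff.mp (normalizer_le_normalizer_opCore p D (hRD hs)) w).mp (hAO hw)
    refine (omega hG hM ht hAM hAe hA2 _ (hOC hwO)).mp ?_
    rw [conj_pow, hAe.2 w hw, mul_one, mul_inv_cancel]
  have hbM : b ∉ M := fun hbM => not_pRankLE_subgroup_iff.mpr ⟨B, ((eq_sup_zpowers hBe hB2 hxB hx1 hb hbx).ge.trans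
    (sup_le (Subgroup.zpowers_le.mpr (hE.1 (pow_mem hh _))) (Subgroup.zpowers_le.mpr hbM))), hBe, hB2⟩ hrk
  -- the first power of `h` moving `A` whose `r`-th power does not
  obtain ⟨g, ⟨k, rfl⟩, hgA, hgr⟩ : ∃ g, (∃ k : ℕ, h ^ r ^ k = g) ∧ g ∉ Subgroup.centralizer (A : Set G) ∧
      g ^ r ∈ Subgroup.centralizer (A : Set G) := by
    classical
    have hex : ∃ k : ℕ, h ^ r ^ k ∈ Subgroup.centralizer (A : Set G) := ⟨n, hxC⟩
    have hpos : Nat.find hex ≠ 0 := fun h0 => hhA (by simpa [h0] using Nat.find_spec hex)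
    refine ⟨_, ⟨Nat.find hex - 1, rfl⟩, Nat.find_min hex (by omega), ?_⟩
    rw [← pow_mul, ← pow_succ, Nat.sub_add_cancel (Nat.pos_of_ne_zero hpos)]
    exact Nat.find_spec hex
  set g := h ^ r ^ k with hgdef
  have hgN : g ∈ Subgroup.normalizer (A : Set G) := hEA (pow_mem hh _)
  have hbN : b ∈ Subgroup.normalizer (A : Set G) := hRA (hBR hb)
  let _ : CommGroup A := { (inferInstance : Group A) with
    mul_comm := fun u v => Subtype.ext (elemAb_commute hAe u.2 v.2) }
  set φ := A.normalizerMonoidHom with hφ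
  have hval : ∀ (s : Subgroup.normalizer (A : Set G)) (v : A), ((φ s v : A) : G) = s * v * (s : G)⁻¹ :=
    fun s v => rfl
  have htriv : ∀ (s : Subgroup.normalizer (A : Set G)), (s : G) ∈ Subgroup.centralizer (A : Set G) → φ s = 1 :=
    fun s hs => MulEquiv.ext fun v => Subtype.ext (by
      rw [hval, MulAut.one_apply, ← Subgroup.mem_centralizer_iff.mp hs v v.2, mul_inv_cancel_right])
  have hA1 : ∀ v : A, v ^ r = 1 → v = 1 := fun v hv => orderOf_eq_one_iff.mp (Nat.eq_one_of_dvd_coprimes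
    ((Nat.coprime_primes hp.out hr.out).mpr hrp.symm)
    (orderOf_dvd_of_pow_eq_one (Subtype.ext (hAe.2 v v.2))) (orderOf_dvd_of_pow_eq_one hv))
  obtain ⟨a, ha, ha1⟩ := (Subgroup.bot_or_exists_ne_one A).resolve_left fun h =>
    not_isCyclic_plane hAe hA2 (by subst h; infer_instance)
  obtain ⟨j, v, hv1, hv⟩ := exists_fixed_of_pair (r := r) (φ ⟨g, hgN⟩) (φ ⟨b, hbN⟩)
    ((show Commute (⟨g, hgN⟩ : Subgroup.normalizer (A : Set G)) ⟨b, hbN⟩ from
      Subtype.ext (mul_comm_of_mem hRc (pow_mem hhR' _) (hBR hb))).map φ)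
    (by rw [← map_pow]; exact htriv _ hgr)
    (by rw [← map_pow]; exact htriv _ (by simp [hBe.2 b hb]))
    (fun v hv => Subtype.ext (hB0 v (hAD v.2) (mul_inv_eq_iff_eq_mul.mp (congrArg Subtype.val hv))))
    hA1 (v₀ := ⟨a, ha⟩) fun h => ha1 (congrArg Subtype.val h)
  rw [← map_pow, ← map_mul] at hv
  have hy : g * b ^ j ∈ Subgroup.normalizer (A : Set G) := mul_mem hgN (pow_mem hbN j)
  refine hcon _ hy (fun hyC => ?_) v v.2 (fun h => hv1 (Subtype.ext h))
    (mul_inv_eq_iff_eq_mul.mp (congrArg Subtype.val hv))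
  have hbjM : b ^ j ∈ M := (Subgroup.mul_mem_cancel_left _ (hE.1 (pow_mem hh _))).mp
    (centralizer_le hG hM hAM hAe hA2 hyC)
  by_cases hj : b ^ j = 1
  · exact hgA (by simpa [hj] using hyC)
  · exact hbM ((Subgroup.zpowers_le.mpr hbjM) (CubeUnique.zpowers_eq_of_mem
      (orderOf_mem hBe hb fun h => hbx (h ▸ Subgroup.one_mem _))
      (Subgroup.pow_mem _ (Subgroup.mem_zpowers b) j) hj))

include hG hM ht hab hE hAE hAe hA2 in
/-- A bad line invariant under a group of `τ₁(M) ∪ τ₃(M)`-elements. -/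
theorem exists_invariant_bad {H : Subgroup G} (hHE : H ≤ E)
    (hH : ∀ r : ℕ, r.Prime → r ∣ Nat.card H → r ≠ p ∧ Cfsg.PRankLE r 1 M)
    (hfpf : ∀ h ∈ H, h ≠ 1 → Cfsg.sigmaCore M ⊓ Subgroup.centralizer ({h} : Set G) = ⊥) :
    ∃ b ∈ A, b ≠ 1 ∧ H ≤ Subgroup.normalizer (Subgroup.zpowers b : Set G) ∧
      Cfsg.sigmaCore M ⊓ Subgroup.centralizer ({b} : Set G) = ⊥ := by
  have hAM := hAE.trans hE.1
  by_cases hHC : H ≤ Subgroup.centralizer (A : Set G)
  · obtain ⟨b, hb, hb1, hbad⟩ := exists_bad hG hM ht hAM hAe hA2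
    exact ⟨b, hb, hb1, (hHC.trans (Subgroup.centralizer_le (Subgroup.zpowers_le.mpr hb))).trans
      (centralizer_le_normalizer' _), hbad⟩
  obtain ⟨r, hrP, hd, S, hS, hSC⟩ : ∃ r, r.Prime ∧ r ∣ Nat.card H ∧ ∃ S : Subgroup G,
      SylowOf r S H ∧ ¬ S ≤ Subgroup.centralizer (A : Set G) := by
    by_contra hcon
    push Not at hcon
    refine hHC (le_of_sylows fun q hq hqd => ?_)
    have := Fact.mk hq
    obtain ⟨S, hS, -⟩ := exists_sylowOf_ge (p := q) (bot_le : (⊥ : Subgroup G) ≤ H) IsPGroup.of_bot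
    exact ⟨S, hS, hcon q hq hqd S hS⟩
  obtain ⟨h, hhS, hhC⟩ := SetLike.not_le_iff_exists.mp hSC
  have := Fact.mk hrP
  obtain ⟨y, hyN, hyC, c, hc, hc1, hyc⟩ := exists_fixing_of_moving hG hM ht hab hE hAE hAe hA2 (hH r hrP hd).1
    (hH r hrP hd).2 (hHE (hS.1 hhS)) (hS.2.1.to_le (Subgroup.zpowers_le.mpr hhS)) hhC
    fun k hk => hfpf _ (pow_mem (hS.1 hhS) k) hk
  set N := Subgroup.normalizer (A : Set G) with hN
  have hNtop : N ≠ ⊤ := minSimple_normalizer_ne_top hG (fun h => hc1 (Subgroup.mem_bot.mp (h ▸ hc)))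
    (minSimple_pgroup_ne_top hG (isPGroup_of_elemAb hAe))
  have hp2 : p ≠ 2 := minSimple_prime_ne_two hG (H := A) (hA2 ▸ dvd_pow_self p two_ne_zero)
  have hD : ⁅N, N⁆ ≤ Subgroup.centralizer (A : Set G) := by
    refine le_of_sylows fun q hq _ => ?_
    have := Fact.mk hq
    obtain ⟨T, hT, -⟩ := exists_sylowOf_ge (p := q) (bot_le : (⊥ : Subgroup G) ≤ ⁅N, N⁆) IsPGroup.of_bot
    refine ⟨T, hT, ?_⟩
    by_cases hqp : q = p
    · subst hqp
      exact le_sup_left.trans (pgroup_le_centralizer hab (IsPGroup.to_sup_of_normal_right' hT.2.1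
        (isPGroup_of_elemAb hAe) (hT.1.trans (Subgroup.commutator_le_self N))) le_sup_right)
    · intro z hz
      refine Subgroup.mem_centralizer_iff.mpr fun a ha => ?_
      obtain ⟨k, hk⟩ := hT.2.1.exists_card_eq
      refine (OddOrder41.rank_two_commutator_fixes hp2 A N (isPGroup_of_elemAb hAe) ?_ le_rfl
        (minSimple_solvable hG hNtop) (minSimple_odd hG N) z (hT.1 hz)
        ((Nat.Coprime.pow_left k ((Nat.coprime_primes hq hp.out).mpr hqp)).coprime_dvd_left
          (hk ▸ Subgroup.orderOf_dvd_natCard _ hz)) a ha).symm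
      exact fun V _ _ => (Subgroup.card_le_card_group V).trans_eq hA2
  have hfix : N ≤ Subgroup.normalizer (Subgroup.zpowers c : Set G) := fun g hg => by
    refine mem_normalizer_of_cj_eq (Subgroup.eq_of_le_of_card_ge ?_ (card_cj g _).ge)
    rw [Transitivity.cj, MonoidHom.map_zpowers, Subgroup.zpowers_le]
    change g * c * g⁻¹ ∈ Subgroup.zpowers c
    by_contra hn
    have hz : y⁻¹ * (g⁻¹ * y * g) ∈ Subgroup.centralizer (A : Set G) := hD (by
      rw [show y⁻¹ * (g⁻¹ * y * g) = ⁅y⁻¹, g⁻¹⁆ by rw [commutatorElement_def]; group]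
      exact Subgroup.commutator_mem_commutator (inv_mem hyN) (inv_mem hg))
    have h1 : Commute (g⁻¹ * y * g) c := by
      rw [show g⁻¹ * y * g = y * (y⁻¹ * (g⁻¹ * y * g)) by group]
      exact Commute.mul_left hyc (Subgroup.mem_centralizer_iff.mp hz c hc).symm
    exact hyC (inf_centralizer_pair_le hAe hA2 hc hc1 ((Subgroup.mem_normalizer_iff.mp hg c).mp hc) hn
      ⟨Subgroup.mem_centralizer_singleton_iff.mpr hyc, Subgroup.mem_centralizer_singleton_iff.mpr (by
        calc y * (g * c * g⁻¹) = g * ((g⁻¹ * y * g) * c) * g⁻¹ := by group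
          _ = g * (c * (g⁻¹ * y * g)) * g⁻¹ := by rw [h1.eq]
          _ = g * c * g⁻¹ * y := by group)⟩)
  refine ⟨c, hc, hc1, (hHE.trans (compl_le_normalizer hG hM ht hE hAE hAe hA2)).trans hfix, ?_⟩
  by_contra hgood
  obtain ⟨g, hg, hgM⟩ := exists_normalizer_plane_not_mem hG hM ht hAM hAe hA2
  have hgc : g * c * g⁻¹ ∈ Subgroup.zpowers c :=
    (Subgroup.mem_normalizer_iff.mp (hfix hg) c).mp (Subgroup.mem_zpowers c)
  exact hgood (le_bot_iff.mp (bad_of_good hG hM ht hAM hAe hA2 hg hgM hc hc1 hgood ▸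
    inf_le_inf_left _ (centralizer_le_of_mem_zpowers (orderOf_mem hAe ((Subgroup.mem_normalizer_iff.mp hg c).mp hc)
      fun h => hc1 (by simpa using h)) (CubeUnique.zpowers_eq_of_mem (orderOf_mem hAe hc hc1) hgc
        fun h => hc1 (by simpa using h)) hc1)))

end Moving

end CfsgLib.OddOrder.Sigma12
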