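import Mathlib
import Cfsg.Agent.Lib.OddOrder.Sigma12Regular

/-!
# The criterion for Frobenius type: a fixed point free element of largest order
-/

set_option autoImplicit false

namespace CfsgLib.OddOrder.Sigma12

open Subgroup CfsgLib.OddOrder CfsgLib.OddOrder.Transitivity CfsgLib.OddOrder.Sigma11
open scoped commutatorElement

universe u

variable {G : Type u} [Group G] [Finite G]

omit [Finite G] in
theorem orderOf_eq_of_powers {p : ℕ} [Fact p.Prime] {y : G} {N : ℕ} (h : y ^ p ^ (N + 1) = 1)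
    (h' : y ^ p ^ N ≠ 1) : orderOf y = p ^ (N + 1) :=
  orderOf_eq_prime_pow h' h

/-- An invariant cyclic subgroup over an invariant line of the `p ^ N`-th powers. -/
theorem exists_invariant_cyclic {p : ℕ} [hp : Fact p.Prime] {P H : Subgroup G} (hPc : IsMulCommutative P)
    (hn : H ≤ Subgroup.normalizer (P : Set G)) (hH : ¬ p ∣ Nat.card H) {N : ℕ}
    (hexp : ∀ z ∈ P, z ^ p ^ (N + 1) = 1) {x : G} (hx : x ∈ P) (hb : x ^ p ^ N ≠ 1)
    (hbn : H ≤ Subgroup.normalizer (Subgroup.zpowers (x ^ p ^ N) : Set G)) :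
    ∃ y ∈ P, orderOf y = p ^ (N + 1) ∧ H ≤ Subgroup.normalizer (Subgroup.zpowers y : Set G) ∧
      x ^ p ^ N ∈ Subgroup.zpowers y := by
  let _ : CommGroup P := { (inferInstance : Group P) with
    mul_comm := fun u v => Subtype.ext (mul_comm_of_mem hPc u.2 v.2) }
  set φ : H →* MulAut P := P.normalizerMonoidHom.comp (Subgroup.inclusion hn)
  have hval : ∀ (h : H) (v : P), ((φ h v : P) : G) = h * v * (h : G)⁻¹ := fun h v => rfl
  have hbo : orderOf (x ^ p ^ N) = p :=
    orderOf_eq_prime (by rw [← pow_mul, ← pow_succ]; exact hexp x hx) hb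
  set x' : P := ⟨x, hx⟩ with hx'
  obtain ⟨y, hy, hyx⟩ := exists_invariant_avg (p := p) φ (MonoidHom.id P) (fun h d hd => by
      rw [MonoidHom.id_apply] at hd ⊢; rw [hd, map_one])
    N (fun z => Subtype.ext (hexp z z.2)) x'
    (by rw [MonoidHom.id_apply, ← Subgroup.orderOf_coe]; simpa [hx'] using hbo)
    (fun h => by
      obtain ⟨i, hi : (x ^ p ^ N) ^ i = (h : G) * x ^ p ^ N * (h : G)⁻¹⟩ := mem_powers_iff_mem_zpowers.mpr
        ((Subgroup.mem_normalizer_iff.mp (hbn h.2) _).mp (Subgroup.mem_zpowers (x ^ p ^ N)))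
      refine ⟨i, Subtype.ext ?_⟩
      simp only [MonoidHom.id_apply, Subgroup.coe_pow, hval, conj_pow, hx']
      exact hi.symm)
  have hyG : (y : G) ^ p ^ N = (x ^ p ^ N) ^ Nat.card H := by
    have := congrArg Subtype.val hyx
    simpa [hx'] using this
  have hyb : (y : G) ^ p ^ N ≠ 1 := fun h => hH (hbo ▸ orderOf_dvd_of_pow_eq_one (hyG ▸ h))
  refine ⟨y, y.2, orderOf_eq_of_powers (hexp y y.2) hyb, fun h hh => ?_, ?_⟩
  · refine mem_normalizer_of_cj_eq (Subgroup.eq_of_le_of_card_ge ?_ (card_cj h _).ge)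
    rw [Transitivity.cj, MonoidHom.map_zpowers, Subgroup.zpowers_le]
    obtain ⟨i, hi : y ^ i = φ ⟨h, hh⟩ y⟩ := hy ⟨h, hh⟩
    exact ⟨i, by simpa [hval] using congrArg Subtype.val hi⟩
  · refine (Subgroup.zpowers_le.mpr (Subgroup.pow_mem _ (Subgroup.mem_zpowers (y : G)) (p ^ N)))
      (CubeUnique.zpowers_eq_of_mem hbo ?_ hyb)
    rw [hyG]
    exact Subgroup.pow_mem _ (Subgroup.mem_zpowers _) _

/-- Maschke in a plane. -/
theorem exists_invariant_compl_line {p : ℕ} [hp : Fact p.Prime] {A H : Subgroup G}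
    (hAe : Cfsg.IsElementaryAbelian p A) (hA2 : Nat.card A = p ^ 2)
    (hn : H ≤ Subgroup.normalizer (A : Set G)) (hH : ¬ p ∣ Nat.card H) {a : G} (ha : a ∈ A) (ha1 : a ≠ 1)
    (han : H ≤ Subgroup.normalizer (Subgroup.zpowers a : Set G)) :
    ∃ b ∈ A, b ∉ Subgroup.zpowers a ∧ H ≤ Subgroup.normalizer (Subgroup.zpowers b : Set G) := by
  let _ : CommGroup A := { (inferInstance : Group A) with
    mul_comm := fun u v => Subtype.ext (elemAb_commute hAe u.2 v.2) }
  set φ : H →* MulAut A := A.normalizerMonoidHom.comp (Subgroup.inclusion hn)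
  have hval : ∀ (h : H) (v : A), ((φ h v : A) : G) = h * v * (h : G)⁻¹ := fun h v => rfl
  set D : Subgroup A := Subgroup.zpowers ⟨a, ha⟩ with hD
  have hDmem : ∀ v : A, v ∈ D ↔ (v : G) ∈ Subgroup.zpowers a := fun v =>
    ⟨fun ⟨i, hi⟩ => ⟨i, by simpa using congrArg Subtype.val hi⟩,
      fun ⟨i, hi⟩ => ⟨i, Subtype.ext (by simpa using hi)⟩⟩
  obtain ⟨x, hx, hxa⟩ := exists_not_mem_zpowers hAe hA2 a
  set x' : A := ⟨x, hx⟩
  set f := QuotientGroup.mk' D with hf
  have hfx1 : f x' ≠ 1 := fun h => hxa ((hDmem x').mp ((QuotientGroup.eq_one_iff _).mp h))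
  have hfp : f x' ^ p = 1 := by
    rw [← map_pow, show x' ^ p = 1 from Subtype.ext (hAe.2 x hx), map_one]
  have hw : orderOf (f x' ^ p ^ 0) = p := by
    rw [pow_zero, pow_one]; exact orderOf_eq_prime hfp hfx1
  obtain ⟨y, hy, hyx⟩ := exists_invariant_avg (p := p) φ f (fun h d hd => by
      rw [hf, QuotientGroup.mk'_apply, QuotientGroup.eq_one_iff, hDmem] at hd ⊢
      rw [hval]
      exact (Subgroup.mem_normalizer_iff.mp (han h.2) _).mp hd)
    0 (fun z => Subtype.ext (by simpa using hAe.2 z z.2)) x' hw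
    (fun h => by
      obtain ⟨v, hv, w, hw', he⟩ := Coprime.exists_mul_of_mem_sup
        (H := Subgroup.zpowers x) (N := Subgroup.zpowers a) (x := ((φ h x' : A) : G))
        ((Subgroup.zpowers_le.mpr hx).trans (fun z hz => Subgroup.centralizer_le_normalizer _
          (Subgroup.mem_centralizer_iff.mpr fun q hq =>
            elemAb_commute hAe ((Subgroup.zpowers_le.mpr ha) hq) hz)))
        (by rw [sup_comm]; exact (eq_sup_zpowers hAe hA2 ha ha1 hx hxa).ge (φ h x').2)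
      obtain ⟨i, hi : x ^ i = v⟩ := mem_powers_iff_mem_zpowers.mpr hv
      refine ⟨i, ?_⟩
      rw [pow_zero, pow_one, pow_one, ← map_pow, hf, QuotientGroup.mk'_apply, QuotientGroup.mk'_apply,
        QuotientGroup.eq, hDmem]
      have h1 : ((φ h x' : A) : G)⁻¹ * x ^ i = w⁻¹ := by rw [he, hi, mul_inv_rev, inv_mul_cancel_right]
      rw [Subgroup.coe_mul, Subgroup.coe_inv, Subgroup.coe_pow, h1]
      exact inv_mem hw')
  simp only [pow_zero, pow_one] at hyx
  have hy1 : (y : G) ∉ Subgroup.zpowers a := fun h => hH (by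
    rw [show f y = 1 from (QuotientGroup.eq_one_iff _).mpr ((hDmem y).mpr h)] at hyx
    rw [← orderOf_eq_prime hfp hfx1]
    exact orderOf_dvd_of_pow_eq_one hyx.symm)
  refine ⟨y, y.2, hy1, fun h hh => mem_normalizer_of_cj_eq (Subgroup.eq_of_le_of_card_ge ?_ (card_cj h _).ge)⟩
  rw [Transitivity.cj, MonoidHom.map_zpowers, Subgroup.zpowers_le]
  obtain ⟨i, hi : y ^ i = φ ⟨h, hh⟩ y⟩ := hy ⟨h, hh⟩
  exact ⟨i, by simpa [hval] using congrArg Subtype.val hi⟩

variable {p : ℕ} [hp : Fact p.Prime] (hG : Cfsg.IsMinSimpleOddOrder G) {M : Subgroup G} (hM : IsCoatom M)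
  (ht : p ∈ Cfsg.tau2 M) {E : Subgroup G} (hE : Cfsg.IsComplIn E (Cfsg.sigmaCore M) M)

include hG hM ht hE in
/-- An element of largest order in a Sylow subgroup, spanning an invariant fixed point free subgroup. -/
theorem exists_free_generator {P H : Subgroup G} (hP : SylowOf p P E) (hHE : H ≤ E)
    (hHP : H ≤ Subgroup.normalizer (P : Set G))
    (hH : ∀ r : ℕ, r.Prime → r ∣ Nat.card H → r ≠ p ∧ Cfsg.PRankLE r 1 M)
    (hfpf : ∀ h ∈ H, h ≠ 1 → Cfsg.sigmaCore M ⊓ Subgroup.centralizer ({h} : Set G) = ⊥) :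
    ∃ y ∈ P, (∀ z ∈ P, orderOf z ∣ orderOf y) ∧ H ≤ Subgroup.normalizer (Subgroup.zpowers y : Set G) ∧
      ∀ z ∈ Subgroup.zpowers y, z ≠ 1 → Cfsg.sigmaCore M ⊓ Subgroup.centralizer ({z} : Set G) = ⊥ := by
  have hPM := sylowOf_compl hE ht.2.1 hP
  obtain ⟨A, hAP, hAe, hA2⟩ := exists_plane ht.2.2.2 hPM
  have hAE := hAP.trans hP.1
  have hAM := hAE.trans hE.1
  have hpH : ¬ p ∣ Nat.card H := fun h => (hH p hp.out h).1 rfl
  obtain ⟨hPc, hΩ⟩ := sylow_omega hG hM ht hAM hAe hA2 hPM hAP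
  have hAn := hHE.trans (compl_le_normalizer hG hM ht hE hAE hAe hA2)
  -- the exponent
  have hex : ∃ k, ∀ z ∈ P, z ^ p ^ k = 1 := by
    obtain ⟨k, hk⟩ := hP.2.1.exists_card_eq
    exact ⟨k, fun z hz => orderOf_dvd_iff_pow_eq_one.mp (hk ▸ Subgroup.orderOf_dvd_natCard P hz)⟩
  obtain ⟨N, hexp, ⟨x, hx, hxb⟩⟩ : ∃ N, (∀ z ∈ P, z ^ p ^ (N + 1) = 1) ∧ ∃ x ∈ P, x ^ p ^ N ≠ 1 := by
    classical
    have hne : Nat.find hex ≠ 0 := fun h0 => by
      have hspec := Nat.find_spec hex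
      simp only [h0, pow_zero, pow_one] at hspec
      have hAb : A = ⊥ := (Subgroup.eq_bot_iff_forall A).mpr fun a ha => hspec a (hAP ha)
      exact not_isCyclic_plane hAe hA2 (by subst hAb; infer_instance)
    refine ⟨Nat.find hex - 1, by rw [Nat.sub_add_cancel (Nat.pos_of_ne_zero hne)]; exact Nat.find_spec hex, ?_⟩
    by_contra hcon
    push Not at hcon
    exact Nat.find_min hex (by omega : Nat.find hex - 1 < Nat.find hex) hcon
  have hpowA : ∀ z ∈ P, z ^ p ^ N ∈ A := fun z hz =>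
    (hΩ _ (pow_mem hz _)).mp (by rw [← pow_mul, ← pow_succ]; exact hexp z hz)
  -- a bad invariant line of `p ^ N`-th powers
  obtain ⟨x, hx, hxb, hxn, hbad⟩ : ∃ x ∈ P, x ^ p ^ N ≠ 1 ∧
      H ≤ Subgroup.normalizer (Subgroup.zpowers (x ^ p ^ N) : Set G) ∧
      Cfsg.sigmaCore M ⊓ Subgroup.centralizer ({x ^ p ^ N} : Set G) = ⊥ := by
    set w := x ^ p ^ N with hw
    have hwA : w ∈ A := hpowA x hx
    by_cases hall : ∀ z ∈ P, z ^ p ^ N ∈ Subgroup.zpowers w
    · have hnP : Subgroup.normalizer (P : Set G) ≤ Subgroup.normalizer (Subgroup.zpowers w : Set G) := by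
        intro g hg
        refine mem_normalizer_of_cj_eq (Subgroup.eq_of_le_of_card_ge ?_ (card_cj g _).ge)
        rw [Transitivity.cj, MonoidHom.map_zpowers, Subgroup.zpowers_le]
        change g * x ^ p ^ N * g⁻¹ ∈ Subgroup.zpowers w
        rw [← conj_pow]
        exact hall _ ((Subgroup.mem_normalizer_iff.mp hg x).mp hx)
      refine ⟨x, hx, hxb, hHP.trans hnP, ?_⟩
      by_contra hgood
      rcases sylow_comm_or (G := G) p with hab | hS
      · obtain ⟨g, hg, hgM⟩ := exists_normalizer_not_mem ht hPM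
        have hg1 : g * w * g⁻¹ ≠ 1 := fun h => hxb (by simpa [hw] using h)
        have hgw : g * w * g⁻¹ ∈ Subgroup.zpowers w :=
          (Subgroup.mem_normalizer_iff.mp (hnP hg) w).mp (Subgroup.mem_zpowers w)
        have hgA := normalizer_sylow_le hG hM ht hAM hAe hA2 hPM hAP hg
        exact hgood (le_bot_iff.mp (bad_of_good hG hM ht hAM hAe hA2 hgA hgM hwA hxb hgood ▸
          inf_le_inf_left _ (centralizer_le_of_mem_zpowers
            (orderOf_mem hAe ((Subgroup.mem_normalizer_iff.mp hgA w).mp hwA) hg1)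
            (CubeUnique.zpowers_eq_of_mem (orderOf_mem hAe hwA hxb) hgw hg1) hxb)))
      · obtain ⟨a, ha, ha1, -, hbad, hroot⟩ := good_line hG hM ht hS hAM hAe hA2 hPM hAP
        have hwa : w ∈ Subgroup.zpowers a := by_contra fun h => hgood (hbad w hwA h).1
        rcases N with - | N
        · obtain ⟨b, hb, hbw⟩ := exists_not_mem_zpowers hAe hA2 w
          exact hbw (by simpa using hall b (hAP hb))
        · obtain ⟨i, hi : w ^ i = a⟩ :=
            CubeUnique.zpowers_eq_of_mem (orderOf_mem hAe ha ha1) hwa hxb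
          refine hroot ((x ^ p ^ N) ^ i) (zpow_mem (pow_mem hx _) i) ?_
          rw [← hi, hw, ← zpow_natCast, ← zpow_mul, mul_comm, zpow_mul, zpow_natCast, ← pow_mul, ← pow_succ]
    · push Not at hall
      obtain ⟨z, hz, hzw⟩ := hall
      have hsurj : ∀ a ∈ A, ∃ v ∈ P, v ^ p ^ N = a := by
        intro a ha
        obtain ⟨u, ⟨i, hi : (x ^ p ^ N) ^ i = u⟩, v, ⟨j, hj : (z ^ p ^ N) ^ j = v⟩, rfl⟩ :=
          Coprime.exists_mul_of_mem_sup (H := Subgroup.zpowers w) (N := Subgroup.zpowers (z ^ p ^ N)) (x := a)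
            ((Subgroup.zpowers_le.mpr hwA).trans (fun q hq => Subgroup.centralizer_le_normalizer _
              (Subgroup.mem_centralizer_iff.mpr fun v hv =>
                elemAb_commute hAe ((Subgroup.zpowers_le.mpr (hpowA z hz)) hv) hq)))
            ((eq_sup_zpowers hAe hA2 hwA hxb (hpowA z hz) hzw).ge ha)
        refine ⟨x ^ i * z ^ j, mul_mem (zpow_mem hx i) (zpow_mem hz j), ?_⟩
        rw [(show Commute (x ^ i) (z ^ j) from mul_comm_of_mem hPc (zpow_mem hx i) (zpow_mem hz j)).mul_pow,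
          ← hi, ← hj, ← zpow_natCast (x ^ i), ← zpow_mul, mul_comm i, zpow_mul, zpow_natCast,
          ← zpow_natCast (z ^ j), ← zpow_mul, mul_comm j, zpow_mul, zpow_natCast]
      suffices ∃ b ∈ A, b ≠ 1 ∧ H ≤ Subgroup.normalizer (Subgroup.zpowers b : Set G) ∧
          Cfsg.sigmaCore M ⊓ Subgroup.centralizer ({b} : Set G) = ⊥ by
        obtain ⟨b, hb, hb1, hbn, hbbad⟩ := this
        obtain ⟨v, hv, rfl⟩ := hsurj b hb
        exact ⟨v, hv, hb1, hbn, hbbad⟩
      rcases sylow_comm_or (G := G) p with hab | hS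
      · exact exists_invariant_bad hG hM ht hab hE hAE hAe hA2 hHE hH hfpf
      · obtain ⟨a, ha, ha1, hσa, hbad, -⟩ := good_line hG hM ht hS hAM hAe hA2 hPM hAP
        have han : H ≤ Subgroup.normalizer (Subgroup.zpowers a : Set G) := by
          intro h hh
          refine mem_normalizer_of_cj_eq (Subgroup.eq_of_le_of_card_ge ?_ (card_cj h _).ge)
          rw [Transitivity.cj, MonoidHom.map_zpowers, Subgroup.zpowers_le]
          change h * a * h⁻¹ ∈ Subgroup.zpowers a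
          by_contra hn
          refine sigma_inf_centralizer_conj (hE.1 (hHE hh)) ?_
            (hbad _ ((Subgroup.mem_normalizer_iff.mp (hAn hh) a).mp ha) hn).1
          rw [inf_eq_left.mpr hσa]
          exact Sigma15.sigmaCore_ne_bot hG hM
        obtain ⟨b, hb, hba, hbn⟩ := exists_invariant_compl_line hAe hA2 hAn hpH ha ha1 han
        exact ⟨b, hb, fun h => hba (h ▸ Subgroup.one_mem _), hbn, (hbad b hb hba).1⟩
  obtain ⟨y, hy, hyo, hyn, hby⟩ := exists_invariant_cyclic hPc hHP hpH hexp hx hxb hxn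
  refine ⟨y, hy, fun z hz => hyo ▸ orderOf_dvd_of_pow_eq_one (hexp z hz), hyn, fun z hz hz1 => ?_⟩
  by_contra hgood
  obtain ⟨n, -, hno⟩ := exists_pow_orderOf
    ((hP.2.1.to_le (Subgroup.zpowers_le.mpr hy)).to_le (Subgroup.zpowers_le.mpr hz)) hz1
  have hbo : orderOf (x ^ p ^ N) = p := orderOf_mem hAe (hpowA x hx) hxb
  have hmem := zpowers_eq_of_cyclic (inferInstance : IsCyclic (Subgroup.zpowers y)) hby hbo
    (pow_mem hz (p ^ n)) (orderOf_dvd_iff_pow_eq_one.mp hno.dvd)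
  refine sigma_fixed_of_pow (p ^ n) hgood (le_bot_iff.mp (hbad ▸ inf_le_inf_left _ ?_))
  exact centralizer_le_of_mem_zpowers hbo hmem fun h => hp.out.ne_one (by rw [← hno, h, orderOf_one])

end CfsgLib.OddOrder.Sigma12
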