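import Mathlib
import Cfsg.Agent.Lib.OddOrder.Sigma12RegularTorus

/-!
# BG 12.15-style conclusion: the criterion for Frobenius type
-/

set_option autoImplicit false

namespace CfsgLib.OddOrder.Sigma12

open Subgroup CfsgLib.OddOrder CfsgLib.OddOrder.Transitivity CfsgLib.OddOrder.Sigma11
open scoped commutatorElement

universe u

variable {G : Type u} [Group G] [Finite G] (hG : Cfsg.IsMinSimpleOddOrder G) {M : Subgroup G}
  (hM : IsCoatom M) {E : Subgroup G} (hE : Cfsg.IsComplIn E (Cfsg.sigmaCore M) M)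

include hG hM hE in
theorem tau_cases {r : ℕ} (hr : r.Prime) (hd : r ∣ Nat.card E) (h2 : r ∉ Cfsg.tau2 M) :
    Cfsg.PRankLE r 1 M ∧ r ∈ Cfsg.tau1 M ∪ Cfsg.tau3 M := by
  have := Fact.mk hr
  have hσ := Sigma10.not_mem_sigma_of_dvd_compl hG hM hE hr hd
  have h1 : Cfsg.PRankLE r 1 M := by_contra fun h => h2 ⟨hr, hσ, by_contra fun h' =>
    Sigma10.not_mem_alpha_of_not_mem_sigma hG hM hσ ⟨hr, h'⟩, h⟩
  refine ⟨h1, ?_⟩
  by_cases hd' : r ∣ Nat.card ↥⁅M, M⁆
  · exact Or.inr ⟨hr, hσ, hd', h1⟩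
  · exact Or.inl ⟨hr, hσ, hd.trans (Subgroup.card_dvd_of_le hE.1), hd', h1⟩

section Criterion

variable (hfree : ∀ e ∈ E, e ≠ 1 → (∀ p : ℕ, p.Prime → p ∣ orderOf e → p ∈ Cfsg.tau1 M ∪ Cfsg.tau3 M) →
  Cfsg.sigmaCore M ⊓ Subgroup.centralizer ({e} : Set G) = ⊥)

include hG hM hE hfree in
theorem free_of_no_tau2 {e : G} (he : e ∈ E) (he1 : e ≠ 1)
    (h : ∀ r : ℕ, r.Prime → r ∣ orderOf e → r ∉ Cfsg.tau2 M) :
    Cfsg.sigmaCore M ⊓ Subgroup.centralizer ({e} : Set G) = ⊥ :=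
  hfree e he he1 fun r hr hd =>
    (tau_cases hG hM hE hr (hd.trans (Subgroup.orderOf_dvd_natCard E he)) (h r hr hd)).2

include hG hM hE hfree in
/-- The first half: `A₀ = F(E)`. -/
theorem inf_centralizer_le_fittingOf {x : G} (hx : x ∈ Cfsg.sigmaCore M) (hx1 : x ≠ 1) :
    E ⊓ Subgroup.centralizer ({x} : Set G) ≤ Cfsg.fittingOf E := by
  refine le_of_sylows fun r hr _ => ?_
  have := Fact.mk hr
  obtain ⟨S, hS, -⟩ := exists_sylowOf_ge (p := r)
    (bot_le : (⊥ : Subgroup G) ≤ E ⊓ Subgroup.centralizer ({x} : Set G)) IsPGroup.of_bot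
  refine ⟨S, hS, fun y hy => ?_⟩
  have hyE : y ∈ E := (hS.1 hy).1
  have hyx : y * x = x * y := Subgroup.mem_centralizer_singleton_iff.mp (hS.1 hy).2
  by_cases h2 : r ∈ Cfsg.tau2 M
  · exact mem_fittingOf_of_fixed hG hM h2 hE hyE (hS.2.1.to_le (Subgroup.zpowers_le.mpr hy))
      fun h => hx1 (eq_one_of_sigma_fixed h hx hyx)
  · by_cases hy1 : y = 1
    · rw [hy1]; exact Subgroup.one_mem _
    refine absurd (eq_one_of_sigma_fixed (free_of_no_tau2 hG hM hE hfree hyE hy1 fun q hq hd => ?_) hx hyx) hx1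
    obtain ⟨k, hk⟩ := hS.2.1.exists_card_eq
    rw [(Nat.prime_dvd_prime_iff_eq hq hr).mp
      (hq.dvd_of_dvd_pow (hd.trans (hk ▸ Subgroup.orderOf_dvd_natCard S hy)))]
    exact h2

omit [Finite G] in
theorem cj_iSup {ι : Sort*} (g : G) (f : ι → Subgroup G) : cj g (⨆ i, f i) = ⨆ i, cj g (f i) :=
  Subgroup.map_iSup _ f

include hG hM hE in
/-- An abelian Hall `τ₂(M)`-subgroup of `E` whose join with `F(E)` is normal. -/
theorem exists_tau2_hall : ∃ X : Subgroup G, Cfsg.IsPiHallOf (Cfsg.tau2 M) X E ∧ IsMulCommutative X ∧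
    E ≤ Subgroup.normalizer ((Cfsg.fittingOf E ⊔ X : Subgroup G) : Set G) := by
  have hEtop : E ≠ ⊤ := fun h => hM.1 (top_le_iff.mp (h ▸ hE.1))
  have : Group.IsSolvable E := minSimple_solvable hG hEtop
  obtain ⟨X', hX'⟩ := Hall.exists_isPiHall (G := E) (Cfsg.tau2 M)
  set X := X'.map E.subtype with hXdef
  have hXE : X ≤ E := Subgroup.map_subtype_le _
  have hXc : Nat.card X = Nat.card X' := Subgroup.card_map_of_injective E.subtype_injective
  have hXi : X.relIndex E = X'.index := by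
    rw [hXdef, Subgroup.relIndex, Subgroup.subgroupOf, Subgroup.comap_map_eq_self_of_injective E.subtype_injective]
  have hX : Cfsg.IsPiHallOf (Cfsg.tau2 M) X E :=
    ⟨hXE, fun r hr hd => hX'.1 r hr (hXc ▸ hd), fun r hr hrt hd => hX'.2 r hr hrt (hXi ▸ hd)⟩
  have hσ : ∀ {Y : Subgroup G}, Y ≤ E → ∀ r : ℕ, r.Prime → r ∣ Nat.card Y → r ∉ Cfsg.sigma M :=
    fun hY r hr hd => Sigma10.not_mem_sigma_of_dvd_compl hG hM hE hr (hd.trans (Subgroup.card_dvd_of_le hY))
  have hE'F : ⁅E, E⁆ ≤ Cfsg.fittingOf E := le_fittingOf (Subgroup.commutator_le_self E)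
    (le_normalizer_derived E) (by
      let _ : CommGroup ↥⁅E, E⁆ := { (inferInstance : Group ↥⁅E, E⁆) with
        mul_comm := fun a b => Subtype.ext (mul_comm_of_mem (compl_derived_comm hG hM hE) a.2 b.2) }
      infer_instance)
  refine ⟨X, hX, ?_, fun e he => ?_⟩
  · by_cases hall : ∀ r ∈ Cfsg.tau2 M, ∀ [Fact r.Prime], ∀ S : Sylow r G, IsMulCommutative (S : Subgroup G)
    · have hXF : X ≤ Cfsg.fittingOf E := by
        refine le_of_sylows fun r hr hd => ?_
        have := Fact.mk hr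
        obtain ⟨S, hS, -⟩ := exists_sylowOf_ge (p := r) (bot_le : (⊥ : Subgroup G) ≤ X) IsPGroup.of_bot
        refine ⟨S, hS, ?_⟩
        have hrt : r ∈ Cfsg.tau2 M := hX.2.1 r hr hd
        obtain ⟨R, hR, hSR⟩ := exists_sylowOf_ge (hS.1.trans hXE) hS.2.1
        obtain ⟨A, hAR, hAe, hA2⟩ := exists_plane hrt.2.2.2 (sylowOf_compl hE hrt.2.1 hR)
        exact hSR.trans (sylow_le_fittingOf hG hM hrt (hall r hrt) hAe hA2 hE (hAR.trans hR.1) hR hAR)
      have hF := nilpotent_comm hG hM ((fittingOf_le E).trans hE.1) (fittingOf_isNilpotent E)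
        (hσ (fittingOf_le E))
      exact ⟨⟨fun a b => Subtype.ext (mul_comm_of_mem hF (hXF a.2) (hXF b.2))⟩⟩
    · push Not at hall
      obtain ⟨r, hrt, hrF, S, hS⟩ := hall
      have hnS := (sylow_comm_or (G := G) r).resolve_left fun h => hS (h S)
      obtain ⟨R, hR, -⟩ := exists_sylowOf_ge (p := r) (bot_le : (⊥ : Subgroup G) ≤ E) IsPGroup.of_bot
      obtain ⟨A, hAR, hAe, hA2⟩ := exists_plane hrt.2.2.2 (sylowOf_compl hE hrt.2.1 hR)
      have hτ := (nonabelian_structure hG hM hrt hnS hE (hAR.trans hR.1) hAe hA2).1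
      refine pgroup_comm_of_not_mem_sigma hG hM (p := r) hrt.2.1 (hXE.trans hE.1) ?_
      refine IsPGroup.of_card (n := (Nat.card X).primeFactorsList.length)
        (Nat.eq_prime_pow_of_unique_prime_dvd Nat.card_pos.ne' fun {q} hq hd => ?_)
      have := hX.2.1 q hq hd
      rw [hτ] at this
      exact this
  · refine mem_normalizer_of_cj_eq (Subgroup.eq_of_le_of_card_ge ?_ (card_cj e _).ge)
    rintro _ ⟨w, hw, rfl⟩
    have hwE : w ∈ E := sup_le (fittingOf_le E) hXE hw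
    have h : e * w * e⁻¹ * w⁻¹ ∈ Cfsg.fittingOf E := hE'F (Subgroup.commutator_mem_commutator he hwE)
    change e * w * e⁻¹ ∈ Cfsg.fittingOf E ⊔ X
    rw [show e * w * e⁻¹ = e * w * e⁻¹ * w⁻¹ * w by group]
    exact mul_mem ((le_sup_left : Cfsg.fittingOf E ≤ _) h) hw

include hG hM hE hfree in
/-- The second half: a subgroup of the same exponent acting without fixed points. -/
theorem exists_free_subgroup : ∃ E₀ : Subgroup G, E₀ ≤ E ∧ Monoid.exponent E₀ = Monoid.exponent E ∧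
    ∀ e ∈ E₀, e ≠ 1 → Cfsg.sigmaCore M ⊓ Subgroup.centralizer ({e} : Set G) = ⊥ := by
  classical
  have hEtop : E ≠ ⊤ := fun h => hM.1 (top_le_iff.mp (h ▸ hE.1))
  have hEs : Group.IsSolvable E := minSimple_solvable hG hEtop
  set π : Set ℕ := {r | r ∉ Cfsg.tau2 M} with hπ
  obtain ⟨X, hX, hXc, hFXn⟩ := exists_tau2_hall hG hM hE
  set F := Cfsg.fittingOf E with hFdef
  have hFE : F ≤ E := fittingOf_le E
  set F₁ := Cfsg.piCoreOf π F with hF₁def
  have hF₁F : F₁ ≤ F := piCoreOf_le _ _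
  have hF₁n : E ≤ Subgroup.normalizer (F₁ : Set G) :=
    (fittingOf_normal E).trans (Transitivity.normalizer_le_normalizer_piCoreOf π F)
  set N := E ⊓ Subgroup.normalizer (X : Set G) with hNdef
  have hNE : N ≤ E := inf_le_left
  have hXN : X ≤ N := le_inf hX.1 Subgroup.le_normalizer
  -- `F(E)` is a product of its `τ₂`- and `τ₂'`-parts, the first inside `X`
  have hFn : Group.IsNilpotent F := fittingOf_isNilpotent E
  have hFX : F ≤ F₁ ⊔ X := by
    refine le_of_sylows fun r hr _ => ?_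
    have := Fact.mk hr
    obtain ⟨S, hS, -⟩ := exists_sylowOf_ge (p := r) (bot_le : (⊥ : Subgroup G) ≤ F) IsPGroup.of_bot
    refine ⟨S, hS, ?_⟩
    have hSO : S ≤ opCore r E := le_opCore_of_le_fittingOf hS.1 hS.2.1
    obtain ⟨k, hk⟩ := (opCore_isPGroup r E).exists_card_eq
    have hpi : ∀ {τ : Set ℕ}, r ∈ τ → PiNat τ (Nat.card (opCore r E)) := fun hrτ q hq hd => by
      rwa [(Nat.prime_dvd_prime_iff_eq hq hr).mp (hq.dvd_of_dvd_pow (hk ▸ hd))]
    by_cases hrt : r ∈ Cfsg.tau2 M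
    · exact hSO.trans ((le_of_isPiHallOf hX (opCore_le r E) (opCore_normal r E) (hpi hrt)).trans le_sup_right)
    · exact hSO.trans ((le_piCoreOf (opCore_le_fittingOf hr E) (hFE.trans (opCore_normal r E))
        (hpi (τ := π) hrt)).trans le_sup_left)
  -- the Frattini argument
  have hEN : E ≤ F₁ ⊔ N := by
    intro e he
    set L := F ⊔ X with hL
    have hLE : L ≤ E := sup_le hFE hX.1
    have : Group.IsSolvable L :=
      minSimple_solvable hG fun h => hM.1 (top_le_iff.mp (h ▸ hLE.trans hE.1))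
    have hY : cj e X ≤ L :=
      (cj_mono le_sup_right).trans (cj_eq_of_mem_normalizer (hFXn he)).le
    obtain ⟨d, hd, hdX⟩ := OddOrder41.exists_conj_into (π := Cfsg.tau2 M) (L := L) (le_sup_right : X ≤ L)
      (fun r hr hrt hdv => hX.2.2 r hr hrt (hdv.trans (Dvd.intro (L.relIndex E)
        (Subgroup.relIndex_mul_relIndex X L E le_sup_right hLE)))) hY
      fun r hr hdv => hX.2.1 r hr (card_cj e X ▸ hdv)
    rw [cj_mul] at hdX
    have hde : d * e ∈ N := ⟨mul_mem (hLE hd) he,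
      mem_normalizer_of_cj_eq (Subgroup.eq_of_le_of_card_ge hdX (card_cj _ X).ge)⟩
    rw [show e = d⁻¹ * (d * e) by group]
    exact mul_mem ((sup_le (hFX.trans (sup_le le_sup_left (hXN.trans le_sup_right)))
      (hXN.trans le_sup_right) : L ≤ F₁ ⊔ N) (inv_mem hd)) ((le_sup_right : N ≤ F₁ ⊔ N) hde)
  -- the Hall `τ₂'`-subgroup
  have : Group.IsSolvable N := minSimple_solvable hG fun h => hM.1 (top_le_iff.mp (h ▸ hNE.trans hE.1))
  obtain ⟨H', hH'⟩ := Hall.exists_isPiHall (G := N) π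
  set H := H'.map N.subtype with hHdef
  have hHN : H ≤ N := Subgroup.map_subtype_le _
  have hHE : H ≤ E := hHN.trans hNE
  have hH : Cfsg.IsPiHallOf π H N := by
    refine ⟨hHN, fun r hr hd => hH'.1 r hr (by
      rwa [hHdef, Subgroup.card_map_of_injective N.subtype_injective] at hd), fun r hr hrπ hd => hH'.2 r hr hrπ ?_⟩
    rwa [hHdef, Subgroup.relIndex, Subgroup.subgroupOf,
      Subgroup.comap_map_eq_self_of_injective N.subtype_injective] at hd
  set K := F₁ ⊔ H with hKdef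
  have hKE : K ≤ E := sup_le (hF₁F.trans hFE) hHE
  have hKπ : ∀ r : ℕ, r.Prime → r ∣ Nat.card K → r ∈ π := fun r hr hd => by
    rcases hr.dvd_mul.mp (hd.trans (sup_comm H F₁ ▸ Coprime.card_sup_dvd (hHE.trans hF₁n))) with h | h
    · exact hH.2.1 r hr h
    · exact piNat_card_piCoreOf π F r hr h
  have hKidx : ∀ r : ℕ, r.Prime → r ∈ π → ¬ r ∣ K.relIndex E := by
    intro r hr hrπ hd
    refine hH.2.2 r hr hrπ (hd.trans ?_)
    have hint : H ⊓ F₁ = N ⊓ F₁ := le_antisymm (inf_le_inf_right _ hHN) (le_inf (le_of_isPiHallOf hH inf_le_left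
      (CubeUnique.le_normalizer_inf Subgroup.le_normalizer (hNE.trans hF₁n))
      ((piNat_card_piCoreOf π F).dvd (Subgroup.card_dvd_of_le inf_le_right))) inf_le_right)
    have h1 := Coprime.card_sup_mul_card_inf (hHE.trans hF₁n)
    have h2 := Coprime.card_sup_mul_card_inf (hNE.trans hF₁n)
    rw [show H ⊔ F₁ = K from sup_comm _ _] at h1
    rw [show N ⊔ F₁ = E from le_antisymm (sup_le hNE (hF₁F.trans hFE)) (sup_comm N F₁ ▸ hEN)] at h2
    rw [← card_mul_relIndex_of_le hHN, ← card_mul_relIndex_of_le hKE] at h2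
    refine dvd_of_eq (Nat.eq_of_mul_eq_mul_left
      (mul_pos (Nat.card_pos (α := ↥H)) (Nat.card_pos (α := ↥F₁))) ?_)
    calc Nat.card H * Nat.card F₁ * K.relIndex E
        = Nat.card K * K.relIndex E * Nat.card ↥(F₁ ⊓ H) := by rw [← h1]; ring
      _ = Nat.card H * H.relIndex N * Nat.card F₁ := by rw [inf_comm F₁ H, hint, inf_comm N F₁, h2]
      _ = Nat.card H * Nat.card F₁ * H.relIndex N := by ring
  -- the cyclic subgroups for the primes in `τ₂`
  have hgen : ∀ q : {q : ℕ // q ∈ Cfsg.tau2 M}, ∃ y : G, ∃ P : Subgroup G, SylowOf q.1 P E ∧ P ≤ X ∧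
      y ∈ P ∧ (∀ z ∈ P, orderOf z ∣ orderOf y) ∧ H ≤ Subgroup.normalizer (Subgroup.zpowers y : Set G) ∧
      ∀ z ∈ Subgroup.zpowers y, z ≠ 1 → Cfsg.sigmaCore M ⊓ Subgroup.centralizer ({z} : Set G) = ⊥ := by
    rintro ⟨q, hq⟩
    have := Fact.mk hq.1
    obtain ⟨P, hP, -⟩ := exists_sylowOf_ge (p := q) (bot_le : (⊥ : Subgroup G) ≤ X) IsPGroup.of_bot
    have hPE : SylowOf q P E := sylowOf_of_card_dvd hP hX.1 (m := X.relIndex E)
      (card_mul_relIndex_of_le hX.1).symm.dvd (hX.2.2 q hq.1 hq)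
    have hPO : P = opCore q X := by
      refine le_antisymm (le_opCore hP.1 (fun x hx => ?_) hP.2.1) ?_
      · exact Subgroup.centralizer_le_normalizer _
          (Subgroup.mem_centralizer_iff.mpr fun w hw => mul_comm_of_mem hXc (hP.1 hw) hx)
      · have h1 : IsPGroup q ↥(P ⊔ opCore q X) :=
          IsPGroup.to_sup_of_normal_right' hP.2.1 (opCore_isPGroup q X) (hP.1.trans (opCore_normal q X))
        exact le_sup_right.trans (hP.2.2 _ (sup_le hP.1 (opCore_le q X)) h1 le_sup_left).le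
    have hHP : H ≤ Subgroup.normalizer (P : Set G) := by
      rw [hPO]
      exact (hHN.trans inf_le_right).trans (normalizer_le_normalizer_opCore q X)
    obtain ⟨y, hy, hmax, hn, hbad⟩ := exists_free_generator hG hM hq hE hPE hHE hHP
      (fun r hr hd => ⟨fun h => hH.2.1 r hr hd (h ▸ hq),
        (tau_cases hG hM hE hr (hd.trans (Subgroup.card_dvd_of_le hHE)) (hH.2.1 r hr hd)).1⟩)
      fun h hh h1 => free_of_no_tau2 hG hM hE hfree (hHE hh) h1 fun r hr hd =>
        hH.2.1 r hr (hd.trans (Subgroup.orderOf_dvd_natCard H hh))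
    exact ⟨y, P, hPE, hP.1, hy, hmax, hn, hbad⟩
  choose y P hPE hPX hyP hmax hyn hybad using hgen
  set Q := ⨆ q, Subgroup.zpowers (y q) with hQdef
  have hQX : Q ≤ X := iSup_le fun q => Subgroup.zpowers_le.mpr (hPX q (hyP q))
  have hHQ : H ≤ Subgroup.normalizer (Q : Set G) := fun h hh => mem_normalizer_of_cj_eq (by
    rw [hQdef, cj_iSup]
    exact iSup_congr fun q => cj_eq_of_mem_normalizer (hyn q hh))
  set E₀ := (H ⊔ Q) ⊔ F₁ with hE₀def
  have hHQE : H ⊔ Q ≤ E := sup_le hHE (hQX.trans hX.1)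
  have hE₀E : E₀ ≤ E := sup_le hHQE (hF₁F.trans hFE)
  have hcard : Nat.card E₀ ∣ Nat.card H * Nat.card Q * Nat.card F₁ :=
    (Coprime.card_sup_dvd (hHQE.trans hF₁n)).trans (Nat.mul_dvd_mul_right (Coprime.card_sup_dvd hHQ) _)
  -- `⟨y q⟩` is a Sylow subgroup of `E₀`
  have hsyl : ∀ q : {q : ℕ // q ∈ Cfsg.tau2 M}, SylowOf q.1 (Subgroup.zpowers (y q)) E₀ := by
    rintro ⟨q, hq⟩
    have := Fact.mk hq.1
    obtain ⟨k, m, hqm, hXk⟩ := Nat.exists_eq_pow_mul_and_not_dvd (Nat.card_pos (α := X)).ne' q hq.1.ne_one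
    let W : Subgroup G :=
      { carrier := {z | z ∈ X ∧ z ^ m = 1}
        one_mem' := ⟨X.one_mem, one_pow m⟩
        mul_mem' := fun {a b} ha hb => ⟨mul_mem ha.1 hb.1, by
          rw [(show Commute a b from mul_comm_of_mem hXc ha.1 hb.1).mul_pow, ha.2, hb.2, one_mul]⟩
        inv_mem' := fun {a} ha => ⟨inv_mem ha.1, by rw [inv_pow, ha.2, inv_one]⟩ }
    have hWX : W ≤ X := fun z hz => hz.1
    have hqW : ¬ q ∣ Nat.card W := fun h => by
      obtain ⟨z, hz⟩ := exists_prime_orderOf_dvd_card' (G := W) q h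
      exact hqm (hz ▸ orderOf_dvd_of_pow_eq_one (Subtype.ext z.2.2))
    set Y := Subgroup.zpowers (y ⟨q, hq⟩) with hY
    have hYX : Y ≤ X := Subgroup.zpowers_le.mpr (hPX _ (hyP _))
    have hYp : IsPGroup q Y := (hPE ⟨q, hq⟩).2.1.to_le (Subgroup.zpowers_le.mpr (hyP _))
    have hQle : Q ≤ Y ⊔ W := iSup_le fun ⟨r, hr⟩ => by
      by_cases hrq : r = q
      · subst hrq; exact le_sup_left
      · refine le_trans (Subgroup.zpowers_le.mpr (show y ⟨r, hr⟩ ∈ W from ⟨hPX _ (hyP _), ?_⟩)) le_sup_right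
        have := Fact.mk hr.1
        obtain ⟨j, hj⟩ := (hPE ⟨r, hr⟩).2.1.exists_card_eq
        refine orderOf_dvd_iff_pow_eq_one.mp ((((Nat.coprime_primes hr.1 hq.1).mpr hrq).pow j k).coprime_dvd_left
          (hj ▸ Subgroup.orderOf_dvd_natCard _ (hyP ⟨r, hr⟩)) |>.dvd_of_dvd_mul_left ?_)
        exact hXk ▸ Subgroup.orderOf_dvd_natCard X (hPX _ (hyP _))
    have hYn : Y ≤ Subgroup.normalizer (W : Set G) := fun w hw => Subgroup.centralizer_le_normalizer _
      (Subgroup.mem_centralizer_iff.mpr fun v hv => mul_comm_of_mem hXc (hWX hv) (hYX hw))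
    have hYE₀ : Y ≤ E₀ := ((le_iSup (fun q => Subgroup.zpowers (y q)) ⟨q, hq⟩).trans le_sup_right).trans le_sup_left
    refine sylowOf_of_card_dvd (⟨le_rfl, hYp, fun Z hZ _ hle => le_antisymm hZ hle⟩ : SylowOf q Y Y) hYE₀
      (m := Nat.card H * Nat.card W * Nat.card F₁) ?_ fun h => ?_
    · refine hcard.trans ?_
      have h1 := (Subgroup.card_dvd_of_le hQle).trans (Coprime.card_sup_dvd hYn)
      calc Nat.card H * Nat.card Q * Nat.card F₁ ∣ Nat.card H * (Nat.card Y * Nat.card W) * Nat.card F₁ :=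
            Nat.mul_dvd_mul_right (Nat.mul_dvd_mul_left _ h1) _
        _ = Nat.card Y * (Nat.card H * Nat.card W * Nat.card F₁) := by ring
    · rcases hq.1.dvd_mul.mp h with h | h
      · rcases hq.1.dvd_mul.mp h with h | h
        · exact hH.2.1 q hq.1 h hq
        · exact hqW h
      · exact piNat_card_piCoreOf π F q hq.1 h hq
  refine ⟨E₀, hE₀E, Nat.dvd_antisymm (Monoid.exponent_dvd_of_monoidHom (Subgroup.inclusion hE₀E)
    (Subgroup.inclusion_injective hE₀E)) (Monoid.exponent_dvd.mpr fun e => ?_), fun e he he1 => ?_⟩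
  · rw [← Subgroup.orderOf_coe, Nat.dvd_iff_prime_pow_dvd_dvd]
    intro r k hr hd
    rcases Nat.eq_zero_or_pos k with rfl | hk
    · simp
    have := Fact.mk hr
    set z := (e : G) ^ (orderOf (e : G) / r ^ k)
    have hzE : z ∈ E := pow_mem e.2 _
    have hzo : orderOf z = r ^ k := orderOf_pow_orderOf_div (orderOf_pos _).ne' hd
    have hzp : IsPGroup r (Subgroup.zpowers z) := IsPGroup.of_card (by rw [Nat.card_zpowers, hzo])
    have key : ∀ {w : G}, w ∈ E₀ → r ^ k ∣ orderOf w → r ^ k ∣ Monoid.exponent E₀ := fun hw h =>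
      h.trans ((Subgroup.orderOf_coe (⟨_, hw⟩ : E₀)).symm ▸ Monoid.order_dvd_exponent (⟨_, hw⟩ : E₀))
    by_cases hrt : r ∈ Cfsg.tau2 M
    · obtain ⟨g, -, hg⟩ := Sigma10.exists_conj_le (hPE ⟨r, hrt⟩) (Subgroup.zpowers_le.mpr hzE) hzp
      refine key ((hsyl ⟨r, hrt⟩).1 (Subgroup.mem_zpowers _)) (dvd_trans (dvd_of_eq ?_)
        (hmax _ _ (hg ⟨z, Subgroup.mem_zpowers z, rfl⟩)))
      exact hzo.symm.trans
        (orderOf_injective (MulAut.conj g).toMonoidHom (MulAut.conj g).injective z).symm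
    · obtain ⟨g, -, hg⟩ := OddOrder41.exists_conj_into (π := {r}) hKE (fun q hq hqr => by
        rw [Set.mem_singleton_iff] at hqr; subst hqr; exact hKidx q hq hrt)
        (Subgroup.zpowers_le.mpr hzE) fun q hq hdv => by
          rw [Nat.card_zpowers, hzo] at hdv
          exact (Nat.prime_dvd_prime_iff_eq hq hr).mp (hq.dvd_of_dvd_pow hdv)
      refine key ((sup_le le_sup_right (le_sup_left.trans le_sup_left) : K ≤ E₀)
        (hg ⟨z, Subgroup.mem_zpowers z, rfl⟩)) (dvd_of_eq ?_)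
      exact hzo.symm.trans
        (orderOf_injective (MulAut.conj g).toMonoidHom (MulAut.conj g).injective z).symm
  · obtain ⟨r, hr, hd⟩ := Nat.exists_prime_and_dvd (fun h => he1 (orderOf_eq_one_iff.mp h))
    have := Fact.mk hr
    by_contra hgood
    set z := e ^ (orderOf e / r)
    have hzo : orderOf z = r := orderOf_pow_orderOf_div (orderOf_pos e).ne' hd
    have hz1 : z ≠ 1 := fun h => hr.ne_one (by rw [← hzo, h, orderOf_one])
    have hzgood := sigma_fixed_of_pow (orderOf e / r) hgood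
    by_cases hrt : r ∈ Cfsg.tau2 M
    · obtain ⟨g, hg, hgY⟩ := Sigma10.exists_conj_le (hsyl ⟨r, hrt⟩) (Subgroup.zpowers_le.mpr (pow_mem he _))
        (IsPGroup.of_card (n := 1) (by rw [Nat.card_zpowers, hzo, pow_one]))
      exact sigma_inf_centralizer_conj (hE.1 (hE₀E hg)) hzgood
        (hybad ⟨r, hrt⟩ _ (hgY ⟨z, Subgroup.mem_zpowers z, rfl⟩) fun h => hz1 (by simpa using h))
    · exact hzgood (free_of_no_tau2 hG hM hE hfree (hE₀E (pow_mem he _)) hz1 fun q hq hqd => by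
        rw [(Nat.prime_dvd_prime_iff_eq hq hr).mp (hzo ▸ hqd)]; exact hrt)

include hG hM hE hfree in
/-- The criterion. -/
theorem frobenius_type_criterion :
    (∃ A₀ : Subgroup G, A₀ ≤ E ∧ E ≤ Subgroup.normalizer (A₀ : Set G) ∧ IsMulCommutative A₀ ∧
        ∀ x ∈ Cfsg.sigmaCore M, x ≠ 1 → E ⊓ Subgroup.centralizer ({x} : Set G) ≤ A₀) ∧
      ∃ E₀ : Subgroup G, E₀ ≤ E ∧ Monoid.exponent E₀ = Monoid.exponent E ∧
        ∀ e ∈ E₀, e ≠ 1 → Cfsg.sigmaCore M ⊓ Subgroup.centralizer ({e} : Set G) = ⊥ :=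
  ⟨⟨Cfsg.fittingOf E, fittingOf_le E, fittingOf_normal E,
    nilpotent_comm hG hM ((fittingOf_le E).trans hE.1) (fittingOf_isNilpotent E) fun _ hr hd =>
      Sigma10.not_mem_sigma_of_dvd_compl hG hM hE hr (hd.trans (Subgroup.card_dvd_of_le (fittingOf_le E))),
    fun _ hx hx1 => inf_centralizer_le_fittingOf hG hM hE hfree hx hx1⟩,
    exists_free_subgroup hG hM hE hfree⟩

end Criterion

end CfsgLib.OddOrder.Sigma12
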