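import Mathlib
import Cfsg.Agent.Lib.OddOrder.Sigma12Inputs
import Cfsg.Agent.Lib.OddOrder.Sigma12Nonabelian
import Cfsg.Agent.Lib.OddOrder38.Props14
import Cfsg.Agent.Lib.OddOrder41.Sigma13Partition

/-!
# The results of §12 and 13.9 bundled
-/

set_option autoImplicit false

namespace CfsgLib.OddOrder.Sigma12

universe u

variable {G : Type u} [Group G] [Finite G] (hG : Cfsg.IsMinSimpleOddOrder G)

include hG in
theorem propTauTwoNonabelian : OddOrder38.PropTauTwoNonabelian G := fun _ hM _ hE _ _ ht hS _ hA =>
  nonabelian_structure hG hM ht hS hE hA.1 hA.2.1 hA.2.2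

include hG in
theorem local_facts : OddOrder38.Local G where
  rankTwo := propRankTwoInMaximal hG
  tauTwo := propTauTwoStructure hG
  tauTwoCompl := propTauTwoInComplement hG
  nilpotent := propSigmaPrimeNilpotent hG
  nonabelian := propTauTwoNonabelian hG
  disjoint := (OddOrder41.sigma_partition hG (propRankTwoInMaximal hG) (propTauTwoStructure hG)
    (propTauTwoInComplement hG) (propSigmaPrimeNilpotent hG)).2

end CfsgLib.OddOrder.Sigma12
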