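import Cfsg.Agent.Lib.OddOrder.Sigma15
import Cfsg.Agent.Lib.OddOrder.Sigma10Main
import Cfsg.Agent.Lib.OddOrder41.FixOmega
import Cfsg.Agent.Lib.Tech46.CoprimeGen

/-!
# BG 15: a normal `E_{p²}` centralizing a Sylow subgroup of `M_σ` forces `p ∈ σ(M)`

With it `O_{σ(M)'}(F(M))` is a cyclic `τ₂(M)`-group.
-/

set_option autoImplicit false

namespace CfsgLib.OddOrder.Sigma15

open Subgroup CfsgLib.OddOrder CfsgLib.OddOrder.Sigma10 CfsgLib.OddOrder.Transitivity
open scoped commutatorElement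

universe u

/-- A normal `p`-subgroup lies in every Sylow `p`-subgroup. -/
theorem normal_pgroup_le {X : Type u} [Group X] [Finite X] {p : ℕ} [Fact p.Prime] {O P M : Subgroup X}
    (hP : SylowOf p P M) (hOM : O ≤ M) (hOn : M ≤ normalizer (O : Set X)) (hO : IsPGroup p O) : O ≤ P :=
  le_sup_left.trans (hP.2.2 (O ⊔ P) (sup_le hOM hP.1)
    (hO.to_sup_of_normal_left' hP.2.1 (hP.1.trans hOn)) le_sup_right).le

/-- A Frattini argument in a group of `p`-length one. -/
theorem sup_centralizer_normalizer_eq_top {X : Type u} [Group X] [Finite X] {p q : ℕ}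
    [hp : Fact p.Prime] [hq : Fact q.Prime] (hp2 : p ≠ 2) (hpq : q ≠ p)
    (hl : Cfsg.PLengthLE p 1 X) {A : Subgroup X} (hAe : Cfsg.IsElementaryAbelian p A)
    (hmax : ∀ x ∈ centralizer (A : Set X), x ^ p = 1 → x ∈ A) (Q : Sylow q X)
    (hQA : (Q : Subgroup X) ≤ centralizer (A : Set X)) {O : Subgroup X} (hO : IsPGroup p O)
    (hAO : A ≤ O) :
    Cfsg.pPrimeCore p X ⊔ (centralizer (O : Set X) ⊔ normalizer ((Q : Subgroup X) : Set X)) = ⊤ := by
  set D := Cfsg.pPrimeCore p X
  set K := Cfsg.pPrimePCore p X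
  have : K.Characteristic := PLengthOne.pPrimePCore_characteristic
  have hKi : ¬ p ∣ K.index := PLengthOne.index_eq hl
  set π := QuotientGroup.mk' D
  have hπ : ∀ x, π x = 1 ↔ x ∈ D := fun x => QuotientGroup.eq_one_iff x
  have hKbar : K.map π = Cfsg.pCore p (X ⧸ D) :=
    map_comap_eq_self_of_surjective (QuotientGroup.mk'_surjective D) _
  have hAp : IsPGroup p A := isPGroup_of_elemAb hAe
  have hdisj : ∀ (T : Subgroup X), IsPGroup p T → ∀ y ∈ T, y ∈ D → y = 1 := fun T hT y hy hyD =>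
    mem_bot.mp (PCore.inf_eq_bot_of_isPGroup_coprime hT PCore.pPrimeCore_coprime ▸ mem_inf.mpr ⟨hy, hyD⟩)
  obtain ⟨T, hOT⟩ := hO.exists_le_sylow
  have hAT := hAO.trans hOT
  have hTK : (T : Subgroup X) ≤ K := by
    intro x hx
    rw [← QuotientGroup.eq_one_iff, ← orderOf_eq_one_iff]
    obtain ⟨n, hn⟩ := IsPGroup.iff_orderOf.mp T.isPGroup' ⟨x, hx⟩
    refine Nat.eq_one_of_dvd_coprimes (Nat.Coprime.pow_left n ((hp.out.coprime_iff_not_dvd).mpr hKi))
      ?_ (show _ ∣ K.index from orderOf_dvd_natCard _)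
    rw [← hn, Subgroup.orderOf_mk]
    exact orderOf_map_dvd (QuotientGroup.mk' K) x
  have hTbar : (T : Subgroup X).map π = K.map π := by
    refine le_antisymm (map_mono hTK) ?_
    rw [hKbar]
    exact PCore.pCore_le_sylow (T.mapSurjective (QuotientGroup.mk'_surjective D))
  -- `Q` centralizes `K / D`
  have hQK : (Q : Subgroup X).map π ≤ centralizer ((K.map π : Subgroup (X ⧸ D)) : Set (X ⧸ D)) := by
    refine OddOrder41.le_centralizer_of_fixes_order_p p hp2 _ (A.map π) _
      (hKbar ▸ PCore.pCore_isPGroup) (map_mono (hAT.trans hTK)) ?_ ?_ ?_ ?_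
    · refine ⟨⟨⟨?_⟩⟩, ?_⟩
      · rintro ⟨_, a, ha, rfl⟩ ⟨_, b, hb, rfl⟩
        refine Subtype.ext ?_
        show π a * π b = π b * π a
        rw [← map_mul, ← map_mul, elemAb_commute hAe ha hb]
      · rintro _ ⟨a, ha, rfl⟩
        rw [← map_pow, hAe.2 a ha, map_one]
    · rw [hKbar]
      exact le_normalizer_of_normal
    · obtain ⟨n, hn⟩ := (Q.isPGroup'.map π).exists_card_eq
      rw [hn]
      exact ((Nat.coprime_primes hq.out hp.out).mpr hpq).pow_left n
    · rintro _ ⟨hxK, hxc⟩ hxo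
      rw [← hTbar] at hxK
      obtain ⟨t, ht, rfl⟩ := hxK
      have htA : t ∈ centralizer (A : Set X) := mem_centralizer_iff.mpr fun a ha => by
        have h := mem_centralizer_iff.mp hxc (π a) (mem_map_of_mem π ha)
        rw [← map_mul, ← map_mul] at h
        have h1 : ⁅a, t⁆ ∈ D := by
          rw [← hπ, map_commutatorElement, commutatorElement_eq_one_iff_mul_comm, ← map_mul, ← map_mul, h]
        exact commutatorElement_eq_one_iff_mul_comm.mp (hdisj _ T.isPGroup' _
          (by rw [commutatorElement_def]; exact mul_mem (mul_mem (mul_mem (hAT ha) ht)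
            (inv_mem (hAT ha))) (inv_mem ht)) h1)
      have htp : t ^ p = 1 := hdisj _ T.isPGroup' _ (pow_mem ht p)
        ((hπ _).mp (by
          have h2 := pow_orderOf_eq_one (π t)
          rw [hxo] at h2
          rwa [map_pow]))
      rintro _ ⟨u, hu, rfl⟩
      rw [mem_centralizer_singleton_iff, ← map_mul, ← map_mul,
        mem_centralizer_iff.mp (hQA hu) t (hmax t htA htp)]
  set C := (centralizer ((K.map π : Subgroup (X ⧸ D)) : Set (X ⧸ D))).comap π
  have : (K.map π).Normal := hKbar ▸ inferInstance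
  have : C.Normal := inferInstance
  have hQC : (Q : Subgroup X) ≤ C := map_le_iff_le_comap.mp hQK
  have hCle : C ≤ D ⊔ centralizer (O : Set X) := by
    intro x hx
    have hxc : ∀ a ∈ O, x⁻¹ * (a * x * a⁻¹) ∈ D := fun a ha => by
      rw [← hπ, map_mul, map_inv, map_mul, map_mul, map_inv,
        mem_centralizer_iff.mp hx (π a) (mem_map_of_mem π (hTK (hOT ha))), mul_inv_cancel_right,
        inv_mul_cancel]
    obtain ⟨d, hd, hxd⟩ := Tech46.exists_fixed_in_coset hO
      ((hp.out.coprime_iff_not_dvd).mp PCore.pPrimeCore_coprime.symm) le_normalizer_of_normal hxc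
    have := mul_mem (mem_sup_right hxd : _ ∈ D ⊔ centralizer (O : Set X)) (mem_sup_left (inv_mem hd))
    rwa [mul_inv_cancel_right] at this
  -- Frattini at `Q` in `C`
  have hfr : normalizer ((Q : Subgroup X) : Set X) ⊔ C = ⊤ := by
    have h := Sylow.normalizer_sup_eq_top (Q.subtype hQC)
    rwa [Sylow.coe_subtype, subgroupOf_map_subtype, inf_eq_left.mpr hQC] at h
  rw [eq_top_iff, ← hfr]
  exact sup_le (le_sup_of_le_right le_sup_right) (hCle.trans (sup_le_sup_left le_sup_left _))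

variable {G : Type u} [Group G] [Finite G] (hG : Cfsg.IsMinSimpleOddOrder G)
  {M : Subgroup G} (hM : IsCoatom M)

include hG hM in
/-- No `E_{p²}` inside a normal `p`-subgroup `O` of `M`, `p ∉ σ(M)`, has `O` centralizing a Sylow
`σ(M)`-subgroup of `M`. -/
theorem false_of_normal_elemAb_sq {p q : ℕ} [hp : Fact p.Prime] [hq : Fact q.Prime]
    (hpσ : p ∉ Cfsg.sigma M) (hqσ : q ∈ Cfsg.sigma M) {O A : Subgroup G} (hOM : O ≤ M)
    (hOn : M ≤ normalizer (O : Set G)) (hOp : IsPGroup p O) (hAO : A ≤ O)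
    (hAe : Cfsg.IsElementaryAbelian p A)
    (hA2 : Nat.card A = p ^ 2) {Q : Subgroup G} (hQ : SylowOf q Q M)
    (hQO : Q ≤ centralizer (O : Set G)) : False := by
  have hAM := hAO.trans hOM
  have hQA : Q ≤ centralizer (A : Set G) := hQO.trans (centralizer_le hAO)
  have hAp : IsPGroup p A := isPGroup_of_elemAb hAe
  have hA1 : A ≠ ⊥ := fun h => by
    rw [h, card_bot] at hA2
    exact (Nat.one_lt_pow two_ne_zero hp.out.one_lt).ne hA2
  have hpq : q ≠ p := fun h => hpσ (h ▸ hqσ)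
  have hpA : p ∣ Nat.card A := hA2 ▸ dvd_pow_self p two_ne_zero
  have hp2 : p ≠ 2 := minSimple_prime_ne_two hG hpA
  have hpM : p ∣ Nat.card M := hpA.trans (card_dvd_of_le hAM)
  have hCA : centralizer (O : Set G) ≤ M :=
    (centralizer_le_normalizer (O : Set G)).trans
      (normalizer_eq_of_normal hG hM hOM (fun h => hA1 (le_bot_iff.mp (h ▸ hAO))) hOn).le
  have hmax : ∀ x ∈ centralizer (A : Set G), x ^ p = 1 → x ∈ A := fun x hx hxp => by
    have h := elemAb_sq_maximal hG hM hpσ hAM hAe hA2 (elemAb_sup_zpowers hAe hxp hx) le_sup_left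
    exact h.le (mem_sup_right (mem_zpowers x))
  obtain ⟨P, hP, hAP⟩ := exists_sylowOf_ge hAM hAp
  have hOP : O ≤ P := normal_pgroup_le hP hOM hOn hOp
  obtain ⟨v, hvP, hvM⟩ := SetLike.not_le_iff_exists.mp
    (fun h : normalizer (P : Set G) ≤ M => hpσ (mem_sigma_of_normalizer_le hp.out hpM hP h))
  -- the central elements of order `p`
  let W : Subgroup G :=
    { carrier := {x | x ∈ P ∧ (∀ r ∈ P, r * x = x * r) ∧ x ^ p = 1}
      one_mem' := ⟨P.one_mem, fun r _ => by simp, one_pow p⟩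
      mul_mem' := fun {a b} ha hb => ⟨P.mul_mem ha.1 hb.1,
        fun r hr => (Commute.mul_right (ha.2.1 r hr) (hb.2.1 r hr)),
        by rw [(show Commute a b from hb.2.1 a ha.1).mul_pow, ha.2.2, hb.2.2, one_mul]⟩
      inv_mem' := fun {a} ha => ⟨P.inv_mem ha.1,
        fun r hr => (Commute.inv_right (ha.2.1 r hr)), by rw [inv_pow, ha.2.2, inv_one]⟩ }
  have hWA : W ≤ A := fun x hx =>
    hmax x (mem_centralizer_iff.mpr fun a ha => hx.2.1 a (hAP ha)) hx.2.2
  have hW1 : W ≠ ⊥ := by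
    obtain ⟨z, hzR, hzc, hzo⟩ := exists_central_orderOf hP.2.1 (fun h => hA1 (le_bot_iff.mp (h ▸ hAP)))
    intro h
    have : z = 1 := mem_bot.mp (h ▸ (⟨hzR, hzc, hzo ▸ pow_orderOf_eq_one z⟩ : z ∈ W))
    rw [this, orderOf_one] at hzo
    exact hp.out.ne_one hzo.symm
  set L := normalizer (W : Set G) with hLdef
  have hWtop : W ≠ ⊤ := fun h => minSimple_pgroup_ne_top hG hAp (top_le_iff.mp (h ▸ hWA))
  have hL : L ≠ ⊤ := minSimple_normalizer_ne_top hG hW1 hWtop
  have hCL : centralizer (A : Set G) ≤ L :=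
    (centralizer_le hWA).trans (centralizer_le_normalizer (W : Set G))
  have hvL : v ∈ L := by
    have h : normalizer (P : Set G) ≤ L := le_normalizer_iff.mpr fun g hg x hx => by
      refine ⟨(mem_normalizer_iff.mp hg x).mp hx.1, fun r hr => ?_, ?_⟩
      · have h1 := hx.2.1 (g⁻¹ * r * g) (by simpa using (mem_normalizer_iff''.mp hg r).mp hr)
        calc r * (g * x * g⁻¹) = g * ((g⁻¹ * r * g) * x) * g⁻¹ := by group
          _ = g * x * g⁻¹ * r := by rw [h1]; group
      · rw [conj_pow, hx.2.2, mul_one, mul_inv_cancel]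
    exact h hvP
  have hAC : A ≤ centralizer (A : Set G) := fun a ha =>
    mem_centralizer_iff.mpr fun b hb => elemAb_commute hAe hb ha
  have hPL : P ≤ L := fun x hx => le_normalizer_iff.mpr (fun g hg w hw => by
      have : g * w * g⁻¹ = w := by rw [hw.2.1 g hg, mul_inv_cancel_right]
      rwa [this]) hx
  obtain ⟨Qs, hQs⟩ := exists_sylow_of_mem_sigma hqσ hQ
  have hQL : (Qs : Subgroup G) ≤ L := hQs ▸ hQA.trans hCL
  set D := Cfsg.pPrimeCore p ↥L
  have hsup := sup_centralizer_normalizer_eq_top (X := ↥L) hp2 hpq (pLengthLE_one_proper hG p L hL)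
    (elemAb_comap hAe L.subtype L.subtype_injective)
    (fun x hx hxp => hmax x (mem_centralizer_iff.mpr fun a ha =>
      congrArg Subtype.val (mem_centralizer_iff.mp hx ⟨a, hCL (hAC ha)⟩ ha))
      (by simpa using congrArg Subtype.val hxp))
    (Qs.subtype hQL) (fun x hx => mem_centralizer_iff.mpr fun a ha => Subtype.ext
      (mem_centralizer_iff.mp (hQA (hQs ▸ hx)) (a : G) ha))
    (hOp.comap_of_injective L.subtype L.subtype_injective) (comap_mono hAO)
  have hrest : centralizer ((O.comap L.subtype : Subgroup L) : Set L) ⊔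
      normalizer (((Qs.subtype hQL : Sylow q L) : Subgroup L) : Set L) ≤ M.comap L.subtype := by
    refine sup_le (fun x hx => hCA (mem_centralizer_iff.mpr fun a ha =>
      congrArg Subtype.val (mem_centralizer_iff.mp hx ⟨a, hPL (hOP ha)⟩ ha))) fun x hx => ?_
    refine normalizer_le_of_mem_sigma hqσ hQ (?_ : (x : G) ∈ normalizer (Q : Set G))
    rw [mem_normalizer_iff]
    intro y
    have key : ∀ z : L, (z : G) ∈ Q ↔ z ∈ ((Qs.subtype hQL : Sylow q L) : Subgroup L) := fun z => by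
      rw [Sylow.coe_subtype, mem_subgroupOf, hQs]
    constructor
    · intro hy
      have := (mem_normalizer_iff.mp hx ⟨y, hQA.trans hCL hy⟩).mp ((key _).mp hy)
      exact (key _).mpr this
    · intro hy
      have hyL : y ∈ L := by
        have := mul_mem (mul_mem (inv_mem x.2) (hQA.trans hCL hy)) x.2
        simpa [mul_assoc] using this
      exact (key _).mpr ((mem_normalizer_iff.mp hx ⟨y, hyL⟩).mpr ((key _).mp hy))
  obtain ⟨d, hd, m, hm, hdm⟩ := mem_sup_of_normal_left.mp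
    (hsup.ge.trans (sup_le_sup_left hrest D) (mem_top (⟨v, hvL⟩ : L)))
  have hvdm : (d : G) * m = v := congrArg Subtype.val hdm
  have hmM : (m : G) ∈ M := hm
  set DG := D.map L.subtype with hDGdef
  have hdG : (d : G) ∈ DG := mem_map_of_mem L.subtype hd
  have hDGn : L ≤ normalizer (DG : Set G) := map_subtype_normalized D
  have hDGcop : (Nat.card DG).Coprime p := by
    rw [hDGdef, card_map_of_injective L.subtype_injective]
    exact PCore.pPrimeCore_coprime
  have hdis : ∀ y ∈ P, y ∈ DG → y = 1 := fun y hy hyD =>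
    mem_bot.mp (PCore.inf_eq_bot_of_isPGroup_coprime hP.2.1 hDGcop ▸ mem_inf.mpr ⟨hy, hyD⟩)
  set P' := P.map (MulAut.conj (m : G)).toMonoidHom with hP'def
  have hmP : P' = P.map (MulAut.conj (d : G)⁻¹).toMonoidHom := by
    have h1 : cj v P = P := cj_eq_of_mem_normalizer hvP
    show cj (m : G) P = cj (d : G)⁻¹ P
    conv_rhs => rw [← h1]
    rw [cj_mul, ← hvdm, inv_mul_cancel_left]
  set Y := M ⊓ (DG ⊔ P) with hYdef
  have hPY : SylowOf p P Y := hP.mono inf_le_left (le_inf hP.1 le_sup_right)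
  have hP'Y : P' ≤ Y := by
    refine le_inf ?_ ?_
    · rintro _ ⟨x, hx, rfl⟩
      exact M.mul_mem (M.mul_mem hmM (hP.1 hx)) (M.inv_mem hmM)
    · rw [hmP]
      rintro _ ⟨x, hx, rfl⟩
      exact mul_mem (mul_mem (mem_sup_left (inv_mem hdG)) (mem_sup_right hx))
        (inv_mem (mem_sup_left (inv_mem hdG)))
  obtain ⟨y, hy, hyP⟩ := exists_conj_le hPY hP'Y (hP.2.1.map _)
  have hyeq : cj y P' = P := eq_of_le_of_card_ge hyP (by rw [card_cj, hP'def, card_cj])
  have hyd : y * (d : G)⁻¹ ∈ normalizer (P : Set G) :=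
    mem_normalizer_of_cj_eq (by
      rw [← cj_mul]
      show cj y (P.map (MulAut.conj (d : G)⁻¹).toMonoidHom) = P
      rw [← hmP]; exact hyeq)
  have hy' : y ∈ ((DG ⊔ P : Subgroup G) : Set G) := hy.2
  rw [coe_mul_of_right_le_normalizer_left DG P (hPL.trans hDGn)] at hy'
  obtain ⟨e, he, r, hr, rfl⟩ := Set.mem_mul.mp hy'
  have heM : e ∈ M := by
    simpa using M.mul_mem hy.1 (M.inv_mem (hP.1 hr))
  -- `f = e r d⁻¹ r⁻¹` lies in `D` and normalizes `P`
  set f := e * r * (d : G)⁻¹ * r⁻¹ with hf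
  have hfD : f ∈ DG := by
    rw [hf, show e * r * (d : G)⁻¹ * r⁻¹ = e * (r * (d : G)⁻¹ * r⁻¹) by group]
    exact DG.mul_mem he ((mem_normalizer_iff.mp (hDGn (hPL hr)) _).mp (DG.inv_mem hdG))
  have hfN : f ∈ normalizer (P : Set G) := mul_mem hyd (inv_mem (le_normalizer hr))
  have hfC : f ∈ centralizer (O : Set G) := mem_centralizer_iff.mpr fun a ha => by
    refine (commutatorElement_eq_one_iff_mul_comm.mp (hdis ⁅a, f⁆ ?_ ?_))
    · rw [commutatorElement_def, mul_assoc, mul_assoc, ← mul_assoc f]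
      exact P.mul_mem (hOP ha) ((mem_normalizer_iff.mp hfN _).mp (P.inv_mem (hOP ha)))
    · rw [commutatorElement_def]
      exact DG.mul_mem ((mem_normalizer_iff.mp (hDGn (hPL (hOP ha))) f).mp hfD) (DG.inv_mem hfD)
  refine hvM ?_
  have hdM : (d : G) ∈ M := by
    have h1 : (d : G) = r⁻¹ * f⁻¹ * e * r := by rw [hf]; group
    rw [h1]
    exact M.mul_mem (M.mul_mem (M.mul_mem (M.inv_mem (hP.1 hr)) (M.inv_mem (hCA hfC))) heM) (hP.1 hr)
  exact hvdm ▸ M.mul_mem hdM hmM

include hG hM in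
/-- The `σ(M)'`-part of `F(M)`. -/
theorem fitting_structure :
    IsCyclic ↥(Cfsg.piCoreOf {q | q.Prime ∧ q ∉ Cfsg.sigma M} (Cfsg.fittingOf M)) ∧
      (∀ p : ℕ, p.Prime → p ∣ Nat.card ↥(Cfsg.piCoreOf {q | q.Prime ∧ q ∉ Cfsg.sigma M} (Cfsg.fittingOf M)) →
        p ∈ Cfsg.tau2 M) ∧
      Cfsg.fittingOf M = Cfsg.fittingOf (Cfsg.sigmaCore M) ⊔
        Cfsg.piCoreOf {q | q.Prime ∧ q ∉ Cfsg.sigma M} (Cfsg.fittingOf M) := by
  set S := Cfsg.sigmaCore M with hS
  set F := Cfsg.fittingOf M with hFdef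
  set Y := Cfsg.piCoreOf {q | q.Prime ∧ q ∉ Cfsg.sigma M} F with hY
  have hYF : Y ≤ F := piCoreOf_le _ _
  have hYM : Y ≤ M := hYF.trans (fittingOf_le M)
  have hYn : M ≤ normalizer (Y : Set G) :=
    (fittingOf_normal M).trans (normalizer_le_normalizer_piCoreOf _ _)
  have hSM : S ≤ M := piCoreOf_le _ _
  have hSn : M ≤ normalizer (S : Set G) := piCoreOf_normal _ _
  have hSY : S ≤ centralizer (Y : Set G) := by
    have h : S ⊓ Y = ⊥ := by
      rw [← card_eq_one]
      by_contra hne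
      obtain ⟨q, hq, hd⟩ := Nat.exists_prime_and_dvd hne
      exact (piNat_card_piCoreOf _ _ q hq (hd.trans (card_dvd_of_le inf_le_right))).2
        (piNat_card_piCoreOf _ _ q hq (hd.trans (card_dvd_of_le inf_le_left)))
    intro a ha
    rw [mem_centralizer_iff]
    intro b hb
    have hmem : b * a * b⁻¹ * a⁻¹ ∈ S ⊓ Y := by
      refine ⟨mul_mem ((mem_normalizer_iff.mp (hSn (hYM hb)) a).mp ha) (S.inv_mem ha), ?_⟩
      rw [show b * a * b⁻¹ * a⁻¹ = b * (a * b⁻¹ * a⁻¹) by group]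
      exact Y.mul_mem hb ((mem_normalizer_iff.mp (hYn (hSM ha)) _).mp (Y.inv_mem hb))
    rw [h, mem_bot, mul_inv_eq_one, mul_inv_eq_iff_eq_mul] at hmem
    exact hmem
  have hτ : ∀ p : ℕ, p.Prime → p ∣ Nat.card Y → p ∈ Cfsg.tau2 M := fun p hp hd =>
    mem_tau2_of_dvd_fittingOf hG hM hp (piNat_card_piCoreOf _ _ p hp hd).2
      (hd.trans (card_dvd_of_le hYF))
  have hnil : Group.IsNilpotent Y :=
    Fitting.isNilpotent_of_le (fittingOf_isNilpotent M) hYF
  refine ⟨?_, hτ, le_antisymm ?_ (sup_le ?_ hYF)⟩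
  · have : IsZGroup ↥Y := by
      refine isZGroup_of_rank_one hG fun q hq hd => ?_
      have := Fact.mk hq
      by_contra hcon
      obtain ⟨A, hAY, hAe, hAc⟩ := not_pRankLE_subgroup_iff.mp hcon
      have hqσ : q ∉ Cfsg.sigma M := (piNat_card_piCoreOf _ _ q hq hd).2
      have hOY : opCore q M ≤ Y := le_piCoreOf (opCore_le_fittingOf hq M)
        ((fittingOf_le M).trans (opCore_normal q M)) fun t ht htd => by
          obtain ⟨n, hn⟩ := (opCore_isPGroup q M).exists_card_eq
          rw [(Nat.prime_dvd_prime_iff_eq ht hq).mp (ht.dvd_of_dvd_pow (hn ▸ htd))]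
          exact ⟨hq, hqσ⟩
      obtain ⟨r, hr, hrS⟩ := Nat.exists_prime_and_dvd (fun h => sigmaCore_ne_bot hG hM (card_eq_one.mp h))
      have := Fact.mk hr
      have hrσ : r ∈ Cfsg.sigma M := piNat_card_piCoreOf _ _ r hr hrS
      obtain ⟨R, hR, -⟩ := exists_sylowOf_ge (p := r) (M := M) bot_le IsPGroup.of_bot
      exact false_of_normal_elemAb_sq hG hM hqσ hrσ (opCore_le q M) (opCore_normal q M)
        (opCore_isPGroup q M) (le_opCore_of_le_fittingOf (hAY.trans hYF) (isPGroup_of_elemAb hAe))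
        hAe hAc hR (((sylow_le_piCore hG hM (alpha_subset_sigma hG hM) hrσ hrσ hR).trans hSY).trans
          (centralizer_le hOY))
    infer_instance
  · refine fittingOf_le_of_forall fun r hr => ?_
    have := Fact.mk hr
    have hpi : ∀ T : Set ℕ, r ∈ T → PiNat T (Nat.card (opCore r M)) := fun T hT t ht htd => by
      obtain ⟨n, hn⟩ := (opCore_isPGroup r M).exists_card_eq
      rwa [(Nat.prime_dvd_prime_iff_eq ht hr).mp (ht.dvd_of_dvd_pow (hn ▸ htd))]
    by_cases hrσ : r ∈ Cfsg.sigma M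
    · have h1 : opCore r M ≤ S := le_piCoreOf (opCore_le r M) (opCore_normal r M) (hpi _ hrσ)
      exact le_sup_of_le_left (le_fittingOf h1 (hSM.trans (opCore_normal r M))
        (opCore_isPGroup r M).isNilpotent)
    · exact le_sup_of_le_right (le_piCoreOf (opCore_le_fittingOf hr M)
        ((fittingOf_le M).trans (opCore_normal r M)) (hpi _ ⟨hr, hrσ⟩))
  · refine le_fittingOf ((fittingOf_le S).trans hSM) ?_ (fittingOf_isNilpotent S)
    refine hSn.trans fun g hg => mem_normalizer_of_cj_eq ?_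
    have : (Cfsg.fittingSubgroup S).Characteristic := Fitting.fitting_characteristic
    have := CfsgLib.Structure.normalizer_le_normalizer_map_subtype S (Cfsg.fittingSubgroup S) hg
    exact cj_eq_of_mem_normalizer this

end CfsgLib.OddOrder.Sigma15
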