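import Mathlib
import Cfsg.Agent.Lib.OddOrder.InvariantCore
import Cfsg.Agent.Lib.OddOrder.Transitivity
import Cfsg.Agent.Lib.OddOrder.PiCore
import Cfsg.Agent.Lib.Signalizer.Transitivity
import Cfsg.Agent.Lib.Transfer.NormalComplement

/-!
# The Transitivity Theorem when all `p`-locals are `p`-constrained (Gorenstein 8.5.4)
-/

set_option autoImplicit false
set_option linter.style.haveILetI false

namespace CfsgLib.OddOrder.TransitivityConstrained

open Subgroup CfsgLib.OddOrder.Transitivity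
open scoped commutatorElement

variable {G : Type*} [Group G] [Finite G] {p : ℕ} [hp : Fact p.Prime]

/-- `p'`-elements centralizing `E` lie in `O_{p'}(C(E))`. -/
theorem mem_core_centralizer {E : Subgroup G} (hEp : IsPGroup p E) (hEc : IsMulCommutative E)
    (hEfull : ∀ x ∈ Subgroup.centralizer (E : Set G), IsPGroup p (Subgroup.zpowers x) → x ∈ E)
    {c : G} (hc : c ∈ Subgroup.centralizer (E : Set G)) (hcp : (orderOf c).Coprime p) :
    c ∈ Cfsg.piCoreOf (Cfsg.primesNotDvd p) (Subgroup.centralizer (E : Set G)) := by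
  set C := Subgroup.centralizer (E : Set G) with hC
  obtain ⟨P⟩ : Nonempty (Sylow p C) := inferInstance
  have hPE : ∀ x ∈ (P : Subgroup C), (x : G) ∈ E := fun x hx =>
    hEfull x x.2 (by
      have h1 := (P.2.to_le (Subgroup.zpowers_le.2 hx)).map C.subtype
      rwa [MonoidHom.map_zpowers] at h1)
  have hcen : Subgroup.normalizer ((P : Subgroup C) : Set C)
      ≤ Subgroup.centralizer ((P : Subgroup C) : Set C) := fun x _ => by
    rw [Subgroup.mem_centralizer_iff]
    intro y hy
    exact Subtype.ext (Subgroup.mem_centralizer_iff.1 x.2 y (hPE y hy))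
  obtain ⟨P', N, hN, hNP⟩ := Transfer.hasNormalPComplement_of_normalizer_le P hcen
  have hcard : Nat.card N = (P' : Subgroup C).index := hNP.index_eq_card.symm
  have hNcop : (Nat.card N).Coprime p := by
    rw [hcard]
    exact (hp.out.coprime_iff_not_dvd.2 P'.not_dvd_index).symm
  have hidx : N.index = Nat.card (P' : Subgroup C) := hNP.symm.index_eq_card
  refine ⟨⟨c, hc⟩, ?_, rfl⟩
  have hπ : CfsgLib.OddOrder.PiNat (Cfsg.primesNotDvd p) (Nat.card N) := fun r hr hd =>
    ⟨hr, fun hrp => hr.ne_one (Nat.eq_one_of_dvd_coprimes hNcop hd hrp)⟩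
  refine CfsgLib.OddOrder.le_piCore hN hπ ?_
  obtain ⟨n, hn⟩ := P'.2.exists_card_eq
  haveI := hN
  rw [← QuotientGroup.eq_one_iff (N := N), ← orderOf_eq_one_iff]
  refine Nat.eq_one_of_dvd_coprimes (hcp.pow_right n) ?_ ?_
  · rw [← Subgroup.orderOf_mk c hc]
    exact orderOf_map_dvd (QuotientGroup.mk' N) _
  · rw [← hn, ← hidx, Subgroup.index_eq_card]
    exact orderOf_dvd_natCard _

/-- Invariant `p'`-subgroups of the centralizer of an element of order `p` lie in its core. -/
theorem inv_le_core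
    (hloc : ∀ T : Subgroup G, IsPGroup p T → T ≠ ⊥ → Cfsg.IsPConstrained p ↥(Subgroup.normalizer (T : Set G)))
    (h2 : p = 2 → ∀ S : Sylow p G, Group.IsNilpotent (S : Subgroup G) ∧ Group.nilpotencyClass (S : Subgroup G) ≤ 2)
    {E : Subgroup G} (hEp : IsPGroup p E) (hEc : IsMulCommutative E)
    (hEfull : ∀ x ∈ Subgroup.centralizer (E : Set G), IsPGroup p (Subgroup.zpowers x) → x ∈ E)
    {a : G} (ha : a ∈ E) (ha1 : a ≠ 1) {Y : Subgroup G} (hYC : Y ≤ Subgroup.centralizer ({a} : Set G))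
    (hY : (Nat.card Y).Coprime p) (hEY : E ≤ Subgroup.normalizer (Y : Set G)) :
    Y ≤ (Cfsg.pPrimeCore p ↥(Subgroup.centralizer ({a} : Set G))).map
      (Subgroup.centralizer ({a} : Set G)).subtype := by
  set C := Subgroup.centralizer ({a} : Set G) with hC
  set T := Subgroup.zpowers a with hT
  have hTp : IsPGroup p T := hEp.to_le (Subgroup.zpowers_le.2 ha)
  set H := Subgroup.normalizer (T : Set G) with hH
  have hCT : C = Subgroup.centralizer (T : Set G) := by
    rw [hC, hT, Subgroup.zpowers_eq_closure, Subgroup.centralizer_closure]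
  have hCH : C ≤ H := by rw [hCT]; exact Subgroup.centralizer_le_normalizer _
  have hHc : Cfsg.IsPConstrained p H := hloc T hTp (fun h => ha1 (Subgroup.zpowers_eq_bot.1 h))
  have hM : Cfsg.IsPConstrained p ↥(C.subgroupOf H) := by
    refine PLocal.isPConstrained_local hHc (P := T.subgroupOf H) hTp.comap_subtype ?_ ?_ (Or.inr ?_)
    · intro x hx
      rw [Subgroup.mem_subgroupOf, hCT, Subgroup.mem_centralizer_iff]
      intro t ht
      exact congrArg Subtype.val (Subgroup.mem_centralizer_iff.1 hx ⟨t, Subgroup.le_normalizer ht⟩ ht)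
    · intro x _
      rw [← Subgroup.subgroupOf_normalizer_eq Subgroup.le_normalizer]
      exact x.2
    · intro x hx
      rw [Subgroup.mem_centralizer_iff]
      intro t ht
      rw [Subgroup.mem_subgroupOf, hCT] at hx
      exact Subtype.ext (Subgroup.mem_centralizer_iff.1 hx t ht)
  have hCc : Cfsg.IsPConstrained p C := by
    rw [PLocal.isPConstrained_iff] at hM ⊢
    exact PLocal.isCharP_of_equiv
      (QuotientGroup.congr (Cfsg.pPrimeCore p ↥(C.subgroupOf H)) (Cfsg.pPrimeCore p C)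
        (Subgroup.subgroupOfEquivOfLe hCH) (PCore.map_pPrimeCore_equiv _)) hM
  have hEC : E ≤ C := fun x hx => by
    haveI := hEc
    exact Subgroup.mem_centralizer_singleton_iff.2
      (congrArg Subtype.val ((IsMulCommutative.is_comm (M := E)).comm ⟨x, hx⟩ ⟨a, ha⟩))
  have hcase : (p ≠ 2 ∧ ∀ x ∈ Subgroup.centralizer ((E.subgroupOf C : Subgroup C) : Set C), orderOf x = p →
        x ∈ E.subgroupOf C) ∨
      ((∀ x ∈ Subgroup.centralizer ((E.subgroupOf C : Subgroup C) : Set C), IsPGroup p (Subgroup.zpowers x) →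
        x ∈ E.subgroupOf C) ∧
        ∀ S : Subgroup C, IsPGroup p S → ∀ u ∈ S, ∀ v ∈ S, ∀ w ∈ S, Commute ⁅u, v⁆ w) := by
    have hfull : ∀ x ∈ Subgroup.centralizer ((E.subgroupOf C : Subgroup C) : Set C),
        IsPGroup p (Subgroup.zpowers x) → x ∈ E.subgroupOf C := by
      intro x hx hxp
      refine hEfull x (Subgroup.mem_centralizer_iff.2 fun e he => ?_) ?_
      · exact congrArg Subtype.val (Subgroup.mem_centralizer_iff.1 hx ⟨e, hEC he⟩ he)
      · have h1 := hxp.map C.subtype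
        rwa [MonoidHom.map_zpowers] at h1
    by_cases hp2 : p = 2
    · refine Or.inr ⟨hfull, fun S hS u hu v hv w hw => ?_⟩
      obtain ⟨P, hP⟩ := (hS.map C.subtype).exists_le_sylow
      obtain ⟨hnil, hcl⟩ := h2 hp2 P
      haveI := hnil
      have h3 := Subgroup.lowerCentralSeries_eq_bot_iff_nilpotencyClass_le.2 hcl
      let up : (P : Subgroup G) := ⟨u, hP (Subgroup.mem_map_of_mem _ hu)⟩
      let vp : (P : Subgroup G) := ⟨v, hP (Subgroup.mem_map_of_mem _ hv)⟩
      let wp : (P : Subgroup G) := ⟨w, hP (Subgroup.mem_map_of_mem _ hw)⟩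
      have h4 : ⁅⁅up, vp⁆, wp⁆ ∈ Subgroup.lowerCentralSeries (⊤ : Subgroup (P : Subgroup G)) 2 := by
        simp only [Subgroup.lowerCentralSeries_succ, Subgroup.lowerCentralSeries_zero]
        exact Subgroup.commutator_mem_commutator (Subgroup.commutator_mem_commutator trivial trivial) trivial
      rw [h3, Subgroup.mem_bot, commutatorElement_eq_one_iff_commute] at h4
      exact Subtype.ext (by simpa [up, vp, wp, commutatorElement_def] using congrArg Subtype.val h4.eq)
    · exact Or.inl ⟨hp2, fun x hx hxo => hfull x hx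
        (IsPGroup.of_card (n := 1) (by rw [Nat.card_zpowers, hxo, pow_one]))⟩
  have key := InvariantCore.le_pPrimeCore hCc (A := E.subgroupOf C) hEp.comap_subtype hcase
    (Y := Y.subgroupOf C)
    (hY.coprime_dvd_left (Subgroup.card_comap_dvd_of_injective Y C.subtype C.subtype_injective))
    (fun x hx => by
      rw [← Subgroup.subgroupOf_normalizer_eq hYC]
      exact hEY hx)
  have h1 := Subgroup.map_mono (f := C.subtype) key
  rwa [Subgroup.map_subgroupOf_eq_of_le hYC] at h1

/-- **Transitivity Theorem.** -/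
theorem conj_max
    (hloc : ∀ T : Subgroup G, IsPGroup p T → T ≠ ⊥ → Cfsg.IsPConstrained p ↥(Subgroup.normalizer (T : Set G)))
    (h2 : p = 2 → ∀ S : Sylow p G, Group.IsNilpotent (S : Subgroup G) ∧ Group.nilpotencyClass (S : Subgroup G) ≤ 2)
    {E : Subgroup G} (hEp : IsPGroup p E) (hEc : IsMulCommutative E)
    (hEfull : ∀ x ∈ Subgroup.centralizer (E : Set G), IsPGroup p (Subgroup.zpowers x) → x ∈ E)
    {A : Subgroup G} (hAE : A ≤ E) (hA : Cfsg.IsElementaryAbelian p A) (hA3 : p ^ 3 ≤ Nat.card A)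
    {q : ℕ} [Fact q.Prime] (hqp : q ≠ p) {Q R : Subgroup G}
    (hQ : Q ∈ Cfsg.maxInvSubgroups ⊤ E {q}) (hR : R ∈ Cfsg.maxInvSubgroups ⊤ E {q}) :
    ∃ k ∈ Cfsg.piCoreOf (Cfsg.primesNotDvd p) (Subgroup.centralizer (E : Set G)), R = cj k Q := by
  induction' hd : Nat.card G - Nat.card ↥(Q ⊓ R) using Nat.strong_induction_on with n ih generalizing Q R
  by_cases hQR : Q = R
  · exact ⟨1, Subgroup.one_mem _, by rw [cj_one, hQR]⟩
  obtain ⟨hQp, hQn⟩ := mem_inv_iff.mp hQ.1
  obtain ⟨hRp, hRn⟩ := mem_inv_iff.mp hR.1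
  have hD1 : Q ⊓ R ≠ Q := fun h => hQR ((hQ.2 R hR.1 (h ▸ inf_le_right)).symm)
  have hD2 : Q ⊓ R ≠ R := fun h => hQR (hR.2 Q hQ.1 (h ▸ inf_le_left))
  set D := Q ⊓ R with hDdef
  set N := Subgroup.normalizer (D : Set G) with hN
  have hEN : E ≤ N := Signalizer.le_normalizer_inf hQn hRn
  obtain ⟨a, haA, ha1, n1, n2⟩ := Signalizer.exists_common_element hA hA3 hqp hQp hRp
    (hAE.trans hQn) (hAE.trans hRn) hD1 hD2
  set C := Subgroup.centralizer ({a} : Set G) with hC
  have hEC : E ≤ C := fun x hx => by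
    haveI := hEc
    exact Subgroup.mem_centralizer_singleton_iff.2
      (congrArg Subtype.val ((IsMulCommutative.is_comm (M := E)).comm ⟨x, hx⟩ ⟨a, hAE haA⟩))
  set O := (Cfsg.pPrimeCore p C).map C.subtype with hO
  have hOn : C ≤ Subgroup.normalizer (O : Set G) := by
    have h3 := Subgroup.le_normalizer_map (H := Cfsg.pPrimeCore p C) C.subtype
    rw [Subgroup.normalizer_eq_top_iff.mpr inferInstance] at h3
    rwa [← MonoidHom.range_eq_map, Subgroup.range_subtype] at h3
  have hOc : (Nat.card O).Coprime p := by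
    rw [hO, Subgroup.card_map_of_injective C.subtype_injective]
    exact PCore.pPrimeCore_coprime
  set L := O ⊓ N with hL
  have hEL : E ≤ Subgroup.normalizer (L : Set G) :=
    Signalizer.le_normalizer_inf (hEC.trans hOn) (hEN.trans Subgroup.le_normalizer)
  have hLc : (Nat.card L).Coprime p := hOc.coprime_dvd_left (Subgroup.card_dvd_of_le inf_le_left)
  have hcopEL : (Nat.card E).Coprime (Nat.card L) := by
    obtain ⟨j, hj⟩ := hEp.exists_card_eq
    rw [hj]; exact (hLc.pow_right j).symm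
  haveI : Group.IsNilpotent E := hEp.isNilpotent
  have hpart : ∀ {W : Subgroup G}, IsPGroup q W → E ≤ Subgroup.normalizer (W : Set G) →
      N ⊓ W ⊓ C ≤ L ∧ IsPGroup q ↥(N ⊓ W ⊓ C) ∧
        E ≤ Subgroup.normalizer ((N ⊓ W ⊓ C : Subgroup G) : Set G) := by
    intro W hWp hWn
    have h1 : E ≤ Subgroup.normalizer ((N ⊓ W ⊓ C : Subgroup G) : Set G) :=
      Signalizer.le_normalizer_inf (Signalizer.le_normalizer_inf (hEN.trans Subgroup.le_normalizer) hWn)
        (hEC.trans Subgroup.le_normalizer)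
    have h3 : IsPGroup q ↥(N ⊓ W ⊓ C) := hWp.to_le (inf_le_left.trans inf_le_right)
    refine ⟨le_inf (inv_le_core hloc h2 hEp hEc hEfull (hAE haA) ha1 inf_le_right ?_ h1)
      (inf_le_left.trans inf_le_left), h3, h1⟩
    obtain ⟨j, hj⟩ := h3.exists_card_eq
    rw [hj]
    exact ((Nat.coprime_primes Fact.out hp.out).mpr hqp).pow_left j
  obtain ⟨u1L, u1q, u1E⟩ := hpart hQp hQn
  obtain ⟨u2L, u2q, u2E⟩ := hpart hRp hRn
  obtain ⟨S, hS, hSE⟩ := Coprime.exists_invariant_sylow_ge E L hEL hcopEL (Or.inl inferInstance) q _ u1L u1q u1E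
  obtain ⟨T, hT, hTE⟩ := Coprime.exists_invariant_sylow_ge E L hEL hcopEL (Or.inl inferInstance) q _ u2L u2q u2E
  obtain ⟨c, hc, rfl⟩ := Coprime.invariant_sylow_conj E L hEL hcopEL (Or.inl inferInstance) q S T hSE hTE
  set S' := (S : Subgroup L).map L.subtype with hS'
  have hS'L : S' ≤ L := Subgroup.map_subtype_le _
  have hW : D ⊔ S' ∈ Cfsg.invSubgroups ⊤ E {q} := by
    refine mem_inv_iff.mpr ⟨IsPGroup.to_sup_of_normal_left' (hQp.to_le inf_le_left)
      (S.isPGroup'.map _) (hS'L.trans inf_le_right), fun e he => mem_normalizer_of_cj_eq ?_⟩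
    show (D ⊔ S').map (MulAut.conj e).toMonoidHom = _
    rw [Subgroup.map_sup]
    congr 1
    · exact cj_eq_of_mem_normalizer (hEN he)
    · exact cj_eq_of_mem_normalizer (hSE he)
  obtain ⟨Q₃, hQ₃, hle⟩ := exists_max_ge hW
  have hcC : (c : G) ∈ Subgroup.centralizer (E : Set G) := hc
  have hkN : (c : G) ∈ Subgroup.normalizer (E : Set G) := Subgroup.centralizer_le_normalizer _ hcC
  have hcK : (c : G) ∈ Cfsg.piCoreOf (Cfsg.primesNotDvd p) (Subgroup.centralizer (E : Set G)) :=
    mem_core_centralizer hEp hEc hEfull hcC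
      (hLc.coprime_dvd_left (Subgroup.orderOf_dvd_natCard L c.2))
  have hDc : cj (c : G) D = D := cj_eq_of_mem_normalizer c.2.2
  have c1 : D < Q ⊓ Q₃ := by
    refine lt_of_le_of_ne (le_inf inf_le_left (le_sup_left.trans hle)) fun h => n1 fun y hy => ?_
    show y ∈ D
    rw [h]
    exact ⟨hy.1.2, hle ((le_sup_right : S' ≤ D ⊔ S') (hS hy))⟩
  have c2 : D < cj (c : G) Q₃ ⊓ R := by
    refine lt_of_le_of_ne (le_inf (hDc.ge.trans (cj_mono (le_sup_left.trans hle))) inf_le_right)
      fun h => n2 fun y hy => ?_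
    show y ∈ D
    rw [h]
    refine ⟨?_, hy.1.2⟩
    have h5 := hT hy
    rw [Coprime.mem_map_subtype_smul] at h5
    show y ∈ cj (c : G) Q₃
    rw [mem_cj]
    exact hle ((le_sup_right : S' ≤ D ⊔ S') h5)
  have hb : ∀ X : Subgroup G, D < X → Nat.card G - Nat.card X < n := by
    intro X hX
    have h1 : Nat.card D < Nat.card X :=
      lt_of_le_of_ne (Subgroup.card_le_of_le hX.le)
        (fun h => hX.ne (Subgroup.eq_of_le_of_card_ge hX.le h.ge))
    have := Subgroup.card_le_card_group X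
    omega
  obtain ⟨k1, hk1, e1⟩ := ih _ (hb _ c1) hQ hQ₃ rfl
  obtain ⟨k2, hk2, e2⟩ := ih _ (hb _ c2) (max_cj hkN hQ₃) hR rfl
  exact ⟨k2 * ((c : G) * k1), mul_mem hk2 (mul_mem hcK hk1), by rw [e2, e1, cj_mul, cj_mul, mul_assoc]⟩

end CfsgLib.OddOrder.TransitivityConstrained
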