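import Cfsg.Agent.Lib.OddOrder.QuadStableProof
import Cfsg.Agent.Lib.OddOrder.TransitivityRank
import Cfsg.Agent.Lib.Coprime.HyperplaneGeneration

/-!
Transitivity theorem for `SCN₃` subgroups in groups of odd order with solvable `p`-local subgroups.
-/

set_option autoImplicit false

namespace CfsgLib.OddOrder.TransitivityLocal

open Subgroup CfsgLib.OddOrder CfsgLib.OddOrder.Criteria CfsgLib.OddOrder.Transitivity
open scoped commutatorElement

universe u

variable {G : Type u} [Group G] [Finite G] {p : ℕ} [Fact p.Prime]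

omit [Finite G] in
theorem isSolvable_centralizer
    (hloc : ∀ T : Subgroup G, IsPGroup p T → T ≠ ⊥ → Group.IsSolvable (Subgroup.normalizer (T : Set G)))
    {e : G} (he1 : e ≠ 1) (hep : e ^ p = 1) :
    Group.IsSolvable (Subgroup.centralizer ({e} : Set G)) := by
  have hp : IsPGroup p (Subgroup.zpowers e) := by
    refine IsPGroup.of_card (n := 1) ?_
    rw [Nat.card_zpowers, orderOf_eq_prime hep he1, pow_one]
  have := hloc _ hp (fun h => he1 (Subgroup.zpowers_eq_bot.mp h))
  have hle : Subgroup.centralizer ({e} : Set G) ≤ Subgroup.normalizer (Subgroup.zpowers e : Set G) := by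
    refine le_trans ?_ (Subgroup.centralizer_le_normalizer _)
    intro x hx
    rw [Subgroup.mem_centralizer_iff]
    rintro _ ⟨i, rfl⟩
    exact (Commute.zpow_left ((Subgroup.mem_centralizer_singleton_iff.mp hx).symm) i).eq
  exact Group.isSolvable_of_isSolvable_injective (Subgroup.inclusion_injective hle)

/-- Invariant `p'`-subgroups of a solvable overgroup of a self-centralizing abelian normal subgroup
of a Sylow subgroup lie in its `p'`-core. -/
theorem inv_le_core (hodd : Odd (Nat.card G))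
    (hloc : ∀ T : Subgroup G, IsPGroup p T → T ≠ ⊥ → Group.IsSolvable (Subgroup.normalizer (T : Set G)))
    (P : Sylow p G) {A : Subgroup G} (hAc : IsMulCommutative A) (hAP : A ≤ (P : Subgroup G))
    (hPA : (P : Subgroup G) ≤ Subgroup.normalizer (A : Set G))
    (hCA : (P : Subgroup G) ⊓ Subgroup.centralizer (A : Set G) = A) (hr : ¬ Cfsg.PRankLE p 1 A)
    {X : Subgroup G} [Group.IsSolvable X] (hAX : A ≤ X) {Y : Subgroup G} (hYX : Y ≤ X)
    (hYn : A ≤ Subgroup.normalizer (Y : Set G)) (hYc : (Nat.card Y).Coprime p) :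
    Y.subgroupOf X ≤ Cfsg.pPrimeCore p X := by
  have hst : QuadStable.{u} p := quadStable p
  have hAp : IsPGroup p A := P.isPGroup'.to_le hAP
  have hp1 : 1 < p := (Fact.out : p.Prime).one_lt
  obtain ⟨E', hE'n, hE'e, hE'c, hE'A⟩ := exists_normal_sq P.isPGroup' hAP hPA hAc hr
  have hidx := OddOrder41.index_centralizer_dvd_of_card_sq P.isPGroup' E' hE'e hE'c
  set E := E'.map (P : Subgroup G).subtype with hE
  have hEe : Cfsg.IsElementaryAbelian p E := elemAb_map hE'e _
  have hEc : Nat.card E = p ^ 2 := by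
    rw [hE, Subgroup.card_map_of_injective (Subgroup.subtype_injective _), hE'c]
  have hEA : E ≤ A := by
    rintro _ ⟨x, hx, rfl⟩
    exact hE'A hx
  -- generators of `E`
  obtain ⟨s, hs, hs1⟩ : ∃ s ∈ E, s ≠ 1 := by
    refine (Subgroup.bot_or_exists_ne_one E).resolve_left (fun h => ?_)
    rw [h, Subgroup.card_bot] at hEc
    exact absurd hEc (ne_of_lt (Nat.one_lt_pow two_ne_zero hp1))
  obtain ⟨t, ht, hts⟩ : ∃ t ∈ E, t ∉ Subgroup.zpowers s := by
    refine SetLike.not_le_iff_exists.mp (fun h => ?_)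
    have h2 := Subgroup.card_le_of_le h
    rw [hEc, Nat.card_zpowers, orderOf_eq_prime (hEe.2 s hs) hs1] at h2
    exact absurd h2 (not_le.mpr (lt_self_pow₀ hp1 one_lt_two))
  have hgen := Tech46.le_of_centralizers_le (p := p) s t (hEe.2 s hs) (hEe.2 t ht)
    (elemAb_commute hEe hs ht) Y ((Cfsg.pPrimeCore p X).map X.subtype)
    (fun h => (Fact.out : p.Prime).ne_one (Nat.eq_one_of_dvd_coprimes hYc h dvd_rfl))
    (hYn (hEA hs)) (hYn (hEA ht)) ?_
  · intro y hy
    obtain ⟨z, hz, hze⟩ := hgen hy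
    have hzy : z = y := Subtype.ext hze
    exact hzy ▸ hz
  intro i j hij
  set e := s ^ i * t ^ j with he
  have heE : e ∈ E := mul_mem (pow_mem hs i) (pow_mem ht j)
  have he1 : e ≠ 1 := by
    intro h
    rw [he] at h
    rcases hij with ⟨-, rfl⟩ | ⟨rfl, rfl⟩
    · apply hts
      rw [pow_one] at h
      rw [← inv_eq_of_mul_eq_one_right h]
      exact Subgroup.inv_mem _ (Subgroup.npow_mem_zpowers s i)
    · exact hs1 (by simpa using h)
  set Ce := Subgroup.centralizer ({e} : Set G) with hCe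
  have hCesol : Group.IsSolvable Ce := isSolvable_centralizer hloc he1 (hEe.2 e heE)
  have hACe : A ≤ Ce := fun a ha =>
    Subgroup.mem_centralizer_singleton_iff.mpr (mul_comm_of_mem hAc ha (hEA heE))
  set W := (P : Subgroup G) ⊓ Ce with hW
  have hAW : A ≤ W := le_inf hAP hACe
  have hWp : IsPGroup p W := P.isPGroup'.to_le inf_le_left
  obtain ⟨T, hT⟩ := (hWp.comap_of_injective Ce.subtype Ce.subtype_injective).exists_le_sylow
  set T' := (T : Subgroup Ce).map Ce.subtype with hT'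
  have hT'p : IsPGroup p T' := T.isPGroup'.map _
  have hWT : W ≤ T' := by
    have h2 := Subgroup.map_mono (f := Ce.subtype) hT
    exact le_trans (le_of_eq (Subgroup.map_subgroupOf_eq_of_le inf_le_right).symm) h2
  -- `#T'` divides `#W * p`
  have hT'dvd : Nat.card T' ∣ Nat.card W * p := by
    have h1 : Nat.card T' ∣ Nat.card (P : Subgroup G) := by
      obtain ⟨Q, hQ⟩ := hT'p.exists_le_sylow
      rw [P.card_eq_multiplicity, ← Q.card_eq_multiplicity]
      exact Subgroup.card_dvd_of_le hQ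
    refine h1.trans ?_
    set C' := Subgroup.centralizer (E' : Set (P : Subgroup G)) with hC'
    rw [← Subgroup.card_mul_index C']
    refine mul_dvd_mul ?_ hidx
    rw [← Subgroup.card_map_of_injective (f := (P : Subgroup G).subtype) (Subgroup.subtype_injective _)]
    refine Subgroup.card_dvd_of_le ?_
    rintro _ ⟨c, hc, rfl⟩
    refine ⟨c.2, Subgroup.mem_centralizer_singleton_iff.mpr ?_⟩
    obtain ⟨e', he', hee⟩ := heE
    rw [← hee]
    exact (congrArg Subtype.val (Subgroup.mem_centralizer_iff.mp hc e' he')).symm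
  have hTW : T' ≤ Subgroup.normalizer (W : Set G) := by
    rcases eq_or_lt_of_le hWT with h | h
    · rw [← h]; exact Subgroup.le_normalizer
    · have hg := Transitivity.normalizer_grows hT'p h
      set NT := Subgroup.normalizer (W : Set G) ⊓ T' with hNT
      have h1 : Nat.card W ∣ Nat.card NT := Subgroup.card_dvd_of_le (le_inf Subgroup.le_normalizer h.le)
      have h2 : Nat.card NT ∣ Nat.card T' := Subgroup.card_dvd_of_le inf_le_right
      have h3 : Nat.card T' = Nat.card NT := by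
        obtain ⟨k, hk⟩ := h1
        have hk1 : k ≠ 1 := fun hk1 => by rw [hk, hk1, mul_one] at hg; exact lt_irrefl _ hg
        have h4 : k ∣ p := Nat.dvd_of_mul_dvd_mul_left Nat.card_pos (hk ▸ h2.trans hT'dvd)
        have hkp : k = p := ((Nat.dvd_prime Fact.out).mp h4).resolve_left hk1
        exact Nat.dvd_antisymm (by rw [hk, hkp]; exact hT'dvd) h2
      have h4 : NT = T' := Subgroup.eq_of_le_of_card_ge inf_le_right h3.le
      rw [← h4]
      exact inf_le_left
  have hCAT : T' ⊓ Subgroup.centralizer (A : Set G) ≤ A := by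
    set N := Subgroup.normalizer (A : Set G) with hN
    set Q := T' ⊓ Subgroup.centralizer (A : Set G) with hQdef
    have hQN : Q ≤ N := inf_le_right.trans (Subgroup.centralizer_le_normalizer (A : Set G))
    obtain ⟨S, hS⟩ := ((hT'p.to_le (inf_le_left : Q ≤ T')).comap_of_injective N.subtype
      N.subtype_injective).exists_le_sylow
    obtain ⟨g, hg⟩ := MulAction.exists_smul_eq N S (P.subtype hPA)
    intro x hx
    have hconjP : (g : G) * x * (g : G)⁻¹ ∈ (P : Subgroup G) := by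
      have h1 : g * ⟨x, hQN hx⟩ * g⁻¹ ∈ ((g • S : Sylow p N) : Subgroup N) :=
        Coprime.mem_conj_smul.mpr (by simpa [mul_assoc] using hS (show (⟨x, hQN hx⟩ : N) ∈ Q.subgroupOf N from hx))
      rw [hg] at h1
      exact h1
    have hconjC : (g : G) * x * (g : G)⁻¹ ∈ Subgroup.centralizer (A : Set G) :=
      (Subgroup.mem_normalizer_iff.mp (Transitivity.normalizer_centralizer_le A g.2) x).mp hx.2
    have h2 : (g : G) * x * (g : G)⁻¹ ∈ A := hCA ▸ ⟨hconjP, hconjC⟩
    exact (Subgroup.mem_normalizer_iff.mp g.2 x).mpr h2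
  set Z := Y ⊓ Ce with hZdef
  have hZc : (Nat.card Z).Coprime p := hYc.coprime_dvd_left (Subgroup.card_dvd_of_le inf_le_left)
  have hZn : A ≤ Subgroup.normalizer (Z : Set G) :=
    le_trans (le_inf hYn (hACe.trans Subgroup.le_normalizer)) Subgroup.inf_normalizer_le_normalizer_inf
  have hstep : Z.subgroupOf Ce ≤ Cfsg.pPrimeCore p Ce := by
    refine inv_le_core_of_scn hst (hodd.of_dvd_nat (Subgroup.card_subgroup_dvd_card Ce)) T (A := A.subgroupOf Ce) (W := W.subgroupOf Ce)
      (fun x hx => hAW hx) hT ?_ ?_ ?_ ?_ ?_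
    · intro x hx
      rw [← Subgroup.subgroupOf_normalizer_eq (inf_le_right : W ≤ Ce)]
      exact hTW ⟨x, hx, rfl⟩
    · intro x hx
      rw [← Subgroup.subgroupOf_normalizer_eq hACe]
      exact hPA hx.1
    · rintro x ⟨hxT, hxA⟩
      refine hCAT ⟨⟨x, hxT, rfl⟩, Subgroup.mem_centralizer_iff.mpr (fun a ha => ?_)⟩
      exact congrArg Subtype.val (Subgroup.mem_centralizer_iff.mp hxA ⟨a, hACe ha⟩ ha)
    · exact hZc.coprime_dvd_left (Subgroup.card_comap_dvd_of_injective Z Ce.subtype Ce.subtype_injective)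
    · intro x hx
      rw [← Subgroup.subgroupOf_normalizer_eq (inf_le_right : Z ≤ Ce)]
      exact hZn hx
  set O := (Cfsg.pPrimeCore p Ce).map Ce.subtype with hO
  have hZO : Z ≤ O := by
    have h2 := Subgroup.map_mono (f := Ce.subtype) hstep
    rwa [Subgroup.map_subgroupOf_eq_of_le (inf_le_right : Z ≤ Ce)] at h2
  have hOn : Ce ≤ Subgroup.normalizer (O : Set G) := by
    have h2 := Subgroup.le_normalizer_map (H := Cfsg.pPrimeCore p Ce) Ce.subtype
    rw [Subgroup.normalizer_eq_top_iff.mpr inferInstance] at h2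
    rw [← MonoidHom.range_eq_map, Subgroup.range_subtype] at h2
    exact h2
  let eX : X := ⟨e, hAX (hEA heE)⟩
  have hbal : (O ⊓ X).subgroupOf X ≤ Cfsg.pPrimeCore p X := by
    refine le_core_of_centralizer (e := eX) ?_ ?_ ?_ ?_
    · refine IsPGroup.of_card (n := 1) ?_
      rw [Nat.card_zpowers, pow_one, ← Subgroup.orderOf_coe]
      exact orderOf_eq_prime (hEe.2 e heE) he1
    · intro x hx
      refine Subgroup.mem_centralizer_singleton_iff.mpr (Subtype.ext ?_)
      exact Subgroup.mem_centralizer_singleton_iff.mp (Subgroup.map_subtype_le _ hx.1)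
    · intro x hx
      have hxC : (x : G) ∈ Ce :=
        Subgroup.mem_centralizer_singleton_iff.mpr
          (congrArg Subtype.val (Subgroup.mem_centralizer_singleton_iff.mp hx))
      rw [← Subgroup.subgroupOf_normalizer_eq (inf_le_right : O ⊓ X ≤ X)]
      exact Subgroup.inf_normalizer_le_normalizer_inf ⟨hOn hxC, Subgroup.le_normalizer x.2⟩
    · refine Nat.Coprime.coprime_dvd_left ?_ (PCore.pPrimeCore_coprime (p := p) (G := Ce))
      rw [Nat.card_congr (Subgroup.subgroupOfEquivOfLe (inf_le_right : O ⊓ X ≤ X)).toEquiv,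
        ← Subgroup.card_map_of_injective Ce.subtype_injective]
      exact Subgroup.card_dvd_of_le inf_le_left
  intro x hx
  exact ⟨⟨x, hYX hx.1⟩, hbal ⟨hZO hx, hYX hx.1⟩, rfl⟩



theorem cj_sup (g : G) (H K : Subgroup G) : cj g (H ⊔ K) = cj g H ⊔ cj g K := Subgroup.map_sup H K _

/-- Two subgroups of order `p ^ 2` in a group of order `p ^ 3` meet non-trivially. -/
theorem exists_ne_one_mem_inf {E B₁ B₂ : Subgroup G} (hE : Nat.card E = p ^ 3) (h1 : B₁ ≤ E) (h2 : B₂ ≤ E)
    (hc1 : Nat.card B₁ = p ^ 2) (hc2 : Nat.card B₂ = p ^ 2) : ∃ a ∈ B₁ ⊓ B₂, a ≠ (1 : G) := by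
  by_contra hcon
  push Not at hcon
  have hinj : Function.Injective
      (fun q : ↥B₁ × ↥B₂ => (⟨(q.1 : G) * (q.2 : G), mul_mem (h1 q.1.2) (h2 q.2.2)⟩ : E)) := by
    rintro ⟨a, b⟩ ⟨a', b'⟩ h
    have e : (a : G) * b = a' * b' := congrArg Subtype.val h
    have e2 : (a' : G)⁻¹ * a = b' * (b : G)⁻¹ := by
      rw [eq_mul_inv_iff_mul_eq, mul_assoc, e, inv_mul_cancel_left]
    have m1 : (a' : G)⁻¹ * a ∈ B₁ := mul_mem (inv_mem a'.2) a.2
    have m2 : (a' : G)⁻¹ * a ∈ B₂ := by rw [e2]; exact mul_mem b'.2 (inv_mem b.2)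
    have h3 := hcon _ (Subgroup.mem_inf.mpr ⟨m1, m2⟩)
    exact Prod.ext (Subtype.ext (inv_mul_eq_one.mp h3).symm)
      (Subtype.ext (mul_inv_eq_one.mp (e2 ▸ h3)).symm)
  have := Nat.card_le_card_of_injective _ hinj
  rw [Nat.card_prod, hE, hc1, hc2, ← pow_add] at this
  exact absurd this (not_le.mpr (Nat.pow_lt_pow_right (Fact.out : p.Prime).one_lt (by norm_num)))

/-- **Transitivity theorem** for self-centralizing abelian normal subgroups of rank three. -/
theorem conj_max (hodd : Odd (Nat.card G))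
    (hloc : ∀ T : Subgroup G, IsPGroup p T → T ≠ ⊥ → Group.IsSolvable (Subgroup.normalizer (T : Set G)))
    (P : Sylow p G) {B : Subgroup G} (hBc : IsMulCommutative B) (hBP : B ≤ (P : Subgroup G))
    (hPB : (P : Subgroup G) ≤ Subgroup.normalizer (B : Set G))
    (hCB : (P : Subgroup G) ⊓ Subgroup.centralizer (B : Set G) = B)
    {E : Subgroup G} (hEB : E ≤ B) (hE : Cfsg.IsElementaryAbelian p E) (hEc : Nat.card E = p ^ 3)
    {q : ℕ} [Fact q.Prime] (hqp : q ≠ p) {Q R : Subgroup G}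
    (hQ : Q ∈ Cfsg.maxInvSubgroups ⊤ B {q}) (hR : R ∈ Cfsg.maxInvSubgroups ⊤ B {q}) :
    ∃ c ∈ Subgroup.centralizer (B : Set G), R = cj c Q := by
  induction' hd : Nat.card G - Nat.card ↥(Q ⊓ R) using Nat.strong_induction_on with n ih generalizing Q R
  by_cases hQR : Q = R
  · exact ⟨1, Subgroup.one_mem _, by rw [cj_one, hQR]⟩
  have hDQ : Q ⊓ R < Q := lt_of_le_of_ne inf_le_left (fun h => hQR ((hQ.2 R hR.1 (h ▸ inf_le_right)).symm))
  have hDR : Q ⊓ R < R := lt_of_le_of_ne inf_le_right (fun h => hQR (hR.2 Q hQ.1 (h ▸ inf_le_left)))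
  obtain ⟨hQp, hQn⟩ := mem_inv_iff.mp hQ.1
  obtain ⟨hRp, hRn⟩ := mem_inv_iff.mp hR.1
  set D := Q ⊓ R with hDdef
  set N := Subgroup.normalizer (D : Set G) with hN
  have hBN : B ≤ N := le_trans (le_inf hQn hRn) Subgroup.inf_normalizer_le_normalizer_inf
  have hp : p.Prime := Fact.out
  have hE1 : E ≠ ⊥ := fun h => by
    rw [h, Subgroup.card_bot] at hEc
    exact (Nat.one_lt_pow (by norm_num : 3 ≠ 0) hp.one_lt).ne hEc
  have hEp : IsPGroup p E := fun a => ⟨1, Subtype.ext (by simpa using hE.2 a a.2)⟩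
  have hr : ¬ Cfsg.PRankLE p 1 B := by
    obtain ⟨K, hK⟩ := Sylow.exists_subgroup_card_pow_prime p
      (show p ^ 2 ∣ Nat.card E from hEc ▸ pow_dvd_pow p (by norm_num))
    exact not_pRankLE_subgroup_iff.mpr ⟨K.map E.subtype, (Subgroup.map_subtype_le K).trans hEB,
      elemAb_mono hE (Subgroup.map_subtype_le K),
      by rw [Subgroup.card_map_of_injective E.subtype_injective, hK]⟩
  -- hyperplanes with fixed points outside `D`
  have hyper : ∀ W : Subgroup G, IsPGroup q W → B ≤ Subgroup.normalizer (W : Set G) → D < W →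
      ∃ B₁ : Subgroup G, B₁ ≤ E ∧ Nat.card B₁ = p ^ 2 ∧
        ¬ (N ⊓ W) ⊓ Subgroup.centralizer (B₁ : Set G) ≤ D := by
    intro W hWp hWn hDW
    have hg := normalizer_grows hWp hDW
    have hWn' : B ≤ Subgroup.normalizer ((N ⊓ W : Subgroup G) : Set G) :=
      le_trans (le_inf (hBN.trans Subgroup.le_normalizer) hWn) Subgroup.inf_normalizer_le_normalizer_inf
    by_contra hcon
    push Not at hcon
    have hle := CfsgLib.Coprime39.le_hyperCent_of_isPGroup (p := p) (q := q) hE hE1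
      (hWp.to_le (inf_le_right : N ⊓ W ≤ W))
      (IsPGroup.coprime_card_of_ne p q hqp.symm _ _ hEp (hWp.to_le inf_le_right)) (hEB.trans hWn')
    have hle2 : N ⊓ W ≤ D := by
      refine hle.trans (iSup_le fun B₁ => ?_)
      refine hcon _ B₁.2.1 ?_
      have h2 := Subgroup.card_mul_index ((B₁ : Subgroup G).subgroupOf E)
      rw [← Subgroup.relIndex, B₁.2.2, Nat.card_congr (Subgroup.subgroupOfEquivOfLe B₁.2.1).toEquiv, hEc] at h2
      exact Nat.eq_of_mul_eq_mul_right hp.pos (h2.trans (pow_succ p 2))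
    exact absurd (Subgroup.card_le_of_le hle2) (not_le.mpr hg)
  obtain ⟨B₁, hB₁, hc₁, hf₁⟩ := hyper Q hQp hQn hDQ
  obtain ⟨B₂, hB₂, hc₂, hf₂⟩ := hyper R hRp hRn hDR
  obtain ⟨a, ha, ha1⟩ := exists_ne_one_mem_inf hEc hB₁ hB₂ hc₁ hc₂
  have haE : a ∈ E := hB₁ ha.1
  set C := Subgroup.centralizer ({a} : Set G) with hC
  have hCsol : Group.IsSolvable C := isSolvable_centralizer hloc ha1 (hE.2 a haE)
  have hBC : B ≤ C := fun b hb =>
    Subgroup.mem_centralizer_singleton_iff.mpr (mul_comm_of_mem hBc hb (hEB haE))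
  set O := (Cfsg.pPrimeCore p C).map C.subtype with hO
  have hOn : C ≤ Subgroup.normalizer (O : Set G) := by
    have h2 := Subgroup.le_normalizer_map (H := Cfsg.pPrimeCore p C) C.subtype
    rw [Subgroup.normalizer_eq_top_iff.mpr inferInstance] at h2
    rwa [← MonoidHom.range_eq_map, Subgroup.range_subtype] at h2
  have hOc : (Nat.card O).Coprime p := by
    rw [hO, Subgroup.card_map_of_injective C.subtype_injective]
    exact PCore.pPrimeCore_coprime
  set L := O ⊓ N with hL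
  have hBL : B ≤ Subgroup.normalizer (L : Set G) :=
    le_trans (le_inf (hBC.trans hOn) (hBN.trans Subgroup.le_normalizer)) Subgroup.inf_normalizer_le_normalizer_inf
  have hLsol : Group.IsSolvable L := Group.isSolvable_of_isSolvable_injective
    (Subgroup.inclusion_injective ((inf_le_left : L ≤ O).trans (Subgroup.map_subtype_le _)))
  have hBL' : (Nat.card B).Coprime (Nat.card L) := by
    obtain ⟨k, hk⟩ := (P.isPGroup'.to_le hBP).exists_card_eq
    rw [hk]
    exact ((hOc.coprime_dvd_left (Subgroup.card_dvd_of_le (inf_le_left : L ≤ O))).pow_right k).symm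
  have hpart : ∀ {W B' : Subgroup G}, IsPGroup q W → B ≤ Subgroup.normalizer (W : Set G) → a ∈ B' →
      ¬ (N ⊓ W) ⊓ Subgroup.centralizer (B' : Set G) ≤ D →
      (N ⊓ W) ⊓ C ≤ L ∧ IsPGroup q ↥((N ⊓ W) ⊓ C) ∧
        B ≤ Subgroup.normalizer (((N ⊓ W) ⊓ C : Subgroup G) : Set G) ∧ ¬ (N ⊓ W) ⊓ C ≤ D := by
    intro W B' hWp hWn haB hnot
    have h1 : B ≤ Subgroup.normalizer (((N ⊓ W) ⊓ C : Subgroup G) : Set G) :=
      le_trans (le_inf (le_trans (le_inf (hBN.trans Subgroup.le_normalizer) hWn)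
        Subgroup.inf_normalizer_le_normalizer_inf) (hBC.trans Subgroup.le_normalizer))
        Subgroup.inf_normalizer_le_normalizer_inf
    have h2 : IsPGroup q ↥((N ⊓ W) ⊓ C) := hWp.to_le (inf_le_left.trans inf_le_right)
    have h3 : (N ⊓ W) ⊓ C ≤ O := by
      have hcore := inv_le_core hodd hloc P hBc hBP hPB hCB hr (X := C) hBC
        (inf_le_right : (N ⊓ W) ⊓ C ≤ C) h1 (by
          obtain ⟨k, hk⟩ := h2.exists_card_eq
          rw [hk]
          exact ((Nat.coprime_primes Fact.out hp).mpr hqp).pow_left k)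
      have := Subgroup.map_mono (f := C.subtype) hcore
      rwa [Subgroup.map_subgroupOf_eq_of_le (inf_le_right : (N ⊓ W) ⊓ C ≤ C)] at this
    refine ⟨le_inf h3 (inf_le_left.trans inf_le_left), h2, h1, fun h => hnot (le_trans ?_ h)⟩
    exact inf_le_inf_left _ (Subgroup.centralizer_le (Set.singleton_subset_iff.mpr haB))
  obtain ⟨hY₁L, hY₁p, hY₁n, hY₁D⟩ := hpart hQp hQn ha.1 hf₁
  obtain ⟨hY₂L, hY₂p, hY₂n, hY₂D⟩ := hpart hRp hRn ha.2 hf₂
  obtain ⟨k, hk, S, hSL, hSp, hSn, hS1, hS2⟩ :=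
    invSylowConj B L q Fact.out hBL hBL' hLsol _ _ hY₁L hY₁p hY₁n hY₂L hY₂p hY₂n
  have hT : D ⊔ S ∈ Cfsg.invSubgroups ⊤ B {q} := by
    refine mem_inv_iff.mpr ⟨IsPGroup.to_sup_of_normal_left' (hQp.to_le inf_le_left) hSp
      (hSL.trans inf_le_right), fun b hb => mem_normalizer_of_cj_eq ?_⟩
    rw [cj_sup, cj_eq_of_mem_normalizer (hBN hb), cj_eq_of_mem_normalizer (hSn hb)]
  obtain ⟨Q₃, hQ₃, hTQ⟩ := exists_max_ge hT
  have hkN : k ∈ Subgroup.normalizer (B : Set G) := centralizer_le_normalizer' B hk.2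
  have hDk : cj k D = D := cj_eq_of_mem_normalizer hk.1.2
  have c1 : D < cj k Q ⊓ Q₃ := by
    refine lt_of_le_of_ne (le_inf (hDk.ge.trans (cj_mono inf_le_left)) (le_sup_left.trans hTQ)) ?_
    intro h
    refine hY₁D (fun y hy => ?_)
    have hy2 : k * y * k⁻¹ ∈ cj k Q ⊓ Q₃ :=
      ⟨⟨y, hy.1.2, rfl⟩, hTQ ((le_sup_right : S ≤ D ⊔ S) (hS1 ⟨y, hy, rfl⟩))⟩
    rw [← h, ← hDk, mem_cj] at hy2
    simpa [mul_assoc] using hy2
  have c2 : D < Q₃ ⊓ R := by
    refine lt_of_le_of_ne (le_inf (le_sup_left.trans hTQ) inf_le_right) ?_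
    intro h
    refine hY₂D (fun y hy => ?_)
    rw [h]
    exact ⟨hTQ ((le_sup_right : S ≤ D ⊔ S) (hS2 hy)), hy.1.2⟩
  have hb : ∀ X : Subgroup G, D < X → Nat.card G - Nat.card X < n := by
    intro X hX
    have h1 : Nat.card D < Nat.card X :=
      lt_of_le_of_ne (Subgroup.card_le_of_le hX.le)
        (fun h => hX.ne (Subgroup.eq_of_le_of_card_ge hX.le h.ge))
    have := Subgroup.card_le_card_group X
    omega
  obtain ⟨k1, hk1, e1⟩ := ih _ (hb _ c1) (max_cj hkN hQ) hQ₃ rfl
  obtain ⟨k2, hk2, e2⟩ := ih _ (hb _ c2) hQ₃ hR rfl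
  refine ⟨k2 * (k1 * k), mul_mem hk2 (mul_mem hk1 hk.2), ?_⟩
  rw [e2, e1, cj_mul, cj_mul, mul_assoc]

end CfsgLib.OddOrder.TransitivityLocal
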