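import Mathlib
import Cfsg.Prelude.Def_OddOrderLocal
import Cfsg.Agent.Lib.OddOrder.PiCore
import Cfsg.Agent.Lib.OddOrder.FittingHall

/-!
# Elementary consequences of type P data
-/

set_option autoImplicit false

namespace CfsgLib.OddOrder

open Subgroup

variable {G : Type*} [Group G] [Finite G]

omit [Finite G] in
theorem coe_mul_mem_centralizer {H C : Subgroup G} (hC : C ≤ Subgroup.centralizer (H : Set G))
    {h c u : G} (hh : h ∈ H) (hc : c ∈ C) (hu : u = h * c) (hcop : (orderOf u).Coprime (Nat.card H)) :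
    u ∈ C := by
  have hcomm : Commute h c := Subgroup.mem_centralizer_iff.mp (hC hc) h hh
  have h1 : u ^ Nat.card H ∈ C := by
    rw [hu, hcomm.mul_pow]
    have : h ^ Nat.card H = 1 := congrArg Subtype.val (pow_card_eq_one' (x := (⟨h, hh⟩ : H)))
    rw [this, one_mul]
    exact C.pow_mem hc _
  obtain ⟨m, hm⟩ := exists_pow_eq_self_of_coprime hcop.symm
  exact hm ▸ C.pow_mem h1 m

theorem typeP_coprime_card {M W₁ U W₂ : Subgroup G} (hP : Cfsg.IsTypePWith M W₁ U W₂) :
    (Nat.card (Cfsg.fittingHallOf M)).Coprime (Nat.card U) := by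
  have hder : ⁅M, M⁆ ≤ M := Subgroup.commutator_le_self M
  have hHn : ⁅M, M⁆ ≤ Subgroup.normalizer (Cfsg.fittingHallOf M : Set G) :=
    hder.trans (fittingHallOf_normal M)
  refine Nat.Coprime.coprime_dvd_right ?_ (fittingHallOf_coprime_relIndex M)
  have h2 : (Cfsg.fittingHallOf M).relIndex ⁅M, M⁆ = Nat.card U :=
    IsComplIn.relIndex_left hP.U_compl
  rw [← h2]
  exact Dvd.intro _ (Subgroup.relIndex_mul_relIndex _ _ M hP.U_compl.1 (Subgroup.commutator_le_self M))

theorem typeP_inf_fitting_le {M W₁ U W₂ : Subgroup G} (hP : Cfsg.IsTypePWith M W₁ U W₂) :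
    U ⊓ Cfsg.fittingOf M ≤ M ⊓ Subgroup.centralizer (Cfsg.fittingHallOf M : Set G) := by
  rintro u ⟨hu, huF⟩
  set H := Cfsg.fittingHallOf M with hH
  set C := M ⊓ Subgroup.centralizer (H : Set G) with hC
  have hn : H ≤ Subgroup.normalizer (C : Set G) := by
    refine le_trans (fun x hx => ?_) (Subgroup.centralizer_le_normalizer (C : Set G))
    rw [Subgroup.mem_centralizer_iff]
    intro c hc
    exact (Subgroup.mem_centralizer_iff.mp hc.2 x hx).symm
  rw [← hP.fitting_eq] at huF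
  have huF' : u ∈ ((H ⊔ C : Subgroup G) : Set G) := huF
  rw [Subgroup.coe_mul_of_left_le_normalizer_right H C hn] at huF'
  obtain ⟨h, hh, c, hc, huq⟩ := Set.mem_mul.mp huF'
  refine coe_mul_mem_centralizer (C := C) inf_le_right hh hc huq.symm ?_
  exact Nat.Coprime.coprime_dvd_left (Subgroup.orderOf_dvd_natCard U hu) (typeP_coprime_card hP).symm

theorem typeP_fitting_eq {M W₁ U W₂ : Subgroup G} (hP : Cfsg.IsTypePWith M W₁ U W₂) :
    Cfsg.fittingOf M =
      Cfsg.fittingHallOf M ⊔ (U ⊓ Subgroup.centralizer (Cfsg.fittingHallOf M : Set G)) := by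
  apply le_antisymm
  · intro x hx
    obtain ⟨h, hh, u, hu, rfl⟩ := hP.U_compl.2.2.2 x (hP.fitting_le hx)
    refine Subgroup.mul_mem _
      (le_sup_left (b := U ⊓ Subgroup.centralizer (Cfsg.fittingHallOf M : Set G)) hh) ?_
    have hHF : Cfsg.fittingHallOf M ≤ Cfsg.fittingOf M := hP.fitting_eq ▸ le_sup_left
    have huF : u ∈ Cfsg.fittingOf M :=
      ((Cfsg.fittingOf M).mul_mem_cancel_left (hHF hh)).mp hx
    exact le_sup_right (a := Cfsg.fittingHallOf M) ⟨hu, (typeP_inf_fitting_le hP ⟨hu, huF⟩).2⟩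
  · rw [← hP.fitting_eq]
    refine sup_le le_sup_left (le_trans (inf_le_inf ?_ le_rfl) le_sup_right)
    exact hP.U_compl.2.1.trans (Subgroup.commutator_le_self M)

theorem typeP_derived_le_centralizer {M W₁ U W₂ : Subgroup G} (hP : Cfsg.IsTypePWith M W₁ U W₂) :
    ⁅U, U⁆ ≤ Subgroup.centralizer (Cfsg.fittingHallOf M : Set G) := by
  intro x hx
  have h1 : x ∈ U := Subgroup.commutator_le_self U hx
  have h2 : x ∈ Cfsg.fittingOf M := by
    rw [← hP.fitting_eq]
    exact hP.derived_two_le (Subgroup.commutator_mono hP.U_compl.2.1 hP.U_compl.2.1 hx)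
  exact (typeP_inf_fitting_le hP ⟨h1, h2⟩).2

theorem typeP_not_le_centralizer {M W₁ U W₂ : Subgroup G} (hP : Cfsg.IsTypePWith M W₁ U W₂)
    (hU : U ≠ ⊥) : ¬ U ≤ Subgroup.centralizer (Cfsg.fittingHallOf M : Set G) := by
  intro hle
  set H := Cfsg.fittingHallOf M with hH
  have hcomm : ∀ (h : H) (u : U), Commute (H.subtype h) (U.subtype u) := fun h u =>
    Subgroup.mem_centralizer_iff.mp (hle u.2) h h.2
  let f : H × U →* G := MonoidHom.noncommCoprod H.subtype U.subtype hcomm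
  have hrange : f.range = ⁅M, M⁆ := by
    apply le_antisymm
    · rintro x ⟨⟨h, u⟩, rfl⟩
      exact Subgroup.mul_mem _ (hP.U_compl.1 h.2) (hP.U_compl.2.1 u.2)
    · intro x hx
      obtain ⟨h, hh, u, hu, rfl⟩ := hP.U_compl.2.2.2 x hx
      exact ⟨(⟨h, hh⟩, ⟨u, hu⟩), rfl⟩
  have hnil : Group.IsNilpotent ↥⁅M, M⁆ := by
    have := fittingHallOf_isNilpotent M
    have := hP.U_nilpotent
    rw [← hrange]
    exact Group.nilpotent_of_surjective f.rangeRestrict f.rangeRestrict_surjective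
  have hder : ⁅M, M⁆ ≤ M := Subgroup.commutator_le_self M
  have hcop : (Nat.card ↥⁅M, M⁆).Coprime ((⁅M, M⁆ : Subgroup G).relIndex M) := by
    have hW : (⁅M, M⁆ : Subgroup G).relIndex M = Nat.card W₁ :=
      IsComplIn.relIndex_left hP.W₁_compl
    rw [hW]
    refine Nat.Coprime.coprime_dvd_left ?_ hP.W₁_hall.symm
    have h3 := card_mul_relIndex_of_le hP.W₁_compl.2.1
    have h4 := card_mul_relIndex_of_le hder
    rw [hW] at h4
    rw [← h3, mul_comm] at h4
    exact dvd_of_eq (Nat.eq_of_mul_eq_mul_left Nat.card_pos h4)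
  have hle2 : ⁅M, M⁆ ≤ H :=
    le_fittingHallOf hder (le_normalizer_derived M) hnil hcop
  apply hU
  rw [eq_bot_iff, ← hP.U_compl.2.2.1]
  exact le_inf (hP.U_compl.2.1.trans hle2) le_rfl

end CfsgLib.OddOrder
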